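import Mathlib
import Cfsg.Prelude.Def_RootSubgroups

/-!
Basic algebra of `Cfsg.conjBy`.
-/

set_option autoImplicit false

namespace Cfsg.Agent.Lib.RootSubgroups

open Cfsg

variable {G : Type*} [Group G]

theorem mem_conjBy {A : Subgroup G} {g x : G} : x ∈ conjBy A g ↔ g⁻¹ * x * g ∈ A := by
  constructor
  · rintro ⟨a, ha, rfl⟩
    simpa [MulAut.conj_apply, mul_assoc] using ha
  · intro h
    exact ⟨g⁻¹ * x * g, h, by simp [MulAut.conj_apply, mul_assoc]⟩

theorem conj_mem_conjBy {A : Subgroup G} {g a : G} (ha : a ∈ A) : g * a * g⁻¹ ∈ conjBy A g :=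
  ⟨a, ha, rfl⟩

@[simp] theorem conjBy_one (A : Subgroup G) : conjBy A (1 : G) = A := by
  ext x; simp

theorem conjBy_mul (A : Subgroup G) (g h : G) : conjBy A (g * h) = conjBy (conjBy A h) g := by
  ext x; simp [mul_assoc]

theorem conjBy_inv_conjBy (A : Subgroup G) (g : G) : conjBy (conjBy A g) g⁻¹ = A := by
  rw [← conjBy_mul, inv_mul_cancel, conjBy_one]

theorem conjBy_conjBy_inv (A : Subgroup G) (g : G) : conjBy (conjBy A g⁻¹) g = A := by
  rw [← conjBy_mul, mul_inv_cancel, conjBy_one]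

theorem conjBy_injective (g : G) : Function.Injective fun A : Subgroup G => conjBy A g :=
  fun A B h => by
    have h' := congrArg (fun C => conjBy C g⁻¹) h
    simpa only [conjBy_inv_conjBy] using h'

theorem conjBy_inj {A B : Subgroup G} {g : G} : conjBy A g = conjBy B g ↔ A = B :=
  ⟨fun h => conjBy_injective g h, fun h => h ▸ rfl⟩

theorem conjBy_eq_iff {A B : Subgroup G} {g : G} : conjBy A g = B ↔ A = conjBy B g⁻¹ :=
  ⟨fun h => by rw [← h, conjBy_inv_conjBy], fun h => by rw [h, conjBy_conjBy_inv]⟩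

theorem conjBy_eq_self_iff {A : Subgroup G} {g : G} :
    conjBy A g = A ↔ g ∈ Subgroup.normalizer (A : Set G) := by
  rw [Subgroup.mem_normalizer_iff_map_conj_eq]; rfl

theorem conjBy_self_of_mem {A : Subgroup G} {g : G} (h : g ∈ A) : conjBy A g = A :=
  conjBy_eq_self_iff.2 (Subgroup.le_normalizer h)

theorem conjBy_self_of_mem_normalizer {A : Subgroup G} {g : G}
    (h : g ∈ Subgroup.normalizer (A : Set G)) : conjBy A g = A :=
  conjBy_eq_self_iff.2 h

theorem conjBy_self_of_le {A B : Subgroup G} {g : G} (hA : A ≤ Subgroup.normalizer (B : Set G))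
    (h : g ∈ A) : conjBy B g = B :=
  conjBy_eq_self_iff.2 (hA h)

theorem conjBy_mono {A B : Subgroup G} (g : G) (h : A ≤ B) : conjBy A g ≤ conjBy B g :=
  Subgroup.map_mono h

theorem conjBy_le_conjBy_iff {A B : Subgroup G} {g : G} : conjBy A g ≤ conjBy B g ↔ A ≤ B :=
  Subgroup.map_le_map_iff_of_injective (MulAut.conj g).injective

theorem conjBy_le_of_mem {A X : Subgroup G} {g : G} (hA : A ≤ X) (hg : g ∈ X) : conjBy A g ≤ X :=
  (conjBy_mono g hA).trans (le_of_eq (conjBy_self_of_mem hg))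

theorem conjBy_sup (A B : Subgroup G) (g : G) : conjBy (A ⊔ B) g = conjBy A g ⊔ conjBy B g :=
  Subgroup.map_sup _ _ _

theorem conjBy_inf (A B : Subgroup G) (g : G) : conjBy (A ⊓ B) g = conjBy A g ⊓ conjBy B g :=
  Subgroup.map_inf _ _ _ (MulAut.conj g).injective

theorem conjBy_bot (g : G) : conjBy (⊥ : Subgroup G) g = ⊥ := Subgroup.map_bot _

theorem conjBy_commutator (A B : Subgroup G) (g : G) :
    conjBy ⁅A, B⁆ g = ⁅conjBy A g, conjBy B g⁆ :=
  Subgroup.map_commutator _ _ _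

theorem map_conjBy {H : Type*} [Group H] (f : G →* H) (A : Subgroup G) (g : G) :
    (conjBy A g).map f = conjBy (A.map f) (f g) := by
  ext y
  constructor
  · rintro ⟨_, ⟨a, ha, rfl⟩, rfl⟩
    exact ⟨f a, ⟨a, ha, rfl⟩, by simp [MulAut.conj_apply]⟩
  · rintro ⟨_, ⟨a, ha, rfl⟩, rfl⟩
    exact ⟨_, conj_mem_conjBy (g := g) ha, by simp [MulAut.conj_apply]⟩

theorem nilpotent_conjBy {A : Subgroup G} (hA : Group.IsNilpotent A) (g : G) :
    Group.IsNilpotent (conjBy A g) := by
  have e : A ≃* (conjBy A g) := A.equivMapOfInjective _ (MulAut.conj g).injective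
  exact Group.nilpotent_of_mulEquiv e

theorem exists_mem_ne_one_of_ne_bot {A : Subgroup G} (h : A ≠ ⊥) : ∃ a ∈ A, a ≠ 1 := by
  by_contra hc
  push Not at hc
  exact h ((Subgroup.eq_bot_iff_forall A).2 hc)

theorem commutator_eq_bot_comm {A B : Subgroup G} : ⁅A, B⁆ = ⊥ ↔ ⁅B, A⁆ = ⊥ := by
  rw [Subgroup.commutator_comm]

theorem commute_of_commutator_eq_bot {A B : Subgroup G} (h : ⁅A, B⁆ = ⊥) {a b : G} (ha : a ∈ A)
    (hb : b ∈ B) : a * b = b * a := by
  have hle := Subgroup.commutator_eq_bot_iff_le_centralizer.1 h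
  exact (Subgroup.mem_centralizer_iff.1 (hle ha) b hb).symm

theorem commutator_eq_bot_of_forall_comm {A B : Subgroup G}
    (h : ∀ a ∈ A, ∀ b ∈ B, a * b = b * a) : ⁅A, B⁆ = ⊥ :=
  Subgroup.commutator_eq_bot_iff_le_centralizer.2
    fun a ha => Subgroup.mem_centralizer_iff.2 fun b hb => (h a ha b hb).symm

end Cfsg.Agent.Lib.RootSubgroups
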