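import Mathlib
import Cfsg.Prelude.Def_RootSubgroups
import Cfsg.Agent.Lib.RootSubgroups.Conj

/-!
Elementary theory of rank one groups `⟨A, B⟩`: the set of unipotent subgroups, double transitivity,
normal subgroups.
-/

set_option autoImplicit false

namespace Cfsg.Agent.Lib.RootSubgroups.RankOne

open Cfsg Cfsg.Agent.Lib.RootSubgroups

variable {G : Type*} [Group G] {A B : Subgroup G}

theorem symm (h : IsRankOnePair A B) : IsRankOnePair B A := Cfsg.RankOnePair_symm h

theorem left_ne_bot (h : IsRankOnePair A B) : A ≠ ⊥ := by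
  intro hA
  obtain ⟨b, hb, hb1⟩ := exists_mem_ne_one_of_ne_bot (A := B) fun hB => h.ne (hA.trans hB.symm)
  obtain ⟨a, ha, ha1, -⟩ := h.cond_right b hb hb1
  rw [hA, Subgroup.mem_bot] at ha
  exact ha1 ha

theorem right_ne_bot (h : IsRankOnePair A B) : B ≠ ⊥ := left_ne_bot (symm h)

/-- No non-identity element of `A` normalizes `B`. -/
theorem eq_one_of_mem_normalizer (h : IsRankOnePair A B) {a : G} (ha : a ∈ A)
    (hn : a ∈ Subgroup.normalizer (B : Set G)) : a = 1 := by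
  by_contra ha1
  obtain ⟨b, hb, -, hbe⟩ := h.cond_left a ha ha1
  rw [conjBy_self_of_mem_normalizer (inv_mem hn), conjBy_eq_iff, inv_inv,
    conjBy_self_of_mem hb] at hbe
  exact h.ne hbe

theorem eq_one_of_conjBy_eq (h : IsRankOnePair A B) {a : G} (ha : a ∈ A)
    (hn : conjBy B a = B) : a = 1 :=
  eq_one_of_mem_normalizer h ha (conjBy_eq_self_iff.1 hn)

theorem inf_normalizer_eq_bot (h : IsRankOnePair A B) :
    A ⊓ Subgroup.normalizer (B : Set G) = ⊥ :=
  (Subgroup.eq_bot_iff_forall _).2 fun _ hx => eq_one_of_mem_normalizer h hx.1 hx.2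

theorem inf_eq_bot (h : IsRankOnePair A B) : A ⊓ B = ⊥ :=
  (Subgroup.eq_bot_iff_forall _).2 fun _ hx =>
    eq_one_of_mem_normalizer h hx.1 (Subgroup.le_normalizer hx.2)

theorem eq_one_of_mem_mem (h : IsRankOnePair A B) {x : G} (ha : x ∈ A) (hb : x ∈ B) : x = 1 :=
  eq_one_of_mem_normalizer h ha (Subgroup.le_normalizer hb)

theorem not_le_normalizer (h : IsRankOnePair A B) :
    ¬ A ≤ Subgroup.normalizer (B : Set G) := fun hle =>
  left_ne_bot h (by rw [← inf_normalizer_eq_bot h, inf_of_le_left hle])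

theorem commutator_ne_bot (h : IsRankOnePair A B) : ⁅A, B⁆ ≠ ⊥ := fun hc =>
  not_le_normalizer h
    ((Subgroup.commutator_eq_bot_iff_le_centralizer.1 hc).trans
      (Subgroup.centralizer_le_normalizer _))

theorem partner_unique (h : IsRankOnePair A B) {a b b' : G} (hb : b ∈ B) (hb' : b' ∈ B)
    (he : conjBy A b⁻¹ = conjBy B a⁻¹) (he' : conjBy A b'⁻¹ = conjBy B a⁻¹) : b = b' := by
  have h2 : conjBy A (b * b'⁻¹) = A := by
    rw [conjBy_mul, he', ← he, conjBy_conjBy_inv]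
  exact mul_inv_eq_one.1 (eq_one_of_conjBy_eq (symm h) (mul_mem hb (inv_mem hb')) h2)

theorem existsUnique_partner (h : IsRankOnePair A B) {a : G} (ha : a ∈ A) (ha1 : a ≠ 1) :
    ∃! b : G, b ∈ B ∧ b ≠ 1 ∧ conjBy A b⁻¹ = conjBy B a⁻¹ := by
  obtain ⟨b, hb, hb1, he⟩ := h.cond_left a ha ha1
  exact ⟨b, ⟨hb, hb1, he⟩, fun b' hb' => partner_unique h hb'.1 hb hb'.2.2 he⟩

theorem existsUnique_partner' (h : IsRankOnePair A B) {b : G} (hb : b ∈ B) (hb1 : b ≠ 1) :
    ∃! a : G, a ∈ A ∧ a ≠ 1 ∧ conjBy A b⁻¹ = conjBy B a⁻¹ := by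
  obtain ⟨a, ⟨ha, ha1, he⟩, hu⟩ := existsUnique_partner (symm h) hb hb1
  exact ⟨a, ⟨ha, ha1, he.symm⟩, fun a' h' => hu a' ⟨h'.1, h'.2.1, h'.2.2.symm⟩⟩

theorem orbit_eq (h : IsRankOnePair A B) :
    insert A ((fun a => conjBy B a) '' (A : Set G))
      = insert B ((fun b => conjBy A b) '' (B : Set G)) := by
  have key : ∀ {A B : Subgroup G}, IsRankOnePair A B →
      insert A ((fun a => conjBy B a) '' (A : Set G))
        ⊆ insert B ((fun b => conjBy A b) '' (B : Set G)) := by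
    intro A B h C hC
    rcases hC with rfl | ⟨a, ha, rfl⟩
    · exact Or.inr ⟨1, one_mem _, conjBy_one _⟩
    · rcases eq_or_ne a 1 with rfl | ha1
      · exact Or.inl (conjBy_one _)
      · obtain ⟨b, hb, -, he⟩ := h.cond_left a⁻¹ (inv_mem ha) (inv_ne_one.2 ha1)
        rw [inv_inv] at he
        exact Or.inr ⟨b⁻¹, inv_mem hb, he⟩
  exact Set.Subset.antisymm (key h) (key (symm h))

/-- The stabilizer (under conjugation) of a set of subgroups. -/
def setStab (S : Set (Subgroup G)) : Subgroup G where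
  carrier := {x | ∀ C, conjBy C x ∈ S ↔ C ∈ S}
  one_mem' := by intro C; simp
  mul_mem' {x y} hx hy := by intro C; rw [conjBy_mul, hx, hy]
  inv_mem' {x} hx := by
    intro C
    have := hx (conjBy C x⁻¹)
    rw [conjBy_conjBy_inv] at this
    exact this.symm

theorem mem_orbit_insert_iff {C : Subgroup G} {a : G} (ha : a ∈ A) :
    conjBy C a ∈ insert A ((fun a => conjBy B a) '' (A : Set G))
      ↔ C ∈ insert A ((fun a => conjBy B a) '' (A : Set G)) := by
  have key : ∀ {C : Subgroup G} {a : G}, a ∈ A →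
      C ∈ insert A ((fun a => conjBy B a) '' (A : Set G)) →
      conjBy C a ∈ insert A ((fun a => conjBy B a) '' (A : Set G)) := by
    intro C a ha hC
    rcases hC with rfl | ⟨a', ha', rfl⟩
    · exact Or.inl (conjBy_self_of_mem ha)
    · exact Or.inr ⟨a * a', mul_mem ha ha', conjBy_mul _ _ _⟩
  refine ⟨fun h => ?_, key ha⟩
  have := key (inv_mem ha) h
  rwa [conjBy_inv_conjBy] at this

theorem unipotentSubgroups_eq (h : IsRankOnePair A B) :
    unipotentSubgroups A B = insert A ((fun a => conjBy B a) '' (A : Set G)) := by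
  set S := insert A ((fun a => conjBy B a) '' (A : Set G)) with hS
  apply Set.Subset.antisymm
  · have hstab : A ⊔ B ≤ setStab S := by
      refine sup_le (fun a ha C => mem_orbit_insert_iff ha) (fun b hb C => ?_)
      rw [hS, orbit_eq h]
      exact mem_orbit_insert_iff hb
    rintro C ⟨x, hx, rfl⟩
    exact (hstab hx A).2 (Or.inl rfl)
  · rintro C (rfl | ⟨a, ha, rfl⟩)
    · exact ⟨1, one_mem _, (conjBy_one _).symm⟩
    · obtain ⟨a', ha', ha'1⟩ := exists_mem_ne_one_of_ne_bot (left_ne_bot h)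
      obtain ⟨b, hb, -, he⟩ := h.cond_left a' ha' ha'1
      have hB : B = conjBy A (a' * b⁻¹) := by
        rw [conjBy_mul, he, conjBy_conjBy_inv]
      refine ⟨a * (a' * b⁻¹), mul_mem (Subgroup.mem_sup_left ha)
        (mul_mem (Subgroup.mem_sup_left ha') (Subgroup.mem_sup_right (inv_mem hb))), ?_⟩
      rw [conjBy_mul, ← hB]

theorem unipotentSubgroups_eq' (h : IsRankOnePair A B) :
    unipotentSubgroups A B = insert B ((fun b => conjBy A b) '' (B : Set G)) :=
  (unipotentSubgroups_eq h).trans (orbit_eq h)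

theorem unipotentSubgroups_symm (h : IsRankOnePair A B) :
    unipotentSubgroups A B = unipotentSubgroups B A :=
  (unipotentSubgroups_eq' h).trans (unipotentSubgroups_eq (symm h)).symm

theorem mem_unipotentSubgroups_left (h : IsRankOnePair A B) : A ∈ unipotentSubgroups A B := by
  rw [unipotentSubgroups_eq h]; exact Or.inl rfl

theorem mem_unipotentSubgroups_right (h : IsRankOnePair A B) : B ∈ unipotentSubgroups A B := by
  rw [unipotentSubgroups_eq h]; exact Or.inr ⟨1, one_mem _, conjBy_one _⟩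

theorem conjBy_mem_unipotentSubgroups {C : Subgroup G} (hC : C ∈ unipotentSubgroups A B) {x : G}
    (hx : x ∈ A ⊔ B) : conjBy C x ∈ unipotentSubgroups A B := by
  obtain ⟨y, hy, rfl⟩ := hC
  exact ⟨x * y, mul_mem hx hy, (conjBy_mul _ _ _).symm⟩

theorem le_sup_of_mem_unipotentSubgroups {C : Subgroup G} (hC : C ∈ unipotentSubgroups A B) :
    C ≤ A ⊔ B := by
  obtain ⟨y, hy, rfl⟩ := hC
  exact conjBy_le_of_mem le_sup_left hy

theorem exists_conj_right_of_ne (h : IsRankOnePair A B) {C : Subgroup G}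
    (hC : C ∈ unipotentSubgroups A B) (hne : C ≠ A) : ∃ a ∈ A, C = conjBy B a := by
  rw [unipotentSubgroups_eq h] at hC
  rcases hC with rfl | ⟨a, ha, rfl⟩
  · exact absurd rfl hne
  · exact ⟨a, ha, rfl⟩

theorem conjBy_right_ne_left (h : IsRankOnePair A B) {a : G} (ha : a ∈ A) : conjBy B a ≠ A := by
  intro he
  rw [conjBy_eq_iff, conjBy_self_of_mem (inv_mem ha)] at he
  exact h.ne he.symm

theorem conjBy_right_injOn (h : IsRankOnePair A B) :
    Set.InjOn (fun a => conjBy B a) (A : Set G) := by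
  intro a ha a' ha' he
  have h2 : conjBy B (a'⁻¹ * a) = B := by
    simp only at he
    rw [conjBy_mul, he, conjBy_inv_conjBy]
  exact (inv_mul_eq_one.1 (eq_one_of_conjBy_eq h (mul_mem (inv_mem ha') ha) h2)).symm

theorem existsUnique_regular (h : IsRankOnePair A B) {C D : Subgroup G}
    (hC : C ∈ unipotentSubgroups A B) (hD : D ∈ unipotentSubgroups A B) (hCA : C ≠ A) (hDA : D ≠ A) :
    ∃! a : G, a ∈ A ∧ conjBy C a = D := by
  obtain ⟨c, hc, rfl⟩ := exists_conj_right_of_ne h hC hCA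
  obtain ⟨d, hd, rfl⟩ := exists_conj_right_of_ne h hD hDA
  refine ⟨d * c⁻¹, ⟨mul_mem hd (inv_mem hc), ?_⟩, fun a ha => ?_⟩
  · rw [conjBy_mul, conjBy_inv_conjBy]
  · obtain ⟨ha, he⟩ := ha
    rw [← conjBy_mul] at he
    exact eq_mul_inv_iff_mul_eq.2 (conjBy_right_injOn h (mul_mem ha hc) hd he)

/-- An element of `A#` fixes only `A`. -/
theorem eq_left_of_fixed (h : IsRankOnePair A B) {C : Subgroup G}
    (hC : C ∈ unipotentSubgroups A B) {a : G} (ha : a ∈ A) (ha1 : a ≠ 1) (he : conjBy C a = C) :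
    C = A := by
  by_contra hne
  obtain ⟨b, -, hu⟩ := existsUnique_regular h hC hC hne hne
  exact ha1 ((hu a ⟨ha, he⟩).trans (hu 1 ⟨one_mem _, conjBy_one _⟩).symm)

theorem exists_conj_pair (h : IsRankOnePair A B) {C D : Subgroup G}
    (hC : C ∈ unipotentSubgroups A B) (hD : D ∈ unipotentSubgroups A B) (hne : C ≠ D) :
    ∃ x ∈ A ⊔ B, conjBy A x = C ∧ conjBy B x = D := by
  obtain ⟨x, hx, rfl⟩ := hC
  have hD' : conjBy D x⁻¹ ∈ unipotentSubgroups A B :=
    conjBy_mem_unipotentSubgroups hD (inv_mem hx)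
  have hne' : conjBy D x⁻¹ ≠ A := fun he => hne (by rw [← he, conjBy_conjBy_inv])
  obtain ⟨a, ha, hea⟩ := exists_conj_right_of_ne h hD' hne'
  refine ⟨x * a, mul_mem hx (Subgroup.mem_sup_left ha), ?_, ?_⟩
  · rw [conjBy_mul, conjBy_self_of_mem ha]
  · rw [conjBy_mul, ← hea, conjBy_conjBy_inv]

theorem two_transitive (h : IsRankOnePair A B) {C₁ C₂ D₁ D₂ : Subgroup G}
    (hC₁ : C₁ ∈ unipotentSubgroups A B) (hC₂ : C₂ ∈ unipotentSubgroups A B)
    (hD₁ : D₁ ∈ unipotentSubgroups A B) (hD₂ : D₂ ∈ unipotentSubgroups A B)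
    (hC : C₁ ≠ C₂) (hD : D₁ ≠ D₂) :
    ∃ x ∈ A ⊔ B, conjBy C₁ x = D₁ ∧ conjBy C₂ x = D₂ := by
  obtain ⟨x, hx, rfl, rfl⟩ := exists_conj_pair h hC₁ hC₂ hC
  obtain ⟨y, hy, rfl, rfl⟩ := exists_conj_pair h hD₁ hD₂ hD
  exact ⟨y * x⁻¹, mul_mem hy (inv_mem hx), by rw [conjBy_mul, conjBy_inv_conjBy],
    by rw [conjBy_mul, conjBy_inv_conjBy]⟩

theorem three_members (h : IsRankOnePair A B) :
    ∃ C₁ ∈ unipotentSubgroups A B, ∃ C₂ ∈ unipotentSubgroups A B, ∃ C₃ ∈ unipotentSubgroups A B,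
      C₁ ≠ C₂ ∧ C₁ ≠ C₃ ∧ C₂ ≠ C₃ := by
  obtain ⟨a, ha, ha1⟩ := exists_mem_ne_one_of_ne_bot (left_ne_bot h)
  refine ⟨A, mem_unipotentSubgroups_left h, B, mem_unipotentSubgroups_right h, conjBy B a,
    conjBy_mem_unipotentSubgroups (mem_unipotentSubgroups_right h) (Subgroup.mem_sup_left ha),
    h.ne, (conjBy_right_ne_left h ha).symm, fun he => ha1 (eq_one_of_conjBy_eq h ha he.symm)⟩

/-- The image of a rank one pair under an injective homomorphism. -/
theorem conj (h : IsRankOnePair A B) (g : G) : IsRankOnePair (conjBy A g) (conjBy B g) := by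
  have key : ∀ {A B : Subgroup G}, RankOneCondition A B →
      RankOneCondition (conjBy A g) (conjBy B g) := by
    intro A B hc a ha ha1
    obtain ⟨b, hb, hb1, he⟩ := hc (g⁻¹ * a * g) (mem_conjBy.1 ha) (fun he => ha1 (by
      simpa [mul_assoc] using congrArg (fun z => g * z * g⁻¹) he))
    refine ⟨g * b * g⁻¹, conj_mem_conjBy hb, by simpa using hb1, ?_⟩
    have h1 := congrArg (fun C => conjBy C g) he
    simp only [← conjBy_mul] at h1 ⊢
    simpa [mul_assoc] using h1
  exact ⟨fun he => h.ne (conjBy_inj.1 he), nilpotent_conjBy h.nilpotent_left g,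
    nilpotent_conjBy h.nilpotent_right g, key h.cond_left, key h.cond_right⟩

/-- Any two different unipotent subgroups form a rank one pair generating the same group. -/
theorem pair_of_mem (h : IsRankOnePair A B) {C D : Subgroup G}
    (hC : C ∈ unipotentSubgroups A B) (hD : D ∈ unipotentSubgroups A B) (hne : C ≠ D) :
    IsRankOnePair C D ∧ C ⊔ D = A ⊔ B := by
  obtain ⟨x, hx, rfl, rfl⟩ := exists_conj_pair h hC hD hne
  exact ⟨conj h x, by rw [← conjBy_sup, conjBy_self_of_mem hx]⟩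

theorem inf_eq_bot_of_mem (h : IsRankOnePair A B) {C D : Subgroup G}
    (hC : C ∈ unipotentSubgroups A B) (hD : D ∈ unipotentSubgroups A B) (hne : C ≠ D) :
    C ⊓ D = ⊥ :=
  inf_eq_bot (pair_of_mem h hC hD hne).1

/-- The centralizer in `⟨A, B⟩` of an element of `A#` normalizes `A`. -/
theorem mem_normalizer_of_comm (h : IsRankOnePair A B) {a x : G} (ha : a ∈ A) (ha1 : a ≠ 1)
    (hx : x ∈ A ⊔ B) (hc : x * a = a * x) : x ∈ Subgroup.normalizer (A : Set G) := by
  refine conjBy_eq_self_iff.1 (eq_left_of_fixed h ⟨x, hx, rfl⟩ ha ha1 ?_)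
  rw [← conjBy_mul, ← hc, conjBy_mul, conjBy_self_of_mem ha]

/-- An element of `N_B(A)` is trivial, in the form used for centralisers. -/
theorem eq_one_of_comm (h : IsRankOnePair A B) {a b : G} (ha : a ∈ A) (ha1 : a ≠ 1) (hb : b ∈ B)
    (hc : b * a = a * b) : b = 1 :=
  eq_one_of_mem_normalizer (symm h) hb
    (mem_normalizer_of_comm h ha ha1 (Subgroup.mem_sup_right hb) hc)

end Cfsg.Agent.Lib.RootSubgroups.RankOne
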