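import Mathlib
import Cfsg.Prelude.Def_RootSubgroups
import Cfsg.Agent.Lib.RootSubgroups.RankOne

/-!
Normal subgroups of rank one groups; rank one groups are not nilpotent.
-/

set_option autoImplicit false

namespace Cfsg.Agent.Lib.RootSubgroups.RankOne

open Cfsg Cfsg.Agent.Lib.RootSubgroups
open scoped commutatorElement

variable {G : Type*} [Group G] {A B : Subgroup G}

/-- A subgroup of `⟨A, B⟩` normalized by `A` and `B` supplements `A` or is central. -/
theorem normal_dichotomy (h : IsRankOnePair A B) {N : Subgroup G} (hle : N ≤ A ⊔ B)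
    (hN : A ⊔ B ≤ Subgroup.normalizer (N : Set G)) :
    N ⊔ A = A ⊔ B ∨ A ⊔ B ≤ Subgroup.centralizer (N : Set G) := by
  by_cases hfix : ∀ n ∈ N, conjBy A n = A
  · right
    have hall : ∀ C ∈ unipotentSubgroups A B, ∀ n ∈ N, conjBy C n = C := by
      rintro C ⟨x, hx, rfl⟩ n hn
      have hn' : x⁻¹ * n * x ∈ N := by
        simpa using (Subgroup.mem_normalizer_iff.1 (hN (inv_mem hx)) n).1 hn
      have h1 := congrArg (fun D => conjBy D x) (hfix _ hn')
      simp only [← conjBy_mul] at h1 ⊢
      simpa [mul_assoc] using h1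
    have hNA : N ⊓ A = ⊥ := (Subgroup.eq_bot_iff_forall _).2 fun x hx =>
      eq_one_of_conjBy_eq h hx.2 (hall B (mem_unipotentSubgroups_right h) x hx.1)
    have hNB : N ⊓ B = ⊥ := (Subgroup.eq_bot_iff_forall _).2 fun x hx =>
      eq_one_of_conjBy_eq (symm h) hx.2 (hfix x hx.1)
    have key : ∀ C : Subgroup G, C ≤ A ⊔ B → (∀ n ∈ N, conjBy C n = C) → N ⊓ C = ⊥ →
        C ≤ Subgroup.centralizer (N : Set G) := by
      intro C hC hfC hinf c hc
      refine Subgroup.mem_centralizer_iff.2 fun n hn => ?_
      have h1 : n * (c * n⁻¹ * c⁻¹) ∈ N :=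
        mul_mem hn ((Subgroup.mem_normalizer_iff.1 (hN (hC hc)) n⁻¹).1 (N.inv_mem hn))
      have h2 : n * c * n⁻¹ ∈ C := by
        have := conj_mem_conjBy (g := n) hc
        rwa [hfC n hn] at this
      have h3 : n * c * n⁻¹ * c⁻¹ ∈ N ⊓ C :=
        ⟨by simpa [mul_assoc] using h1, mul_mem h2 (C.inv_mem hc)⟩
      rw [hinf, Subgroup.mem_bot, mul_inv_eq_one, mul_inv_eq_iff_eq_mul] at h3
      exact h3
    exact sup_le (key A le_sup_left hfix hNA)
      (key B le_sup_right (hall B (mem_unipotentSubgroups_right h)) hNB)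
  · left
    push Not at hfix
    obtain ⟨n, hn, hne⟩ := hfix
    refine le_antisymm (sup_le hle le_sup_left) (sup_le le_sup_right ?_)
    obtain ⟨a, ha, he⟩ := exists_conj_right_of_ne h ⟨n, hle hn, rfl⟩ hne
    have hn' : a⁻¹ * n * a ∈ N := by
      simpa using (Subgroup.mem_normalizer_iff.1 (hN (Subgroup.mem_sup_left (inv_mem ha))) n).1 hn
    have hB : B = conjBy A (a⁻¹ * n * a) := by
      rw [conjBy_mul, conjBy_self_of_mem ha, conjBy_mul, he, conjBy_inv_conjBy]
    rw [hB]
    exact conjBy_le_of_mem le_sup_right (Subgroup.mem_sup_left hn')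

theorem not_right_le_left (h : IsRankOnePair A B) : ¬ B ≤ A := fun hle =>
  right_ne_bot h (by rw [← inf_eq_bot h, inf_of_le_right hle])

theorem left_ne_sup (h : IsRankOnePair A B) : A ≠ A ⊔ B := fun he =>
  not_right_le_left h (by rw [he]; exact le_sup_right)

section Top

variable {X : Type*} [Group X] {U W : Subgroup X}

theorem normalClosure_left_eq_top (h : IsRankOneGroup X U W) :
    Subgroup.normalClosure (U : Set X) = ⊤ := by
  obtain ⟨x, -, hx⟩ := mem_unipotentSubgroups_right h.2
  rw [← top_le_iff, ← h.1]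
  refine sup_le Subgroup.le_normalClosure ?_
  rw [hx]
  rintro _ ⟨a, ha, rfl⟩
  exact Subgroup.normalClosure_normal.conj_mem a (Subgroup.le_normalClosure ha) x

/-- In a nilpotent group a subgroup with full normal closure is everything. -/
theorem eq_top_of_normalClosure_eq_top [hX : Group.IsNilpotent X]
    (hU : Subgroup.normalClosure (U : Set X) = ⊤) : U = ⊤ := by
  obtain ⟨n, hn⟩ := Subgroup.nilpotent_iff_lowerCentralSeries.1 hX
  suffices hk : ∀ k, U ⊔ (⊤ : Subgroup X).lowerCentralSeries k = ⊤ by
    simpa [hn] using hk n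
  intro k
  induction k with
  | zero => simp
  | succ k ih =>
    set M := U ⊔ (⊤ : Subgroup X).lowerCentralSeries (k + 1) with hM
    have hUM : U ≤ Subgroup.normalizer (M : Set X) := le_sup_left.trans Subgroup.le_normalizer
    have hγ : (⊤ : Subgroup X).lowerCentralSeries k ≤ Subgroup.normalizer (M : Set X) := by
      intro g hg
      rw [← conjBy_eq_self_iff]
      refine le_antisymm ?_ ?_
      · rw [hM, conjBy_sup, conjBy_self_of_mem_normalizer (g := g)
          (A := (⊤ : Subgroup X).lowerCentralSeries (k + 1)) (by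
            rw [Subgroup.normalizer_eq_top]; trivial)]
        refine sup_le ?_ le_sup_right
        rintro _ ⟨u, hu, rfl⟩
        have h1 : ⁅g, u⁆ ∈ (⊤ : Subgroup X).lowerCentralSeries (k + 1) :=
          Subgroup.commutator_mem_commutator hg (Subgroup.mem_top u)
        have h2 := mul_mem (Subgroup.mem_sup_right (S := U) h1) (Subgroup.mem_sup_left hu)
        simpa [commutatorElement_def, MulAut.conj_apply] using h2
      · intro x hx
        rw [mem_conjBy]
        have hx' : ∀ u ∈ U, g⁻¹ * u * g ∈ M := fun u hu => by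
          have h1 : ⁅g⁻¹, u⁆ ∈ (⊤ : Subgroup X).lowerCentralSeries (k + 1) :=
            Subgroup.commutator_mem_commutator (inv_mem hg) (Subgroup.mem_top u)
          have h2 := mul_mem (Subgroup.mem_sup_right (S := U) h1) (Subgroup.mem_sup_left hu)
          simpa [hM, commutatorElement_def, mul_assoc] using h2
        have hle : M ≤ Subgroup.comap (MulAut.conj g⁻¹).toMonoidHom M := by
          refine sup_le (fun u hu => ?_) (fun u hu => ?_)
          · simpa [MulAut.conj_apply] using hx' u hu
          · have := (inferInstance : ((⊤ : Subgroup X).lowerCentralSeries (k + 1)).Normal).conj_mem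
              u hu g⁻¹
            exact Subgroup.mem_sup_right (by simpa [MulAut.conj_apply] using this)
        simpa [MulAut.conj_apply] using hle hx
    have hnorm : M.Normal :=
      Subgroup.normalizer_eq_top_iff.1 (top_le_iff.1 (ih ▸ sup_le hUM hγ))
    rw [← top_le_iff, ← hU]
    exact Subgroup.normalClosure_le_normal fun x hx => Subgroup.mem_sup_left hx

theorem not_isNilpotent (h : IsRankOneGroup X U W) : ¬ Group.IsNilpotent X := fun hX => by
  haveI := hX
  exact left_ne_sup h.2 (by rw [h.1]; exact eq_top_of_normalClosure_eq_top (normalClosure_left_eq_top h))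

theorem normal_sup_or_central (h : IsRankOneGroup X U W) {N : Subgroup X} (hN : N.Normal) :
    N ⊔ U = ⊤ ∨ N ≤ Subgroup.center X := by
  rcases normal_dichotomy h.2 (N := N) (by rw [h.1]; exact le_top)
    (by rw [Subgroup.normalizer_eq_top]; exact le_top) with h1 | h1
  · exact Or.inl (h1.trans h.1)
  · right
    rw [h.1, top_le_iff] at h1
    intro n hn
    refine Subgroup.mem_center_iff.2 fun g => ?_
    exact (Subgroup.mem_centralizer_iff.1 (h1 ▸ Subgroup.mem_top g) n hn).symm

/-- A quotient by a supplement of `U` is nilpotent. -/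
theorem nilpotent_quotient_of_sup_eq_top {N : Subgroup X} [N.Normal] (hU : Group.IsNilpotent U)
    (hs : N ⊔ U = ⊤) : Group.IsNilpotent (X ⧸ N) := by
  haveI := hU
  refine Group.nilpotent_of_surjective ((QuotientGroup.mk' N).comp U.subtype) ?_
  rw [← MonoidHom.range_eq_top, MonoidHom.range_comp, Subgroup.range_subtype]
  rw [← Subgroup.map_top_of_surjective (QuotientGroup.mk' N) (QuotientGroup.mk'_surjective N), ← hs,
    Subgroup.map_sup, QuotientGroup.map_mk'_self, bot_sup_eq]

theorem eq_top_of_perfect_of_sup_eq_top [Group.IsPerfect X] {N : Subgroup X} [N.Normal]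
    (hU : Group.IsNilpotent U) (hs : N ⊔ U = ⊤) : N = ⊤ := by
  haveI := nilpotent_quotient_of_sup_eq_top hU hs
  by_contra hne
  haveI : Nontrivial (X ⧸ N) := QuotientGroup.nontrivial_iff.2 hne
  exact Group.IsPerfect.not_isNilpotent (X ⧸ N) inferInstance

theorem isQuasisimple_of_perfect (h : IsRankOneGroup X U W) [Group.IsPerfect X] :
    Cfsg.IsQuasisimple X := by
  refine ⟨inferInstance, ?_⟩
  have hne : Subgroup.center X ≠ ⊤ := by
    intro hc
    apply not_isNilpotent h
    exact Subgroup.isNilpotent_of_ker_le_center (1 : X →* Unit)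
      (by rw [hc]; exact le_top)
  haveI : Nontrivial (X ⧸ Subgroup.center X) := QuotientGroup.nontrivial_iff.2 hne
  refine ⟨fun H hH => ?_⟩
  have hn : (H.comap (QuotientGroup.mk' (Subgroup.center X))).Normal := hH.comap _
  rcases normal_sup_or_central h hn with h1 | h1
  · right
    have h2 := eq_top_of_perfect_of_sup_eq_top h.2.nilpotent_left h1
    rw [← Subgroup.map_comap_eq_self_of_surjective (QuotientGroup.mk'_surjective _) H, h2,
      Subgroup.map_top_of_surjective _ (QuotientGroup.mk'_surjective _)]
  · left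
    rw [← Subgroup.map_comap_eq_self_of_surjective (QuotientGroup.mk'_surjective _) H,
      Subgroup.map_eq_bot_iff, QuotientGroup.ker_mk']
    exact h1

theorem upperCentralSeries_two (h : IsRankOneGroup X U W) :
    Subgroup.upperCentralSeries X 2 = Subgroup.center X := by
  refine le_antisymm ?_ ?_
  · rcases normal_sup_or_central h
      (N := Subgroup.upperCentralSeries X 2) inferInstance with h1 | h1
    · exfalso
      have hq := nilpotent_quotient_of_sup_eq_top h.2.nilpotent_left h1
      obtain ⟨n, hn⟩ := Subgroup.nilpotent_iff_lowerCentralSeries.1 hq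
      apply not_isNilpotent h
      refine Subgroup.nilpotent_iff_lowerCentralSeries.2 ⟨n + 2, ?_⟩
      have h2 : (⊤ : Subgroup X).lowerCentralSeries n ≤ Subgroup.upperCentralSeries X 2 := by
        have h3 := Subgroup.map_lowerCentralSeries (⊤ : Subgroup X)
          (QuotientGroup.mk' (Subgroup.upperCentralSeries X 2)) n
        rw [Subgroup.map_top_of_surjective _ (QuotientGroup.mk'_surjective _), hn,
          Subgroup.map_eq_bot_iff, QuotientGroup.ker_mk'] at h3
        exact h3
      apply Subgroup.lowerCentralSeries_succ_eq_bot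
      rw [Subgroup.lowerCentralSeries_succ]
      refine (Subgroup.commutator_mono h2 le_rfl).trans ?_
      rw [← Subgroup.upperCentralSeries_one]
      refine Subgroup.commutator_le.2 fun x hx y _ => ?_
      exact (Subgroup.mem_upperCentralSeries_succ_iff.1 hx) y
    · exact h1
  · rw [← Subgroup.upperCentralSeries_one]
    exact Subgroup.upperCentralSeries_mono X (by norm_num)

end Top

end Cfsg.Agent.Lib.RootSubgroups.RankOne
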