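import Mathlib
import Cfsg.Prelude.Def_RootSubgroups
import Cfsg.Agent.Lib.RootSubgroups.RankOneNormal

/-!
Sets of abstract root subgroups: the basic lemmas.
-/

set_option autoImplicit false

namespace Cfsg.Agent.Lib.RootSubgroups.RootSet

open Cfsg Cfsg.Agent.Lib.RootSubgroups
open scoped commutatorElement

variable {G : Type*} [Group G] {S : Set (Subgroup G)} {A B C D E : Subgroup G}

theorem comm_of_mem (hS : IsRootSubgroupSet S) (hA : A ∈ S) {a a' : G} (ha : a ∈ A) (ha' : a' ∈ A) :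
    a * a' = a' * a :=
  congrArg Subtype.val ((hS.commutative A hA).is_comm.comm ⟨a, ha⟩ ⟨a', ha'⟩)

theorem commutator_self_eq_bot (hS : IsRootSubgroupSet S) (hA : A ∈ S) : ⁅A, A⁆ = ⊥ :=
  commutator_eq_bot_of_forall_comm fun _ ha _ ha' => comm_of_mem hS hA ha ha'

theorem commCase_symm (h : RootCommutatorCase S A B) : RootCommutatorCase S B A := by
  obtain ⟨hK, hc, h1, h2⟩ := h
  have key : ∀ (f g : G → G) (T : Set G) (K : Subgroup G), (∀ x, g x = (f x)⁻¹) →
      Subgroup.closure (f '' T) = K → Subgroup.closure (g '' T) = K := by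
    intro f g T K hfg hf
    rw [← hf, ← Subgroup.closure_inv (f '' T)]
    congr 1
    ext z
    simp only [Set.mem_inv, Set.mem_image, hfg]
    refine exists_congr fun x => and_congr_right fun _ => ?_
    exact inv_eq_iff_eq_inv
  rw [RootCommutatorCase, Subgroup.commutator_comm B A, sup_comm B A]
  refine ⟨hK, hc, fun b hb hb1 => key _ _ _ _ (fun x => ?_) (h2 b hb hb1),
    fun a ha ha1 => key _ _ _ _ (fun x => ?_) (h1 a ha ha1)⟩ <;> simp [mul_assoc]

theorem commCase_comm_left (h : RootCommutatorCase S A B) {c a : G} (hc : c ∈ ⁅A, B⁆) (ha : a ∈ A) :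
    c * a = a * c :=
  h.2.1 c hc a (Subgroup.mem_sup_left ha)

theorem commCase_comm_right (h : RootCommutatorCase S A B) {c b : G} (hc : c ∈ ⁅A, B⁆)
    (hb : b ∈ B) : c * b = b * c :=
  h.2.1 c hc b (Subgroup.mem_sup_right hb)

theorem commCase_left_commute (h : RootCommutatorCase S A B) : ⁅A, ⁅A, B⁆⁆ = ⊥ :=
  commutator_eq_bot_of_forall_comm fun _ ha _ hc => (commCase_comm_left h hc ha).symm

theorem commCase_right_commute (h : RootCommutatorCase S A B) : ⁅B, ⁅A, B⁆⁆ = ⊥ :=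
  commutator_eq_bot_of_forall_comm fun _ hb _ hc => (commCase_comm_right h hc hb).symm

theorem commCase_not_commute (hS : IsRootSubgroupSet S) (h : RootCommutatorCase S A B) :
    ⁅A, B⁆ ≠ ⊥ := fun h0 => hS.ne_bot _ h.1 h0

theorem commCase_ne (hS : IsRootSubgroupSet S) (hA : A ∈ S) (h : RootCommutatorCase S A B) :
    A ≠ B := fun he => commCase_not_commute hS h (by rw [← he]; exact commutator_self_eq_bot hS hA)

theorem commCase_commutator_ne_left (hS : IsRootSubgroupSet S) (h : RootCommutatorCase S A B) :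
    ⁅A, B⁆ ≠ A := fun he => commCase_not_commute hS h <| commutator_eq_bot_of_forall_comm
  fun a ha _ hb => commCase_comm_right h (he.symm ▸ ha) hb

theorem commCase_commutator_ne_right (hS : IsRootSubgroupSet S) (h : RootCommutatorCase S A B) :
    ⁅A, B⁆ ≠ B := fun he => commCase_not_commute hS h <| commutator_eq_bot_of_forall_comm
  fun _ ha b hb => (commCase_comm_left h (he.symm ▸ hb) ha).symm

theorem rankOne_not_commute (h : IsRankOnePair A B) : ⁅A, B⁆ ≠ ⊥ := RankOne.commutator_ne_bot h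

/-- The conjugate of a commutator partner by an element of the other member. -/
theorem conjBy_le_sup (h : RootCommutatorCase S A B) {a : G} (ha : a ∈ A) :
    conjBy B a ≤ B ⊔ ⁅A, B⁆ := by
  rintro _ ⟨b, hb, rfl⟩
  have h1 : ⁅a, b⁆ ∈ ⁅A, B⁆ := Subgroup.commutator_mem_commutator ha hb
  have h2 := mul_mem (Subgroup.mem_sup_right (S := B) h1) (Subgroup.mem_sup_left hb)
  simpa [commutatorElement_def, MulAut.conj_apply] using h2

theorem commCase_sup_comm (hS : IsRootSubgroupSet S) (hB : B ∈ S) (h : RootCommutatorCase S A B) :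
    ∀ x ∈ B ⊔ ⁅A, B⁆, ∀ y ∈ B ⊔ ⁅A, B⁆, x * y = y * x := by
  have hle : B ⊔ ⁅A, B⁆ ≤ Subgroup.centralizer ((B ⊔ ⁅A, B⁆ : Subgroup G) : Set G) := by
    have h1 : B ≤ Subgroup.centralizer (B : Set G) :=
      Subgroup.commutator_eq_bot_iff_le_centralizer.1 (commutator_self_eq_bot hS hB)
    have h2 : ⁅A, B⁆ ≤ Subgroup.centralizer ((⁅A, B⁆ : Subgroup G) : Set G) :=
      Subgroup.commutator_eq_bot_iff_le_centralizer.1 (commutator_self_eq_bot hS h.1)
    have h3 : B ≤ Subgroup.centralizer ((⁅A, B⁆ : Subgroup G) : Set G) :=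
      Subgroup.commutator_eq_bot_iff_le_centralizer.1 (commCase_right_commute h)
    have h4 : ⁅A, B⁆ ≤ Subgroup.centralizer (B : Set G) := Subgroup.le_centralizer_iff.1 h3
    exact sup_le (Subgroup.le_centralizer_iff.1 (sup_le h1 h4))
      (Subgroup.le_centralizer_iff.1 (sup_le h3 h2))
  exact fun x hx y hy => (Subgroup.mem_centralizer_iff.1 (hle hx) y hy).symm

theorem conjBy_commute (hS : IsRootSubgroupSet S) (hB : B ∈ S) (h : RootCommutatorCase S A B)
    {a : G} (ha : a ∈ A) : ⁅conjBy B a, B⁆ = ⊥ :=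
  commutator_eq_bot_of_forall_comm fun x hx y hy =>
    commCase_sup_comm hS hB h x (conjBy_le_sup h ha hx) y (Subgroup.mem_sup_left hy)

theorem commutator_conjBy_eq_bot {g : G} :
    ⁅conjBy A g, conjBy B g⁆ = ⊥ ↔ ⁅A, B⁆ = ⊥ := by
  rw [← conjBy_commutator]
  exact (Subgroup.map_eq_bot_iff_of_injective _ (MulAut.conj g).injective)

theorem conjBy_image_eq (hS : IsRootSubgroupSet S) (g : G) : (fun A => conjBy A g) '' S = S := by
  apply Set.Subset.antisymm
  · rintro _ ⟨A, hA, rfl⟩; exact hS.conj_mem A hA g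
  · exact fun A hA => ⟨conjBy A g⁻¹, hS.conj_mem A hA _, conjBy_conjBy_inv A g⟩

theorem commCase_conj (hS : IsRootSubgroupSet S) (h : RootCommutatorCase S A B) (g : G) :
    RootCommutatorCase S (conjBy A g) (conjBy B g) := by
  obtain ⟨hK, hc, h1, h2⟩ := h
  have hmem : ∀ {A : Subgroup G} {x : G}, x ∈ conjBy A g → ∃ a ∈ A, g * a * g⁻¹ = x :=
    fun ⟨a, ha, he⟩ => ⟨a, ha, he⟩
  rw [RootCommutatorCase, ← conjBy_commutator, ← conjBy_sup]
  refine ⟨hS.conj_mem _ hK g, ?_, ?_, ?_⟩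
  · intro c hc' x hx
    obtain ⟨c', hc'', rfl⟩ := hmem hc'
    obtain ⟨x', hx', rfl⟩ := hmem hx
    simpa [mul_assoc] using congrArg (fun z => g * z * g⁻¹) (hc c' hc'' x' hx')
  · intro a ha ha1
    obtain ⟨a', ha', rfl⟩ := hmem ha
    rw [← h1 a' ha' (fun he => ha1 (by simp [he]))]
    show _ = (Subgroup.closure _).map (MulAut.conj g).toMonoidHom
    rw [MonoidHom.map_closure, ← Set.image_comp, Subgroup.coe_map, ← Set.image_comp]
    congr 1
    refine Set.image_congr fun b _ => ?_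
    simp [MulAut.conj_apply, mul_assoc]
  · intro b hb hb1
    obtain ⟨b', hb', rfl⟩ := hmem hb
    rw [← h2 b' hb' (fun he => hb1 (by simp [he]))]
    show _ = (Subgroup.closure _).map (MulAut.conj g).toMonoidHom
    rw [MonoidHom.map_closure, ← Set.image_comp, Subgroup.coe_map, ← Set.image_comp]
    congr 1
    refine Set.image_congr fun b _ => ?_
    simp [MulAut.conj_apply, mul_assoc]

/-- The trichotomy excludes each other: a rank one pair is not in the commutator case. -/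
theorem rankOne_not_commCase (hS : IsRootSubgroupSet S) (hB : B ∈ S) (h : IsRankOnePair A B) :
    ¬ RootCommutatorCase S A B := by
  intro hc
  obtain ⟨a, ha, ha1⟩ := exists_mem_ne_one_of_ne_bot (RankOne.left_ne_bot h)
  have hne : conjBy B a ≠ B := fun he => ha1 (RankOne.eq_one_of_conjBy_eq h ha he)
  exact rankOne_not_commute (RankOne.pair_of_mem h
    (RankOne.conjBy_mem_unipotentSubgroups (RankOne.mem_unipotentSubgroups_right h)
      (Subgroup.mem_sup_left ha)) (RankOne.mem_unipotentSubgroups_right h) hne).1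
    (conjBy_commute hS hB hc ha)

theorem commutatorPartner_case (hS : IsRootSubgroupSet S) (hA : A ∈ S) (hB : B ∈ S)
    (hC : ⁅A, B⁆ ∈ S) (hnr : ¬ IsRankOnePair A B) : RootCommutatorCase S A B :=
  ((hS.pair A hA B hB).resolve_left (hS.ne_bot _ hC)).resolve_left hnr

theorem unipotentSubgroups_subset (hS : IsRootSubgroupSet S) (hA : A ∈ S) :
    unipotentSubgroups A B ⊆ S := by
  rintro _ ⟨x, -, rfl⟩
  exact hS.conj_mem A hA x

/-- If `B = conjBy A x` and the pair is rank one, the rest of `S` sees the pair as one line. -/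
theorem unipotentSubgroups_congr {A B C D E : Subgroup G}
    (hE : E ∈ unipotentSubgroups A B) (hE' : E ∈ unipotentSubgroups C D) (hs : A ⊔ B = C ⊔ D) :
    unipotentSubgroups A B = unipotentSubgroups C D := by
  obtain ⟨x, hx, hxe⟩ := hE
  obtain ⟨y, hy, hye⟩ := hE'
  ext F
  constructor
  · rintro ⟨z, hz, rfl⟩
    refine ⟨z * (x⁻¹ * y), mul_mem (hs ▸ hz) (mul_mem (inv_mem (hs ▸ hx)) hy), ?_⟩
    rw [conjBy_mul, conjBy_mul, ← hye, hxe, conjBy_inv_conjBy]
  · rintro ⟨z, hz, rfl⟩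
    refine ⟨z * (y⁻¹ * x), mul_mem (hs.symm ▸ hz) (mul_mem (inv_mem (hs.symm ▸ hy)) hx), ?_⟩
    rw [conjBy_mul, conjBy_mul, ← hxe, hye, conjBy_inv_conjBy]

/-- A member moving `C` inside a rank one group through `C` is a rank one partner of `C`. -/
theorem moved (hS : IsRootSubgroupSet S) (hE : E ∈ S) (hC : C ∈ S) (h : IsRankOnePair A B)
    (hCm : C ∈ unipotentSubgroups A B) {x : G} (hx : x ∈ E)
    (hm : conjBy C x ∈ unipotentSubgroups A B) (hne : conjBy C x ≠ C) :
    IsRankOnePair E C ∧ A ⊔ B ≤ E ⊔ C := by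
  obtain ⟨hp, hsup⟩ := RankOne.pair_of_mem h hm hCm hne
  refine ⟨?_, ?_⟩
  · rcases hS.pair E hE C hC with h1 | h1 | h1
    · refine absurd (conjBy_self_of_mem_normalizer
        (Subgroup.centralizer_le_normalizer _ ?_)) hne
      exact Subgroup.commutator_eq_bot_iff_le_centralizer.1 h1 hx
    · exact h1
    · exact absurd (conjBy_commute hS hC h1 hx) (rankOne_not_commute hp)
  · rw [← hsup]
    exact sup_le (conjBy_le_of_mem le_sup_right (Subgroup.mem_sup_left hx)) le_sup_right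

/-- Timmesfeld II (2.1). -/
theorem nested_left (hS : IsRootSubgroupSet S) (hA : A ∈ S) (hC : C ∈ S) (hAB : IsRankOnePair A B)
    (hCD : IsRankOnePair C D) (hle : A ⊔ B ≤ C ⊔ D) : A ∈ unipotentSubgroups C D := by
  have hAle : A ≤ C ⊔ D := le_sup_left.trans hle
  by_contra hAm
  have hfix : ∀ a ∈ A, ∀ E ∈ unipotentSubgroups C D, conjBy E a = E := by
    intro a ha E hE
    by_contra hne
    have hES := unipotentSubgroups_subset hS hC hE
    obtain ⟨hp, hge⟩ := moved hS hA hES hCD hE ha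
      (RankOne.conjBy_mem_unipotentSubgroups hE (hAle ha)) hne
    have hsup : A ⊔ E = C ⊔ D :=
      le_antisymm (sup_le hAle (RankOne.le_sup_of_mem_unipotentSubgroups hE)) hge
    rw [← unipotentSubgroups_congr (RankOne.mem_unipotentSubgroups_right hp) hE hsup] at hAm
    exact hAm (RankOne.mem_unipotentSubgroups_left hp)
  let K : Subgroup G :=
    { carrier := {x | x ∈ C ⊔ D ∧ ∀ E ∈ unipotentSubgroups C D, conjBy E x = E}
      one_mem' := ⟨one_mem _, fun E _ => conjBy_one E⟩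
      mul_mem' := fun {x y} hx hy =>
        ⟨mul_mem hx.1 hy.1, fun E hE => by rw [conjBy_mul, hy.2 E hE, hx.2 E hE]⟩
      inv_mem' := fun {x} hx => ⟨inv_mem hx.1, fun E hE => by
        rw [conjBy_eq_iff, inv_inv, hx.2 E hE]⟩ }
  have hKn : C ⊔ D ≤ Subgroup.normalizer (K : Set G) := by
    have key : ∀ x ∈ C ⊔ D, ∀ n ∈ K, x * n * x⁻¹ ∈ K := by
      refine fun x hx n hn => ⟨mul_mem (mul_mem hx hn.1) (inv_mem hx), fun E hE => ?_⟩
      have h1 := hn.2 _ (RankOne.conjBy_mem_unipotentSubgroups hE (inv_mem hx))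
      rw [conjBy_mul, conjBy_mul, h1, conjBy_conjBy_inv]
    intro x hx
    refine Subgroup.mem_normalizer_iff.2 fun n => ⟨fun hn => key x hx n hn, fun hn => ?_⟩
    have h1 := key x⁻¹ (inv_mem hx) _ hn
    have h2 : x⁻¹ * (x * n * x⁻¹) * x⁻¹⁻¹ = n := by simp [mul_assoc]
    rwa [h2] at h1
  have hAK : A ≤ K := fun a ha => ⟨hAle ha, hfix a ha⟩
  rcases RankOne.normal_dichotomy hCD (N := K) (fun x hx => hx.1) hKn with h1 | h1
  · have h2 : K ⊔ C ≤ Subgroup.normalizer (C : Set G) :=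
      sup_le (fun x hx => conjBy_eq_self_iff.1 (hx.2 C (RankOne.mem_unipotentSubgroups_left hCD)))
        Subgroup.le_normalizer
    rw [h1] at h2
    exact RankOne.not_le_normalizer (RankOne.symm hCD) (le_sup_right.trans h2)
  · refine rankOne_not_commute hAB (commutator_eq_bot_of_forall_comm fun a ha b hb => ?_)
    exact Subgroup.mem_centralizer_iff.1 (h1 (hle (Subgroup.mem_sup_right hb))) a (hAK ha)

theorem nested (hS : IsRootSubgroupSet S) (hA : A ∈ S) (hB : B ∈ S) (hC : C ∈ S)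
    (hAB : IsRankOnePair A B) (hCD : IsRankOnePair C D) (hle : A ⊔ B ≤ C ⊔ D) :
    A ⊔ B = C ⊔ D ∧ unipotentSubgroups A B = unipotentSubgroups C D := by
  have h1 := nested_left hS hA hC hAB hCD hle
  have h2 := nested_left hS hB hC (RankOne.symm hAB) hCD (sup_comm B A ▸ hle)
  have hsup : A ⊔ B = C ⊔ D := (RankOne.pair_of_mem hCD h1 h2 hAB.ne).2
  exact ⟨hsup, unipotentSubgroups_congr (RankOne.mem_unipotentSubgroups_left hAB) h1 hsup⟩

/-- A member moving `C` inside `⟨A, B⟩` with `C` a member of that group lies on it, provided the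
group it generates with `C` is rank one. -/
theorem moved_sup (hS : IsRootSubgroupSet S) (hE : E ∈ S) (hC : C ∈ S) (hA : A ∈ S) (hB : B ∈ S)
    (h : IsRankOnePair A B) (hCm : C ∈ unipotentSubgroups A B) {x : G} (hx : x ∈ E)
    (hm : conjBy C x ∈ unipotentSubgroups A B) (hne : conjBy C x ≠ C) :
    IsRankOnePair E C ∧ A ⊔ B = E ⊔ C ∧ unipotentSubgroups A B = unipotentSubgroups E C := by
  obtain ⟨hp, hle⟩ := moved hS hE hC h hCm hx hm hne
  exact ⟨hp, nested hS hA hB hE h hp hle⟩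

theorem exists_partner_of_not_isolated (hA : ¬ IsIsolatedIn (FAdj S) S A) (hAS : A ∈ S) :
    ∃ B ∈ S, IsRankOnePair A B := by
  by_contra hc
  push Not at hc
  refine hA ⟨hAS, fun B => ⟨fun h => hc B h.2.1 h.2.2, fun h => hc B h.1 (RankOne.symm h.2.2)⟩⟩

theorem not_isolated_of_pair (hA : A ∈ S) (hB : B ∈ S) (h : IsRankOnePair A B) :
    ¬ IsIsolatedIn (FAdj S) S A := fun hi => (hi.2 B).1 ⟨hA, hB, h⟩

theorem not_isolated_conj (hS : IsRootSubgroupSet S) (hAS : A ∈ S)
    (hA : ¬ IsIsolatedIn (FAdj S) S A) (g : G) : ¬ IsIsolatedIn (FAdj S) S (conjBy A g) := by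
  obtain ⟨B, hB, h⟩ := exists_partner_of_not_isolated hA hAS
  exact not_isolated_of_pair (hS.conj_mem A hAS g) (hS.conj_mem B hB g) (RankOne.conj h g)

/-- Timmesfeld II (2.2). -/
theorem inf_eq_bot_or_eq (hS : IsRootSubgroupSet S) (hAS : A ∈ S)
    (hA : ¬ IsIsolatedIn (FAdj S) S A) (hB : B ∈ S) : A ⊓ B = ⊥ ∨ A = B := by
  obtain ⟨C, hC, h⟩ := exists_partner_of_not_isolated hA hAS
  by_cases hne : A ⊓ B = ⊥
  · exact Or.inl hne
  obtain ⟨x, hx, hx1⟩ := exists_mem_ne_one_of_ne_bot hne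
  have hCm := RankOne.mem_unipotentSubgroups_right h
  obtain ⟨-, -, hΩ⟩ := moved_sup hS hB hC hAS hC h hCm (x := x) hx.2
    (RankOne.conjBy_mem_unipotentSubgroups hCm (Subgroup.mem_sup_left hx.1))
    (fun he => hx1 (RankOne.eq_one_of_conjBy_eq h hx.1 he))
  obtain ⟨hp, -⟩ := moved hS hB hC h hCm (x := x) hx.2
    (RankOne.conjBy_mem_unipotentSubgroups hCm (Subgroup.mem_sup_left hx.1))
    (fun he => hx1 (RankOne.eq_one_of_conjBy_eq h hx.1 he))
  have hBm : B ∈ unipotentSubgroups A C := hΩ ▸ RankOne.mem_unipotentSubgroups_left hp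
  by_contra hc
  push Not at hc
  exact hne (RankOne.inf_eq_bot_of_mem h (RankOne.mem_unipotentSubgroups_left h) hBm hc.2)

/-- Timmesfeld II (2.1)(b): no root element lies in a non-trivial coset of the centralizer of a
rank one group. -/
theorem no_central_translate (hS : IsRootSubgroupSet S) (hA : A ∈ S) (hB : B ∈ S)
    (h : IsRankOnePair A B) {z : G} (hz : z ∈ Subgroup.centralizer ((A ⊔ B : Subgroup G) : Set G))
    (hz1 : z ≠ 1) {a : G} (ha : a ∈ A) (ha1 : a ≠ 1) : z * a ∉ rootElements S := by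
  rintro ⟨-, E, hE, hzaE⟩
  have hzc : ∀ F, F ≤ A ⊔ B → conjBy F z = F := fun F hF =>
    conjBy_self_of_mem_normalizer (Subgroup.centralizer_le_normalizer _
      (Subgroup.centralizer_le hF hz))
  have hBm := RankOne.mem_unipotentSubgroups_right h
  have hmem := RankOne.conjBy_mem_unipotentSubgroups hBm
    (x := a) (Subgroup.mem_sup_left ha)
  have he : conjBy B (z * a) = conjBy B a := by
    rw [conjBy_mul, hzc _ (RankOne.le_sup_of_mem_unipotentSubgroups hmem)]
  have hmem' : conjBy B (z * a) ∈ unipotentSubgroups A B := he ▸ hmem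
  have hne' : conjBy B (z * a) ≠ B := he ▸ fun h' => ha1 (RankOne.eq_one_of_conjBy_eq h ha h')
  obtain ⟨hp, hsup, hΩ⟩ := moved_sup hS hE hB hA hB h hBm hzaE hmem' hne'
  have hEm : E ∈ unipotentSubgroups A B := hΩ ▸ RankOne.mem_unipotentSubgroups_left hp
  have hzaX : z * a ∈ A ⊔ B := hsup ▸ Subgroup.mem_sup_left hzaE
  have hEA : E = A := by
    refine RankOne.eq_left_of_fixed h hEm ha ha1 ?_
    have h1 : conjBy E (z * a) = E := conjBy_self_of_mem hzaE
    rw [conjBy_mul, conjBy_eq_iff] at h1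
    rw [h1, conjBy_eq_iff, inv_inv, hzc _ (RankOne.le_sup_of_mem_unipotentSubgroups hEm)]
  subst hEA
  have hzA : z ∈ E := by simpa using mul_mem hzaE (inv_mem ha)
  exact hz1 (RankOne.eq_one_of_conjBy_eq h hzA (hzc B le_sup_right))

end Cfsg.Agent.Lib.RootSubgroups.RootSet
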