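import Mathlib
import Cfsg.Prelude.Def_RootSubgroups
import Cfsg.Agent.Lib.RootSubgroups.RootSet

/-!
The commutator case: the line `A ⊔ ⁅A, B⁆` (Timmesfeld II (2.3)), and connectivity lemmas.
-/

set_option autoImplicit false

namespace Cfsg.Agent.Lib.RootSubgroups.RootSet

open Cfsg Cfsg.Agent.Lib.RootSubgroups
open scoped commutatorElement

variable {G : Type*} [Group G] {S : Set (Subgroup G)} {A B C D E : Subgroup G}

/-- A pair with commutator in `S` is in the commutator case. -/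
theorem commCase_of_commutator_mem (hS : IsRootSubgroupSet S) (hA : A ∈ S) (hB : B ∈ S)
    (hC : ⁅A, B⁆ ∈ S) : RootCommutatorCase S A B := by
  refine commutatorPartner_case hS hA hB hC fun h => ?_
  have hCle : ⁅A, B⁆ ≤ A ⊔ B := Subgroup.commutator_le.2 fun a ha b hb => by
    have hA' : a ∈ A ⊔ B := Subgroup.mem_sup_left ha
    have hB' : b ∈ A ⊔ B := Subgroup.mem_sup_right hb
    exact (A ⊔ B).mul_mem ((A ⊔ B).mul_mem ((A ⊔ B).mul_mem hA' hB') ((A ⊔ B).inv_mem hA'))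
      ((A ⊔ B).inv_mem hB')
  have hCn : A ⊔ B ≤ Subgroup.normalizer ((⁅A, B⁆ : Subgroup G) : Set G) :=
    sup_le (Subgroup.normalizer_commutator_ge_left _ _) (Subgroup.normalizer_commutator_ge_right _ _)
  rcases RankOne.normal_dichotomy h hCle hCn with h1 | h1
  · have hAn : ∃ c ∈ ⁅A, B⁆, conjBy A c ≠ A := by
      by_contra hc
      push Not at hc
      have h2 : ⁅A, B⁆ ⊔ A ≤ Subgroup.normalizer (A : Set G) :=
        sup_le (fun c hc' => conjBy_eq_self_iff.1 (hc c hc')) Subgroup.le_normalizer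
      rw [h1] at h2
      exact RankOne.not_le_normalizer (RankOne.symm h) (le_sup_right.trans h2)
    obtain ⟨c, hc, hne⟩ := hAn
    obtain ⟨hp, -⟩ := moved hS hC hA h (RankOne.mem_unipotentSubgroups_left h) hc
      (RankOne.conjBy_mem_unipotentSubgroups (RankOne.mem_unipotentSubgroups_left h) (hCle hc)) hne
    exact RankOne.not_le_normalizer (RankOne.symm hp) (le_sup_left.trans hCn)
  · obtain ⟨a, ha, ha1⟩ := exists_mem_ne_one_of_ne_bot (RankOne.left_ne_bot h)
    obtain ⟨b, hb, hb1⟩ := exists_mem_ne_one_of_ne_bot (RankOne.right_ne_bot h)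
    set c := ⁅a, b⁆ with hcdef
    have hcC : c ∈ ⁅A, B⁆ := Subgroup.commutator_mem_commutator ha hb
    have hm := RankOne.conjBy_mem_unipotentSubgroups (RankOne.mem_unipotentSubgroups_right h)
      (x := a) (Subgroup.mem_sup_left ha)
    have he : conjBy (conjBy B a) (c * b) = conjBy B a := by
      refine conjBy_self_of_mem ?_
      rw [hcdef, commutatorElement_def, inv_mul_cancel_right]
      exact conj_mem_conjBy hb
    have hcn : conjBy (conjBy B a) c⁻¹ = conjBy B a :=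
      conjBy_self_of_mem_normalizer (Subgroup.centralizer_le_normalizer _
        (Subgroup.centralizer_le (RankOne.le_sup_of_mem_unipotentSubgroups hm)
          (Subgroup.le_centralizer_iff.1 h1 ((⁅A, B⁆ : Subgroup G).inv_mem hcC))))
    rw [conjBy_mul, conjBy_eq_iff, hcn] at he
    have h2 := RankOne.eq_left_of_fixed (RankOne.symm h)
      (RankOne.unipotentSubgroups_symm h ▸ hm) hb hb1 he
    exact ha1 (RankOne.eq_one_of_conjBy_eq h ha h2)

/-- For `a ∈ A` the map `b ↦ a⁻¹ b⁻¹ a b`. -/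
def commMap (hS : IsRootSubgroupSet S) (h : RootCommutatorCase S A B) {a : G} (ha : a ∈ A) :
    ↥B →* ↥⁅A, B⁆ where
  toFun b := ⟨⁅a⁻¹, (b : G)⁻¹⁆, Subgroup.commutator_mem_commutator (inv_mem ha) (inv_mem b.2)⟩
  map_one' := Subtype.ext (by simp [commutatorElement_def])
  map_mul' b b' := by
    refine Subtype.ext ?_
    have h1 : ⁅a⁻¹, (b : G)⁻¹⁆ ∈ ⁅A, B⁆ :=
      Subgroup.commutator_mem_commutator (inv_mem ha) (inv_mem b.2)
    have h2 := commCase_comm_right h h1 b'.2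
    have h3 : ⁅a⁻¹, (b' : G)⁻¹⁆ * ⁅a⁻¹, (b : G)⁻¹⁆ = ⁅a⁻¹, (b : G)⁻¹⁆ * ⁅a⁻¹, (b' : G)⁻¹⁆ :=
      comm_of_mem hS h.1 (Subgroup.commutator_mem_commutator (inv_mem ha) (inv_mem b'.2)) h1
    calc ⁅a⁻¹, ((b * b' : B) : G)⁻¹⁆ = a⁻¹ * (b' : G)⁻¹ * a * (⁅a⁻¹, (b : G)⁻¹⁆ * b') := by
          simp [commutatorElement_def, mul_assoc]
      _ = ⁅a⁻¹, (b' : G)⁻¹⁆ * ⁅a⁻¹, (b : G)⁻¹⁆ := by
          rw [h2]; simp [commutatorElement_def, mul_assoc]
      _ = _ := h3

theorem commMap_apply (hS : IsRootSubgroupSet S) (h : RootCommutatorCase S A B) {a : G} (ha : a ∈ A)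
    (b : ↥B) : (commMap hS h ha b : G) = a⁻¹ * (b : G)⁻¹ * a * b := by
  simp [commMap, commutatorElement_def]

theorem commMap_surjective (hS : IsRootSubgroupSet S) (h : RootCommutatorCase S A B) {a : G}
    (ha : a ∈ A) (ha1 : a ≠ 1) : Function.Surjective (commMap hS h ha) := by
  intro c
  have hle : ⁅A, B⁆ ≤ (commMap hS h ha).range.map (⁅A, B⁆).subtype := by
    conv_lhs => rw [← h.2.2.1 a⁻¹ (inv_mem ha) (inv_ne_one.2 ha1)]
    rw [Subgroup.closure_le]
    rintro _ ⟨b, hb, rfl⟩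
    refine ⟨commMap hS h ha ⟨b⁻¹, inv_mem hb⟩, ⟨_, rfl⟩, ?_⟩
    simp [commMap_apply]
  obtain ⟨c', ⟨b, rfl⟩, hb⟩ := hle c.2
  exact ⟨b, Subtype.ext hb⟩

/-- If `A` is not isolated, commuting elements of a commutator pair are trivial. -/
theorem commCase_eq_one (hS : IsRootSubgroupSet S) (hAS : A ∈ S)
    (hA : ¬ IsIsolatedIn (FAdj S) S A) (h : RootCommutatorCase S A B) {a b : G} (ha : a ∈ A)
    (hb : b ∈ B) (hb1 : b ≠ 1) (hab : a * b = b * a) : a = 1 := by
  by_contra ha1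
  have hm : a ∈ A ⊓ conjBy A b := ⟨ha, by
    have h1 := conj_mem_conjBy (g := b) ha
    rwa [← hab, mul_inv_cancel_right] at h1⟩
  have hAb : A = conjBy A b := by
    rcases inf_eq_bot_or_eq hS hAS hA (hS.conj_mem A hAS b) with h1 | h1
    · rw [h1, Subgroup.mem_bot] at hm
      exact absurd hm ha1
    · exact h1
  have hCA : ⁅A, B⁆ ≤ A := by
    conv_lhs => rw [← h.2.2.2 b hb hb1]
    rw [Subgroup.closure_le]
    rintro _ ⟨a', ha', rfl⟩
    have h1 := conj_mem_conjBy (g := b) (inv_mem ha')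
    rw [← hAb] at h1
    simpa [mul_assoc] using mul_mem ha' h1
  rcases inf_eq_bot_or_eq hS hAS hA h.1 with h1 | h1
  · rw [inf_of_le_right hCA] at h1
    exact hS.ne_bot _ h.1 h1
  · exact commCase_commutator_ne_left hS h h1.symm

theorem commMap_injective (hS : IsRootSubgroupSet S) (hAS : A ∈ S)
    (hA : ¬ IsIsolatedIn (FAdj S) S A) (h : RootCommutatorCase S A B) {a : G} (ha : a ∈ A)
    (ha1 : a ≠ 1) : Function.Injective (commMap hS h ha) := by
  refine (injective_iff_map_eq_one _).2 fun b hb => ?_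
  have h1 := congrArg Subtype.val hb
  rw [commMap_apply] at h1
  by_contra hb1
  refine ha1 (commCase_eq_one hS hAS hA h ha b.2 (fun he => hb1 (Subtype.ext he)) ?_)
  have h2 := congrArg (fun x => (b : G) * a * x) h1
  simp only [OneMemClass.coe_one, mul_one] at h2
  rw [← h2]
  simp [mul_assoc]

theorem conjBy_left_le_line (h : RootCommutatorCase S A B) {b : G} (hb : b ∈ B) :
    conjBy A b ≤ A ⊔ ⁅A, B⁆ := by
  have h1 := conjBy_le_sup (commCase_symm h) hb
  rwa [Subgroup.commutator_comm B A] at h1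

theorem mem_line_cases (hS : IsRootSubgroupSet S) (hAS : A ∈ S) (h : RootCommutatorCase S A B)
    {x : G} (hx : x ∈ A ⊔ ⁅A, B⁆) (hxC : x ∉ ⁅A, B⁆) : ∃ b ∈ B, x ∈ conjBy A b := by
  have hn : A ≤ Subgroup.normalizer ((⁅A, B⁆ : Subgroup G) : Set G) :=
    (Subgroup.normalizer_commutator_ge_left _ _)
  obtain ⟨a, ha, c, hc, rfl⟩ : ∃ a ∈ A, ∃ c ∈ ⁅A, B⁆, a * c = x := by
    have h1 := Subgroup.coe_mul_of_left_le_normalizer_right A ⁅A, B⁆ hn
    rw [← SetLike.mem_coe, h1] at hx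
    exact Set.mem_mul.1 hx
  have ha1 : a ≠ 1 := fun he => hxC (by rw [he, one_mul]; exact hc)
  obtain ⟨b, hb⟩ := commMap_surjective hS h ha ha1 ⟨c, hc⟩
  refine ⟨(b : G)⁻¹, inv_mem b.2, ?_⟩
  have h1 : c = a⁻¹ * (b : G)⁻¹ * a * b := by rw [← commMap_apply hS h ha b, hb]
  rw [mem_conjBy, h1]
  simpa [mul_assoc] using ha

theorem line_translate (hS : IsRootSubgroupSet S) (hAS : A ∈ S)
    (hA : ¬ IsIsolatedIn (FAdj S) S A) (h : RootCommutatorCase S A B) {a c : G} (ha : a ∈ A)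
    (ha1 : a ≠ 1) (hc : c ∈ ⁅A, B⁆) : a * c ∈ rootElements S := by
  obtain ⟨b, hb⟩ := commMap_surjective hS h ha ha1 ⟨c, hc⟩
  have h1 : c = a⁻¹ * (b : G)⁻¹ * a * b := by rw [← commMap_apply hS h ha b, hb]
  refine ⟨fun he => ha1 ?_, conjBy A (b : G)⁻¹, hS.conj_mem A hAS _, ?_⟩
  · have h2 : a * c = (b : G)⁻¹ * a * b := by rw [h1]; simp [mul_assoc]
    rw [h2] at he
    have h3 : (b : G)⁻¹ * a * ((b : G)⁻¹)⁻¹ = 1 := by rwa [inv_inv]
    exact conj_eq_one_iff.1 h3
  · rw [mem_conjBy, h1]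
    simpa [mul_assoc] using ha

/-- A partner of `A` does not commute with a non-identity element of `⁅A, B⁆`. -/
theorem not_comm_of_line (hS : IsRootSubgroupSet S) (hAS : A ∈ S) (hD : D ∈ S)
    (hp : IsRankOnePair A D) (h : RootCommutatorCase S A B) {c : G} (hc : c ∈ ⁅A, B⁆) (hc1 : c ≠ 1) :
    ¬ ∀ d ∈ D, c * d = d * c := by
  intro hd
  obtain ⟨a, ha, ha1⟩ := exists_mem_ne_one_of_ne_bot (RankOne.left_ne_bot hp)
  have hle : A ⊔ D ≤ Subgroup.centralizer {c} :=
    sup_le (fun x hx => Subgroup.mem_centralizer_singleton_iff.2 (commCase_comm_left h hc hx).symm)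
      (fun x hx => Subgroup.mem_centralizer_singleton_iff.2 (hd x hx).symm)
  have hcc : c ∈ Subgroup.centralizer ((A ⊔ D : Subgroup G) : Set G) :=
    Subgroup.mem_centralizer_iff.2 fun x hx => Subgroup.mem_centralizer_singleton_iff.1 (hle hx)
  have h2 := no_central_translate hS hAS hD hp hcc hc1 ha ha1
  rw [commCase_comm_left h hc ha] at h2
  exact h2 (line_translate hS hAS (not_isolated_of_pair hAS hD hp) h ha ha1 hc)

/-- A member inside the commutator of a pair equals it, if the first member is not isolated. -/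
theorem eq_of_le_commutator (hS : IsRootSubgroupSet S) (hAS : A ∈ S)
    (hA : ¬ IsIsolatedIn (FAdj S) S A) (h : RootCommutatorCase S A B) (hE : E ∈ S)
    (hle : E ≤ ⁅A, B⁆) : E = ⁅A, B⁆ := by
  obtain ⟨D, hD, hp⟩ := exists_partner_of_not_isolated hA hAS
  set C := ⁅A, B⁆ with hC
  have hiso : (¬ IsIsolatedIn (FAdj S) S C ∨ ¬ IsIsolatedIn (FAdj S) S E) → E = C := by
    rintro (hi | hi)
    · rcases inf_eq_bot_or_eq hS h.1 hi hE with h1 | h1
      · rw [inf_of_le_right hle] at h1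
        exact absurd h1 (hS.ne_bot _ hE)
      · exact h1.symm
    · rcases inf_eq_bot_or_eq hS hE hi h.1 with h1 | h1
      · rw [inf_of_le_left hle] at h1
        exact absurd h1 (hS.ne_bot _ hE)
      · exact h1
  obtain ⟨e, he, he1⟩ := exists_mem_ne_one_of_ne_bot (hS.ne_bot _ hE)
  have hncE : ⁅E, D⁆ ≠ ⊥ := fun h0 => not_comm_of_line hS hAS hD hp h (hle he) he1
    fun d hd => commute_of_commutator_eq_bot h0 he hd
  rcases hS.pair E hE D hD with h1 | h1 | hED
  · exact absurd h1 hncE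
  · exact hiso (Or.inr (not_isolated_of_pair hE hD h1))
  rcases hS.pair C h.1 D hD with h1 | h1 | hCD
  · exact absurd (eq_bot_iff.2 ((Subgroup.commutator_mono hle le_rfl).trans h1.le)) hncE
  · exact hiso (Or.inl (not_isolated_of_pair h.1 hD h1))
  · obtain ⟨d, hd, hd1⟩ := exists_mem_ne_one_of_ne_bot (hS.ne_bot _ hD)
    have hDi := not_isolated_of_pair hD hAS (RankOne.symm hp)
    have hK : ⁅E, D⁆ = ⁅C, D⁆ := by
      rw [← hED.2.2.1 e he he1, hCD.2.2.1 e (hle he) he1]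
    refine le_antisymm hle fun x hx => ?_
    set φ := commMap hS (commCase_symm hCD) hd with hφ
    have hx' : (φ ⟨x, hx⟩ : G) ∈ ⁅D, E⁆ := by
      have h2 := (φ ⟨x, hx⟩).2
      rwa [Subgroup.commutator_comm D E, hK, Subgroup.commutator_comm C D]
    obtain ⟨y, hy⟩ := commMap_surjective hS (commCase_symm hED) hd hd1 ⟨_, hx'⟩
    have h3 : φ ⟨y, hle y.2⟩ = φ ⟨x, hx⟩ := Subtype.ext (by
      have h4 := congrArg Subtype.val hy
      rw [commMap_apply] at h4
      rw [hφ, commMap_apply]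
      exact h4)
    have h5 := commMap_injective hS hD hDi (commCase_symm hCD) hd hd1 h3
    have h6 : (y : G) = x := congrArg Subtype.val h5
    exact h6 ▸ y.2

theorem membersIn_line (hS : IsRootSubgroupSet S) (hAS : A ∈ S)
    (hA : ¬ IsIsolatedIn (FAdj S) S A) (h : RootCommutatorCase S A B) :
    membersIn S (A ⊔ ⁅A, B⁆) = (fun b : G => conjBy A b) '' (B : Set G) ∪ {⁅A, B⁆} := by
  ext E
  constructor
  · rintro ⟨hE, hle⟩
    by_cases hEC : E ≤ ⁅A, B⁆
    · exact Or.inr (eq_of_le_commutator hS hAS hA h hE hEC)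
    · obtain ⟨x, hxE, hxC⟩ := SetLike.not_le_iff_exists.1 hEC
      obtain ⟨b, hb, hxb⟩ := mem_line_cases hS hAS h (hle hxE) hxC
      refine Or.inl ⟨b, hb, ?_⟩
      rcases inf_eq_bot_or_eq hS (hS.conj_mem A hAS b) (not_isolated_conj hS hAS hA b) hE with h1 | h1
      · exfalso
        have : x ∈ conjBy A b ⊓ E := ⟨hxb, hxE⟩
        rw [h1, Subgroup.mem_bot] at this
        exact hxC (this ▸ one_mem _)
      · exact h1
  · rintro (⟨b, hb, rfl⟩ | rfl)
    · exact ⟨hS.conj_mem A hAS b, conjBy_left_le_line h hb⟩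
    · exact ⟨h.1, le_sup_right⟩

theorem line_partition (hS : IsRootSubgroupSet S) (hAS : A ∈ S)
    (hA : ¬ IsIsolatedIn (FAdj S) S A) (h : RootCommutatorCase S A B) :
    IsSubgroupPartition (A ⊔ ⁅A, B⁆) (membersIn S (A ⊔ ⁅A, B⁆)) := by
  refine ⟨fun E hE => hE.2, fun x hx hx1 => ?_, fun E hE F hF hne => ?_⟩
  · by_cases hxC : x ∈ ⁅A, B⁆
    · exact ⟨_, ⟨h.1, le_sup_right⟩, hxC⟩
    · obtain ⟨b, hb, hxb⟩ := mem_line_cases hS hAS h hx hxC
      exact ⟨_, ⟨hS.conj_mem A hAS b, conjBy_left_le_line h hb⟩, hxb⟩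
  · have hE' := (Set.ext_iff.1 (membersIn_line hS hAS hA h) E).1 hE
    have hF' := (Set.ext_iff.1 (membersIn_line hS hAS hA h) F).1 hF
    rcases hE' with ⟨b, hb, rfl⟩ | rfl
    · exact (inf_eq_bot_or_eq hS hE.1 (not_isolated_conj hS hAS hA b) hF.1).resolve_right hne
    · rcases hF' with ⟨b, hb, rfl⟩ | rfl
      · rw [inf_comm]
        exact (inf_eq_bot_or_eq hS hF.1 (not_isolated_conj hS hAS hA b) hE.1).resolve_right hne.symm
      · exact absurd rfl hne

theorem mem_linePartners_commutator (hS : IsRootSubgroupSet S) (hAS : A ∈ S)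
    (hA : ¬ IsIsolatedIn (FAdj S) S A) (h : RootCommutatorCase S A B) :
    A ∈ linePartners S ⁅A, B⁆ := by
  refine ⟨⟨hAS, fun he => commCase_commutator_ne_left hS h he.symm,
    commutator_eq_bot_comm.1 (commCase_left_commute h)⟩, ?_⟩
  rw [sup_comm]
  exact line_partition hS hAS hA h

end Cfsg.Agent.Lib.RootSubgroups.RootSet
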