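import Mathlib
import Cfsg.Prelude.Def_RootSubgroups
import Cfsg.Agent.Lib.RootSubgroups.Line

/-!
Components of the graph `𝓕(Σ)` (Timmesfeld II (2.5), (2.6)).
-/

set_option autoImplicit false

namespace Cfsg.Agent.Lib.RootSubgroups.RootSet

open Cfsg Cfsg.Agent.Lib.RootSubgroups

variable {G : Type*} [Group G] {S : Set (Subgroup G)} {A B C D E : Subgroup G}

/-- Reachability in `𝓕(S)`. -/
abbrev FReach (S : Set (Subgroup G)) : Subgroup G → Subgroup G → Prop :=
  Relation.ReflTransGen (FAdj S)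

theorem FAdj_symm (h : FAdj S A B) : FAdj S B A := ⟨h.2.1, h.1, RankOne.symm h.2.2⟩

theorem FReach_symm (h : FReach S A B) : FReach S B A := by
  induction h with
  | refl => exact Relation.ReflTransGen.refl
  | tail _ hbc ih => exact Relation.ReflTransGen.head (FAdj_symm hbc) ih

theorem FReach_mem (h : FReach S A B) (hA : A ∈ S) : B ∈ S := by
  cases h with
  | refl => exact hA
  | tail _ hbc => exact hbc.2.1

theorem not_isolated_of_reach (h : FReach S A B) (hne : A ≠ B) : ¬ IsIsolatedIn (FAdj S) S A := by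
  rcases Relation.ReflTransGen.cases_head h with h1 | ⟨C, hC, -⟩
  · exact absurd h1 hne
  · exact fun hi => (hi.2 C).1 hC

theorem componentOf_eq (hA : A ∈ S) (h : FReach S A B) :
    componentOf (FAdj S) S A = componentOf (FAdj S) S B := by
  ext C
  exact ⟨fun hC => ⟨hC.1, (FReach_symm h).trans hC.2⟩, fun hC => ⟨hC.1, h.trans hC.2⟩⟩

/-- A member meeting both `A#B#` is adjacent to every partner of `A` not adjacent to `B`. -/
theorem line_adj (hS : IsRootSubgroupSet S) (hA : A ∈ S) (hB : B ∈ S) (hD : D ∈ S) (hE : E ∈ S)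
    (hAB : ⁅A, B⁆ = ⊥) (hp : IsRankOnePair A D) (hBD : ¬ IsRankOnePair B D) {a b : G}
    (ha : a ∈ A) (ha1 : a ≠ 1) (hb : b ∈ B) (hb1 : b ≠ 1) (hab : a * b ∈ E) (hab1 : a * b ≠ 1) :
    IsRankOnePair E D := by
  have hcab : a * b = b * a := commute_of_commutator_eq_bot hAB ha hb
  have hDm := RankOne.mem_unipotentSubgroups_right hp
  have hne : conjBy D a⁻¹ ≠ D := fun h =>
    ha1 (inv_eq_one.1 (RankOne.eq_one_of_conjBy_eq hp (inv_mem ha) h))
  have hmem := RankOne.conjBy_mem_unipotentSubgroups hDm (x := a⁻¹) (Subgroup.mem_sup_left (inv_mem ha))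
  obtain ⟨hpair, hsup⟩ := RankOne.pair_of_mem hp hmem hDm hne
  have hc : RootCommutatorCase S B D := by
    rcases hS.pair B hB D hD with h | h | h
    · exfalso
      have hz : b ∈ Subgroup.centralizer ((A ⊔ D : Subgroup G) : Set G) := by
        have hle : A ⊔ D ≤ Subgroup.centralizer {b} :=
          sup_le (fun x hx => Subgroup.mem_centralizer_singleton_iff.2
            (commute_of_commutator_eq_bot hAB hx hb))
            (fun x hx => Subgroup.mem_centralizer_singleton_iff.2
              (commute_of_commutator_eq_bot h hb hx).symm)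
        exact Subgroup.mem_centralizer_iff.2 fun x hx =>
          Subgroup.mem_centralizer_singleton_iff.1 (hle hx)
      exact no_central_translate hS hA hD hp hz hb1 ha ha1 ⟨hcab ▸ hab1, E, hE, hcab ▸ hab⟩
    · exact absurd h hBD
    · exact h
  have hb' : ⁅conjBy D b, D⁆ = ⊥ := conjBy_commute hS hD hc hb
  rcases hS.pair E hE D hD with h | h | h
  · exfalso
    have h1 : conjBy D (a * b) = D := conjBy_self_of_mem_normalizer
      (Subgroup.centralizer_le_normalizer _ (Subgroup.commutator_eq_bot_iff_le_centralizer.1 h hab))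
    rw [conjBy_mul, conjBy_eq_iff] at h1
    rw [h1] at hb'
    exact rankOne_not_commute hpair hb'
  · exact h
  · exfalso
    have h1 : ⁅conjBy D (a * b), D⁆ = ⊥ := conjBy_commute hS hD h hab
    rw [← commutator_conjBy_eq_bot (g := a⁻¹), ← conjBy_mul, inv_mul_cancel_left] at h1
    have h2 : A ⊔ D ≤ Subgroup.centralizer ((conjBy D b : Subgroup G) : Set G) := by
      rw [← hsup, sup_le_iff]
      exact ⟨Subgroup.commutator_eq_bot_iff_le_centralizer.1 (commutator_eq_bot_comm.1 h1),
        Subgroup.commutator_eq_bot_iff_le_centralizer.1 (commutator_eq_bot_comm.1 hb')⟩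
    have h3 : ⁅A, conjBy D b⁆ = ⊥ :=
      Subgroup.commutator_eq_bot_iff_le_centralizer.2 (le_sup_left.trans h2)
    have hAb : conjBy A b = A := conjBy_self_of_mem_normalizer
      (Subgroup.centralizer_le_normalizer _
        (Subgroup.le_centralizer_iff.1 (Subgroup.commutator_eq_bot_iff_le_centralizer.1 hAB) hb))
    rw [← hAb, commutator_conjBy_eq_bot] at h3
    exact rankOne_not_commute hp h3

/-- Timmesfeld II (2.5): line partners lie in one component. -/
theorem linePartner_reach (hS : IsRootSubgroupSet S) (hA : A ∈ S)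
    (hAi : ¬ IsIsolatedIn (FAdj S) S A) (hB : B ∈ linePartners S A)
    (hBi : ¬ IsIsolatedIn (FAdj S) S B) : FReach S A B := by
  obtain ⟨⟨hBS, hne, hAB⟩, hpart⟩ := hB
  by_contra hcon
  obtain ⟨a, ha, ha1⟩ := exists_mem_ne_one_of_ne_bot (hS.ne_bot A hA)
  obtain ⟨b, hb, hb1⟩ := exists_mem_ne_one_of_ne_bot (hS.ne_bot B hBS)
  have hint : A ⊓ B = ⊥ := (inf_eq_bot_or_eq hS hA hAi hBS).resolve_right hne.symm
  have hab1 : a * b ≠ 1 := fun h => by
    have h1 : a ∈ A ⊓ B := ⟨ha, eq_inv_of_mul_eq_one_left h ▸ B.inv_mem hb⟩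
    rw [hint, Subgroup.mem_bot] at h1
    exact ha1 h1
  obtain ⟨E, hE, habE⟩ := hpart.2.1 (a * b)
    (mul_mem (Subgroup.mem_sup_left ha) (Subgroup.mem_sup_right hb)) hab1
  have key : ∀ {A B : Subgroup G}, A ∈ S → B ∈ S → ¬ IsIsolatedIn (FAdj S) S A → ⁅A, B⁆ = ⊥ →
      ¬ FReach S A B → ∀ {a b : G}, a ∈ A → a ≠ 1 → b ∈ B → b ≠ 1 → a * b ∈ E → a * b ≠ 1 →
      FReach S A E := by
    intro A B hA hB hAi hAB hcon a b ha ha1 hb hb1 hab hab1
    obtain ⟨D, hD, hp⟩ := exists_partner_of_not_isolated hAi hA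
    have h1 : FReach S A D := Relation.ReflTransGen.single ⟨hA, hD, hp⟩
    refine h1.tail ⟨hD, hE.1, RankOne.symm (line_adj hS hA hB hD hE.1 hAB hp (fun h => ?_)
      ha ha1 hb hb1 hab hab1)⟩
    exact hcon (h1.tail ⟨hD, hB, RankOne.symm h⟩)
  have h1 := key hA hBS hAi hAB hcon ha ha1 hb hb1 habE hab1
  have hc := commute_of_commutator_eq_bot hAB ha hb
  have h2 := key hBS hA hBi (commutator_eq_bot_comm.1 hAB) (fun h => hcon (FReach_symm h)) hb hb1 ha
    ha1 (hc ▸ habE) (hc ▸ hab1)
  exact hcon (h1.trans (FReach_symm h2))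

theorem reach_conj (hS : IsRootSubgroupSet S) (h : FReach S A B) (g : G) :
    FReach S (conjBy A g) (conjBy B g) := by
  induction h with
  | refl => exact Relation.ReflTransGen.refl
  | tail _ hbc ih =>
    exact ih.tail ⟨hS.conj_mem _ hbc.1 g, hS.conj_mem _ hbc.2.1 g, RankOne.conj hbc.2.2 g⟩

theorem pair_left_conj (h : IsRankOnePair A B) : ∃ g : G, B = conjBy A g := by
  obtain ⟨g, -, hg⟩ := RankOne.mem_unipotentSubgroups_right h
  exact ⟨g, hg⟩

theorem reach_isConj (h : FReach S A B) : ∃ g : G, B = conjBy A g := by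
  induction h with
  | refl => exact ⟨1, (conjBy_one A).symm⟩
  | tail _ hbc ih =>
    obtain ⟨g, rfl⟩ := ih
    obtain ⟨k, hk⟩ := pair_left_conj hbc.2.2
    exact ⟨k * g, by rw [conjBy_mul]; exact hk⟩

/-- If no member is isolated then every conjugate of a member lies in its component. -/
theorem reach_conjBy (hS : IsRootSubgroupSet S) (hni : ∀ A ∈ S, ¬ IsIsolatedIn (FAdj S) S A)
    (hA : A ∈ S) (g : G) : FReach S A (conjBy A g) := by
  let K : Subgroup G :=
    { carrier := {g | ∀ A ∈ S, FReach S A (conjBy A g)}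
      one_mem' := fun A _ => by rw [conjBy_one]
      mul_mem' := fun {x y} hx hy A hA => by
        rw [conjBy_mul]
        exact (hy A hA).trans (hx _ (hS.conj_mem A hA y))
      inv_mem' := fun {x} hx A hA => by
        have h1 := hx _ (hS.conj_mem A hA x⁻¹)
        rw [conjBy_conjBy_inv] at h1
        exact FReach_symm h1 }
  have hK : (⨆ A ∈ S, A) ≤ K := iSup₂_le fun F hF f hf A hA => by
    rcases hS.pair A hA F hF with h | h | h
    · rw [conjBy_self_of_mem_normalizer (Subgroup.centralizer_le_normalizer _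
        (Subgroup.commutator_eq_bot_iff_le_centralizer.1 (commutator_eq_bot_comm.1 h) hf))]
    · have hFm := RankOne.mem_unipotentSubgroups_right h
      have hAm := RankOne.conjBy_mem_unipotentSubgroups (RankOne.mem_unipotentSubgroups_left h)
        (x := f) (Subgroup.mem_sup_right hf)
      have h1 : FReach S A F := Relation.ReflTransGen.single ⟨hA, hF, h⟩
      rcases eq_or_ne F (conjBy A f) with he | he
      · rwa [← he]
      · exact h1.tail ⟨hF, hS.conj_mem A hA f, (RankOne.pair_of_mem h hFm hAm he).1⟩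
    · have h' := commCase_conj hS h f
      have hC : ⁅conjBy A f, conjBy F f⁆ = ⁅A, F⁆ := by
        rw [← conjBy_commutator]
        exact conjBy_self_of_mem_normalizer (Subgroup.normalizer_commutator_ge_right _ _ hf)
      have h1 := mem_linePartners_commutator hS hA (hni A hA) h
      have h2 := mem_linePartners_commutator hS (hS.conj_mem A hA f) (hni _ (hS.conj_mem A hA f)) h'
      rw [hC] at h2
      exact (FReach_symm (linePartner_reach hS h.1 (hni _ h.1) h1 (hni A hA))).trans
        (linePartner_reach hS h.1 (hni _ h.1) h2 (hni _ (hS.conj_mem A hA f)))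
  rw [hS.generates] at hK
  exact hK (Subgroup.mem_top g) A hA

theorem class_not_isolated (hS : IsRootSubgroupSet S) (hcl : IsConjClassOfSubgroups S) (hA : A ∈ S)
    (hAi : ¬ IsIsolatedIn (FAdj S) S A) : ∀ B ∈ S, ¬ IsIsolatedIn (FAdj S) S B := by
  intro B hB
  obtain ⟨g, rfl⟩ := hcl.2 A hA B hB
  exact not_isolated_conj hS hA hAi g

theorem class_connected (hS : IsRootSubgroupSet S) (hcl : IsConjClassOfSubgroups S) (hA : A ∈ S)
    (hAi : ¬ IsIsolatedIn (FAdj S) S A) : IsConnectedFamily (FAdj S) S := by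
  intro B hB C hC
  obtain ⟨g, rfl⟩ := hcl.2 B hB C hC
  exact reach_conjBy hS (class_not_isolated hS hcl hA hAi) hB g

theorem connected_class (hc : IsConnectedFamily (FAdj S) S) (hne : S.Nonempty) :
    IsConjClassOfSubgroups S :=
  ⟨hne, fun A hA B hB => reach_isConj (hc A hA B hB)⟩

theorem connected_not_isolated (hc : IsConnectedFamily (FAdj S) S)
    (h2 : ∃ A ∈ S, ∃ B ∈ S, A ≠ B) (hA : A ∈ S) : ¬ IsIsolatedIn (FAdj S) S A := by
  obtain ⟨B, hB, C, hC, hne⟩ := h2
  rcases eq_or_ne A B with rfl | h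
  · exact not_isolated_of_reach (hc A hA C hC) hne
  · exact not_isolated_of_reach (hc A hA B hB) h

/-! ### Homomorphic images -/

variable {H : Type*} [Group H]

/-- Images of a rank one pair: collapse or stay rank one. -/
theorem pair_map (h : IsRankOnePair A B) (f : G →* H) :
    A.map f = B.map f ∨ IsRankOnePair (A.map f) (B.map f) := by
  set N := f.ker ⊓ (A ⊔ B) with hN
  have hNn : A ⊔ B ≤ Subgroup.normalizer (N : Set G) := fun x hx =>
    conjBy_eq_self_iff.1 (by
      rw [hN, conjBy_inf, conjBy_self_of_mem hx,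
        conjBy_self_of_mem_normalizer (by rw [Subgroup.normalizer_eq_top]; trivial)])
  have hmapN : N.map f = ⊥ := (Subgroup.map_eq_bot_iff _).2 inf_le_left
  have hXY : ∀ {A B : Subgroup G}, N ⊔ A = A ⊔ B → B.map f ≤ A.map f := by
    intro A B he
    have h1 : B.map f ≤ (N ⊔ A).map f := Subgroup.map_mono (he.symm ▸ le_sup_right)
    rwa [Subgroup.map_sup, hmapN, bot_sup_eq] at h1
  rcases RankOne.normal_dichotomy h (N := N) inf_le_right hNn with h1 | h1
  · rcases RankOne.normal_dichotomy (RankOne.symm h) (N := N) (sup_comm A B ▸ inf_le_right)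
      (sup_comm A B ▸ hNn) with h2 | h2
    · exact Or.inl (le_antisymm (hXY h2) (hXY h1))
    · exfalso
      refine RankOne.not_le_normalizer (RankOne.symm h) ?_
      have h3 : N ⊔ A ≤ Subgroup.normalizer (A : Set G) :=
        sup_le ((Subgroup.le_centralizer_iff.1 (le_sup_right.trans h2)).trans
          (Subgroup.centralizer_le_normalizer _)) Subgroup.le_normalizer
      rw [h1] at h3
      exact le_sup_right.trans h3
  · right
    have hcen : ∀ {A B : Subgroup G}, IsRankOnePair A B → A ⊔ B ≤ Subgroup.centralizer (N : Set G) →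
        ∀ b ∈ B, ∀ n ∈ N, conjBy A (n * b) = A → b = 1 := by
      intro A B h h1 b hb n hn he
      have hfix : conjBy (conjBy A b) n = conjBy A b := conjBy_self_of_mem_normalizer
        (Subgroup.centralizer_le_normalizer _ (Subgroup.centralizer_le
          (conjBy_le_of_mem le_sup_left (Subgroup.mem_sup_right hb))
          (Subgroup.le_centralizer_iff.1 h1 hn)))
      rw [conjBy_mul, hfix] at he
      exact RankOne.eq_one_of_conjBy_eq (RankOne.symm h) hb he
    have hker : ∀ {A B : Subgroup G}, IsRankOnePair A B → A ⊔ B ≤ Subgroup.centralizer (N : Set G) →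
        N ≤ A ⊔ B → ∀ b ∈ B, b ∈ f.ker → b ∈ N → b = 1 := by
      intro A B h h1 _ b hb _ hbN
      exact hcen h h1 b hb b⁻¹ (inv_mem hbN) (by rw [inv_mul_cancel, conjBy_one])
    refine ⟨fun he => ?_, ?_, ?_, ?_, ?_⟩
    · obtain ⟨b, hb, hb1⟩ := exists_mem_ne_one_of_ne_bot (RankOne.right_ne_bot h)
      have h2 : f b ∈ A.map f := he ▸ Subgroup.mem_map_of_mem f hb
      obtain ⟨a, ha, hab⟩ := h2
      have hn : a * b⁻¹ ∈ N := ⟨by simp [MonoidHom.mem_ker, hab],
        (A ⊔ B).mul_mem (Subgroup.mem_sup_left ha) ((A ⊔ B).inv_mem (Subgroup.mem_sup_right hb))⟩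
      refine hb1 (hcen h h1 b hb _ hn ?_)
      rw [inv_mul_cancel_right, conjBy_self_of_mem ha]
    · haveI := h.nilpotent_left
      exact Group.nilpotent_of_surjective (f.subgroupMap A) (f.subgroupMap_surjective A)
    · haveI := h.nilpotent_right
      exact Group.nilpotent_of_surjective (f.subgroupMap B) (f.subgroupMap_surjective B)
    · rintro _ ⟨a, ha, rfl⟩ ha1
      obtain ⟨b, hb, hb1, he⟩ := h.cond_left a ha (fun h => ha1 (by rw [h, map_one]))
      refine ⟨f b, Subgroup.mem_map_of_mem f hb, fun hb0 => ?_, ?_⟩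
      · exact hb1 (hker h h1 inf_le_right b hb hb0 ⟨hb0, Subgroup.mem_sup_right hb⟩)
      · rw [← map_inv, ← map_inv, ← map_conjBy, ← map_conjBy, he]
    · rintro _ ⟨b, hb, rfl⟩ hb1
      obtain ⟨a, ha, ha1, he⟩ := h.cond_right b hb (fun h => hb1 (by rw [h, map_one]))
      refine ⟨f a, Subgroup.mem_map_of_mem f ha, fun ha0 => ?_, ?_⟩
      · exact ha1 (hker (RankOne.symm h) (sup_comm A B ▸ h1) (sup_comm A B ▸ inf_le_right) a ha ha0
          ⟨ha0, Subgroup.mem_sup_left ha⟩)
      · rw [← map_inv, ← map_inv, ← map_conjBy, ← map_conjBy, he]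

theorem commCase_map (h : RootCommutatorCase S A B) (f : G →* H) :
    RootCommutatorCase ((fun A : Subgroup G => A.map f) '' S) (A.map f) (B.map f) := by
  obtain ⟨hK, hc, h1, h2⟩ := h
  rw [RootCommutatorCase, ← Subgroup.map_commutator, ← Subgroup.map_sup]
  refine ⟨⟨_, hK, rfl⟩, ?_, ?_, ?_⟩
  · rintro _ ⟨c, hc', rfl⟩ _ ⟨x, hx, rfl⟩
    rw [← map_mul, hc c hc' x hx, map_mul]
  · rintro _ ⟨a, ha, rfl⟩ ha1
    rw [← h1 a ha (fun h => ha1 (by rw [h, map_one])), MonoidHom.map_closure, ← Set.image_comp,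
      Subgroup.coe_map, ← Set.image_comp]
    congr 1
    refine Set.image_congr fun b _ => ?_
    simp
  · rintro _ ⟨b, hb, rfl⟩ hb1
    rw [← h2 b hb (fun h => hb1 (by rw [h, map_one])), MonoidHom.map_closure, ← Set.image_comp,
      Subgroup.coe_map, ← Set.image_comp]
    congr 1
    refine Set.image_congr fun a _ => ?_
    simp

theorem map_rootSet (hS : IsRootSubgroupSet S) (f : G →* H) (hf : Function.Surjective f)
    (hne : ∀ A ∈ S, A.map f ≠ ⊥) : IsRootSubgroupSet ((fun A : Subgroup G => A.map f) '' S) where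
  commutative := by
    rintro _ ⟨A, hA, rfl⟩
    refine ⟨⟨fun x y => Subtype.ext ?_⟩⟩
    obtain ⟨a, ha, hx⟩ := x.2
    obtain ⟨a', ha', hy⟩ := y.2
    rw [Subgroup.coe_mul, Subgroup.coe_mul, ← hx, ← hy, ← map_mul, comm_of_mem hS hA ha ha',
      map_mul]
  ne_bot := by rintro _ ⟨A, hA, rfl⟩; exact hne A hA
  generates := by
    rw [iSup_image, ← Subgroup.map_top_of_surjective f hf, ← hS.generates]
    simp only [Subgroup.map_iSup]
  conj_mem := by
    rintro _ ⟨A, hA, rfl⟩ g
    obtain ⟨g', rfl⟩ := hf g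
    exact ⟨conjBy A g', hS.conj_mem A hA g', map_conjBy f A g'⟩
  pair := by
    rintro _ ⟨A, hA, rfl⟩ _ ⟨B, hB, rfl⟩
    rcases hS.pair A hA B hB with h | h | h
    · exact Or.inl (by rw [← Subgroup.map_commutator, h, Subgroup.map_bot])
    · rcases pair_map h f with h1 | h1
      · refine Or.inl ?_
        simp only
        rw [← h1, ← Subgroup.map_commutator, commutator_self_eq_bot hS hA, Subgroup.map_bot]
      · exact Or.inr (Or.inl h1)
    · exact Or.inr (Or.inr (commCase_map h f))

theorem map_connected (hc : IsConnectedFamily (FAdj S) S) (f : G →* H) :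
    IsConnectedFamily (FAdj ((fun A : Subgroup G => A.map f) '' S))
      ((fun A : Subgroup G => A.map f) '' S) := by
  rintro _ ⟨A, hA, rfl⟩ _ ⟨B, hB, rfl⟩
  induction hc A hA B hB with
  | refl => exact Relation.ReflTransGen.refl
  | @tail C D hAC hCD ih =>
    have h1 := ih (FReach_mem hAC hA)
    rcases pair_map hCD.2.2 f with h | h
    · simp only at h1 ⊢
      rwa [← h]
    · exact h1.tail ⟨⟨C, hCD.1, rfl⟩, ⟨D, hCD.2.1, rfl⟩, h⟩

end Cfsg.Agent.Lib.RootSubgroups.RootSet
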