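import Mathlib
import Cfsg.Prelude.Def_RootSubgroups
import Cfsg.Agent.Lib.RootSubgroups.RootSet

/-!
A rank one pair with an element centralizing one side and translating the other to a commuting
conjugate is special.
-/

set_option autoImplicit false

namespace Cfsg.Agent.Lib.RootSubgroups.RootSet

open Cfsg Cfsg.Agent.Lib.RootSubgroups
open scoped commutatorElement

variable {G : Type*} [Group G] {S : Set (Subgroup G)} {A B C : Subgroup G}

theorem conjBy_self_of_comm {g : G} (h : ∀ a ∈ A, g * a = a * g) : conjBy A g = A :=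
  conjBy_self_of_mem_normalizer (Subgroup.centralizer_le_normalizer _
    (Subgroup.mem_centralizer_iff.2 fun a ha => (h a ha).symm))

theorem special_of_translate (hp : IsRankOnePair A B) (hA : ∀ x ∈ A, ∀ y ∈ A, x * y = y * x)
    (hB : ∀ x ∈ B, ∀ y ∈ B, x * y = y * x) {t : G} (ht : ∀ a ∈ A, t * a = a * t)
    (h1 : ⁅B, conjBy B t⁆ = ⊥) (h2 : conjBy B t ≠ B) : IsSpecialRankOnePair A B := by
  refine ⟨hp, fun a ha ha1 b hb _ he => ?_⟩
  have htA : ∀ {a : G}, a ∈ A → Commute t a := fun ha => ht _ ha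
  have hfixA : conjBy A t = A := conjBy_self_of_comm ht
  have hfixA' : conjBy A t⁻¹ = A := by rw [conjBy_eq_iff, inv_inv, hfixA]
  -- the element swapping `A` and `B`
  set b₂ := a * (b⁻¹ * a * b) * a⁻¹ with hb₂
  have hb₂B : b₂ ∈ B := by
    have h : b⁻¹ * a * (b⁻¹)⁻¹ ∈ conjBy B a⁻¹ := he ▸ conj_mem_conjBy ha
    rw [inv_inv] at h
    rw [mem_conjBy, inv_inv] at h
    exact h
  set u := b * (t * b⁻¹ * t⁻¹) with hu
  have huB : ∀ y ∈ B, u * y = y * u := by
    intro y hy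
    exact Commute.mul_left (hB b hb y hy)
      (commute_of_commutator_eq_bot h1 hy (conj_mem_conjBy (inv_mem hb))).symm
  have hAu : conjBy A u = conjBy (conjBy (conjBy B a⁻¹) t) b := by
    rw [hu, conjBy_mul, conjBy_mul _ (t * b⁻¹), hfixA', conjBy_mul, he]
  have hAAu : ⁅A, conjBy A u⁆ = ⊥ := by
    have e : A = conjBy (conjBy B a⁻¹) b := by rw [← he, conjBy_conjBy_inv]
    have e2 : conjBy (conjBy B a⁻¹) t = conjBy (conjBy B t) a⁻¹ := by
      rw [← conjBy_mul, ← conjBy_mul, (Commute.inv_right (htA ha)).eq]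
    rw [hAu, e2]
    conv_lhs => rw [e]
    rw [commutator_conjBy_eq_bot, commutator_conjBy_eq_bot]
    exact h1
  set z := t⁻¹ * ⁅a, u⁆ with hz
  have hzA : ∀ x ∈ A, z * x = x * z := by
    intro x hx
    have e : ⁅a, u⁆ = a * (u * a⁻¹ * u⁻¹) := by simp [commutatorElement_def, mul_assoc]
    rw [hz, e]
    exact Commute.mul_left (Commute.inv_left (htA hx)) (Commute.mul_left (hA a ha x hx)
      (commute_of_commutator_eq_bot hAAu hx (conj_mem_conjBy (inv_mem ha))).symm)
  have hzB : conjBy B z = B := by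
    have hBu : conjBy B u⁻¹ = B := by
      rw [conjBy_eq_iff, inv_inv, conjBy_self_of_comm huB]
    have e : ⁅a, u⁆ = a * (u * (a⁻¹ * u⁻¹)) := by simp [commutatorElement_def, mul_assoc]
    have e2 : conjBy (conjBy A b⁻¹) u = conjBy (conjBy B a⁻¹) t := by
      rw [← conjBy_mul, ((Commute.inv_right (huB b hb : Commute u b))).eq, conjBy_mul, hAu,
        conjBy_inv_conjBy]
    have e3 : conjBy B ⁅a, u⁆ = conjBy B t := by
      rw [e, conjBy_mul _ a, conjBy_mul _ u, conjBy_mul _ a⁻¹, hBu, ← he, e2, ← conjBy_mul, ← conjBy_mul]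
      congr 1
      rw [← (htA ha).eq, mul_inv_cancel_right]
    rw [hz, conjBy_mul, e3, conjBy_inv_conjBy]
  have hzb : z * b = b * z := by
    have hzbB : z * b * z⁻¹ ∈ B := hzB ▸ conj_mem_conjBy hb
    have h := congrArg (fun X => conjBy X z) he
    simp only [← conjBy_mul] at h
    rw [show z * b⁻¹ = (z * b * z⁻¹)⁻¹ * z by simp [mul_assoc], (Commute.inv_right (hzA a ha)).eq,
      conjBy_mul, conjBy_mul _ a⁻¹, hzB, conjBy_self_of_comm hzA] at h
    exact mul_inv_eq_iff_eq_mul.1 (RankOne.partner_unique hp hb hzbB he h).symm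
  have hza : z * a = a * z := hzA a ha
  have s1 : a * u * a⁻¹ = t * z * u := by simp [hz, commutatorElement_def, mul_assoc]
  have s2 : b * t * b⁻¹ = u * t := by simp [hu, mul_assoc]
  have s3 : b⁻¹ * t * b = u⁻¹ * t := by
    have : b * (u⁻¹ * t) * b⁻¹ = t := by
      calc b * (u⁻¹ * t) * b⁻¹ = u⁻¹ * (b * t * b⁻¹) := by
            rw [← mul_assoc, ((Commute.inv_left (huB b hb : Commute u b))).symm.eq]; simp [mul_assoc]
        _ = t := by rw [s2, inv_mul_cancel_left]
    calc b⁻¹ * t * b = b⁻¹ * (b * (u⁻¹ * t) * b⁻¹) * b := by rw [this]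
      _ = u⁻¹ * t := by simp [mul_assoc]
  have s4 : b⁻¹ * z * b = z := by rw [mul_assoc, hzb, inv_mul_cancel_left]
  have s5 : b⁻¹ * u * b = u := by rw [mul_assoc, huB b hb, inv_mul_cancel_left]
  have s6 : a * t * a⁻¹ = t := by rw [← (htA ha).eq, mul_inv_cancel_right]
  have s7 : a * z * a⁻¹ = z := by rw [← hza, mul_inv_cancel_right]
  have key : b₂ * t * b₂⁻¹ = u⁻¹ * t := by
    calc b₂ * t * b₂⁻¹
        = a * (b⁻¹ * (a * (b * (a⁻¹ * t * a) * b⁻¹) * a⁻¹) * b) * a⁻¹ := by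
          simp [hb₂, mul_assoc]
      _ = a * (b⁻¹ * (a * (u * t) * a⁻¹) * b) * a⁻¹ := by
          rw [show a⁻¹ * t * a = t by rw [mul_assoc, (htA ha).eq, inv_mul_cancel_left], s2]
      _ = a * (b⁻¹ * (t * z * u * t) * b) * a⁻¹ := by
          rw [show a * (u * t) * a⁻¹ = (a * u * a⁻¹) * (a * t * a⁻¹) by simp [mul_assoc], s1, s6]
      _ = a * ((b⁻¹ * t * b) * (b⁻¹ * z * b) * (b⁻¹ * u * b) * (b⁻¹ * t * b)) * a⁻¹ := by
          simp [mul_assoc]
      _ = a * (u⁻¹ * (t * z * t)) * a⁻¹ := by rw [s3, s4, s5]; simp [mul_assoc]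
      _ = (a * u * a⁻¹)⁻¹ * ((a * t * a⁻¹) * (a * z * a⁻¹) * (a * t * a⁻¹)) := by simp [mul_assoc]
      _ = u⁻¹ * t := by rw [s1, s6, s7]; simp [mul_assoc]
  set w := b * b₂ with hw
  have hwt : t * w = w * t := by
    have : w * t * w⁻¹ = t := by
      calc w * t * w⁻¹ = b * (b₂ * t * b₂⁻¹) * b⁻¹ := by simp [hw, mul_assoc]
        _ = u⁻¹ * (b * t * b⁻¹) := by
            rw [key, ← mul_assoc, ((Commute.inv_left (huB b hb : Commute u b))).symm.eq]
            simp [mul_assoc]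
        _ = t := by rw [s2, inv_mul_cancel_left]
    exact (mul_inv_eq_iff_eq_mul.1 this).symm
  have hwB : w ∈ B := mul_mem hb hb₂B
  have hw1 : w = 1 := by
    by_contra hne
    obtain ⟨α, hα, -, hαe⟩ := hp.cond_right w hwB hne
    apply h2
    have h := congrArg (fun X => conjBy X t) hαe
    simp only [← conjBy_mul] at h
    rw [(Commute.inv_right (hwt : Commute t w)).eq, (Commute.inv_right (htA hα)).eq, conjBy_mul,
      conjBy_mul _ w⁻¹, hfixA, ← hαe] at h
    exact conjBy_inj.1 h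
  have h3 : b₂ = b⁻¹ := eq_inv_of_mul_eq_one_right hw1
  calc b⁻¹ * a * b = a⁻¹ * b₂ * a := by simp [hb₂, mul_assoc]
    _ = a⁻¹ * b⁻¹ * a := by rw [h3]

theorem special_symm (h : IsSpecialRankOnePair A B) : IsSpecialRankOnePair B A := by
  refine ⟨RankOne.symm h.1, fun b hb hb1 a ha ha1 he => ?_⟩
  have h1 := congrArg (fun x => x⁻¹) (h.2 a ha ha1 b hb hb1 he.symm)
  simp only [mul_inv_rev, inv_inv] at h1
  have h2 : b⁻¹ * a⁻¹ * b = a⁻¹ * b * a := by simpa [mul_assoc] using h1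
  exact h2.symm

/-- A partner of two different commuting members makes the pairs special. -/
theorem special_of_commuting (hS : IsRootSubgroupSet S) (hA : A ∈ S) (hB : B ∈ S)
    (hne : A ≠ C) (hAC : ⁅A, C⁆ = ⊥) (hp : IsRankOnePair A B) (hq : IsRankOnePair C B) :
    IsSpecialRankOnePair A B := by
  obtain ⟨b, hb, hb1⟩ := exists_mem_ne_one_of_ne_bot (RankOne.right_ne_bot hp)
  obtain ⟨a, ha, -, hea⟩ := hp.cond_right b hb hb1
  obtain ⟨c, hc, -, hec⟩ := hq.cond_right b hb hb1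
  refine special_of_translate hp (fun x hx y hy => comm_of_mem hS hA hx hy)
    (fun x hx y hy => comm_of_mem hS hB hx hy) (t := a * c⁻¹) (fun x hx => ?_) ?_ (fun h => hne ?_)
  · exact Commute.mul_left (comm_of_mem hS hA ha hx)
      (commute_of_commutator_eq_bot hAC hx (inv_mem hc)).symm
  · have h1 : ⁅conjBy B a⁻¹, conjBy B c⁻¹⁆ = ⊥ := by
      rw [hea, hec]
      exact commutator_conjBy_eq_bot.2 hAC
    rw [← commutator_conjBy_eq_bot (g := a⁻¹)]
    rw [← conjBy_mul, inv_mul_cancel_left]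
    exact h1
  · rw [conjBy_mul, conjBy_eq_iff] at h
    rw [← conjBy_inj (g := b⁻¹), ← hea, ← hec]
    exact h.symm

end Cfsg.Agent.Lib.RootSubgroups.RootSet
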