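import Mathlib
import Cfsg.Prelude.Def_RootSubgroups
import Cfsg.Agent.Lib.RootSubgroups.Translate
import Cfsg.Agent.Lib.RootSubgroups.Connected

/-!
Degenerate sets: the blocks of non-commuting members with the same commuting members elsewhere.
If a block has two members, the Hua maps of the pairs leaving the block are trivial.
-/

set_option autoImplicit false

namespace Cfsg.Agent.Lib.RootSubgroups.RootSet

open Cfsg Cfsg.Agent.Lib.RootSubgroups
open scoped commutatorElement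

variable {G : Type*} [Group G] {S : Set (Subgroup G)} {A B C D E F H : Subgroup G}

/-- `A` and `F` commute with the same other members and not with each other, or are equal. -/
def Blk (S : Set (Subgroup G)) (A F : Subgroup G) : Prop :=
  A = F ∨ (⁅A, F⁆ ≠ ⊥ ∧ ∀ D ∈ S, D ≠ A → D ≠ F → (⁅A, D⁆ = ⊥ ↔ ⁅F, D⁆ = ⊥))

theorem Blk.refl (A : Subgroup G) : Blk S A A := Or.inl rfl

theorem Blk.symm (h : Blk S A F) : Blk S F A := by
  rcases h with rfl | ⟨h1, h2⟩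
  · exact Blk.refl _
  · exact Or.inr ⟨mt commutator_eq_bot_comm.1 h1, fun D hD hF hA => (h2 D hD hA hF).symm⟩

theorem Blk.transfer (hS : IsRootSubgroupSet S) (hA : A ∈ S) (h : Blk S A F) (hC : C ∈ S)
    (hne : C ≠ A) (hAC : ⁅A, C⁆ = ⊥) : ⁅F, C⁆ = ⊥ ∧ C ≠ F := by
  rcases h with rfl | ⟨h1, h2⟩
  · exact ⟨hAC, hne⟩
  · have hCF : C ≠ F := fun he => h1 (he ▸ hAC)
    exact ⟨(h2 C hC hne hCF).1 hAC, hCF⟩

theorem Blk.trans (hS : IsRootSubgroupSet S) (hA : A ∈ S) (hH : H ∈ S) (h : Blk S A F)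
    (h' : Blk S F H) : Blk S A H := by
  by_cases hAH : A = H
  · exact Or.inl hAH
  rcases id h with rfl | ⟨h1, h2⟩
  · exact h'
  rcases id h' with rfl | ⟨h3, h4⟩
  · exact h
  refine Or.inr ⟨fun h5 => h3 (h.transfer hS hA hH (Ne.symm hAH) h5).1, fun D hD hDA hDH => ?_⟩
  by_cases hDF : D = F
  · subst hDF
    exact iff_of_false h1 (mt commutator_eq_bot_comm.1 h3)
  · exact (h2 D hD hDA hDF).trans (h4 D hD hDF hDH)

theorem Blk.conj (hS : IsRootSubgroupSet S) (h : Blk S A F) (g : G) :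
    Blk S (conjBy A g) (conjBy F g) := by
  rcases h with rfl | ⟨h1, h2⟩
  · exact Blk.refl _
  · refine Or.inr ⟨mt commutator_conjBy_eq_bot.1 h1, fun D hD hA hF => ?_⟩
    have h3 := h2 (conjBy D g⁻¹) (hS.conj_mem D hD _) (fun he => hA (by rw [← he, conjBy_conjBy_inv]))
      (fun he => hF (by rw [← he, conjBy_conjBy_inv]))
    rwa [← commutator_conjBy_eq_bot (g := g), ← commutator_conjBy_eq_bot (g := g) (A := F),
      conjBy_conjBy_inv] at h3

theorem Blk.pair (hS : IsRootSubgroupSet S) (hd : IsDegenerateRootSet S) (hA : A ∈ S) (hF : F ∈ S)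
    (h : Blk S A F) (hne : A ≠ F) : IsRankOnePair A F := by
  rcases h with rfl | ⟨h1, -⟩
  · exact absurd rfl hne
  · exact ((hS.pair A hA F hF).resolve_left h1).resolve_right (hd A hA F hF)

/-- Two commuting members with a common partner, in a degenerate set. -/
structure Tri (S : Set (Subgroup G)) (A C E : Subgroup G) : Prop where
  rootSet : IsRootSubgroupSet S
  degen : IsDegenerateRootSet S
  memA : A ∈ S
  memC : C ∈ S
  memE : E ∈ S
  ne : A ≠ C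
  comm : ⁅A, C⁆ = ⊥
  pair : IsRankOnePair A E
  pair' : IsRankOnePair C E

theorem Tri.special (T : Tri S A C E) : IsSpecialRankOnePair A E :=
  special_of_commuting T.rootSet T.memA T.memE T.ne T.comm T.pair T.pair'

theorem Tri.not_blk (T : Tri S A C E) : ¬ Blk S A E := fun h =>
  rankOne_not_commute (RankOne.symm T.pair') (h.transfer T.rootSet T.memA T.memC T.ne.symm T.comm).1

theorem Tri.move (T : Tri S A C E) (hF : F ∈ S) (h : Blk S A F) : Tri S F C E := by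
  obtain ⟨h1, h2⟩ := h.transfer T.rootSet T.memA T.memC T.ne.symm T.comm
  refine ⟨T.rootSet, T.degen, hF, T.memC, T.memE, h2.symm, h1, ?_, T.pair'⟩
  rcases id h with rfl | ⟨-, h4⟩
  · exact T.pair
  have hEF : E ≠ F := fun he => rankOne_not_commute T.pair' (commutator_eq_bot_comm.1 (he ▸ h1))
  exact ((T.rootSet.pair F hF E T.memE).resolve_left fun h5 =>
    rankOne_not_commute T.pair ((h4 E T.memE T.pair.ne.symm hEF).2 h5)).resolve_right
      (T.degen F hF E T.memE)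

theorem exists_left_partner (hp : IsRankOnePair A E) {e : G} (he : e ∈ E) (he1 : e ≠ 1) :
    ∃ a ∈ A, a ≠ 1 ∧ conjBy A e = conjBy E a := by
  obtain ⟨a, ha, ha1, h⟩ := hp.cond_right e⁻¹ (inv_mem he) (inv_ne_one.2 he1)
  rw [inv_inv] at h
  exact ⟨a⁻¹, inv_mem ha, inv_ne_one.2 ha1, h.symm⟩

theorem exists_right_partner (hp : IsRankOnePair A E) {a : G} (ha : a ∈ A) (ha1 : a ≠ 1) :
    ∃ e ∈ E, e ≠ 1 ∧ conjBy A e = conjBy E a := by
  obtain ⟨e, he, he1, h⟩ := exists_left_partner (RankOne.symm hp) ha ha1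
  exact ⟨e, he, he1, h.symm⟩

theorem Tri.exists_u (T : Tri S A C E) {e : G} (he : e ∈ E) (he1 : e ≠ 1) :
    ∃ u : G, conjBy A u = C ∧ (∀ x ∈ E, u * x = x * u) ∧
      ∀ H ∈ S, Blk S E H → conjBy H u = conjBy H e := by
  obtain ⟨a, ha, -, hea⟩ := exists_left_partner T.pair (inv_mem he) (inv_ne_one.2 he1)
  obtain ⟨c, hc, -, hec⟩ := exists_left_partner T.pair' (inv_mem he) (inv_ne_one.2 he1)
  have hac : Commute a c := commute_of_commutator_eq_bot T.comm ha hc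
  set t := a⁻¹ * c with ht
  have htA : ∀ x ∈ A, t * x = x * t := fun x hx =>
    Commute.mul_left (comm_of_mem T.rootSet T.memA (inv_mem ha) hx)
      (commute_of_commutator_eq_bot T.comm hx hc).symm
  have hEt : ⁅E, conjBy E t⁆ = ⊥ := by
    rw [← commutator_conjBy_eq_bot (g := a), ← conjBy_mul, ht, mul_inv_cancel_left, ← hea, ← hec,
      commutator_conjBy_eq_bot]
    exact T.comm
  have hne : conjBy E t ≠ E := fun h => by
    rw [ht, conjBy_mul, conjBy_eq_iff, inv_inv, ← hea, ← hec, conjBy_inj] at h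
    exact T.ne h.symm
  set w := t * e⁻¹ * t⁻¹ with hw
  have hwmem : w ∈ conjBy E t := conj_mem_conjBy (inv_mem he)
  refine ⟨e * w, ?_, fun x hx => ?_, fun H hH hEH => ?_⟩
  · have htA' : conjBy A t⁻¹ = A := by rw [conjBy_eq_iff, inv_inv, conjBy_self_of_comm htA]
    rw [hw, conjBy_mul, conjBy_mul _ (t * e⁻¹), htA', conjBy_mul _ t, hea, ← conjBy_mul _ t a, ht,
      mul_assoc, ← hac.eq, inv_mul_cancel_left, ← hec, conjBy_conjBy_inv]
  · exact Commute.mul_left (comm_of_mem T.rootSet T.memE he hx)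
      (commute_of_commutator_eq_bot hEt hx hwmem).symm
  · have h1 := (hEH.transfer T.rootSet T.memE (T.rootSet.conj_mem E T.memE t) hne hEt).1
    rw [conjBy_mul, conjBy_self_of_comm fun x hx => (commute_of_commutator_eq_bot h1 hx hwmem).symm]

/-- Corresponding elements of `A` and of `F` in its block. -/
def Corr (S : Set (Subgroup G)) (E F : Subgroup G) (a f : G) : Prop :=
  f ∈ F ∧ Blk S (conjBy E a) (conjBy E f)

theorem Tri.corr_self (T : Tri S A C E) {a : G} (ha : a ∈ A) : Corr S E A a a :=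
  ⟨ha, Blk.refl _⟩

theorem Tri.corr_unique (T : Tri S A C E) (hF : F ∈ S) (h : Blk S A F) {a f f' : G}
    (hf : Corr S E F a f) (hf' : Corr S E F a f') : f = f' := by
  have hS := T.rootSet
  by_contra hne
  have T' := T.move hF h
  have h1 := (hf'.2.symm.trans hS (hS.conj_mem _ T.memE _) (hS.conj_mem _ T.memE _) hf.2).conj hS f'⁻¹
  rw [conjBy_inv_conjBy, ← conjBy_mul] at h1
  obtain ⟨e, he, -, he'⟩ := exists_right_partner T'.pair (mul_mem (inv_mem hf'.1) hf.1)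
    fun h => hne (inv_mul_eq_one.1 h).symm
  rw [← he'] at h1
  have h2 := h1.conj hS e⁻¹
  rw [conjBy_self_of_mem (inv_mem he), conjBy_inv_conjBy] at h2
  exact T'.not_blk h2.symm

theorem Tri.exists_v (T : Tri S A C E) (hF : F ∈ S) (h : Blk S A F) :
    ∃ v : G, conjBy A v = F ∧ (∀ x ∈ E, v * x = x * v) := by
  obtain ⟨e, he, he1⟩ := exists_mem_ne_one_of_ne_bot (T.rootSet.ne_bot E T.memE)
  obtain ⟨u, hu, huE, -⟩ := T.exists_u he he1
  obtain ⟨u', hu', huE', -⟩ := (T.move hF h).exists_u he he1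
  refine ⟨u'⁻¹ * u, ?_, fun x hx => ?_⟩
  · rw [conjBy_mul, hu, ← hu', conjBy_inv_conjBy]
  · exact Commute.mul_left (Commute.inv_left (huE' x hx)) (huE x hx)

theorem Tri.corr_of_v (T : Tri S A C E) (h : Blk S A F) {v : G} (hv : conjBy A v = F)
    (hvE : ∀ x ∈ E, v * x = x * v) {a : G} (ha : a ∈ A) : Corr S E F a (v * a * v⁻¹) := by
  refine ⟨hv ▸ conj_mem_conjBy ha, ?_⟩
  rcases eq_or_ne a 1 with rfl | ha1
  · simpa using Blk.refl _
  obtain ⟨e, he, -, he'⟩ := exists_right_partner T.pair ha ha1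
  have e1 : conjBy E (v * a * v⁻¹) = conjBy F e := by
    have hvE' : conjBy E v⁻¹ = E := by rw [conjBy_eq_iff, inv_inv, conjBy_self_of_comm hvE]
    rw [← hv, ← conjBy_mul, conjBy_mul _ (v * a), hvE', conjBy_mul, ← he', ← conjBy_mul,
      (hvE e he)]
  rw [e1, ← he']
  exact h.conj T.rootSet e

theorem Tri.corr_exists (T : Tri S A C E) (hF : F ∈ S) (h : Blk S A F) {a : G} (ha : a ∈ A) :
    ∃ f, Corr S E F a f := by
  obtain ⟨v, hv, hvE⟩ := T.exists_v hF h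
  exact ⟨_, T.corr_of_v h hv hvE ha⟩

theorem Tri.corr_surj (T : Tri S A C E) (hF : F ∈ S) (h : Blk S A F) {f : G} (hf : f ∈ F) :
    ∃ a ∈ A, Corr S E F a f := by
  obtain ⟨v, hv, hvE⟩ := T.exists_v hF h
  rw [← hv] at hf
  obtain ⟨a, ha, rfl⟩ := hf
  exact ⟨a, ha, T.corr_of_v h hv hvE ha⟩

theorem Tri.corr_mul (T : Tri S A C E) (hF : F ∈ S) (h : Blk S A F) {a a' f f' : G} (ha : a ∈ A)
    (ha' : a' ∈ A) (hf : Corr S E F a f) (hf' : Corr S E F a' f') :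
    Corr S E F (a * a') (f * f') := by
  obtain ⟨v, hv, hvE⟩ := T.exists_v hF h
  obtain rfl := T.corr_unique hF h hf (T.corr_of_v h hv hvE ha)
  obtain rfl := T.corr_unique hF h hf' (T.corr_of_v h hv hvE ha')
  have := T.corr_of_v h hv hvE (mul_mem ha ha')
  simpa [mul_assoc] using this

theorem Tri.corr_inv (T : Tri S A C E) (hF : F ∈ S) (h : Blk S A F) {a f : G} (ha : a ∈ A)
    (hf : Corr S E F a f) : Corr S E F a⁻¹ f⁻¹ := by
  obtain ⟨v, hv, hvE⟩ := T.exists_v hF h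
  obtain rfl := T.corr_unique hF h hf (T.corr_of_v h hv hvE ha)
  have := T.corr_of_v h hv hvE (inv_mem ha)
  simpa [mul_assoc] using this

theorem Tri.corr_shift (T : Tri S A C E) (hF : F ∈ S) (h : Blk S A F) {a a' f : G} (ha : a ∈ A)
    (ha' : a' ∈ A) (hf : Corr S E F a f) :
    Blk S (conjBy E (a * a')) (conjBy E (f * a')) := by
  have hS := T.rootSet
  obtain ⟨f', hf'⟩ := T.corr_exists hF h ha'
  refine (T.corr_mul hF h ha ha' hf hf').2.trans hS (hS.conj_mem _ T.memE _) (hS.conj_mem _ T.memE _) ?_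
  have h1 := hf'.2.symm.conj hS f
  rwa [← conjBy_mul, ← conjBy_mul] at h1

theorem Tri.corr_conj (T : Tri S A C E) (hF : F ∈ S) (h : Blk S A F) (hH : H ∈ S) (h' : Blk S A H)
    {a a' f x : G} (ha : a ∈ A) (ha' : a' ∈ A) (hf : Corr S E F a f) (hx : Corr S E H a' x) :
    Blk S A (conjBy F x) ∧ Corr S E (conjBy F x) a (x * f * x⁻¹) := by
  have hS := T.rootSet
  have hm : ∀ g, conjBy E g ∈ S := fun g => hS.conj_mem _ T.memE g
  refine ⟨?_, conj_mem_conjBy hf.1, ?_⟩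
  · have h1 := (h'.symm.trans hS hH hF h).conj hS x
    rw [conjBy_self_of_mem hx.1] at h1
    exact h'.trans hS T.memA (hS.conj_mem F hF x) h1
  · have h1 := ((T.corr_inv hH h' ha' hx).2.conj hS f)
    rw [← conjBy_mul, ← conjBy_mul] at h1
    have h2 := (T.corr_shift hF h ha (inv_mem ha') hf).trans hS (hm _) (hm _) h1
    have h3 := h2.conj hS x
    rw [← conjBy_mul, ← conjBy_mul] at h3
    have h4 := (T.corr_shift hH h' ha' (mul_mem ha (inv_mem ha')) hx).trans hS (hm _) (hm _) h3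
    rwa [show a' * (a * a'⁻¹) = a by
      rw [← mul_assoc, comm_of_mem hS T.memA ha' ha, mul_inv_cancel_right], ← mul_assoc] at h4

/-- The translation defined by a partner pair. -/
theorem Tri.g_apply (T : Tri S A C E) (hF : F ∈ S) (h : Blk S A F) {a e f : G} (he : e ∈ E)
    (he1 : e ≠ 1) (hea : conjBy A e = conjBy E a) (hf : Corr S E F a f) :
    conjBy F (a⁻¹ * e) = conjBy E (a⁻¹ * f) := by
  obtain ⟨f', hf'F, -, hf'⟩ := exists_left_partner (T.move hF h).pair he he1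
  have hcor : Corr S E F a f' := ⟨hf'F, by rw [← hea, ← hf']; exact h.conj T.rootSet e⟩
  rw [T.corr_unique hF h hf hcor, conjBy_mul, hf', ← conjBy_mul]

theorem Tri.g_base (T : Tri S A C E) {a e : G} (hea : conjBy A e = conjBy E a) :
    conjBy A (a⁻¹ * e) = E := by
  rw [conjBy_mul, hea, conjBy_inv_conjBy]

/-- Generators of the group acting on the block of `E`, for a fixed `a`. -/
def shiftGen (S : Set (Subgroup G)) (A E : Subgroup G) (a : G) : Set G :=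
  {x | ∃ F ∈ S, Blk S A F ∧ ∃ f, Corr S E F a f ∧ x = a⁻¹ * f}

/-- The group acting on the block of `E`. -/
def shiftGroup (S : Set (Subgroup G)) (A E : Subgroup G) : Subgroup G :=
  Subgroup.closure {x | ∃ a ∈ A, x ∈ shiftGen S A E a}

theorem shiftGroup_le {X : Subgroup G} (hA : A ∈ S) (hX : ∀ F ∈ S, Blk S A F → F ≤ X) :
    shiftGroup S A E ≤ X := by
  refine (Subgroup.closure_le _).2 ?_
  rintro _ ⟨a, ha, F, hF, h, f, hf, rfl⟩
  exact X.mul_mem (X.inv_mem (hX A hA (Blk.refl A) ha)) (hX F hF h hf.1)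

theorem Tri.shift_blk (T : Tri S A C E) {x : G} (hx : x ∈ shiftGroup S A E) :
    Blk S E (conjBy E x) := by
  have hS := T.rootSet
  induction hx using Subgroup.closure_induction with
  | mem x hx =>
    obtain ⟨a, ha, F, hF, h, f, hf, rfl⟩ := hx
    have h1 := hf.2.conj hS a⁻¹
    rwa [conjBy_inv_conjBy, ← conjBy_mul] at h1
  | one => rw [conjBy_one]; exact Blk.refl _
  | mul x y _ _ hx hy =>
    have h1 := hy.conj hS x
    rw [← conjBy_mul] at h1
    exact hx.trans hS T.memE (hS.conj_mem _ T.memE _) h1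
  | inv x _ hx =>
    have h1 := hx.symm.conj hS x⁻¹
    rwa [conjBy_inv_conjBy] at h1

theorem Tri.shift_surj (T : Tri S A C E) (hH : H ∈ S) (h : Blk S E H) :
    ∃ x ∈ shiftGroup S A E, H = conjBy E x := by
  have hS := T.rootSet
  obtain ⟨a, ha, ha1⟩ := exists_mem_ne_one_of_ne_bot (hS.ne_bot A T.memA)
  obtain ⟨e, he, he1, hea⟩ := exists_right_partner T.pair ha ha1
  set F := conjBy H (a⁻¹ * e)⁻¹ with hFdef
  have hF : F ∈ S := hS.conj_mem H hH _
  have hAF : Blk S A F := by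
    have h1 := h.conj hS (a⁻¹ * e)⁻¹
    rwa [show conjBy E (a⁻¹ * e)⁻¹ = A by rw [conjBy_eq_iff, inv_inv, T.g_base hea]] at h1
  obtain ⟨f, hf⟩ := T.corr_exists hF hAF ha
  refine ⟨a⁻¹ * f, Subgroup.subset_closure ⟨a, ha, F, hF, hAF, f, hf, rfl⟩, ?_⟩
  rw [← T.g_apply hF hAF he he1 hea hf, hFdef, conjBy_conjBy_inv]

theorem Tri.shift_anti (T : Tri S A C E) {e k l k' l' : G} (he : e ∈ E) (he1 : e ≠ 1)
    (hk : k ∈ shiftGroup S A E) (hl : l ∈ shiftGroup S A E) (hl' : l' ∈ shiftGroup S A E)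
    (h1 : conjBy (conjBy E k) e = conjBy E k') (h2 : conjBy (conjBy E l) e = conjBy E l') :
    conjBy (conjBy E (k * l)) e = conjBy E (l' * k') := by
  have hS := T.rootSet
  obtain ⟨u, huC, huE, hu⟩ := T.exists_u he he1
  have huE' : conjBy E u = E := conjBy_self_of_comm huE
  have hact : ∀ x ∈ shiftGroup S A E,
      conjBy E (u * x * u⁻¹) = conjBy (conjBy E x) e := by
    intro x hx
    rw [conjBy_mul _ (u * x), show conjBy E u⁻¹ = E by rw [conjBy_eq_iff, inv_inv, huE'], conjBy_mul,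
      hu _ (hS.conj_mem _ T.memE x) (T.shift_blk hx)]
  have hcomm : Commute l' (u * k * u⁻¹) := by
    have hFH : ∀ F ∈ S, Blk S A F → ∀ H ∈ S, Blk S A H → ⁅H, conjBy F u⁆ = ⊥ := by
      intro F hF hAF H hH hAH
      obtain ⟨h3, h4⟩ := hAH.transfer hS T.memA T.memC T.ne.symm T.comm
      have h5 := hAF.conj hS u
      rw [huC] at h5
      exact commutator_eq_bot_comm.1
        (h5.transfer hS T.memC hH h4.symm (commutator_eq_bot_comm.1 h3)).1
    have hk0 : ∀ F ∈ S, Blk S A F → ∀ y ∈ F,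
        shiftGroup S A E ≤ Subgroup.centralizer {u * y * u⁻¹} := fun F hF hAF y hy =>
      shiftGroup_le T.memA fun H hH hAH x hx => Subgroup.mem_centralizer_singleton_iff.2
        (commute_of_commutator_eq_bot (hFH F hF hAF H hH hAH) hx (conj_mem_conjBy hy))
    have hle : shiftGroup S A E ≤ (Subgroup.centralizer {l'}).comap (MulAut.conj u).toMonoidHom :=
      shiftGroup_le T.memA fun F hF hAF y hy => Subgroup.mem_centralizer_singleton_iff.2
        (Subgroup.mem_centralizer_singleton_iff.1 (hk0 F hF hAF y hy hl')).symm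
    exact (Subgroup.mem_centralizer_singleton_iff.1 (hle hk)).symm
  rw [← hact _ (mul_mem hk hl),
    show u * (k * l) * u⁻¹ = u * k * u⁻¹ * (u * l * u⁻¹) by simp [mul_assoc], conjBy_mul,
    hact l hl, h2, ← conjBy_mul, ← hcomm.eq, conjBy_mul, hact k hk, h1, ← conjBy_mul]

theorem Tri.exists_shift_conj (T : Tri S A C E) {e k : G} (he : e ∈ E)
    (hk : k ∈ shiftGroup S A E) :
    ∃ k' ∈ shiftGroup S A E, conjBy (conjBy E k) e = conjBy E k' := by
  have h1 := (T.shift_blk hk).conj T.rootSet e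
  rw [conjBy_self_of_mem he] at h1
  exact T.shift_surj (T.rootSet.conj_mem _ (T.rootSet.conj_mem _ T.memE k) e) h1

/-- The group acting on the block is abelian on it. -/
theorem Tri.shift_abelian (T : Tri S A C E)
    (hbig : ∃ a₁ ∈ A, ∃ a₂ ∈ A, a₁ ≠ 1 ∧ a₂ ≠ 1 ∧ a₁ ≠ a₂) {p q : G}
    (hp : p ∈ shiftGroup S A E) (hq : q ∈ shiftGroup S A E) :
    conjBy E (p * q) = conjBy E (q * p) := by
  obtain ⟨a₁, ha₁, a₂, ha₂, h1, h2, h12⟩ := hbig
  obtain ⟨e₁, he₁, he₁1, hh1⟩ := exists_right_partner T.pair ha₁ h1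
  obtain ⟨e₂, he₂, he₂1, hh2⟩ := exists_right_partner T.pair ha₂ h2
  have hne : e₁ ≠ e₂ := fun h => h12 (RankOne.conjBy_right_injOn T.pair ha₁ ha₂ (by
    show conjBy E a₁ = conjBy E a₂
    rw [← hh1, ← hh2, h]))
  have hε : e₁⁻¹ * e₂ ∈ E := mul_mem (inv_mem he₁) he₂
  have hε1 : e₁⁻¹ * e₂ ≠ 1 := fun h => hne (inv_mul_eq_one.1 h)
  obtain ⟨k, hk, hk'⟩ := T.exists_shift_conj (inv_mem he₂) hp
  obtain ⟨l, hl, hl'⟩ := T.exists_shift_conj (inv_mem he₂) hq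
  obtain ⟨k₂, hk₂, hk₂'⟩ := T.exists_shift_conj hε hk
  obtain ⟨l₂, hl₂, hl₂'⟩ := T.exists_shift_conj hε hl
  have hback : ∀ {x y : G}, conjBy (conjBy E x) e₂⁻¹ = conjBy E y →
      conjBy (conjBy E y) e₂ = conjBy E x := fun h => by rw [← h, conjBy_conjBy_inv]
  have hback1 : ∀ {x y : G} {z : Subgroup G}, conjBy (conjBy E x) (e₁⁻¹ * e₂) = conjBy E y →
      conjBy (conjBy E x) e₂ = z → conjBy (conjBy E y) e₁ = z := fun h h' => by
    rw [← h, ← h', ← conjBy_mul _ e₁, mul_inv_cancel_left]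
  have r1 := T.shift_anti he₂ he₂1 hk hl hq (hback hk') (hback hl')
  have r2 := T.shift_anti hε hε1 hk hl hl₂ hk₂' hl₂'
  have r3 := T.shift_anti he₁ he₁1 hl₂ hk₂ hp (hback1 hl₂' (hback hl')) (hback1 hk₂' (hback hk'))
  rw [← r3, ← r2, ← conjBy_mul _ e₁, mul_inv_cancel_left, r1]

theorem Tri.shift_kernel (T : Tri S A C E)
    (hbig : ∃ a₁ ∈ A, ∃ a₂ ∈ A, a₁ ≠ 1 ∧ a₂ ≠ 1 ∧ a₁ ≠ a₂) {k l : G}
    (hk : k ∈ shiftGroup S A E) (hl : l ∈ shiftGroup S A E) (h : conjBy E k = E) :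
    conjBy E (k * l) = conjBy E l := by
  rw [T.shift_abelian hbig hk hl, conjBy_mul, h]

/-- The fixed-`a` subgroup. -/
theorem Tri.shift_equivariant (T : Tri S A C E)
    (hbig : ∃ a₁ ∈ A, ∃ a₂ ∈ A, a₁ ≠ 1 ∧ a₂ ≠ 1 ∧ a₁ ≠ a₂) {a e a' : G} (ha : a ∈ A)
    (he : e ∈ E) (he1 : e ≠ 1) (hea : conjBy A e = conjBy E a) (ha' : a' ∈ A) (ha'1 : a' ≠ 1)
    {x : G} (hx : x ∈ Subgroup.closure (shiftGen S A E a)) :
    x ∈ shiftGroup S A E ∧ a' * x * a'⁻¹ ∈ shiftGroup S A E ∧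
      conjBy (conjBy E x) ((a⁻¹ * e) * a' * (a⁻¹ * e)⁻¹) = conjBy E (a' * x * a'⁻¹) := by
  have hS := T.rootSet
  set g := a⁻¹ * e with hg
  set ε := g * a' * g⁻¹ with hε
  have hεE : ε ∈ E := T.g_base hea ▸ conj_mem_conjBy ha'
  have hε1 : ε ≠ 1 := fun h => ha'1 (conj_eq_one_iff.1 h)
  induction hx using Subgroup.closure_induction with
  | mem x hx =>
    obtain ⟨F, hF, h, f, hf, rfl⟩ := hx
    obtain ⟨hb, hf'⟩ := T.corr_conj hF h T.memA (Blk.refl A) ha ha' hf (T.corr_self ha')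
    have e1 : a' * (a⁻¹ * f) * a'⁻¹ = a⁻¹ * (a' * f * a'⁻¹) := by
      rw [← mul_assoc a' a⁻¹, comm_of_mem hS T.memA ha' (inv_mem ha)]
      simp [mul_assoc]
    refine ⟨Subgroup.subset_closure ⟨a, ha, F, hF, h, f, hf, rfl⟩, ?_, ?_⟩
    · rw [e1]
      exact Subgroup.subset_closure ⟨a, ha, _, hS.conj_mem F hF a', hb, _, hf', rfl⟩
    · rw [e1, ← T.g_apply hF h he he1 hea hf, ← hg, hε,
        ← T.g_apply (hS.conj_mem F hF a') hb he he1 hea hf', ← hg, ← conjBy_mul,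
        inv_mul_cancel_right, conjBy_mul]
  | one => exact ⟨one_mem _, by simp, by simp [conjBy_self_of_mem hεE]⟩
  | mul x y _ _ hx hy =>
    obtain ⟨h1, h2, h3⟩ := hx
    obtain ⟨k1, k2, k3⟩ := hy
    have e1 : a' * (x * y) * a'⁻¹ = a' * x * a'⁻¹ * (a' * y * a'⁻¹) := by simp [mul_assoc]
    refine ⟨mul_mem h1 k1, by rw [e1]; exact mul_mem h2 k2, ?_⟩
    rw [T.shift_anti hεE hε1 h1 k1 k2 h3 k3, e1, T.shift_abelian hbig k2 h2]
  | inv x _ hx =>
    obtain ⟨h1, h2, h3⟩ := hx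
    have e1 : a' * x⁻¹ * a'⁻¹ = (a' * x * a'⁻¹)⁻¹ := by simp [mul_assoc]
    obtain ⟨j, hj, hj'⟩ := T.exists_shift_conj hεE (inv_mem h1)
    refine ⟨inv_mem h1, by rw [e1]; exact inv_mem h2, ?_⟩
    have h4 := T.shift_anti hεE hε1 h1 (inv_mem h1) hj h3 hj'
    rw [mul_inv_cancel, conjBy_one, conjBy_self_of_mem hεE, T.shift_abelian hbig hj h2,
      conjBy_mul] at h4
    rw [hj', e1]
    conv_rhs => rw [h4]
    rw [conjBy_inv_conjBy]

/-- A second member in the block makes all maps `x ↦ g x g⁻¹` equal. -/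
theorem Tri.hua_trivial (T : Tri S A C E) (hB : B ∈ S) (hAB : Blk S A B) (hne : A ≠ B)
    (hbig : ∃ a₁ ∈ A, ∃ a₂ ∈ A, a₁ ≠ 1 ∧ a₂ ≠ 1 ∧ a₁ ≠ a₂) {a₁ a₂ e₁ e₂ a' : G}
    (ha₁ : a₁ ∈ A) (ha₁1 : a₁ ≠ 1) (he₁ : e₁ ∈ E) (he₁1 : e₁ ≠ 1)
    (hea₁ : conjBy A e₁ = conjBy E a₁) (ha₂ : a₂ ∈ A) (he₂ : e₂ ∈ E)
    (he₂1 : e₂ ≠ 1) (hea₂ : conjBy A e₂ = conjBy E a₂) (ha' : a' ∈ A) :
    (a₁⁻¹ * e₁) * a' * (a₁⁻¹ * e₁)⁻¹ = (a₂⁻¹ * e₂) * a' * (a₂⁻¹ * e₂)⁻¹ := by
  rcases eq_or_ne a' 1 with rfl | ha'1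
  · simp
  have hS := T.rootSet
  obtain ⟨f, hf⟩ := T.corr_exists hB hAB ha₂
  set ξ := a₂⁻¹ * f with hξ
  have hξm : ξ ∈ Subgroup.closure (shiftGen S A E a₂) :=
    Subgroup.subset_closure ⟨B, hB, hAB, f, hf, rfl⟩
  set k := a₁ * ξ * a₁⁻¹ * ξ⁻¹ with hk
  have hk₂ : k ∈ Subgroup.closure (shiftGen S A E a₂) := by
    refine mul_mem ?_ (inv_mem hξm)
    obtain ⟨hb, hf'⟩ := T.corr_conj hB hAB T.memA (Blk.refl A) ha₂ ha₁ hf (T.corr_self ha₁)
    refine Subgroup.subset_closure ⟨_, hS.conj_mem B hB a₁, hb, _, hf', ?_⟩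
    rw [hξ, ← mul_assoc a₁ a₂⁻¹, comm_of_mem hS T.memA ha₁ (inv_mem ha₂)]
    simp [mul_assoc]
  have hk₁ : k ∈ Subgroup.closure (shiftGen S A E a₁) := by
    obtain ⟨hb, hf'⟩ := T.corr_conj T.memA (Blk.refl A) hB hAB ha₁ ha₂ (T.corr_self ha₁) hf
    have hm : a₂⁻¹ * a₁ ∈ A := mul_mem (inv_mem ha₂) ha₁
    obtain ⟨hb', hf''⟩ := T.corr_conj (hS.conj_mem A T.memA f) hb T.memA (Blk.refl A) ha₁ hm hf'
      (T.corr_self hm)
    have hca : Commute (a₂⁻¹ * a₁) a₁⁻¹ := comm_of_mem hS T.memA hm (inv_mem ha₁)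
    have hca2 : Commute a₂ a₁⁻¹ := comm_of_mem hS T.memA ha₂ (inv_mem ha₁)
    have hca3 : Commute a₁ a₂⁻¹ := comm_of_mem hS T.memA ha₁ (inv_mem ha₂)
    have e1 : k = (a₁⁻¹ * (a₂⁻¹ * a₁ * (f * a₁ * f⁻¹) * (a₂⁻¹ * a₁)⁻¹))⁻¹ := by
      rw [← mul_assoc a₁⁻¹, ← mul_assoc a₁⁻¹, ← hca.eq, mul_inv_cancel_right, hk, hξ, mul_inv_rev,
        inv_inv, mul_inv_rev, mul_inv_rev, inv_inv, ← mul_assoc a₁ a₂⁻¹, hca3.eq]
      simp only [mul_assoc, mul_inv_rev, inv_inv]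
    rw [e1]
    exact inv_mem (Subgroup.subset_closure ⟨_, hS.conj_mem _ (hS.conj_mem A T.memA f) _, hb', _, hf'', rfl⟩)
  have hkne : conjBy E k ≠ E := by
    intro hfix
    obtain ⟨hξK, hξK', hξe⟩ := T.shift_equivariant hbig ha₂ he₂ he₂1 hea₂ ha₁ ha₁1 hξm
    have h1 := T.shift_kernel hbig (T.shift_equivariant hbig ha₂ he₂ he₂1 hea₂ ha₁ ha₁1 hk₂).1 hξK hfix
    rw [hk, inv_mul_cancel_right, ← hξe] at h1
    have hHne : E ≠ conjBy E ξ := by
      intro h2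
      apply hne
      rw [← conjBy_inj (g := a₂⁻¹ * e₂), T.g_base hea₂, T.g_apply hB hAB he₂ he₂1 hea₂ hf]
      exact h2
    have hp2 := (T.shift_blk hξK).pair hS T.degen T.memE (hS.conj_mem _ T.memE _) hHne
    exact ha₁1 (conj_eq_one_iff.1
      (RankOne.eq_one_of_conjBy_eq hp2 (T.g_base hea₂ ▸ conj_mem_conjBy ha₁) h1))
  obtain ⟨hkK, -, h1⟩ := T.shift_equivariant hbig ha₁ he₁ he₁1 hea₁ ha' ha'1 hk₁
  obtain ⟨-, -, h2⟩ := T.shift_equivariant hbig ha₂ he₂ he₂1 hea₂ ha' ha'1 hk₂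
  have hp2 := (T.shift_blk hkK).pair hS T.degen T.memE (hS.conj_mem _ T.memE _) (Ne.symm hkne)
  exact RankOne.conjBy_right_injOn hp2 (T.g_base hea₁ ▸ conj_mem_conjBy ha')
    (T.g_base hea₂ ▸ conj_mem_conjBy ha') (h1.trans h2.symm)

end Cfsg.Agent.Lib.RootSubgroups.RootSet
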