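import Mathlib
import Cfsg.Prelude.Def_RootSubgroups
import Cfsg.Agent.Lib.RootSubgroups.Line

/-!
Timmesfeld II (2.9): if `⁅A, B⁆ = C` and `⁅D, C⁆ = A` then `⟨B, D⟩` is a rank one group acting on
`AC` as `SL₂` does on its natural module.
-/

set_option autoImplicit false

namespace Cfsg.Agent.Lib.RootSubgroups.RootSet

open Cfsg Cfsg.Agent.Lib.RootSubgroups
open scoped commutatorElement

/-- The ring identity excluding the commutator case for `⟨B, D⟩`. -/
theorem cycle_ring_identity {R : Type*} [Ring R] {β δ : R} (hβ : β * β = 0) (hδ : δ * δ = 0)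
    (h1 : ((1 + β) * (1 + δ) * (1 - β) * (1 - δ)) * β = β * ((1 + β) * (1 + δ) * (1 - β) * (1 - δ)))
    (h2 : ((1 + β) * (1 + δ) * (1 - β) * (1 - δ)) * δ = δ * ((1 + β) * (1 + δ) * (1 - β) * (1 - δ))) :
    δ * β * δ * β * δ = 0 := by
  have hβ' : ∀ x, β * (β * x) = 0 := fun x => by rw [← mul_assoc, hβ, zero_mul]
  have hδ' : ∀ x, δ * (δ * x) = 0 := fun x => by rw [← mul_assoc, hδ, zero_mul]
  have e : (1 + β) * (1 + δ) * (1 - β) * (1 - δ) =
      1 + β * δ - δ * β + δ * β * δ - β * δ * β + β * δ * β * δ := by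
    simp only [mul_add, add_mul, mul_sub, sub_mul, one_mul, mul_one, mul_assoc, hβ, hδ, hβ', hδ',
      mul_zero, zero_mul, sub_zero, zero_sub, add_zero, zero_add]
    abel
  rw [e] at h2
  have h3 := congrArg (δ * ·) h2
  simp only [mul_add, add_mul, mul_sub, sub_mul, one_mul, mul_one, mul_assoc, hδ, hδ', mul_zero,
    zero_mul, sub_zero, zero_sub, add_zero, zero_add] at h3
  simpa [mul_assoc] using h3

variable {G : Type*} [Group G]

theorem sub_one_identity {R : Type*} [Ring R] (r : R) :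
    r * (1 - (r - 1)) = 1 - (r - 1) * (r - 1) := by noncomm_ring

/-- Conjugation on a normalized abelian subgroup, as an endomorphism of it. -/
def conjEnd (N : Subgroup G) (X : Subgroup G) (hX : X ≤ Subgroup.normalizer (N : Set G)) :
    ↥X →* AddMonoid.End (Additive ↥N) where
  toFun x :=
    { toFun := fun n => Additive.ofMul ⟨(x : G) * (Additive.toMul n).1 * (x : G)⁻¹,
        (Subgroup.mem_normalizer_iff.1 (hX x.2) _).1 (Additive.toMul n).2⟩
      map_zero' := Additive.toMul.injective (Subtype.ext (by simp))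
      map_add' := fun n m => Additive.toMul.injective (Subtype.ext (by simp [mul_assoc])) }
  map_one' := AddMonoidHom.ext fun n => Additive.toMul.injective (Subtype.ext (by
    show ((1 : ↥X) : G) * ((Additive.toMul n : ↥N) : G) * ((1 : ↥X) : G)⁻¹ =
      ((Additive.toMul n : ↥N) : G)
    simp))
  map_mul' x y := AddMonoidHom.ext fun n => Additive.toMul.injective (Subtype.ext (by
    show ((x * y : ↥X) : G) * ((Additive.toMul n : ↥N) : G) * ((x * y : ↥X) : G)⁻¹ =
      (x : G) * ((y : G) * ((Additive.toMul n : ↥N) : G) * (y : G)⁻¹) * (x : G)⁻¹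
    simp [mul_assoc]))

theorem conjEnd_apply {N X : Subgroup G} (hX : X ≤ Subgroup.normalizer (N : Set G)) (x : ↥X)
    (n : Additive ↥N) :
    ((Additive.toMul (conjEnd N X hX x n) : ↥N) : G) = x * (Additive.toMul n : ↥N) * (x : G)⁻¹ := rfl

variable {S : Set (Subgroup G)} {A B C D : Subgroup G}

/-- The standing hypotheses of Timmesfeld II (2.9). -/
structure Cycle (S : Set (Subgroup G)) (A B C D : Subgroup G) : Prop where
  rootSet : IsRootSubgroupSet S
  memA : A ∈ S
  memB : B ∈ S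
  memD : D ∈ S
  left : RootCommutatorCase S A B
  right : RootCommutatorCase S D C
  comm_left : ⁅A, B⁆ = C
  comm_right : ⁅D, C⁆ = A

theorem cycle_of_mem (hS : IsRootSubgroupSet S) (hA : A ∈ S) (hB : B ∈ S) (hC : ⁅A, B⁆ ∈ S)
    (hD : D ∈ S) (hDC : ⁅D, ⁅A, B⁆⁆ = A) : Cycle S A B ⁅A, B⁆ D :=
  ⟨hS, hA, hB, hD, commCase_of_commutator_mem hS hA hB hC,
    commCase_of_commutator_mem hS hD hC (hDC.symm ▸ hA), rfl, hDC⟩

theorem Cycle.symm (h : Cycle S A B C D) : Cycle S C D A B := by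
  obtain ⟨hS, hA, hB, hD, hl, hr, hcl, hcr⟩ := h
  exact ⟨hS, hcl ▸ hl.1, hD, hB, commCase_symm hr, commCase_symm hl,
    by rwa [Subgroup.commutator_comm], by rwa [Subgroup.commutator_comm]⟩

theorem Cycle.memC (h : Cycle S A B C D) : C ∈ S := h.comm_left ▸ h.left.1

theorem Cycle.commAC (h : Cycle S A B C D) {a c : G} (ha : a ∈ A) (hc : c ∈ C) : c * a = a * c :=
  commCase_comm_left h.left (h.comm_left.symm ▸ hc) ha

theorem Cycle.commBC (h : Cycle S A B C D) {b c : G} (hb : b ∈ B) (hc : c ∈ C) : c * b = b * c :=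
  commCase_comm_right h.left (h.comm_left.symm ▸ hc) hb

theorem Cycle.commDA (h : Cycle S A B C D) {d a : G} (hd : d ∈ D) (ha : a ∈ A) : a * d = d * a :=
  commCase_comm_left h.right (h.comm_right.symm ▸ ha) hd

theorem Cycle.sup_comm_elem (h : Cycle S A B C D) :
    ∀ x ∈ A ⊔ C, ∀ y ∈ A ⊔ C, x * y = y * x := by
  have h1 := commCase_sup_comm h.rootSet h.memA (commCase_symm h.left)
  rwa [Subgroup.commutator_comm B A, h.comm_left] at h1

theorem Cycle.normalize (h : Cycle S A B C D) : B ⊔ D ≤ Subgroup.normalizer ((A ⊔ C : Subgroup G) : Set G) := by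
  have key : ∀ {A B C D : Subgroup G}, Cycle S A B C D → ∀ b ∈ B, conjBy (A ⊔ C) b ≤ A ⊔ C := by
    intro A B C D h b hb
    rw [conjBy_sup]
    refine sup_le ?_ ?_
    · have h1 := conjBy_left_le_line h.left hb
      rwa [h.comm_left] at h1
    · refine le_trans (le_of_eq ?_) le_sup_right
      exact conjBy_self_of_mem_normalizer (Subgroup.centralizer_le_normalizer _
        (Subgroup.mem_centralizer_iff.2 fun c hc => h.commBC hb hc))
  have key' : ∀ {A B C D : Subgroup G}, Cycle S A B C D →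
      B ≤ Subgroup.normalizer ((A ⊔ C : Subgroup G) : Set G) := by
    intro A B C D h b hb
    refine conjBy_eq_self_iff.1 (le_antisymm (key h b hb) ?_)
    have h1 := conjBy_mono b (key h b⁻¹ (inv_mem hb))
    rwa [conjBy_conjBy_inv] at h1
  exact sup_le (key' h) (sup_comm C A ▸ key' h.symm)

theorem Cycle.inf_eq_bot (h : Cycle S A B C D) : A ⊓ C = ⊥ := by
  refine (Subgroup.eq_bot_iff_forall _).2 fun x hx => ?_
  by_contra hx1
  apply commCase_not_commute h.rootSet h.left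
  rw [← h.left.2.2.1 x hx.1 hx1, Subgroup.closure_eq_bot_iff]
  rintro _ ⟨b, hb, rfl⟩
  simp [(h.commBC hb hx.2), mul_assoc]

theorem Cycle.decomp (h : Cycle S A B C D) {x : G} (hx : x ∈ A ⊔ C) :
    ∃ a ∈ A, ∃ c ∈ C, a * c = x := by
  have hn : A ≤ Subgroup.normalizer (C : Set G) := h.comm_left ▸ Subgroup.normalizer_commutator_ge_left A B
  rw [← SetLike.mem_coe, Subgroup.coe_mul_of_left_le_normalizer_right A C hn] at hx
  exact Set.mem_mul.1 hx

theorem Cycle.commutator_line (h : Cycle S A B C D) : ⁅A ⊔ C, B⁆ = C := by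
  refine le_antisymm (Subgroup.commutator_le.2 fun x hx b hb => ?_) ?_
  · obtain ⟨a, ha, c, hc, rfl⟩ := h.decomp hx
    have e : ⁅a * c, b⁆ = a * ⁅c, b⁆ * a⁻¹ * ⁅a, b⁆ := by
      simp [commutatorElement_def, mul_assoc]
    rw [e, commutatorElement_eq_one_iff_mul_comm.2 (h.commBC hb hc), mul_one, mul_inv_cancel, one_mul,
      ← h.comm_left]
    exact Subgroup.commutator_mem_commutator ha hb
  · exact h.comm_left.symm.le.trans (Subgroup.commutator_mono le_sup_left le_rfl)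

/-- `b - 1` maps `A` onto `C`. -/
theorem Cycle.surj (h : Cycle S A B C D) {b : G} (hb : b ∈ B) (hb1 : b ≠ 1) {c : G} (hc : c ∈ C) :
    ∃ a ∈ A, b * a * b⁻¹ * a⁻¹ = c := by
  obtain ⟨a, ha⟩ := commMap_surjective h.rootSet (commCase_symm h.left) (inv_mem hb)
    (inv_ne_one.2 hb1) ⟨c, by rwa [Subgroup.commutator_comm, h.comm_left]⟩
  refine ⟨(a : G)⁻¹, inv_mem a.2, ?_⟩
  have h1 := congrArg Subtype.val ha
  rw [commMap_apply] at h1
  simpa using h1

theorem Cycle.isRankOnePair (h : Cycle S A B C D) : IsRankOnePair B D := by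
  rcases h.rootSet.pair B h.memB D h.memD with h1 | h1 | h1
  · exfalso
    -- three subgroup style: `d` fixes `C = [A,B]` elementwise
    apply commCase_not_commute h.rootSet h.right
    refine commutator_eq_bot_of_forall_comm fun d hd c hc => ?_
    obtain ⟨b, hb, hb1⟩ := exists_mem_ne_one_of_ne_bot (h.rootSet.ne_bot B h.memB)
    obtain ⟨a, ha, rfl⟩ := h.surj hb hb1 hc
    have c1 : Commute d b := (commute_of_commutator_eq_bot h1 hb hd).symm
    have c2 : Commute d a := (h.commDA hd ha).symm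
    exact (((c1.mul_right c2).mul_right c1.inv_right).mul_right c2.inv_right).eq
  · exact h1
  · exfalso
    obtain ⟨b, hb, hb1⟩ := exists_mem_ne_one_of_ne_bot (h.rootSet.ne_bot B h.memB)
    obtain ⟨d, hd, hd1⟩ := exists_mem_ne_one_of_ne_bot (h.rootSet.ne_bot D h.memD)
    set N := A ⊔ C with hN
    set X := B ⊔ D with hX
    letI : CommGroup ↥N := { (inferInstance : Group ↥N) with
      mul_comm := fun x y => Subtype.ext (h.sup_comm_elem x x.2 y y.2) }
    set ρ := conjEnd N X h.normalize with hρ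
    let bx : ↥X := ⟨b, Subgroup.mem_sup_left hb⟩
    let dx : ↥X := ⟨d, Subgroup.mem_sup_right hd⟩
    set β := ρ bx - 1 with hβdef
    set δ := ρ dx - 1 with hδdef
    have happ : ∀ (x : ↥X) (n : Additive ↥N),
        ((Additive.toMul ((ρ x - 1) n) : ↥N) : G) =
          x * (Additive.toMul n : ↥N) * (x : G)⁻¹ * ((Additive.toMul n : ↥N) : G)⁻¹ := by
      intro x n
      show ((Additive.toMul (conjEnd N X h.normalize x n - n) : ↥N) : G) = _
      rw [sub_eq_add_neg, toMul_add, Subgroup.coe_mul, toMul_neg, Subgroup.coe_inv, conjEnd_apply]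
    have hsq : ∀ {A B C D : Subgroup G} (_ : Cycle S A B C D) (x : G) (_ : x ∈ B),
        ∀ n ∈ A ⊔ C, (x * n * x⁻¹ * n⁻¹) * x = x * (x * n * x⁻¹ * n⁻¹) := by
      intro A B C D h x hx n hn
      refine h.commBC hx ?_
      rw [← h.commutator_line, Subgroup.commutator_comm]
      exact Subgroup.commutator_mem_commutator hx hn
    have hββ : β * β = 0 := by
      refine DFunLike.ext _ _ fun n => Additive.toMul.injective (Subtype.ext ?_)
      show ((Additive.toMul ((ρ bx - 1) ((ρ bx - 1) n)) : ↥N) : G) = 1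
      rw [happ, happ]
      show b * _ * b⁻¹ * _ = 1
      rw [← hsq h b hb _ (Additive.toMul n : ↥N).2, mul_inv_cancel_right, mul_inv_cancel]
    have hδδ : δ * δ = 0 := by
      refine DFunLike.ext _ _ fun n => Additive.toMul.injective (Subtype.ext ?_)
      show ((Additive.toMul ((ρ dx - 1) ((ρ dx - 1) n)) : ↥N) : G) = 1
      rw [happ, happ]
      show d * _ * d⁻¹ * _ = 1
      rw [← hsq h.symm d hd _ (sup_comm A C ▸ (Additive.toMul n : ↥N).2), mul_inv_cancel_right,
        mul_inv_cancel]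
    have hinv : ∀ {x : ↥X}, (ρ x - 1) * (ρ x - 1) = 0 → ρ x⁻¹ = 1 - (ρ x - 1) := by
      intro x hx
      have h2 : ρ x⁻¹ * ρ x = 1 := by rw [← map_mul, inv_mul_cancel, map_one]
      have h3 := sub_one_identity (ρ x)
      rw [hx, sub_zero] at h3
      calc ρ x⁻¹ = ρ x⁻¹ * (ρ x * (1 - (ρ x - 1))) := by rw [h3, mul_one]
        _ = 1 - (ρ x - 1) := by rw [← mul_assoc, h2, one_mul]
    have hK : ρ (bx * dx * bx⁻¹ * dx⁻¹) = (1 + β) * (1 + δ) * (1 - β) * (1 - δ) := by
      rw [map_mul, map_mul, map_mul, hinv hββ, hinv hδδ, ← hβdef, ← hδdef]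
      congr 3
      · rw [hβdef]; abel
      · rw [hδdef]; abel
    have hmemK : b * d * b⁻¹ * d⁻¹ ∈ ⁅B, D⁆ := Subgroup.commutator_mem_commutator hb hd
    have hcomm : ∀ x : ↥X, (x : G) * (b * d * b⁻¹ * d⁻¹) = (b * d * b⁻¹ * d⁻¹) * x →
        ((1 + β) * (1 + δ) * (1 - β) * (1 - δ)) * (ρ x - 1) =
          (ρ x - 1) * ((1 + β) * (1 + δ) * (1 - β) * (1 - δ)) := by
      intro x hx
      have e : ρ ((bx * dx * bx⁻¹ * dx⁻¹) * x) = ρ (x * (bx * dx * bx⁻¹ * dx⁻¹)) :=
        congrArg ρ (Subtype.ext hx.symm)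
      rw [map_mul ρ _ x, map_mul ρ x, hK] at e
      rw [mul_sub, sub_mul, mul_one, one_mul, e]
    have hzero := cycle_ring_identity hββ hδδ
      (hcomm bx (commCase_comm_right (commCase_symm h1) (by rwa [Subgroup.commutator_comm]) hb).symm)
      (hcomm dx (commCase_comm_right h1 hmemK hd).symm)
    -- but `δ β δ β δ` maps onto `A`
    have sβ : ∀ c ∈ C, ∃ n : Additive ↥N, ((Additive.toMul n : ↥N) : G) ∈ A ∧
        ((Additive.toMul (β n) : ↥N) : G) = c := by
      intro c hc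
      obtain ⟨a, ha, hac⟩ := h.surj hb hb1 hc
      refine ⟨Additive.ofMul ⟨a, Subgroup.mem_sup_left ha⟩, ha, ?_⟩
      rw [hβdef, happ]
      exact hac
    have sδ : ∀ a ∈ A, ∃ n : Additive ↥N, ((Additive.toMul n : ↥N) : G) ∈ C ∧
        ((Additive.toMul (δ n) : ↥N) : G) = a := by
      intro a ha
      obtain ⟨c, hc, hca⟩ := h.symm.surj hd hd1 ha
      refine ⟨Additive.ofMul ⟨c, Subgroup.mem_sup_right hc⟩, hc, ?_⟩
      rw [hδdef, happ]
      exact hca
    obtain ⟨a, ha, ha1⟩ := exists_mem_ne_one_of_ne_bot (h.rootSet.ne_bot A h.memA)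
    obtain ⟨n₁, hn₁, e₁⟩ := sδ a ha
    obtain ⟨n₂, hn₂, e₂⟩ := sβ _ hn₁
    obtain ⟨n₃, hn₃, e₃⟩ := sδ _ hn₂
    obtain ⟨n₄, hn₄, e₄⟩ := sβ _ hn₃
    obtain ⟨n₅, -, e₅⟩ := sδ _ hn₄
    have inj : ∀ {m n : Additive ↥N}, ((Additive.toMul m : ↥N) : G) = ((Additive.toMul n : ↥N) : G) →
        m = n := fun hmn => Additive.toMul.injective (Subtype.ext hmn)
    have h5 : (δ * β * δ * β * δ) n₅ = δ n₁ := by
      show δ (β (δ (β (δ n₅)))) = δ n₁
      rw [inj e₅, inj e₄, inj e₃, inj e₂]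
    rw [hzero] at h5
    apply ha1
    rw [← e₁, ← h5]
    rfl

theorem Cycle.orbit_eq (h : Cycle S A B C D) :
    {E | ∃ x ∈ B ⊔ D, E = conjBy A x} = {E | ∃ x ∈ B ⊔ D, E = conjBy C x} ∧
    {E | ∃ x ∈ B ⊔ D, E = conjBy A x} = (fun b : G => conjBy A b) '' (B : Set G) ∪ {C} ∧
    {E | ∃ x ∈ B ⊔ D, E = conjBy A x} = (fun d : G => conjBy C d) '' (D : Set G) ∪ {A} := by
  have hp := h.isRankOnePair
  let ψ : Subgroup G → Subgroup G := fun E => ⁅A ⊔ C, E⁆
  have hψ : ∀ x ∈ B ⊔ D, ∀ E, ψ (conjBy E x) = conjBy (ψ E) x := fun x hx E => by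
    show _ = conjBy ⁅A ⊔ C, E⁆ x
    rw [conjBy_commutator, conjBy_self_of_le h.normalize hx]
  have hψB : ψ B = C := h.commutator_line
  have hψD : ψ D = A := by
    show ⁅A ⊔ C, D⁆ = A
    rw [sup_comm]; exact h.symm.commutator_line
  have e1 : {E | ∃ x ∈ B ⊔ D, E = conjBy C x} = ψ '' unipotentSubgroups B D := by
    ext E
    constructor
    · rintro ⟨x, hx, rfl⟩
      exact ⟨conjBy B x, ⟨x, hx, rfl⟩, by rw [hψ x hx, hψB]⟩
    · rintro ⟨_, ⟨x, hx, rfl⟩, rfl⟩
      exact ⟨x, hx, by rw [hψ x hx, hψB]⟩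
  have e2 : {E | ∃ x ∈ B ⊔ D, E = conjBy A x} = ψ '' unipotentSubgroups B D := by
    rw [RankOne.unipotentSubgroups_symm hp]
    ext E
    constructor
    · rintro ⟨x, hx, rfl⟩
      exact ⟨conjBy D x, ⟨x, sup_comm B D ▸ hx, rfl⟩, by rw [hψ x hx, hψD]⟩
    · rintro ⟨_, ⟨x, hx, rfl⟩, rfl⟩
      have hx' : x ∈ B ⊔ D := sup_comm D B ▸ hx
      exact ⟨x, hx', by rw [hψ x hx', hψD]⟩
  refine ⟨e2.trans e1.symm, ?_, ?_⟩
  · rw [e2, RankOne.unipotentSubgroups_eq hp, Set.image_insert_eq, hψB, Set.image_image,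
      Set.union_singleton]
    congr 1
    refine Set.image_congr fun b hb => ?_
    rw [hψ b (Subgroup.mem_sup_left hb), hψD]
  · rw [e2, RankOne.unipotentSubgroups_eq' hp, Set.image_insert_eq, hψD, Set.image_image,
      Set.union_singleton]
    congr 1
    refine Set.image_congr fun d hd => ?_
    rw [hψ d (Subgroup.mem_sup_right hd), hψB]

theorem Cycle.orbit_partition (h : Cycle S A B C D) :
    IsSubgroupPartition (A ⊔ C) {E | ∃ x ∈ B ⊔ D, E = conjBy A x} := by
  obtain ⟨-, e, -⟩ := h.orbit_eq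
  refine ⟨?_, fun x hx _ => ?_, ?_⟩
  · rintro E ⟨x, hx, rfl⟩
    exact (conjBy_mono x le_sup_left).trans (conjBy_self_of_le h.normalize hx).le
  · rw [e]
    by_cases hxC : x ∈ C
    · exact ⟨C, Or.inr rfl, hxC⟩
    · obtain ⟨b, hb, hxb⟩ := mem_line_cases h.rootSet h.memA h.left (h.comm_left.symm ▸ hx)
        (h.comm_left.symm ▸ hxC)
      exact ⟨_, Or.inl ⟨b, hb, rfl⟩, hxb⟩
  · -- move one member to `C`
    intro E hE F hF hne
    have hmove : ∀ x ∈ B ⊔ D, ∀ E ∈ {E | ∃ x ∈ B ⊔ D, E = conjBy A x},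
        conjBy E x ∈ {E | ∃ x ∈ B ⊔ D, E = conjBy A x} := by
      rintro x hx E ⟨y, hy, rfl⟩
      exact ⟨x * y, mul_mem hx hy, (conjBy_mul A x y).symm⟩
    obtain ⟨x, hx, rfl⟩ : ∃ x ∈ B ⊔ D, E = conjBy C x := by
      have h1 := hE
      rw [h.orbit_eq.1] at h1
      exact h1
    have hF' := hmove x⁻¹ (inv_mem hx) F hF
    rw [e] at hF'
    have hFx : F = conjBy (conjBy F x⁻¹) x := (conjBy_conjBy_inv F x).symm
    rcases hF' with ⟨b, hb, hb'⟩ | hb'
    · simp only at hb'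
      have hCb : conjBy C b = C := conjBy_self_of_mem_normalizer (Subgroup.centralizer_le_normalizer _
        (Subgroup.mem_centralizer_iff.2 fun c hc => h.commBC hb hc))
      rw [hFx, ← hb', ← conjBy_inf, ← hCb, ← conjBy_inf, inf_comm, h.inf_eq_bot, conjBy_bot,
        conjBy_bot]
    · rw [Set.mem_singleton_iff] at hb'
      rw [hFx, hb'] at hne
      exact absurd rfl hne

theorem Cycle.centralizer_le_center (h : Cycle S A B C D) :
    ∀ x ∈ (B ⊔ D) ⊓ Subgroup.centralizer ((A ⊔ C : Subgroup G) : Set G), ∀ y ∈ B ⊔ D, x * y = y * x := by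
  set K := (B ⊔ D) ⊓ Subgroup.centralizer ((A ⊔ C : Subgroup G) : Set G) with hK
  have hKn : B ⊔ D ≤ Subgroup.normalizer (K : Set G) := fun x hx => conjBy_eq_self_iff.1 (by
    rw [hK, conjBy_inf, conjBy_self_of_mem hx]
    congr 1
    have key : ∀ x ∈ B ⊔ D, conjBy (Subgroup.centralizer ((A ⊔ C : Subgroup G) : Set G)) x ≤
        Subgroup.centralizer ((A ⊔ C : Subgroup G) : Set G) := by
      rintro x hx _ ⟨z, hz, rfl⟩
      refine Subgroup.mem_centralizer_iff.2 fun n hn => ?_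
      have hn' : x⁻¹ * n * x ∈ A ⊔ C :=
        mem_conjBy.1 ((conjBy_self_of_le h.normalize hx).symm ▸ hn)
      have h2 := congrArg (fun y => x * y * x⁻¹) (Subgroup.mem_centralizer_iff.1 hz _ hn')
      simpa [mul_assoc, MulAut.conj_apply] using h2
    refine le_antisymm (key x hx) ?_
    have h1 := conjBy_mono x (key x⁻¹ (inv_mem hx))
    rwa [conjBy_conjBy_inv] at h1)
  rcases RankOne.normal_dichotomy h.isRankOnePair (N := K) inf_le_left hKn with h1 | h1
  · exfalso
    apply commCase_not_commute h.rootSet h.right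
    refine Subgroup.commutator_eq_bot_iff_le_centralizer.2 ?_
    have h2 : K ⊔ B ≤ Subgroup.centralizer (C : Set G) :=
      sup_le (inf_le_right.trans (Subgroup.centralizer_le fun _ hz => Subgroup.mem_sup_right hz))
        fun b hb => Subgroup.mem_centralizer_iff.2 fun c hc => h.commBC hb hc
    rw [h1] at h2
    exact le_sup_right.trans h2
  · exact fun x hx y hy => Subgroup.mem_centralizer_iff.1 (h1 hy) x hx

end Cfsg.Agent.Lib.RootSubgroups.RootSet
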