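import Mathlib
import Cfsg.Prelude.Def_RootSubgroups
import Cfsg.Agent.Lib.RootSubgroups.RankOne

/-!
Special rank one groups: the maps `mu`, the fundamental identity of the associated Moufang set,
and divisibility.
-/

set_option autoImplicit false

namespace Cfsg.Agent.Lib.RootSubgroups.RankOne

open Cfsg Cfsg.Agent.Lib.RootSubgroups

variable {G : Type*} [Group G] {A B : Subgroup G}

/-- `b` is the partner of `a`. -/
def Partner (A B : Subgroup G) (a b : G) : Prop :=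
  a ∈ A ∧ a ≠ 1 ∧ b ∈ B ∧ b ≠ 1 ∧ conjBy A b⁻¹ = conjBy B a⁻¹

/-- The element swapping the two unipotent subgroups attached to a partner pair. -/
def mu (a b : G) : G := a * b⁻¹ * a

theorem Partner.symm {a b : G} (h : Partner A B a b) : Partner B A b a :=
  ⟨h.2.2.1, h.2.2.2.1, h.1, h.2.1, h.2.2.2.2.symm⟩

theorem exists_partner (h : IsRankOnePair A B) {a : G} (ha : a ∈ A) (ha1 : a ≠ 1) :
    ∃ b, Partner A B a b := by
  obtain ⟨b, hb, hb1, he⟩ := h.cond_left a ha ha1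
  exact ⟨b, ha, ha1, hb, hb1, he⟩

theorem exists_partner' (h : IsRankOnePair A B) {b : G} (hb : b ∈ B) (hb1 : b ≠ 1) :
    ∃ a, Partner A B a b := by
  obtain ⟨a, ha⟩ := exists_partner (RankOne.symm h) hb hb1
  exact ⟨a, ha.symm⟩

theorem Partner.right_unique (h : IsRankOnePair A B) {a b b' : G} (hb : Partner A B a b)
    (hb' : Partner A B a b') : b = b' :=
  partner_unique h hb.2.2.1 hb'.2.2.1 hb.2.2.2.2 hb'.2.2.2.2

theorem Partner.left_unique (h : IsRankOnePair A B) {a a' b : G} (hb : Partner A B a b)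
    (hb' : Partner A B a' b) : a = a' :=
  hb.symm.right_unique (RankOne.symm h) hb'.symm

theorem Partner.special (hs : IsSpecialRankOnePair A B) {a b : G} (hp : Partner A B a b) :
    b⁻¹ * a * b = a⁻¹ * b⁻¹ * a :=
  hs.2 a hp.1 hp.2.1 b hp.2.2.1 hp.2.2.2.1 hp.2.2.2.2

theorem Partner.mu_eq (hs : IsSpecialRankOnePair A B) {a b : G} (hp : Partner A B a b) :
    mu a b = b⁻¹ * a * b⁻¹ := by
  have h1 : a * (b⁻¹ * a * b) = a * (a⁻¹ * b⁻¹ * a) := congrArg (a * ·) (hp.special hs)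
  calc mu a b = a * (b⁻¹ * a * b) * b⁻¹ := by simp [mu, mul_assoc]
    _ = b⁻¹ * a * b⁻¹ := by rw [h1]; simp [mul_assoc]

theorem Partner.conj_right (hs : IsSpecialRankOnePair A B) {a b : G} (hp : Partner A B a b) :
    b * a * b⁻¹ = a * b⁻¹ * a⁻¹ := by
  have h1 : mu a b = b⁻¹ * a * b⁻¹ := hp.mu_eq hs
  calc b * a * b⁻¹ = b * b * (b⁻¹ * a * b⁻¹) := by simp [mul_assoc]
    _ = b * b * (a * b⁻¹ * a) := by rw [← h1]; rfl
    _ = b * (b * a * b⁻¹) * a := by simp [mul_assoc]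
    _ = a * b⁻¹ * a⁻¹ := ?_
  have h2 := congrArg (fun x => x⁻¹) (hp.special hs)
  simp only [mul_inv_rev, inv_inv, ← mul_assoc] at h2
  have h3 : b * (a⁻¹ * b * a) = a⁻¹ * b := by rw [← h2]; simp [mul_assoc]
  have h4 : b * a * b⁻¹ * a * b = a := by
    have h5 : b * a * (b⁻¹ * a * b) = a := by rw [hp.special hs]; simp [mul_assoc]
    simpa [mul_assoc] using h5
  calc b * (b * a * b⁻¹) * a = b * (b * a * b⁻¹ * a * b) * b⁻¹ := by simp [mul_assoc]
    _ = b * a * b⁻¹ := by rw [h4]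
    _ = (b * a * b⁻¹ * a * b) * b⁻¹ * a⁻¹ := by simp [mul_assoc]
    _ = a * b⁻¹ * a⁻¹ := by rw [h4]

theorem Partner.inv (hs : IsSpecialRankOnePair A B) {a b : G} (hp : Partner A B a b) :
    Partner A B a⁻¹ b⁻¹ := by
  obtain ⟨ha, ha1, hb, hb1, -⟩ := id hp
  refine ⟨inv_mem ha, inv_ne_one.2 ha1, inv_mem hb, inv_ne_one.2 hb1, ?_⟩
  rw [inv_inv, inv_inv]
  by_contra hne
  have hinf := inf_eq_bot_of_mem hs.1
    (conjBy_mem_unipotentSubgroups (mem_unipotentSubgroups_left hs.1) (Subgroup.mem_sup_right hb))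
    (conjBy_mem_unipotentSubgroups (mem_unipotentSubgroups_right hs.1) (Subgroup.mem_sup_left ha))
    hne
  have hx : b * a * b⁻¹ ∈ conjBy A b ⊓ conjBy B a :=
    ⟨conj_mem_conjBy ha, (hp.conj_right hs) ▸ conj_mem_conjBy (inv_mem hb)⟩
  rw [hinf, Subgroup.mem_bot] at hx
  exact ha1 (conj_eq_one_iff.1 hx)

theorem Partner.conjBy_mu_left {a b : G} (hp : Partner A B a b) :
    conjBy A (mu a b) = B := by
  rw [mu, conjBy_mul, conjBy_self_of_mem hp.1, conjBy_mul, hp.2.2.2.2, conjBy_conjBy_inv]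

theorem Partner.conjBy_mu_right (hs : IsSpecialRankOnePair A B) {a b : G} (hp : Partner A B a b) :
    conjBy B (mu a b) = A := by
  have h1 := (hp.inv hs).2.2.2.2
  rw [inv_inv, inv_inv] at h1
  rw [hp.mu_eq hs, conjBy_mul, conjBy_self_of_mem (inv_mem hp.2.2.1), conjBy_mul, ← h1,
    conjBy_inv_conjBy]

theorem Partner.conj_mu_self (hs : IsSpecialRankOnePair A B) {a b : G} (hp : Partner A B a b) :
    mu a b * a * (mu a b)⁻¹ = b⁻¹ := by
  calc mu a b * a * (mu a b)⁻¹ = a * (b⁻¹ * a * b) * a⁻¹ := by simp [mu, mul_assoc]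
    _ = b⁻¹ := by rw [hp.special hs]; simp [mul_assoc]

theorem Partner.conj_mu_partner (hs : IsSpecialRankOnePair A B) {a b : G} (hp : Partner A B a b) :
    mu a b * b * (mu a b)⁻¹ = a⁻¹ := by
  have h1 : a * b * a⁻¹ = b * a⁻¹ * b⁻¹ := by
    have h2 := congrArg (fun x => x⁻¹) (hp.conj_right hs)
    simpa [mul_assoc] using h2.symm
  calc mu a b * b * (mu a b)⁻¹ = b⁻¹ * (a * b * a⁻¹) * b := by
        rw [hp.mu_eq hs]; simp [mul_assoc]
    _ = a⁻¹ := by rw [h1]; simp [mul_assoc]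

/-- Conjugation by `mu a b` carries partner pairs to (reversed) partner pairs. -/
theorem Partner.map_mu (hs : IsSpecialRankOnePair A B) {a b c d : G} (hp : Partner A B a b)
    (hq : Partner A B c d) :
    Partner A B (mu a b * d * (mu a b)⁻¹) (mu a b * c * (mu a b)⁻¹) := by
  set m := mu a b
  refine ⟨?_, fun h => hq.2.2.2.1 (conj_eq_one_iff.1 h), ?_, fun h => hq.2.1 (conj_eq_one_iff.1 h),
    ?_⟩
  · rw [← hp.conjBy_mu_right hs]; exact conj_mem_conjBy hq.2.2.1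
  · rw [← hp.conjBy_mu_left]; exact conj_mem_conjBy hq.1
  · have h1 := congrArg (fun C => conjBy C m) hq.2.2.2.2
    simp only [← conjBy_mul] at h1
    have hl : m * d⁻¹ = (m * d * m⁻¹)⁻¹ * m := by simp [mul_assoc]
    have hr : m * c⁻¹ = (m * c * m⁻¹)⁻¹ * m := by simp [mul_assoc]
    rw [hl, hr, conjBy_mul, conjBy_mul, hp.conjBy_mu_left, hp.conjBy_mu_right hs] at h1
    exact h1.symm

/-- The action of `mu a b` on the points `conjBy B x`. -/
theorem Partner.mu_point (hs : IsSpecialRankOnePair A B) {a b c d : G} (hp : Partner A B a b)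
    (hq : Partner A B c d) :
    conjBy (conjBy B c) (mu a b) = conjBy B (mu a b * d * (mu a b)⁻¹) := by
  have h1 := (hq.inv hs).2.2.2.2
  rw [inv_inv, inv_inv] at h1
  rw [← h1, ← conjBy_mul]
  conv_lhs => rw [show mu a b * d = mu a b * d * (mu a b)⁻¹ * mu a b by simp [mul_assoc]]
  rw [conjBy_mul, hp.conjBy_mu_left]

/-- The Hua identity. With `a, b` fixed and `f x = m (partner x) m⁻¹`, `m = mu a b`:
`f (a⁻¹ * f d) = a * f (a * d)`. -/
theorem Partner.hua (hs : IsSpecialRankOnePair A B) {a b d d' e e' c' : G} (hp : Partner A B a b)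
    (hd : Partner A B d d') (he : Partner A B (a * d) e')
    (hc : Partner A B (a⁻¹ * (mu a b * d' * (mu a b)⁻¹)) c')
    (hee : e = mu a b * e' * (mu a b)⁻¹) :
    mu a b * c' * (mu a b)⁻¹ = a * e := by
  subst hee
  set m := mu a b with hm
  apply conjBy_right_injOn hs.1 (hp.map_mu hs hc).1 (mul_mem hp.1 (hp.map_mu hs he).1)
  simp only
  rw [← hp.mu_point hs hc, conjBy_mul _ a, ← hp.mu_point hs he, conjBy_mul _ a⁻¹,
    ← hp.mu_point hs hd, ← hm]
  simp only [← conjBy_mul]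
  congr 1
  have h1 : m * a * m⁻¹ = b⁻¹ := hp.conj_mu_self hs
  have h2 : a * (m * a * m⁻¹) * a = m := by rw [h1]; rfl
  calc m * (a⁻¹ * (m * d)) = a * (m * a * m⁻¹) * a * (a⁻¹ * (m * d)) := by rw [h2]
    _ = a * (m * (a * d)) := by simp [mul_assoc]

/-- In a special rank one group, `partner (x ^ n) ^ n = partner x` whenever `x ^ n ≠ 1`. -/
theorem partner_pow (hs : IsSpecialRankOnePair A B) :
    ∀ (n : ℕ) {x b : G}, x ∈ A → Partner A B (x ^ n) b → Partner A B x (b ^ n) := by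
  intro n
  induction n with
  | zero => intro x b _ hb; exact absurd (pow_zero x) hb.2.1
  | succ n ih =>
    intro a d ha hd
    have ha1 : a ≠ 1 := fun h => hd.2.1 (by rw [h, one_pow])
    obtain ⟨b, hp⟩ := exists_partner hs.1 ha ha1
    suffices hdb : d ^ (n + 1) = b by rwa [hdb]
    set m := mu a b with hm
    rcases eq_or_ne (a ^ n) 1 with han | han
    · rw [pow_succ', han, mul_one] at hd
      obtain rfl := hd.right_unique hs.1 hp
      have hdn : d⁻¹ ^ n = 1 := by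
        rw [← hp.conj_mu_self hs, conj_pow, han]; simp
      rw [inv_pow, inv_eq_one] at hdn
      rw [pow_succ', hdn, mul_one]
    · obtain ⟨d₀, hd₀⟩ := exists_partner hs.1 (pow_mem ha n) han
      have hdn : d₀ ^ n = b := (ih ha hd₀).right_unique hs.1 hp
      set e₁ := m * d₀ * m⁻¹ with he₁
      have he₁A : e₁ ∈ A := (hp.map_mu hs hd₀).1
      have he₁n : e₁ ^ n = a⁻¹ := by
        rw [he₁, conj_pow, hdn]; exact hp.conj_mu_partner hs
      have hc1 : a⁻¹ * e₁ = e₁ ^ (n + 1) := by rw [← he₁n, pow_succ]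
      have hc1ne : a⁻¹ * e₁ ≠ 1 := by
        intro h
        rw [inv_mul_eq_one] at h
        apply hd.2.1
        have hne : (a ^ (n + 1)) = 1 := by
          have h' : a ^ n = a⁻¹ := by rw [← he₁n, h]
          rw [pow_succ, h', inv_mul_cancel]
        exact hne
      obtain ⟨c', hc'⟩ := exists_partner hs.1 (mul_mem (inv_mem ha) he₁A) hc1ne
      have hda : Partner A B (a * a ^ n) d := by rwa [← pow_succ']
      have hhua := hp.hua hs hd₀ hda hc' (e := m * d * m⁻¹) rfl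
      -- apply the induction hypothesis to `c₁⁻¹ = (e₁⁻¹) ^ (n + 1)`
      have hpow : ((a⁻¹ * e₁)⁻¹) ^ n = a ^ (n + 1) := by
        rw [hc1, ← inv_pow, ← pow_mul, mul_comm, pow_mul, inv_pow, he₁n, inv_inv]
      have hd2 : Partner A B (((a⁻¹ * e₁)⁻¹) ^ n) d := by rwa [hpow]
      have hn := ih (inv_mem (mul_mem (inv_mem ha) he₁A)) hd2
      have hdc : d ^ n = c'⁻¹ := hn.right_unique hs.1 (hc'.inv hs)
      have h1 : (m * d * m⁻¹) ^ (n + 1) = a⁻¹ := by
        have h2 : (m * d * m⁻¹) ^ n = (m * c' * m⁻¹)⁻¹ := by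
          rw [conj_pow, hdc]; simp [mul_assoc]
        rw [pow_succ', h2, hhua]
        simp [mul_assoc]
      rw [conj_pow, ← hp.conj_mu_partner hs] at h1
      exact mul_left_cancel (mul_right_cancel h1)

theorem elementaryAbelian_or_torsionFree (hs : IsSpecialRankOnePair A B)
    (hA : IsMulCommutative A) :
    (∃ p : ℕ, p.Prime ∧ ∀ a ∈ A, a ^ p = 1) ∨ ∀ a ∈ A, a ≠ 1 → ¬ IsOfFinOrder a := by
  rcases Classical.em (∀ a ∈ A, a ≠ 1 → ¬ IsOfFinOrder a) with h | h
  · exact Or.inr h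
  left
  push Not at h
  obtain ⟨a₀, ha₀, ha₀1, hfin⟩ := h
  obtain ⟨p, hp, hdvd⟩ := Nat.exists_prime_and_dvd (n := orderOf a₀) (mt orderOf_eq_one_iff.1 ha₀1)
  set a := a₀ ^ (orderOf a₀ / p) with ha
  have hpa : orderOf a = p := by
    rw [ha, orderOf_pow_of_dvd (Nat.div_pos (Nat.le_of_dvd hfin.orderOf_pos hdvd) hp.pos).ne'
      (Nat.div_dvd_of_dvd hdvd), Nat.div_div_self hdvd hfin.orderOf_pos.ne']
  have haA : a ∈ A := pow_mem ha₀ _
  refine ⟨p, hp, fun x hx => ?_⟩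
  by_contra hxp
  have hcomm : Commute a x := congrArg Subtype.val (hA.is_comm.comm ⟨a, haA⟩ ⟨x, hx⟩)
  have hax : (a * x) ^ p = x ^ p := by
    rw [hcomm.mul_pow, ← hpa, pow_orderOf_eq_one, one_mul]
  obtain ⟨d, hd⟩ := exists_partner hs.1 (pow_mem hx p) hxp
  have h1 := partner_pow hs p hx hd
  have h2 := partner_pow hs p (mul_mem haA hx) (hax.symm ▸ hd)
  have h3 := h1.left_unique hs.1 h2
  have h4 : a = 1 := by simpa using h3
  rw [h4, orderOf_one] at hpa
  exact hp.one_lt.ne hpa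

theorem divisible (hs : IsSpecialRankOnePair A B) (hA : ∀ a ∈ A, a ≠ 1 → ¬ IsOfFinOrder a)
    {c : G} (hc : c ∈ A) {n : ℕ} (hn : 0 < n) : ∃ e ∈ A, e ^ n = c := by
  rcases eq_or_ne c 1 with rfl | hc1
  · exact ⟨1, one_mem _, one_pow _⟩
  obtain ⟨b, hp⟩ := exists_partner hs.1 hc hc1
  set m := mu c b
  -- `c⁻¹ = m b m⁻¹`
  have hcn : c ^ n ≠ 1 := fun h => hA c hc hc1 (isOfFinOrder_iff_pow_eq_one.2 ⟨n, hn, h⟩)
  obtain ⟨d, hd⟩ := exists_partner hs.1 (pow_mem hc n) hcn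
  have hdn : d ^ n = b := (partner_pow hs n hc hd).right_unique hs.1 hp
  refine ⟨(m * d * m⁻¹)⁻¹, inv_mem (hp.map_mu hs hd).1, ?_⟩
  rw [inv_pow, conj_pow, hdn, hp.conj_mu_partner hs, inv_inv]

end Cfsg.Agent.Lib.RootSubgroups.RankOne
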