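import Mathlib
import Cfsg.Prelude.Def_RootSubgroups
import Cfsg.Agent.Lib.RootSubgroups.RankOneNormal
import Cfsg.Agent.Lib.RootSubgroups.Special

/-!
Rank one groups with a quadratic module.
-/

set_option autoImplicit false

namespace Cfsg.Agent.Lib.RootSubgroups.RankOne

open Cfsg Cfsg.Agent.Lib.RootSubgroups

/-- The ring computation behind "quadratic implies special". -/
theorem quadratic_ring_identity {R : Type*} [Ring R] {α β γ : R} (hα : α * α = 0) (hβ : β * β = 0)
    (hγ : γ = (1 + α) * (1 - β) * α * (1 + β) * (1 - α)) (hl : β * γ = 0) (hr : γ * β = 0) :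
    (γ + β) * α = 0 ∧ α * (γ + β) = 0 ∧ γ = α - α * β * α - β * α * β := by
  have hα' : ∀ x, α * (α * x) = 0 := fun x => by rw [← mul_assoc, hα, zero_mul]
  have hβ' : ∀ x, β * (β * x) = 0 := fun x => by rw [← mul_assoc, hβ, zero_mul]
  have e : γ = α + α * β - α * β * α - β * α - β * α * β + β * α * β * α - α * β * α
      - α * β * α * β + α * β * α * β * α := by
    rw [hγ]
    simp only [mul_add, add_mul, mul_sub, sub_mul, one_mul, mul_one, mul_assoc, hα, hβ, hα', hβ',
      mul_zero, zero_mul, sub_zero, zero_sub, add_zero, zero_add]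
    abel
  have l : β * α + β * α * β - 2 • (β * α * β * α) - β * α * β * α * β
      + β * α * β * α * β * α = 0 := by
    rw [← hl, e]
    simp only [two_nsmul, mul_add, add_mul, mul_sub, sub_mul, mul_assoc, hα, hβ, hα', hβ',
      mul_zero, zero_mul, sub_zero, zero_sub, add_zero, zero_add]
    abel
  have r : α * β - β * α * β - 2 • (α * β * α * β) + β * α * β * α * β
      + α * β * α * β * α * β = 0 := by
    rw [← hr, e]
    simp only [two_nsmul, mul_add, add_mul, mul_sub, sub_mul, mul_assoc, hα, hβ, hα', hβ',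
      mul_zero, zero_mul, sub_zero, zero_sub, add_zero, zero_add]
    abel
  -- the products `v = β α`, `u = α β` are idempotents
  have l1 : β * α * β * α - β * α * β * α * β * α = 0 := by
    have h := congrArg (· * α) l
    simp only [two_nsmul, add_mul, sub_mul, mul_assoc, hα, hα', mul_zero, zero_mul, sub_zero,
      zero_sub, add_zero, zero_add] at h
    simpa only [sub_eq_add_neg, mul_assoc, add_comm] using h
  have r1 : α * β * α * β * α * β - α * β * α * β = 0 := by
    have h := congrArg (α * ·) r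
    simp only [two_nsmul, mul_add, mul_sub, mul_assoc, hα, hα', mul_zero, zero_mul, sub_zero,
      zero_sub, add_zero, zero_add] at h
    simpa only [sub_eq_add_neg, mul_assoc, add_comm] using h
  have l2 : β * α * β - β * α * β * α * β = 0 := by
    have h := congrArg (· * β) l
    have h3 : β * α * β * α * β * α * β = β * α * β * α * β := by
      rw [← sub_eq_zero.1 l1]
    simp only [two_nsmul, add_mul, sub_mul, zero_mul] at h
    rw [h3, show β * α * β * β = 0 by simp [mul_assoc, hβ],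
      show β * α * β * α * β * β = 0 by simp [mul_assoc, hβ]] at h
    rw [← h]; abel
  have v : β * α * β * α = β * α := by
    have h := l
    rw [← sub_eq_zero.1 l1] at h
    have h2 : β * α + (β * α * β - β * α * β * α * β) - β * α * β * α = 0 := by
      rw [← h]; abel
    rw [l2, add_zero, sub_eq_zero] at h2
    exact h2.symm
  have u : α * β * α * β = α * β := by
    have h := r
    rw [sub_eq_zero.1 r1] at h
    have h2 : α * β - (β * α * β - β * α * β * α * β) - α * β * α * β = 0 := by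
      rw [← h]; abel
    rw [l2, sub_zero, sub_eq_zero] at h2
    exact h2.symm
  have g : γ = α - α * β * α - β * α * β := by
    rw [e, v, u]
    abel
  refine ⟨?_, ?_, g⟩
  · rw [g, add_mul, sub_mul, sub_mul, v]
    simp only [mul_assoc, hα, mul_zero, sub_zero, zero_sub]
    abel
  · rw [g, mul_add, mul_sub, mul_sub,
      show α * (β * α * β) = α * β * α * β by simp [mul_assoc], u]
    simp only [mul_assoc, hα', hα, zero_sub, sub_zero]
    abel

/-- The representation on an additive group. -/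
def actHom (X : Type*) [Group X] (N : Type*) [AddCommGroup N] [DistribMulAction X N] :
    X →* AddMonoid.End N :=
  DistribMulAction.toAddMonoidEnd X N

variable {X : Type*} [Group X] {A B : Subgroup X} {N : Type*} [AddCommGroup N]
  [DistribMulAction X N]

theorem actHom_apply (x : X) (n : N) : actHom X N x n = x • n := rfl

/-- If an element of `A#` acts trivially, then everything is quadratic. -/
theorem quadratic_all_of_sup (hq : ∀ a ∈ A, ∀ a' ∈ A, ∀ n : N, a' • (a • n - n) = a • n - n)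
    (hK : (actHom X N).ker ⊔ A = ⊤) : ∀ x y : X, ∀ n : N, y • (x • n - n) = x • n - n := by
  have hrep : ∀ x : X, ∃ a ∈ A, ∀ n : N, x • n = a • n := by
    intro x
    have hx : x ∈ (actHom X N).ker ⊔ A := hK ▸ Subgroup.mem_top x
    obtain ⟨k, hk, a, ha, rfl⟩ := Subgroup.mem_sup_of_normal_left.1 hx
    refine ⟨a, ha, fun n => ?_⟩
    have h1 := congrArg (fun f : AddMonoid.End N => f (a • n)) (MonoidHom.mem_ker.1 hk)
    rw [mul_smul]
    exact h1
  intro x y n
  obtain ⟨a, ha, hx⟩ := hrep x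
  obtain ⟨a', ha', hy⟩ := hrep y
  rw [hx, hy]
  exact hq a ha a' ha' n

theorem ker_central (h : IsRankOneGroup X A B)
    (hq : ∀ a ∈ A, ∀ a' ∈ A, ∀ n : N, a' • (a • n - n) = a • n - n)
    (hX : ∃ x y : X, ∃ n : N, y • (x • n - n) ≠ x • n - n) :
    (actHom X N).ker ≤ Subgroup.center X := by
  rcases normal_sup_or_central h (MonoidHom.normal_ker (actHom X N)) with h1 | h1
  · obtain ⟨x, y, n, hne⟩ := hX
    exact absurd (quadratic_all_of_sup hq h1 x y n) hne
  · exact h1

theorem quadratic_conj {x : X} (hq : ∀ a ∈ A, ∀ a' ∈ A, ∀ n : N, a' • (a • n - n) = a • n - n) :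
    ∀ b ∈ conjBy A x, ∀ b' ∈ conjBy A x, ∀ n : N, b' • (b • n - n) = b • n - n := by
  rintro _ ⟨a, ha, rfl⟩ _ ⟨a', ha', rfl⟩ n
  have h1 := congrArg (x • ·) (hq a ha a' ha' (x⁻¹ • n))
  simpa [mul_smul, smul_sub] using h1

theorem sub_one_mul_sub_one (hq : ∀ a ∈ A, ∀ a' ∈ A, ∀ n : N, a' • (a • n - n) = a • n - n)
    {a a' : X} (ha : a ∈ A) (ha' : a' ∈ A) :
    (actHom X N a' - 1) * (actHom X N a - 1) = 0 := by
  refine DFunLike.ext _ _ fun n => ?_
  show a' • (a • n - n) - (a • n - n) = 0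
  rw [hq a ha a' ha' n, sub_self]

/-- The data produced by the ring identity at a partner pair. -/
theorem partner_identity (h : IsRankOneGroup X A B)
    (hq : ∀ a ∈ A, ∀ a' ∈ A, ∀ n : N, a' • (a • n - n) = a • n - n)
    (hX : ∃ x y : X, ∃ n : N, y • (x • n - n) ≠ x • n - n) {a b : X} (hp : Partner A B a b) :
    b⁻¹ * a * b = a⁻¹ * b⁻¹ * a ∧
      (actHom X N a - 1) + (actHom X N b - 1) =
        (actHom X N a - 1) * (actHom X N b - 1) * (actHom X N a - 1)
          + (actHom X N b - 1) * (actHom X N a - 1) * (actHom X N b - 1) := by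
  obtain ⟨ha, ha1, hb, hb1, he⟩ := hp
  have hBA : conjBy A (a * b⁻¹) = B := by rw [conjBy_mul, he, conjBy_conjBy_inv]
  have hqB : ∀ b ∈ B, ∀ b' ∈ B, ∀ n : N, b' • (b • n - n) = b • n - n := by
    rw [← hBA]; exact quadratic_conj hq
  set b₁ := (a * b⁻¹) * a * (a * b⁻¹)⁻¹ with hb₁
  have hb₁B : b₁ ∈ B := hBA ▸ conj_mem_conjBy ha
  set ρ := actHom X N with hρ
  set α := ρ a - 1 with hα
  set β := ρ b - 1 with hβ
  set γ := ρ b₁ - 1 with hγ
  have hαα : α * α = 0 := sub_one_mul_sub_one hq ha ha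
  have hββ : β * β = 0 := sub_one_mul_sub_one hqB hb hb
  have hinv : ∀ {c : X}, (ρ c - 1) * (ρ c - 1) = 0 → ρ c⁻¹ = 1 - (ρ c - 1) := by
    intro c hc
    have h2 : ρ c⁻¹ * ρ c = 1 := by rw [← map_mul, inv_mul_cancel, map_one]
    have h3 : ρ c * (1 - (ρ c - 1)) = 1 - (ρ c - 1) * (ρ c - 1) := by noncomm_ring
    rw [hc, sub_zero] at h3
    calc ρ c⁻¹ = ρ c⁻¹ * (ρ c * (1 - (ρ c - 1))) := by rw [h3, mul_one]
      _ = 1 - (ρ c - 1) := by rw [← mul_assoc, h2, one_mul]
  have hγe : γ = (1 + α) * (1 - β) * α * (1 + β) * (1 - α) := by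
    have e1 : ρ (a * b⁻¹) = (1 + α) * (1 - β) := by
      rw [map_mul, hinv hββ, hα]; congr 1; abel
    have e2 : ρ (a * b⁻¹)⁻¹ = (1 + β) * (1 - α) := by
      rw [mul_inv_rev, inv_inv, map_mul, hinv hαα, hβ]; congr 1; abel
    have e3 : ρ (a * b⁻¹) * ρ (a * b⁻¹)⁻¹ = 1 := by rw [← map_mul, mul_inv_cancel, map_one]
    calc γ = ρ (a * b⁻¹) * α * ρ (a * b⁻¹)⁻¹ := by
          rw [hγ, hb₁, map_mul, map_mul, hα, mul_sub, sub_mul, mul_one, e3]
      _ = _ := by rw [e1, e2]; simp [mul_assoc]
  have hl : β * γ = 0 := sub_one_mul_sub_one hqB hb₁B hb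
  have hr : γ * β = 0 := sub_one_mul_sub_one hqB hb hb₁B
  obtain ⟨h1, h2, hg⟩ := quadratic_ring_identity hαα hββ hγe hl hr
  have hzρ : ρ (b₁ * b) = 1 + (γ + β) := by
    have : ρ b₁ * ρ b = 1 + (γ + β) + γ * β := by rw [hγ, hβ]; noncomm_ring
    rw [map_mul, this, hr, add_zero]
  have hcomm : ρ (b₁ * b) * ρ a = ρ a * ρ (b₁ * b) := by
    have hra : ρ a = 1 + α := by rw [hα]; abel
    have l' : (1 + (γ + β)) * (1 + α) = 1 + α + (γ + β) + (γ + β) * α := by noncomm_ring
    have r' : (1 + α) * (1 + (γ + β)) = 1 + α + (γ + β) + α * (γ + β) := by noncomm_ring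
    rw [hzρ, hra, l', r', h1, h2]
  have hker := ker_central h hq hX
  have hz1 : b₁ * b = 1 := by
    set z := b₁ * b with hz
    have hzB : z ∈ B := mul_mem hb₁B hb
    refine eq_one_of_conjBy_eq (RankOne.symm h.2) hzB ?_
    have hk : (z * a * z⁻¹) * a⁻¹ ∈ ρ.ker := by
      rw [MonoidHom.mem_ker, map_mul, map_mul, map_mul, hcomm, mul_assoc (ρ a), ← map_mul,
        mul_inv_cancel, map_one, mul_one, ← map_mul, mul_inv_cancel, map_one]
    have hc := hker hk
    set c := (z * a * z⁻¹) * a⁻¹ with hcdef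
    have hza : z * a * z⁻¹ = c * a := by simp [hcdef]
    have hfix : conjBy (conjBy A z) a = conjBy A z := by
      have h3 : conjBy (conjBy A z) (c * a) = conjBy A z := by
        rw [← hza, ← conjBy_mul, inv_mul_cancel_right, conjBy_mul, conjBy_self_of_mem ha]
      rw [conjBy_mul, conjBy_eq_iff] at h3
      rw [h3, conjBy_self_of_mem_normalizer (Subgroup.center_le_normalizer _ (inv_mem hc))]
    exact eq_left_of_fixed h.2
      (conjBy_mem_unipotentSubgroups (mem_unipotentSubgroups_left h.2)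
        (Subgroup.mem_sup_right hzB)) ha ha1 hfix
  refine ⟨?_, ?_⟩
  · rw [mul_eq_one_iff_eq_inv, hb₁] at hz1
    calc b⁻¹ * a * b = a⁻¹ * ((a * b⁻¹) * a * (a * b⁻¹)⁻¹) * a := by simp [mul_assoc]
      _ = a⁻¹ * b⁻¹ * a := by rw [hz1]
  · have h3 : γ + β = 0 := by
      have := hzρ
      rw [hz1, map_one] at this
      simpa using this.symm
    rw [hg] at h3
    rw [← sub_eq_zero, ← h3]
    abel

end Cfsg.Agent.Lib.RootSubgroups.RankOne
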