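import Mathlib
import Cfsg.Prelude.Def_RootSubgroups
import Cfsg.Agent.Lib.RootSubgroups.Cycle
import Cfsg.Agent.Lib.RootSubgroups.Quadratic

/-!
The key lemma on lines: if `C` is a line partner of `A`, `B` a rank one partner of `A` with
`⁅C, B⁆ ∈ S`, then `⁅⁅C, B⁆, A⁆ = C`; every line through `A` has such a member.
-/

set_option autoImplicit false

namespace Cfsg.Agent.Lib.RootSubgroups.RootSet

open Cfsg Cfsg.Agent.Lib.RootSubgroups
open scoped commutatorElement

variable {G : Type*} [Group G] {S : Set (Subgroup G)} {A B C D E : Subgroup G}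

theorem inf_commutator_left (hS : IsRootSubgroupSet S) (h : RootCommutatorCase S A B) {x : G}
    (hx : x ∈ A) (hxK : x ∈ ⁅A, B⁆) : x = 1 := by
  by_contra hx1
  apply commCase_not_commute hS h
  rw [← h.2.2.1 x hx hx1, Subgroup.closure_eq_bot_iff]
  rintro _ ⟨b, hb, rfl⟩
  simp [commCase_comm_right h hxK hb, mul_assoc]

theorem inf_commutator_right (hS : IsRootSubgroupSet S) (h : RootCommutatorCase S A B) {x : G}
    (hx : x ∈ B) (hxK : x ∈ ⁅A, B⁆) : x = 1 :=
  inf_commutator_left hS (commCase_symm h) hx (by rwa [Subgroup.commutator_comm])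

theorem line_decomp (h : RootCommutatorCase S A B) {x : G} (hx : x ∈ A ⊔ ⁅A, B⁆) :
    ∃ a ∈ A, ∃ c ∈ ⁅A, B⁆, a * c = x := by
  rw [← SetLike.mem_coe, Subgroup.coe_mul_of_left_le_normalizer_right A ⁅A, B⁆
    (Subgroup.normalizer_commutator_ge_left A B)] at hx
  exact Set.mem_mul.1 hx

/-- `b ↦ ⁅a, b⁆` is onto the commutator. -/
theorem exists_commutator_eq (hS : IsRootSubgroupSet S) (h : RootCommutatorCase S A B) {a : G}
    (ha : a ∈ A) (ha1 : a ≠ 1) {c : G} (hc : c ∈ ⁅A, B⁆) : ∃ b ∈ B, ⁅a, b⁆ = c := by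
  obtain ⟨b, hb⟩ := commMap_surjective hS h (inv_mem ha) (inv_ne_one.2 ha1) ⟨c, hc⟩
  refine ⟨(b : G)⁻¹, inv_mem b.2, ?_⟩
  have h1 := congrArg Subtype.val hb
  rw [commMap_apply] at h1
  simpa [commutatorElement_def] using h1

theorem exists_conj_translate (hS : IsRootSubgroupSet S) (h : RootCommutatorCase S A B) {a c : G}
    (ha : a ∈ A) (ha1 : a ≠ 1) (hc : c ∈ ⁅A, B⁆) : ∃ b ∈ B, a * c ∈ conjBy A b := by
  obtain ⟨b, hb⟩ := commMap_surjective hS h ha ha1 ⟨c, hc⟩
  refine ⟨(b : G)⁻¹, inv_mem b.2, ?_⟩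
  have h1 : c = a⁻¹ * (b : G)⁻¹ * a * b := by rw [← commMap_apply hS h ha b, hb]
  rw [mem_conjBy, h1]
  simpa [mul_assoc] using ha

theorem translate_root (hS : IsRootSubgroupSet S) (hA : A ∈ S) (h : RootCommutatorCase S A B)
    {a c : G} (ha : a ∈ A) (ha1 : a ≠ 1) (hc : c ∈ ⁅A, B⁆) : a * c ∈ rootElements S := by
  obtain ⟨b, hb, hm⟩ := exists_conj_translate hS h ha ha1 hc
  refine ⟨fun he => ha1 (inf_commutator_left hS h ha ?_), _, hS.conj_mem A hA b, hm⟩
  rw [eq_inv_of_mul_eq_one_left he]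
  exact (⁅A, B⁆ : Subgroup G).inv_mem hc

theorem mem_centralizer_of_comm_all {X : Subgroup G} {z : G} (h : X ≤ Subgroup.centralizer {z}) :
    z ∈ Subgroup.centralizer (X : Set G) :=
  Subgroup.mem_centralizer_iff.2 fun _ hx => Subgroup.mem_centralizer_singleton_iff.1 (h hx)

theorem le_centralizer_singleton {X : Subgroup G} {z : G} (h : ∀ x ∈ X, z * x = x * z) :
    X ≤ Subgroup.centralizer {z} :=
  fun x hx => Subgroup.mem_centralizer_singleton_iff.2 (h x hx).symm

/-- The key lemma: `⁅⁅C, B⁆, A⁆ = C`. -/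
theorem key (hS : IsRootSubgroupSet S) (hA : A ∈ S) (hB : B ∈ S) (hC : C ∈ S)
    (hp : IsRankOnePair A B) (hCi : ¬ IsIsolatedIn (FAdj S) S C) (hAC : ⁅A, C⁆ = ⊥)
    (hroot : ∀ a ∈ A, a ≠ 1 → ∀ c ∈ C, c ≠ 1 → a * c ∈ rootElements S) (hCB : ⁅C, B⁆ ∈ S) :
    ⁅⁅C, B⁆, A⁆ = C := by
  have hc : RootCommutatorCase S C B := commCase_of_commutator_mem hS hC hB hCB
  set Q := ⁅C, B⁆ with hQ
  have hQS : Q ∈ S := hCB
  have commCA : ∀ {c a : G}, c ∈ C → a ∈ A → c * a = a * c := fun hc' ha =>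
    (commute_of_commutator_eq_bot hAC ha hc').symm
  have commQB : ∀ {q b : G}, q ∈ Q → b ∈ B → q * b = b * q := fun hq hb =>
    commCase_comm_right hc hq hb
  have commQC : ∀ {q c : G}, q ∈ Q → c ∈ C → q * c = c * q := fun hq hc' =>
    commCase_comm_left hc hq hc'
  obtain ⟨b₀, hb₀, hb₀1⟩ := exists_mem_ne_one_of_ne_bot (RankOne.right_ne_bot hp)
  obtain ⟨a₀, ha₀, ha₀1⟩ := exists_mem_ne_one_of_ne_bot (RankOne.left_ne_bot hp)
  -- `Q` and `A` are in the commutator case
  have hQA : RootCommutatorCase S Q A := by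
    rcases hS.pair Q hQS A hA with h | h | h
    · exfalso
      obtain ⟨q, hq, hq1⟩ := exists_mem_ne_one_of_ne_bot (hS.ne_bot Q hQS)
      refine not_comm_of_line hS hB hA (RankOne.symm hp) (commCase_symm hc)
        (by rwa [Subgroup.commutator_comm]) hq1 fun a ha => ?_
      exact commute_of_commutator_eq_bot h hq ha
    · exfalso
      obtain ⟨c, hc', hc1⟩ := exists_mem_ne_one_of_ne_bot (hS.ne_bot C hC)
      refine no_central_translate hS hA hQS (RankOne.symm h) (z := c)
        (mem_centralizer_of_comm_all (sup_le (le_centralizer_singleton fun a ha => commCA hc' ha)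
          (le_centralizer_singleton fun q hq => (commQC hq hc').symm))) hc1 ha₀ ha₀1 ?_
      rw [commCA hc' ha₀]
      exact hroot a₀ ha₀ ha₀1 c hc' hc1
    · exact h
  set P := ⁅Q, A⁆ with hP
  have hPS : P ∈ S := hQA.1
  have commPA : ∀ {p a : G}, p ∈ P → a ∈ A → p * a = a * p := fun hp' ha =>
    commCase_comm_right hQA hp' ha
  have commPQ : ∀ {p q : G}, p ∈ P → q ∈ Q → p * q = q * p := fun hp' hq =>
    commCase_comm_left hQA hp' hq
  -- the conjugates of `B` under `A`
  have hBm := RankOne.mem_unipotentSubgroups_right hp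
  have hgenA : ∀ {a : G}, a ∈ A → a ≠ 1 → conjBy B a ⊔ B = A ⊔ B := by
    intro a ha ha1
    exact (RankOne.pair_of_mem hp
      (RankOne.conjBy_mem_unipotentSubgroups hBm (Subgroup.mem_sup_left ha)) hBm
      fun h => ha1 (RankOne.eq_one_of_conjBy_eq hp ha h)).2
  -- no element of `Q` centralizes two points
  have hQpoint : ∀ {q a : G}, q ∈ Q → q ≠ 1 → a ∈ A → a ≠ 1 →
      (∀ b ∈ conjBy B a, q * b = b * q) → False := by
    intro q a hq hq1 ha ha1 hcomm
    have h1 : A ⊔ B ≤ Subgroup.centralizer {q} := by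
      rw [← hgenA ha ha1]
      exact sup_le (le_centralizer_singleton hcomm) (le_centralizer_singleton fun b hb => commQB hq hb)
    apply commCase_not_commute hS hQA
    rw [← hQA.2.2.1 q hq hq1, Subgroup.closure_eq_bot_iff]
    rintro _ ⟨x, hx, rfl⟩
    have h2 := Subgroup.mem_centralizer_singleton_iff.1 (h1 (Subgroup.mem_sup_left hx))
    simp [h2.symm, mul_assoc]
  have hMle : ∀ {a : G}, a ∈ A → conjBy Q a ≤ Q ⊔ P := fun ha => conjBy_left_le_line hQA ha
  -- `P` and `B` are in the commutator case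
  have hPB : RootCommutatorCase S P B := by
    rcases hS.pair P hPS B hB with h | h | h
    · exfalso
      obtain ⟨q, hq, hq1⟩ := exists_mem_ne_one_of_ne_bot (hS.ne_bot Q hQS)
      refine hQpoint hq hq1 (inv_mem ha₀) (inv_ne_one.2 ha₀1) ?_
      rintro _ ⟨b, hb, rfl⟩
      have h1 : a₀ * q * a₀⁻¹ ∈ Q ⊔ P := hMle ha₀ (conj_mem_conjBy hq)
      have h2 : Q ⊔ P ≤ Subgroup.centralizer {b} :=
        sup_le (le_centralizer_singleton fun x hx => (commQB hx hb).symm)
          (le_centralizer_singleton fun x hx => (commute_of_commutator_eq_bot h hx hb).symm)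
      have h3 := Subgroup.mem_centralizer_singleton_iff.1 (h2 h1)
      have h4 := congrArg (fun y => a₀⁻¹ * y * a₀) h3
      simpa [mul_assoc, MulAut.conj_apply] using h4
    · exfalso
      obtain ⟨q, hq, hq1⟩ := exists_mem_ne_one_of_ne_bot (hS.ne_bot Q hQS)
      obtain ⟨p, hp', hp1⟩ := exists_mem_ne_one_of_ne_bot (hS.ne_bot P hPS)
      refine no_central_translate hS hPS hB h (z := q)
        (mem_centralizer_of_comm_all (sup_le (le_centralizer_singleton fun x hx => (commPQ hx hq).symm)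
          (le_centralizer_singleton fun x hx => commQB hq hx))) hq1 hp' hp1 ?_
      exact translate_root hS hQS hQA hq hq1 hp'
    · exact h
  -- some non-identity element of `⁅P, B⁆` lies in `Q`
  obtain ⟨r, hrR, hrQ, hr1⟩ : ∃ r, r ∈ ⁅P, B⁆ ∧ r ∈ Q ∧ r ≠ 1 := by
    obtain ⟨a', ha', ha'1, he⟩ := hp.cond_right b₀ hb₀ hb₀1
    have hCb : ⁅conjBy C b₀, A⁆ = P := by
      refine le_antisymm (Subgroup.commutator_le.2 ?_) (Subgroup.commutator_le.2 ?_)
      · rintro _ ⟨c, hc', rfl⟩ a ha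
        have hq : ⁅b₀, c⁆ ∈ Q := by
          rw [hQ, Subgroup.commutator_comm]; exact Subgroup.commutator_mem_commutator hb₀ hc'
        have e : ⁅b₀ * c * b₀⁻¹, a⁆ = ⁅b₀, c⁆ * ⁅c, a⁆ * (⁅b₀, c⁆)⁻¹ * ⁅⁅b₀, c⁆, a⁆ := by
          simp [commutatorElement_def, mul_assoc]
        show ⁅b₀ * c * b₀⁻¹, a⁆ ∈ P
        rw [e, commutatorElement_eq_one_iff_mul_comm.2 (commCA hc' ha), mul_one, mul_inv_cancel,
          one_mul]
        exact Subgroup.commutator_mem_commutator hq ha
      · intro q hq a ha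
        obtain ⟨c, hc', hcq⟩ := exists_commutator_eq hS (commCase_symm hc) hb₀ hb₀1
          (c := q) (by rwa [Subgroup.commutator_comm, ← hQ])
        have e : ⁅b₀ * c * b₀⁻¹, a⁆ = ⁅b₀, c⁆ * ⁅c, a⁆ * (⁅b₀, c⁆)⁻¹ * ⁅⁅b₀, c⁆, a⁆ := by
          simp [commutatorElement_def, mul_assoc]
        rw [commutatorElement_eq_one_iff_mul_comm.2 (commCA hc' ha), mul_one, mul_inv_cancel,
          one_mul, hcq] at e
        rw [← e]
        exact Subgroup.commutator_mem_commutator (conj_mem_conjBy hc') ha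
    have hM : conjBy Q a'⁻¹ = conjBy P b₀⁻¹ := by
      rw [← hCb, conjBy_commutator _ _ b₀⁻¹, conjBy_inv_conjBy, ← he, hQ, conjBy_commutator]
      congr 1
      exact conjBy_self_of_mem_normalizer (Subgroup.centralizer_le_normalizer _
        (Subgroup.mem_centralizer_iff.2 fun c hc' => commCA hc' (inv_mem ha')))
    obtain ⟨m, hm, hm1⟩ := exists_mem_ne_one_of_ne_bot (hS.ne_bot _ (hS.conj_mem Q hQS a'⁻¹))
    have hmQP : m ∈ Q ⊔ P := hMle (inv_mem ha') hm
    have hmP : m ∉ P := by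
      intro h
      have h1 := mem_conjBy.1 hm
      rw [inv_inv] at h1
      have h2 : a' * m * a'⁻¹ = m := by rw [← commPA h ha', mul_inv_cancel_right]
      rw [h2] at h1
      exact hm1 (inf_commutator_left hS hQA h1 h)
    obtain ⟨p, hp', r, hr, hpr⟩ :=
      line_decomp hPB (conjBy_left_le_line hPB (inv_mem hb₀) (hM ▸ hm))
    have hr1 : r ≠ 1 := fun h => hmP (by rw [← hpr, h, mul_one]; exact hp')
    have hrQP : r ∈ Q ⊔ P := by
      have : r = p⁻¹ * m := by rw [← hpr, inv_mul_cancel_left]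
      rw [this]
      exact mul_mem (inv_mem (Subgroup.mem_sup_right hp')) hmQP
    have hrP : r ∉ P := fun h => hr1 (inf_commutator_left hS hPB h hr)
    obtain ⟨a₁, ha₁, hra⟩ := mem_line_cases hS hQS hQA hrQP hrP
    rcases eq_or_ne a₁ 1 with rfl | ha₁1
    · exact ⟨r, hr, by simpa using hra, hr1⟩
    · exfalso
      refine hQpoint (q := a₁⁻¹ * r * a₁) (mem_conjBy.1 hra) (fun h => hr1 ?_) (inv_mem ha₁)
        (inv_ne_one.2 ha₁1) ?_
      · have h' := congrArg (fun y => a₁ * y * a₁⁻¹) h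
        simpa [mul_assoc] using h'
      · rintro _ ⟨b, hb, rfl⟩
        have h4 := congrArg (fun y => a₁⁻¹ * y * a₁) (commCase_comm_right hPB hr hb)
        simpa [mul_assoc, MulAut.conj_apply] using h4
  -- compare elements of `C` and `P`
  obtain ⟨c₀, hc₀, hcr⟩ := exists_commutator_eq hS (commCase_symm hc) hb₀ hb₀1
    (c := r) (by rwa [Subgroup.commutator_comm, ← hQ])
  obtain ⟨p₀, hp₀, hpr⟩ := exists_commutator_eq hS (commCase_symm hPB) hb₀ hb₀1
    (c := r) (by rwa [Subgroup.commutator_comm])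
  have hc₀1 : c₀ ≠ 1 := fun h => hr1 (by rw [← hcr, h]; simp [commutatorElement_def])
  set z := c₀ * p₀⁻¹ with hz
  have hzA : ∀ a ∈ A, z * a = a * z := fun a ha =>
    ((Commute.mul_left (commCA hc₀ ha : Commute c₀ a) (commPA (inv_mem hp₀) ha : Commute p₀⁻¹ a))).eq
  have hzQ : ∀ q ∈ Q, z * q = q * z := fun q hq =>
    ((Commute.mul_left ((commQC hq hc₀).symm : Commute c₀ q)
      (commPQ (inv_mem hp₀) hq : Commute p₀⁻¹ q))).eq
  have hzb : z * b₀ = b₀ * z := by
    have h1 : b₀ * c₀ * b₀⁻¹ = r * c₀ := by rw [← hcr]; simp [commutatorElement_def]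
    have h2 : b₀ * p₀ * b₀⁻¹ = r * p₀ := by rw [← hpr]; simp [commutatorElement_def]
    have h3 : b₀ * z * b₀⁻¹ = z := by
      calc b₀ * z * b₀⁻¹ = (b₀ * c₀ * b₀⁻¹) * (b₀ * p₀ * b₀⁻¹)⁻¹ := by simp [hz, mul_assoc]
        _ = r * z * r⁻¹ := by rw [h1, h2]; simp [hz, mul_assoc]
        _ = z := by rw [← hzQ r hrQ, mul_inv_cancel_right]
    exact (mul_inv_eq_iff_eq_mul.1 h3).symm
  have hzX : A ⊔ B ≤ Subgroup.centralizer {z} := by
    have hne : conjBy A b₀ ≠ A := fun h => hb₀1 (RankOne.eq_one_of_conjBy_eq (RankOne.symm hp) hb₀ h)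
    rw [← (RankOne.pair_of_mem hp (RankOne.conjBy_mem_unipotentSubgroups
      (RankOne.mem_unipotentSubgroups_left hp) (Subgroup.mem_sup_right hb₀))
      (RankOne.mem_unipotentSubgroups_left hp) hne).2]
    refine sup_le ?_ (le_centralizer_singleton hzA)
    refine le_centralizer_singleton ?_
    rintro _ ⟨a, ha, rfl⟩
    have cz : Commute z b₀ := hzb
    exact (Commute.mul_right (Commute.mul_right cz (hzA a ha)) (Commute.inv_right cz)).eq
  have hz1 : z = 1 := by
    by_contra hne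
    obtain ⟨q', hq', hm⟩ := exists_conj_translate hS (commCase_symm hQA) ha₀ ha₀1
      (c := p₀) (by rwa [Subgroup.commutator_comm, ← hP])
    have hE' : IsRankOnePair (conjBy A q') B := by
      have h1 := RankOne.conj hp q'
      rwa [conjBy_self_of_mem_normalizer (A := B) (Subgroup.centralizer_le_normalizer _
        (Subgroup.mem_centralizer_iff.2 fun b hb => (commQB hq' hb).symm))] at h1
    have hzE : z ∈ Subgroup.centralizer ((conjBy A q' ⊔ B : Subgroup G) : Set G) := by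
      refine mem_centralizer_of_comm_all (sup_le ?_ (le_sup_right.trans hzX))
      refine le_centralizer_singleton ?_
      rintro _ ⟨a, ha, rfl⟩
      have cz : Commute z q' := hzQ q' hq'
      exact (Commute.mul_right (Commute.mul_right cz (hzA a ha)) (Commute.inv_right cz)).eq
    refine no_central_translate hS (hS.conj_mem A hA q') hB hE' hzE hne hm (fun he => ha₀1 ?_) ?_
    · refine inf_commutator_left hS (commCase_symm hQA) ha₀ ?_
      rw [eq_inv_of_mul_eq_one_left he]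
      exact (⁅A, Q⁆ : Subgroup G).inv_mem (by rwa [Subgroup.commutator_comm, ← hP])
    · have e : z * (a₀ * p₀) = a₀ * c₀ := by
        rw [hz, ← commPA hp₀ ha₀, mul_assoc, inv_mul_cancel_left, commCA hc₀ ha₀]
      rw [e]
      exact hroot a₀ ha₀ ha₀1 c₀ hc₀ hc₀1
  have hceq : c₀ = p₀ := mul_inv_eq_one.1 hz1
  rcases inf_eq_bot_or_eq hS hC hCi hPS with h | h
  · have h1 : c₀ ∈ C ⊓ P := ⟨hc₀, hceq ▸ hp₀⟩
    rw [h, Subgroup.mem_bot] at h1
    exact absurd h1 hc₀1
  · exact h.symm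

/-- A covered subgroup containing two commuting members has a member which is not a rank one
partner of a given member. -/
theorem exists_nonpartner (hD : D ∈ S) {L : Subgroup G}
    (hcov : ∀ x ∈ L, x ≠ 1 → ∃ E ∈ membersIn S L, x ∈ E) (hA : A ∈ membersIn S L)
    (hC : C ∈ membersIn S L) (hint : A ⊓ C = ⊥) (hAC : ⁅A, C⁆ = ⊥) :
    ∃ E ∈ membersIn S L, ¬ IsRankOnePair E D := by
  by_contra hall
  push Not at hall
  have hpA := hall A hA
  have hpC := hall C hC
  obtain ⟨d, hd, hd1⟩ := exists_mem_ne_one_of_ne_bot (RankOne.right_ne_bot hpA)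
  obtain ⟨a, ha, -, hea⟩ := hpA.cond_right d hd hd1
  obtain ⟨c, hc, -, hec⟩ := hpC.cond_right d hd hd1
  rcases eq_or_ne a c with rfl | hne
  · have h1 : a = 1 := by
      have : a ∈ A ⊓ C := ⟨ha, hc⟩
      rwa [hint, Subgroup.mem_bot] at this
    rw [h1, inv_one, conjBy_one] at hea
    have h2 : A = D := by
      rw [← conjBy_inj (g := d⁻¹), ← hea, conjBy_self_of_mem (inv_mem hd)]
    exact hpA.ne h2
  · obtain ⟨E, hE, hmE⟩ := hcov (a * c⁻¹) (mul_mem (hA.2 ha) (inv_mem (hC.2 hc)))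
      fun h => hne (mul_inv_eq_one.1 h)
    have hpE := hall E hE
    have hDm := RankOne.mem_unipotentSubgroups_right hpE
    have hp2 := (RankOne.pair_of_mem hpE
      (RankOne.conjBy_mem_unipotentSubgroups hDm (Subgroup.mem_sup_left hmE)) hDm
      fun h => hne (mul_inv_eq_one.1 (RankOne.eq_one_of_conjBy_eq hpE hmE h))).1
    have hp3 := RankOne.conj hp2 a⁻¹
    rw [← conjBy_mul, inv_mul_cancel_left, hea, hec] at hp3
    refine rankOne_not_commute hp3 ?_
    rw [commutator_conjBy_eq_bot, commutator_eq_bot_comm]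
    exact hAC

theorem line_roots (hp : IsSubgroupPartition (A ⊔ C) (membersIn S (A ⊔ C))) {a c : G} (ha : a ∈ A)
    (hc : c ∈ C) (hne : a * c ≠ 1) : a * c ∈ rootElements S := by
  obtain ⟨E, hE, hm⟩ := hp.2.1 _
    (mul_mem (Subgroup.mem_sup_left ha) (Subgroup.mem_sup_right hc)) hne
  exact ⟨hne, E, hE.1, hm⟩

theorem line_abelian (hS : IsRootSubgroupSet S) (hA : A ∈ S) (hC : C ∈ S) (hAC : ⁅A, C⁆ = ⊥) :
    ∀ x ∈ A ⊔ C, ∀ y ∈ A ⊔ C, x * y = y * x := by
  have h1 : A ≤ Subgroup.centralizer (A : Set G) :=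
    Subgroup.commutator_eq_bot_iff_le_centralizer.1 (commutator_self_eq_bot hS hA)
  have h2 : C ≤ Subgroup.centralizer (C : Set G) :=
    Subgroup.commutator_eq_bot_iff_le_centralizer.1 (commutator_self_eq_bot hS hC)
  have h3 : A ≤ Subgroup.centralizer (C : Set G) :=
    Subgroup.commutator_eq_bot_iff_le_centralizer.1 hAC
  have hle : A ⊔ C ≤ Subgroup.centralizer ((A ⊔ C : Subgroup G) : Set G) :=
    sup_le (Subgroup.le_centralizer_iff.1 (sup_le h1 (Subgroup.le_centralizer_iff.1 h3)))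
      (Subgroup.le_centralizer_iff.1 (sup_le h3 h2))
  exact fun x hx y hy => (Subgroup.mem_centralizer_iff.1 (hle hx) y hy).symm

/-- Some member of a line through `A` gives a cycle with any partner `B` of `A`. -/
theorem exists_cycle (hS : IsRootSubgroupSet S) (hni : ∀ A ∈ S, ¬ IsIsolatedIn (FAdj S) S A)
    (hA : A ∈ S) (hB : B ∈ S) (hp : IsRankOnePair A B) (hC : C ∈ linePartners S A) :
    ∃ M ∈ membersIn S (A ⊔ C), M ∈ linePartners S A ∧ Cycle S M B ⁅M, B⁆ A := by
  obtain ⟨⟨hCS, hne, hAC⟩, hpart⟩ := hC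
  have hint : A ⊓ C = ⊥ := (inf_eq_bot_or_eq hS hA (hni A hA) hCS).resolve_right hne.symm
  obtain ⟨M, hM, hMB⟩ := exists_nonpartner hB hpart.2.1 ⟨hA, le_sup_left⟩ ⟨hCS, le_sup_right⟩ hint hAC
  have hMA : M ≠ A := fun h => hMB (h ▸ hp)
  have hab := line_abelian hS hA hCS hAC
  have hAM : ⁅A, M⁆ = ⊥ := commutator_eq_bot_of_forall_comm fun a ha m hm =>
    hab a (Subgroup.mem_sup_left ha) m (hM.2 hm)
  have hAM1 : A ⊓ M = ⊥ := (inf_eq_bot_or_eq hS hA (hni A hA) hM.1).resolve_right hMA.symm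
  have hroot : ∀ a ∈ A, a ≠ 1 → ∀ m ∈ M, m ≠ 1 → a * m ∈ rootElements S := by
    intro a ha ha1 m hm hm1
    have hne' : a * m ≠ 1 := fun h => ha1 (by
      have h1 : a ∈ A ⊓ M := ⟨ha, by
        rw [eq_inv_of_mul_eq_one_left h]; exact M.inv_mem hm⟩
      rwa [hAM1, Subgroup.mem_bot] at h1)
    obtain ⟨E, hE, hE'⟩ := hpart.2.1 _ (mul_mem (Subgroup.mem_sup_left ha) (hM.2 hm)) hne'
    exact ⟨hne', E, hE.1, hE'⟩
  have hcase : RootCommutatorCase S M B := by
    rcases hS.pair M hM.1 B hB with h | h | h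
    · exfalso
      obtain ⟨a, ha, ha1⟩ := exists_mem_ne_one_of_ne_bot (RankOne.left_ne_bot hp)
      obtain ⟨m, hm, hm1⟩ := exists_mem_ne_one_of_ne_bot (hS.ne_bot M hM.1)
      have hcz : ∀ x ∈ A, m * x = x * m := fun x hx => (commute_of_commutator_eq_bot hAM hx hm).symm
      refine no_central_translate hS hA hB hp (z := m) (mem_centralizer_of_comm_all
        (sup_le (le_centralizer_singleton hcz)
          (le_centralizer_singleton fun b hb => commute_of_commutator_eq_bot h hm hb))) hm1 ha ha1 ?_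
      rw [hcz a ha]
      exact hroot a ha ha1 m hm hm1
    · exact absurd h hMB
    · exact h
  have hk := key hS hA hB hM.1 hp (hni M hM.1) hAM hroot hcase.1
  have hk' : ⁅A, ⁅M, B⁆⁆ = M := by rw [Subgroup.commutator_comm]; exact hk
  refine ⟨M, hM, ?_, cycle_of_mem hS hM.1 hB hcase.1 hA hk'⟩
  have hc2 : RootCommutatorCase S A ⁅M, B⁆ :=
    commCase_of_commutator_mem hS hA hcase.1 (hk'.symm ▸ hM.1)
  refine ⟨⟨hM.1, hMA, hAM⟩, ?_⟩
  have h3 := line_partition hS hA (hni A hA) hc2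
  rwa [hk'] at h3

/-- The rank one group of a cycle is special. -/
theorem Cycle.special {A B C D : Subgroup G} (h : Cycle S A B C D) : IsSpecialRankOnePair B D := by
  refine ⟨h.isRankOnePair, fun b hb hb1 d hd hd1 he => ?_⟩
  set X := B ⊔ D with hX
  set N := A ⊔ C with hN
  letI : CommGroup ↥N := { (inferInstance : Group ↥N) with
    mul_comm := fun x y => Subtype.ext (h.sup_comm_elem x x.2 y y.2) }
  letI : DistribMulAction ↥X (Additive ↥N) :=
    { smul := fun x n => conjEnd N X h.normalize x n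
      one_smul := fun n => by
        show conjEnd N X h.normalize 1 n = n
        rw [map_one]; rfl
      mul_smul := fun x y n => by
        show conjEnd N X h.normalize (x * y) n = _
        rw [map_mul]; rfl
      smul_zero := fun x => map_zero (conjEnd N X h.normalize x)
      smul_add := fun x n m => map_add (conjEnd N X h.normalize x) n m }
  have hsmul : ∀ (x : ↥X) (n : Additive ↥N),
      ((Additive.toMul (x • n) : ↥N) : G) = x * (Additive.toMul n : ↥N) * (x : G)⁻¹ := fun _ _ => rfl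
  have hXgrp : IsRankOneGroup ↥X (B.subgroupOf X) (D.subgroupOf X) := by
    have hmap : ∀ {E : Subgroup G}, E ≤ X → ∀ g : ↥X,
        (conjBy (E.subgroupOf X) g) = (conjBy E (g : G)).subgroupOf X := by
      intro E hE g
      ext y
      rw [mem_conjBy, Subgroup.mem_subgroupOf, Subgroup.mem_subgroupOf, mem_conjBy]
      rfl
    have hcond : ∀ {E F : Subgroup G}, E ≤ X → F ≤ X → RankOneCondition E F →
        RankOneCondition (E.subgroupOf X) (F.subgroupOf X) := by
      intro E F hE hF hc a ha ha1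
      obtain ⟨f, hf, hf1, hef⟩ := hc (a : G) ha (fun h' => ha1 (Subtype.ext h'))
      refine ⟨⟨f, hF hf⟩, hf, fun h' => hf1 (congrArg Subtype.val h'), ?_⟩
      rw [hmap hE, hmap hF]
      exact congrArg (fun Y => Subgroup.subgroupOf Y X) hef
    have hp := h.isRankOnePair
    refine ⟨?_, fun he' => hp.ne ?_, ?_, ?_, hcond le_sup_left le_sup_right hp.cond_left,
      hcond le_sup_right le_sup_left hp.cond_right⟩
    · rw [← Subgroup.subgroupOf_sup le_sup_left le_sup_right, Subgroup.subgroupOf_self]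
    · have h' := congrArg (Subgroup.map X.subtype) he'
      rwa [Subgroup.map_subgroupOf_eq_of_le le_sup_left,
        Subgroup.map_subgroupOf_eq_of_le le_sup_right] at h'
    · haveI := hp.nilpotent_left
      exact Group.nilpotent_of_mulEquiv (Subgroup.subgroupOfEquivOfLe (le_sup_left : B ≤ X)).symm
    · haveI := hp.nilpotent_right
      exact Group.nilpotent_of_mulEquiv (Subgroup.subgroupOfEquivOfLe (le_sup_right : D ≤ X)).symm
  have hq : ∀ a ∈ B.subgroupOf X, ∀ a' ∈ B.subgroupOf X, ∀ n : Additive ↥N,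
      a' • (a • n - n) = a • n - n := by
    intro a ha a' ha' n
    apply Additive.toMul.injective
    apply Subtype.ext
    have hc : ((Additive.toMul (a • n - n) : ↥N) : G) ∈ C := by
      rw [toMul_sub, div_eq_mul_inv, Subgroup.coe_mul, Subgroup.coe_inv, hsmul, ← h.commutator_line,
        Subgroup.commutator_comm]
      exact Subgroup.commutator_mem_commutator (Subgroup.mem_subgroupOf.1 ha) (Additive.toMul n).2
    rw [hsmul, ← h.commBC (Subgroup.mem_subgroupOf.1 ha') hc, mul_inv_cancel_right]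
  have hne : ∃ x y : ↥X, ∃ n : Additive ↥N, y • (x • n - n) ≠ x • n - n := by
    obtain ⟨c, hc, hc1⟩ := exists_mem_ne_one_of_ne_bot (h.rootSet.ne_bot C h.memC)
    obtain ⟨a, ha, hac⟩ := h.surj hb hb1 hc
    refine ⟨⟨b, Subgroup.mem_sup_left hb⟩, ⟨d, Subgroup.mem_sup_right hd⟩,
      Additive.ofMul ⟨a, Subgroup.mem_sup_left ha⟩, fun heq => ?_⟩
    have h1 := congrArg (fun y => ((Additive.toMul y : ↥N) : G)) heq
    simp only [hsmul, toMul_sub, div_eq_mul_inv, Subgroup.coe_mul, Subgroup.coe_inv, toMul_ofMul,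
      hac] at h1
    exact hd1 (commCase_eq_one h.rootSet h.memD
      (not_isolated_of_pair h.memD h.memB (RankOne.symm h.isRankOnePair)) h.right hd hc hc1
      (mul_inv_eq_iff_eq_mul.1 h1))
  have he' : conjBy (B.subgroupOf X) (⟨d, Subgroup.mem_sup_right hd⟩ : ↥X)⁻¹ =
      conjBy (D.subgroupOf X) (⟨b, Subgroup.mem_sup_left hb⟩ : ↥X)⁻¹ := by
    ext y
    rw [mem_conjBy, mem_conjBy, Subgroup.mem_subgroupOf, Subgroup.mem_subgroupOf]
    have := (SetLike.ext_iff.1 he (y : G))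
    rw [mem_conjBy, mem_conjBy] at this
    simpa using this
  have h2 := RankOne.partner_identity hXgrp hq hne
    (a := ⟨b, Subgroup.mem_sup_left hb⟩) (b := ⟨d, Subgroup.mem_sup_right hd⟩)
    ⟨hb, fun h' => hb1 (congrArg Subtype.val h'), hd, fun h' => hd1 (congrArg Subtype.val h'), he'⟩
  exact congrArg Subtype.val h2.1

theorem special_of_line (hS : IsRootSubgroupSet S) (hni : ∀ A ∈ S, ¬ IsIsolatedIn (FAdj S) S A)
    (hA : A ∈ S) (hB : B ∈ S) (hp : IsRankOnePair A B) (hC : C ∈ linePartners S A) :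
    IsSpecialRankOnePair A B := by
  obtain ⟨M, -, -, hcy⟩ := exists_cycle hS hni hA hB hp hC
  exact hcy.symm.special

end Cfsg.Agent.Lib.RootSubgroups.RootSet
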