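import Mathlib
import Cfsg.Prelude.Def_RootSubgroups
import Cfsg.Agent.Lib.RootSubgroups.LineKey
import Cfsg.Agent.Lib.RootSubgroups.Connected

/-!
Lines when no member is isolated: the group moving a line, completion of a pair in the commutator
case to a cycle.
-/

set_option autoImplicit false

namespace Cfsg.Agent.Lib.RootSubgroups.RootSet

open Cfsg Cfsg.Agent.Lib.RootSubgroups
open scoped commutatorElement

variable {G : Type*} [Group G] {S : Set (Subgroup G)} {A B C D M : Subgroup G}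

theorem Cycle.conj (h : Cycle S A B C D) (g : G) :
    Cycle S (conjBy A g) (conjBy B g) (conjBy C g) (conjBy D g) := by
  refine ⟨h.rootSet, h.rootSet.conj_mem _ h.memA g, h.rootSet.conj_mem _ h.memB g,
    h.rootSet.conj_mem _ h.memD g, commCase_conj h.rootSet h.left g, commCase_conj h.rootSet h.right g,
    ?_, ?_⟩
  · rw [← conjBy_commutator, h.comm_left]
  · rw [← conjBy_commutator, h.comm_right]

theorem linePartners_symm (hA : A ∈ S) (h : B ∈ linePartners S A) : A ∈ linePartners S B := by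
  obtain ⟨⟨-, hne, hc⟩, hp⟩ := h
  exact ⟨⟨hA, hne.symm, commutator_eq_bot_comm.1 hc⟩, by rwa [sup_comm]⟩

theorem commutator_mem_linePartners (hS : IsRootSubgroupSet S) (hA : A ∈ S)
    (hAi : ¬ IsIsolatedIn (FAdj S) S A) (h : RootCommutatorCase S A B) :
    ⁅A, B⁆ ∈ linePartners S A :=
  linePartners_symm h.1 (mem_linePartners_commutator hS hA hAi h)

/-- Two members span a line. -/
theorem line_eq (hS : IsRootSubgroupSet S) (hni : ∀ A ∈ S, ¬ IsIsolatedIn (FAdj S) S A)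
    (hA : A ∈ S) (hC : C ∈ linePartners S A) (hM : M ∈ membersIn S (A ⊔ C))
    (hMl : M ∈ linePartners S A) : A ⊔ M = A ⊔ C := by
  obtain ⟨⟨hCS, -, hAC⟩, -⟩ := hC
  obtain ⟨⟨hMS, hMne, -⟩, hp⟩ := hMl
  refine le_antisymm (sup_le le_sup_left hM.2) (sup_le le_sup_left ?_)
  obtain ⟨m, hm, hm1⟩ := exists_mem_ne_one_of_ne_bot (hS.ne_bot M hMS)
  have hnorm : A ≤ Subgroup.normalizer (C : Set G) :=
    (Subgroup.commutator_eq_bot_iff_le_centralizer.1 hAC).trans (Subgroup.centralizer_le_normalizer _)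
  have hm' : m ∈ ((A ⊔ C : Subgroup G) : Set G) := hM.2 hm
  rw [Subgroup.coe_mul_of_left_le_normalizer_right A C hnorm] at hm'
  obtain ⟨a, ha, c, hc, rfl⟩ := Set.mem_mul.1 hm'
  have hint : A ⊓ M = ⊥ := (inf_eq_bot_or_eq hS hA (hni A hA) hMS).resolve_right hMne.symm
  have hc1 : c ≠ 1 := fun h => hm1 (by
    have h1 : a * c ∈ A ⊓ M := ⟨by rw [h, mul_one]; exact ha, hm⟩
    rwa [hint, Subgroup.mem_bot] at h1)
  have hcM : c ∈ A ⊔ M := by
    rw [← inv_mul_cancel_left a c]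
    exact mul_mem (inv_mem (Subgroup.mem_sup_left ha)) (Subgroup.mem_sup_right hm)
  obtain ⟨E, hE, hcE⟩ := hp.2.1 c hcM hc1
  rcases inf_eq_bot_or_eq hS hCS (hni C hCS) hE.1 with h | h
  · have h1 : c ∈ C ⊓ E := ⟨hc, hcE⟩
    rw [h, Subgroup.mem_bot] at h1
    exact absurd h1 hc1
  · exact h ▸ hE.2

theorem Cycle.fix (h : Cycle S A B C D) {c : G} (hc : c ∈ C) : conjBy A c = A :=
  conjBy_self_of_mem_normalizer (Subgroup.centralizer_le_normalizer _
    (Subgroup.mem_centralizer_iff.2 fun _ ha => (h.commAC ha hc).symm))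

/-- The two cycles on a line. -/
theorem exists_cycles (hS : IsRootSubgroupSet S) (hni : ∀ A ∈ S, ¬ IsIsolatedIn (FAdj S) S A)
    (hA : A ∈ S) (hC : C ∈ linePartners S A) :
    ∃ M ∈ membersIn S (A ⊔ C), A ⊔ M = A ⊔ C ∧ M ≠ A ∧
      ∃ D Q D' Q' : Subgroup G, Cycle S M D Q A ∧ Cycle S A D' Q' M := by
  obtain ⟨D, hD, hp⟩ := exists_partner_of_not_isolated (hni A hA) hA
  obtain ⟨M, hM, hMl, hcy⟩ := exists_cycle hS hni hA hD hp hC
  have hMA : M ≠ A := hMl.1.2.1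
  obtain ⟨D2, hD2, hp2⟩ := exists_partner_of_not_isolated (hni M hM.1) hM.1
  obtain ⟨M2, hM2, hM2l, hcy2⟩ := exists_cycle hS hni hM.1 hD2 hp2 (linePartners_symm hA hMl)
  refine ⟨M, hM, line_eq hS hni hA hC hM hMl, hMA, D, ⁅M, D⁆, ?_⟩
  have hmem := membersIn_line hS hA (hni A hA) hcy.right
  rw [hcy.comm_right] at hmem
  have hM2' : M2 ∈ membersIn S (A ⊔ M) := sup_comm M A ▸ hM2
  rw [hmem] at hM2'
  rcases hM2' with ⟨q, hq, hq'⟩ | hq'
  · simp only at hq'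
    have h1 := hcy2.conj q⁻¹
    rw [← hq', conjBy_inv_conjBy, hcy.fix (inv_mem hq)] at h1
    exact ⟨_, _, hcy, h1⟩
  · exact absurd hq' hM2l.1.2.1

theorem line_move (hS : IsRootSubgroupSet S) (hni : ∀ A ∈ S, ¬ IsIsolatedIn (FAdj S) S A)
    {Q : Subgroup G} (h : Cycle S M D Q A) :
    Q ≤ Subgroup.normalizer ((A ⊔ M : Subgroup G) : Set G) ∧
      ∀ E ∈ membersIn S (A ⊔ M), E ≠ M → ∃ q ∈ Q, conjBy A q = E := by
  have hle : ∀ q ∈ Q, conjBy (A ⊔ M) q ≤ A ⊔ M := fun q hq => by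
    rw [conjBy_sup, h.fix hq]
    exact sup_le (h.comm_right ▸ conjBy_left_le_line h.right hq) le_sup_right
  refine ⟨fun q hq => conjBy_eq_self_iff.1 (le_antisymm (hle q hq) ?_), fun E hE hne => ?_⟩
  · conv_lhs => rw [← conjBy_conjBy_inv (A ⊔ M) q]
    exact conjBy_mono q (hle q⁻¹ (inv_mem hq))
  · have hmem := membersIn_line hS h.memD (hni A h.memD) h.right
    rw [h.comm_right] at hmem
    rw [hmem] at hE
    rcases hE with hE | hE
    · obtain ⟨q, hq, he⟩ := hE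
      exact ⟨q, hq, he⟩
    · exact absurd hE hne

theorem commCase_moves (hS : IsRootSubgroupSet S) (hA : A ∈ S) (hB : B ∈ S)
    (hBi : ¬ IsIsolatedIn (FAdj S) S B) (h : RootCommutatorCase S A B) {b : G} (hb : b ∈ B)
    (hb1 : b ≠ 1) : conjBy A b ≠ A := by
  intro he
  apply hb1
  obtain ⟨a, ha, ha1⟩ := exists_mem_ne_one_of_ne_bot (hS.ne_bot A hA)
  refine commCase_eq_one hS hB hBi (commCase_symm h) hb ha ha1 ?_
  have h1 : b * a * b⁻¹ * a⁻¹ ∈ A := mul_mem (he ▸ conj_mem_conjBy ha) (inv_mem ha)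
  have h2 := inf_commutator_left hS h h1 (by
    rw [Subgroup.commutator_comm]
    exact Subgroup.commutator_mem_commutator hb ha)
  exact mul_inv_eq_iff_eq_mul.1 (mul_inv_eq_one.1 h2)

/-- Members normalizing a line act doubly transitively on it. -/
theorem line_two_transitive (hS : IsRootSubgroupSet S)
    (hni : ∀ A ∈ S, ¬ IsIsolatedIn (FAdj S) S A) (hA : A ∈ S) (hC : C ∈ linePartners S A)
    {C₁ C₂ D₁ D₂ : Subgroup G} (h₁ : C₁ ∈ membersIn S (A ⊔ C)) (h₂ : C₂ ∈ membersIn S (A ⊔ C))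
    (k₁ : D₁ ∈ membersIn S (A ⊔ C)) (k₂ : D₂ ∈ membersIn S (A ⊔ C)) (hne : C₁ ≠ C₂)
    (kne : D₁ ≠ D₂) :
    ∃ x ∈ ⨆ E ∈ normalizingMembers S (A ⊔ C), E, conjBy C₁ x = D₁ ∧ conjBy C₂ x = D₂ := by
  obtain ⟨M, -, hsup, hMA, D, Q, D', Q', hcy, hcy'⟩ := exists_cycles hS hni hA hC
  rw [← hsup] at h₁ h₂ k₁ k₂ ⊢
  set N := ⨆ E ∈ normalizingMembers S (A ⊔ M), E with hN
  obtain ⟨hQn, hQm⟩ := line_move hS hni hcy
  obtain ⟨hQn', hQm'⟩ := line_move hS hni hcy'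
  rw [sup_comm M A] at hQn' hQm'
  have hQN : Q ≤ N := le_iSup₂_of_le Q ⟨hcy.memC, hQn⟩ le_rfl
  have hQN' : Q' ≤ N := le_iSup₂_of_le Q' ⟨hcy'.memC, hQn'⟩ le_rfl
  have hNn : N ≤ Subgroup.normalizer ((A ⊔ M : Subgroup G) : Set G) := iSup₂_le fun E hE => hE.2
  have hmove : ∀ {x : G}, x ∈ N → ∀ {E : Subgroup G}, E ∈ membersIn S (A ⊔ M) →
      conjBy E x ∈ membersIn S (A ⊔ M) := fun {x} hx {E} hE =>
    ⟨hS.conj_mem E hE.1 x, (conjBy_mono x hE.2).trans (conjBy_self_of_mem_normalizer (hNn hx)).le⟩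
  have hAm : A ∈ membersIn S (A ⊔ M) := ⟨hA, le_sup_left⟩
  have hMm : M ∈ membersIn S (A ⊔ M) := ⟨hcy.memA, le_sup_right⟩
  have htoM : ∀ E ∈ membersIn S (A ⊔ M), ∃ x ∈ N, conjBy M x = E := by
    intro E hE
    by_cases hEA : E = A
    · subst hEA
      obtain ⟨q', hq', hq'1⟩ := exists_mem_ne_one_of_ne_bot (hS.ne_bot Q' hcy'.memC)
      set F := conjBy M q'
      have hF : F ∈ membersIn S (E ⊔ M) := hmove (hQN' hq') hMm
      have hFM : F ≠ M := commCase_moves hS hcy.memA hcy'.memC (hni Q' hcy'.memC) hcy'.right hq' hq'1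
      obtain ⟨q, hq, hqF⟩ := hQm F hF hFM
      refine ⟨q⁻¹ * q', mul_mem (inv_mem (hQN hq)) (hQN' hq'), ?_⟩
      rw [conjBy_mul]
      show conjBy F q⁻¹ = E
      rw [← hqF, conjBy_inv_conjBy]
    · obtain ⟨q, hq, he⟩ := hQm' E hE hEA
      exact ⟨q, hQN' hq, he⟩
  have hstd : ∀ {P R : Subgroup G}, P ∈ membersIn S (A ⊔ M) → R ∈ membersIn S (A ⊔ M) → P ≠ R →
      ∃ x ∈ N, conjBy M x = P ∧ conjBy A x = R := by
    intro P R hP hR hPR
    obtain ⟨x, hx, hxP⟩ := htoM P hP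
    obtain ⟨q, hq, hqR⟩ := hQm _ (hmove (inv_mem hx) hR) (fun h => hPR (by
      rw [← hxP, ← h, conjBy_conjBy_inv]))
    refine ⟨x * q, mul_mem hx (hQN hq), ?_, ?_⟩
    · rw [conjBy_mul, hcy.fix hq, hxP]
    · rw [conjBy_mul, hqR, conjBy_conjBy_inv]
  obtain ⟨x, hx, hx1, hx2⟩ := hstd h₁ h₂ hne
  obtain ⟨y, hy, hy1, hy2⟩ := hstd k₁ k₂ kne
  refine ⟨y * x⁻¹, mul_mem hy (inv_mem hx), ?_, ?_⟩
  · rw [conjBy_mul, ← hx1, conjBy_inv_conjBy, hy1]
  · rw [conjBy_mul, ← hx2, conjBy_inv_conjBy, hy2]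

/-- A line partner starts a cycle. -/
theorem exists_cycle_at (hS : IsRootSubgroupSet S) (hni : ∀ A ∈ S, ¬ IsIsolatedIn (FAdj S) S A)
    (hA : A ∈ S) (hC : C ∈ linePartners S A) : ∃ D Q : Subgroup G, Cycle S C D Q A := by
  obtain ⟨M, hM, hsup, hMA, D, Q, -, -, hcy, -⟩ := exists_cycles hS hni hA hC
  obtain ⟨x, -, hx1, hx2⟩ := line_two_transitive hS hni hA hC hM ⟨hA, le_sup_left⟩
    ⟨hC.1.1, le_sup_right⟩ ⟨hA, le_sup_left⟩ hMA hC.1.2.1
  have h := hcy.conj x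
  rw [hx1, hx2] at h
  exact ⟨_, _, h⟩

/-- A pair in the commutator case extends to a cycle. -/
theorem completion (hS : IsRootSubgroupSet S) (hni : ∀ A ∈ S, ¬ IsIsolatedIn (FAdj S) S A)
    (hA : A ∈ S) (hB : B ∈ S) (h : RootCommutatorCase S A B) :
    ∃ D : Subgroup G, Cycle S A B ⁅A, B⁆ D := by
  obtain ⟨E, Q, hcy⟩ := exists_cycle_at hS hni h.1 (mem_linePartners_commutator hS hA (hni A hA) h)
  set C := ⁅A, B⁆ with hCdef
  have hCQ : ⁅C, Q⁆ = A := hcy.comm_right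
  have hCQ' : ⁅Q, C⁆ = A := by rw [Subgroup.commutator_comm]; exact hCQ
  refine ⟨Q, cycle_of_mem hS hA hB h.1 hcy.memC hCQ'⟩

theorem linePartners_conj (hS : IsRootSubgroupSet S) (h : B ∈ linePartners S A) (g : G) :
    conjBy B g ∈ linePartners S (conjBy A g) := by
  obtain ⟨⟨hB, hne, hc⟩, hp⟩ := h
  refine ⟨⟨hS.conj_mem B hB g, fun he => hne (conjBy_inj.1 he), commutator_conjBy_eq_bot.2 hc⟩, ?_⟩
  rw [← conjBy_sup]
  refine ⟨fun E hE => hE.2, fun x hx hx1 => ?_, fun E hE F hF hEF => ?_⟩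
  · obtain ⟨E, hE, hm⟩ := hp.2.1 (g⁻¹ * x * g) (mem_conjBy.1 hx) fun h1 => hx1 (by
      have h2 := congrArg (fun y => g * y * g⁻¹) h1
      simpa [mul_assoc] using h2)
    exact ⟨conjBy E g, ⟨hS.conj_mem E hE.1 g, conjBy_mono g hE.2⟩, mem_conjBy.2 hm⟩
  · have hback : ∀ {E}, E ∈ membersIn S (conjBy (A ⊔ B) g) →
        conjBy E g⁻¹ ∈ membersIn S (A ⊔ B) := fun {E} hE =>
      ⟨hS.conj_mem E hE.1 g⁻¹, (conjBy_mono g⁻¹ hE.2).trans (conjBy_inv_conjBy _ g).le⟩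
    have h1 := hp.2.2 _ (hback hE) _ (hback hF) fun he => hEF (conjBy_inj.1 he)
    rw [← conjBy_inf] at h1
    rw [← conjBy_conjBy_inv (E ⊓ F) g, h1, conjBy_bot]

/-- Reachability by lines. -/
abbrev EReach (S : Set (Subgroup G)) : Subgroup G → Subgroup G → Prop :=
  Relation.ReflTransGen (EAdj S S)

theorem eReach_of_rankOne (hS : IsRootSubgroupSet S) (hni : ∀ A ∈ S, ¬ IsIsolatedIn (FAdj S) S A)
    (hA : A ∈ S) (hB : B ∈ S) (hp : IsRankOnePair A B) (hC : C ∈ linePartners S A) :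
    EReach S A B := by
  obtain ⟨M, hM, hMl, hcy⟩ := exists_cycle hS hni hA hB hp hC
  have h1 := commutator_mem_linePartners hS hcy.memA (hni M hcy.memA) hcy.left
  have h2 := mem_linePartners_commutator hS hB (hni B hB) (commCase_symm hcy.left)
  rw [Subgroup.commutator_comm] at h2
  have e1 : EAdj S S A M := ⟨hA, hM.1, hMl⟩
  have e2 : EAdj S S M ⁅M, B⁆ := ⟨hM.1, hcy.memC, h1⟩
  have e3 : EAdj S S ⁅M, B⁆ B := ⟨hcy.memC, hB, h2⟩
  exact ((Relation.ReflTransGen.single e1).tail e2).tail e3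

theorem exists_linePartner_class (hS : IsRootSubgroupClass S) (hnd : IsNondegenerateRootSet S)
    (hA : A ∈ S) : ∃ C, C ∈ linePartners S A := by
  obtain ⟨-, ⟨P, hP, R, hR, hp⟩, ⟨X, hX, Y, hY, hc⟩⟩ := hnd
  have hni := class_not_isolated hS.1 hS.2 hP (not_isolated_of_pair hP hR hp)
  obtain ⟨g, rfl⟩ := hS.2.2 X hX A hA
  exact ⟨_, linePartners_conj hS.1 (commutator_mem_linePartners hS.1 hX (hni X hX) hc) g⟩

theorem nondegenerate_not_isolated (hS : IsRootSubgroupClass S) (hnd : IsNondegenerateRootSet S) :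
    ∀ A ∈ S, ¬ IsIsolatedIn (FAdj S) S A := by
  obtain ⟨-, ⟨P, hP, R, hR, hp⟩, -⟩ := hnd
  exact class_not_isolated hS.1 hS.2 hP (not_isolated_of_pair hP hR hp)

theorem eReach_class (hS : IsRootSubgroupClass S) (hnd : IsNondegenerateRootSet S) :
    IsConnectedFamily (EAdj S S) S := by
  intro A hA B hB
  have hni := nondegenerate_not_isolated hS hnd
  obtain ⟨-, ⟨P, hP, R, hR, hp⟩, -⟩ := id hnd
  have hc := class_connected hS.1 hS.2 hP (not_isolated_of_pair hP hR hp) A hA B hB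
  induction hc with
  | refl => exact Relation.ReflTransGen.refl
  | tail _ hbc ih =>
    obtain ⟨C, hC⟩ := exists_linePartner_class hS hnd hbc.1
    exact (ih hbc.1).trans (eReach_of_rankOne hS.1 hni hbc.1 hbc.2.1 hbc.2.2 hC)

/-- A subgroup containing all line partners of `A` and a partner of `A` is everything. -/
theorem line_generation (hS : IsRootSubgroupClass S) (hnd : IsNondegenerateRootSet S) (hA : A ∈ S)
    (hB : B ∈ S) (hp : IsRankOnePair A B) {H : Subgroup G}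
    (hl : ∀ C ∈ linePartners S A, C ≤ H) (hBH : B ≤ H) : H = ⊤ := by
  have hni := nondegenerate_not_isolated hS hnd
  have hone : ∀ C ∈ linePartners S A, ∃ x ∈ H, C = conjBy A x := by
    intro C hC
    obtain ⟨M, hM, hMl, hcy⟩ := exists_cycle hS.1 hni hA hB hp hC
    have hsup := line_eq hS.1 hni hA hC hM hMl
    obtain ⟨D', Q', hcy'⟩ := exists_cycle_at hS.1 hni hM.1 (linePartners_symm hA hMl)
    have hQ : ⁅M, B⁆ ≤ H :=
      Subgroup.commutator_le.2 fun m hm b hb =>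
        mul_mem (mul_mem (mul_mem (hl M hMl hm) (hBH hb)) (inv_mem (hl M hMl hm))) (inv_mem (hBH hb))
    have hQ' : Q' ≤ H := hl Q' (by
      rw [← hcy'.comm_left]
      exact commutator_mem_linePartners hS.1 hA (hni A hA) hcy'.left)
    obtain ⟨-, hmv⟩ := line_move hS.1 hni hcy
    have hCm : C ∈ membersIn S (A ⊔ M) := ⟨hC.1.1, hsup ▸ le_sup_right⟩
    by_cases hCM : C = M
    · subst hCM
      obtain ⟨q', hq', hq'1⟩ := exists_mem_ne_one_of_ne_bot (hS.1.ne_bot Q' hcy'.memC)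
      obtain ⟨hn, -⟩ := line_move hS.1 hni hcy'
      rw [sup_comm C A] at hn
      obtain ⟨q, hq, he⟩ := hmv (conjBy C q') ⟨hS.1.conj_mem C hM.1 q',
        (conjBy_mono q' le_sup_right).trans (conjBy_self_of_mem_normalizer (hn hq')).le⟩
        (commCase_moves hS.1 hM.1 hcy'.memC (hni Q' hcy'.memC) hcy'.right hq' hq'1)
      refine ⟨q'⁻¹ * q, mul_mem (inv_mem (hQ' hq')) (hQ hq), ?_⟩
      rw [conjBy_mul, he, conjBy_inv_conjBy]
    · obtain ⟨q, hq, he⟩ := hmv C hCm hCM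
      exact ⟨q, hQ hq, he.symm⟩
  obtain ⟨C, hC⟩ := exists_linePartner_class hS hnd hA
  have hAH : A ≤ H := by
    obtain ⟨x, hx, hxC⟩ := hone C hC
    have h1 := conjBy_mono x⁻¹ (hl C hC)
    rw [hxC, conjBy_inv_conjBy, conjBy_self_of_mem (inv_mem hx)] at h1
    exact h1
  rw [eq_top_iff, ← hS.1.generates]
  refine iSup₂_le fun E hE => ?_
  suffices h : ∃ x ∈ H, E = conjBy A x by
    obtain ⟨x, hx, rfl⟩ := h
    exact conjBy_le_of_mem hAH hx
  have hr := eReach_class hS hnd A hA E hE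
  clear hE
  induction hr with
  | refl => exact ⟨1, one_mem _, (conjBy_one A).symm⟩
  | @tail X Y _ hXY ih =>
    obtain ⟨x, hx, rfl⟩ := ih
    have h1 := linePartners_conj hS.1 hXY.2.2 x⁻¹
    rw [conjBy_inv_conjBy] at h1
    obtain ⟨y, hy, he⟩ := hone _ h1
    exact ⟨x * y, mul_mem hx hy, by rw [conjBy_mul, ← he, conjBy_conjBy_inv]⟩

end Cfsg.Agent.Lib.RootSubgroups.RootSet
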