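import Mathlib
import Cfsg.Prelude.Def_RootSubgroups
import Cfsg.Agent.Lib.RootSubgroups.Line

/-!
Commutators of generated subgroups, and the configuration `⁅A, B⁆, ⁅B, C⁆ ∈ S`, `⁅A, C⁆ = ⊥`.
-/

set_option autoImplicit false

namespace Cfsg.Agent.Lib.RootSubgroups.RootSet

open Cfsg Cfsg.Agent.Lib.RootSubgroups
open scoped commutatorElement

variable {G : Type*} [Group G] {S : Set (Subgroup G)} {A B C M X Y : Subgroup G}

theorem commutator_sup_left_le (hn : A ⊔ B ≤ Subgroup.normalizer (M : Set G))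
    (h1 : ⁅A, C⁆ ≤ M) (h2 : ⁅B, C⁆ ≤ M) : ⁅A ⊔ B, C⁆ ≤ M := by
  let P : Subgroup G :=
    { carrier := {x | x ∈ Subgroup.normalizer (M : Set G) ∧ ∀ c ∈ C, ⁅x, c⁆ ∈ M}
      one_mem' := ⟨one_mem _, fun c _ => by simp⟩
      mul_mem' := fun {x y} hx hy => ⟨mul_mem hx.1 hy.1, fun c hc => by
        have e : ⁅x * y, c⁆ = x * ⁅y, c⁆ * x⁻¹ * ⁅x, c⁆ := by simp [commutatorElement_def, mul_assoc]
        rw [e]
        exact mul_mem ((Subgroup.mem_normalizer_iff.1 hx.1 _).1 (hy.2 c hc)) (hx.2 c hc)⟩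
      inv_mem' := fun {x} hx => ⟨inv_mem hx.1, fun c hc => by
        have e : ⁅x⁻¹, c⁆ = x⁻¹ * (⁅x, c⁆)⁻¹ * (x⁻¹)⁻¹ := by simp [commutatorElement_def, mul_assoc]
        rw [e]
        exact (Subgroup.mem_normalizer_iff.1 (inv_mem hx.1) _).1 (inv_mem (hx.2 c hc))⟩ }
  have hle : A ⊔ B ≤ P := sup_le
    (fun x hx => ⟨hn (Subgroup.mem_sup_left hx),
      fun c hc => h1 (Subgroup.commutator_mem_commutator hx hc)⟩)
    (fun x hx => ⟨hn (Subgroup.mem_sup_right hx),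
      fun c hc => h2 (Subgroup.commutator_mem_commutator hx hc)⟩)
  exact Subgroup.commutator_le.2 fun x hx c hc => (hle hx).2 c hc

theorem commutator_sup_self_le (hn : X ⊔ Y ≤ Subgroup.normalizer (M : Set G))
    (h1 : ⁅X, X⁆ ≤ M) (h2 : ⁅Y, Y⁆ ≤ M) (h3 : ⁅X, Y⁆ ≤ M) : ⁅X ⊔ Y, X ⊔ Y⁆ ≤ M := by
  refine commutator_sup_left_le hn ?_ ?_
  · rw [Subgroup.commutator_comm]
    exact commutator_sup_left_le hn h1 (by rwa [Subgroup.commutator_comm])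
  · rw [Subgroup.commutator_comm]
    exact commutator_sup_left_le hn h3 h2

theorem le_centralizer_sup (h1 : ⁅M, X⁆ = ⊥) (h2 : ⁅M, Y⁆ = ⊥) : ⁅M, X ⊔ Y⁆ = ⊥ := by
  rw [commutator_eq_bot_comm, Subgroup.commutator_eq_bot_iff_le_centralizer]
  exact sup_le (Subgroup.commutator_eq_bot_iff_le_centralizer.1 (commutator_eq_bot_comm.1 h1))
    (Subgroup.commutator_eq_bot_iff_le_centralizer.1 (commutator_eq_bot_comm.1 h2))

theorem le_normalizer_of_commute (h : ⁅X, M⁆ = ⊥) : X ≤ Subgroup.normalizer (M : Set G) :=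
  (Subgroup.commutator_eq_bot_iff_le_centralizer.1 h).trans (Subgroup.centralizer_le_normalizer _)

theorem commutator_le_commutator_central (hA : ⁅A, A⁆ = ⊥) (hB : ⁅B, B⁆ = ⊥)
    (h1 : ⁅A, ⁅A, B⁆⁆ = ⊥) (h2 : ⁅B, ⁅A, B⁆⁆ = ⊥) :
    ⁅A ⊔ B, A ⊔ B⁆ ≤ ⁅A, B⁆ ∧ ⁅⁅A ⊔ B, A ⊔ B⁆, A ⊔ B⁆ = ⊥ := by
  have hle : ⁅A ⊔ B, A ⊔ B⁆ ≤ ⁅A, B⁆ :=
    commutator_sup_self_le (sup_le (le_normalizer_of_commute h1) (le_normalizer_of_commute h2))
      (hA ▸ bot_le) (hB ▸ bot_le) le_rfl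
  exact ⟨hle, eq_bot_iff.2 ((Subgroup.commutator_mono hle le_rfl).trans
    (le_centralizer_sup (commutator_eq_bot_comm.1 h1) (commutator_eq_bot_comm.1 h2)).le)⟩

theorem isMulCommutative_sup (hA : ⁅A, A⁆ = ⊥) (hB : ⁅B, B⁆ = ⊥) (hAB : ⁅A, B⁆ = ⊥) :
    IsMulCommutative ↥(A ⊔ B) := by
  have h : ⁅A ⊔ B, A ⊔ B⁆ = ⊥ :=
    eq_bot_iff.2 (commutator_sup_self_le (sup_le (le_normalizer_of_commute (by simp))
      (le_normalizer_of_commute (by simp))) hA.le hB.le hAB.le)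
  exact ⟨⟨fun x y => Subtype.ext (commute_of_commutator_eq_bot h x.2 y.2)⟩⟩

/-- If `⁅A, B⁆, ⁅B, C⁆ ∈ S` and `A, C` commute, then `A` and a conjugate of `C` under `B` commute or
are in the commutator case. -/
theorem not_rankOne_conj (hS : IsRootSubgroupSet S) (hA : A ∈ S) (hC : C ∈ S)
    (hc : RootCommutatorCase S C B) (hAC : ⁅A, C⁆ = ⊥) {b : G} (hb : b ∈ B) (hb1 : b ≠ 1) :
    ¬ IsRankOnePair A (conjBy C b) := by
  intro hp
  have hne : ∃ c ∈ C, ⁅b, c⁆ ≠ 1 := by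
    by_contra h
    push Not at h
    apply commCase_not_commute hS hc
    rw [← hc.2.2.2 b hb hb1, Subgroup.closure_eq_bot_iff]
    rintro _ ⟨x, hx, rfl⟩
    show x * b * x⁻¹ * b⁻¹ = 1
    have h1 := commutatorElement_eq_one_iff_mul_comm.1 (h x hx)
    rw [← h1]; simp
  obtain ⟨c, hc', hbc⟩ := hne
  have hc1 : c ≠ 1 := fun h => hbc (by simp [h])
  have hcomm : ⁅C, conjBy C b⁆ = ⊥ := commutator_eq_bot_comm.1
    (conjBy_commute hS hC (commCase_symm hc) hb)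
  have hz : c⁻¹ ∈ Subgroup.centralizer ((conjBy C b ⊔ A : Subgroup G) : Set G) :=
    Subgroup.le_centralizer_iff.1 (sup_le
      (Subgroup.commutator_eq_bot_iff_le_centralizer.1 (commutator_eq_bot_comm.1 hcomm))
      (Subgroup.commutator_eq_bot_iff_le_centralizer.1 hAC)) (C.inv_mem hc')
  refine no_central_translate hS (hS.conj_mem C hC b) hA (RankOne.symm hp) hz (inv_ne_one.2 hc1)
    (conj_mem_conjBy hc') (fun h => hc1 (conj_eq_one_iff.1 h)) ?_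
  have e : c⁻¹ * (b * c * b⁻¹) = ⁅b, c⁆ := by
    have h := commute_of_commutator_eq_bot hcomm (C.inv_mem hc') (conj_mem_conjBy (g := b) hc')
    rw [h, commutatorElement_def]
  rw [e]
  refine ⟨hbc, _, hc.1, ?_⟩
  rw [Subgroup.commutator_comm]
  exact Subgroup.commutator_mem_commutator hb hc'

end Cfsg.Agent.Lib.RootSubgroups.RootSet
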