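import Mathlib
import Cfsg.Prelude.Def_RootSubgroups
import Cfsg.Agent.Lib.RootSubgroups.ClassLines

/-!
Inclusions between sets of commuting members and between sets of rank one partners.
-/

set_option autoImplicit false

namespace Cfsg.Agent.Lib.RootSubgroups.RootSet

open Cfsg Cfsg.Agent.Lib.RootSubgroups
open scoped commutatorElement

variable {G : Type*} [Group G] {S : Set (Subgroup G)} {A B C D E P : Subgroup G}

/-- Every member commuting with `A` commutes with `C`. -/
def CommSub (S : Set (Subgroup G)) (A C : Subgroup G) : Prop :=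
  ∀ E ∈ S, ⁅E, A⁆ = ⊥ → ⁅E, C⁆ = ⊥

theorem commSub_iff {S : Set (Subgroup G)} :
    CommSub S A C ↔ centralizingMembers S A ⊆ centralizingMembers S C := by
  constructor
  · rintro h E ⟨hE, hc⟩
    exact ⟨hE, Subgroup.commutator_eq_bot_iff_le_centralizer.1
      (h E hE (Subgroup.commutator_eq_bot_iff_le_centralizer.2 hc))⟩
  · intro h E hE hc
    exact Subgroup.commutator_eq_bot_iff_le_centralizer.2
      (h ⟨hE, Subgroup.commutator_eq_bot_iff_le_centralizer.1 hc⟩).2

theorem CommSub.conj (hS : IsRootSubgroupSet S) (h : CommSub S A C) (g : G) :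
    CommSub S (conjBy A g) (conjBy C g) := by
  intro E hE hc
  have h1 := h _ (hS.conj_mem E hE g⁻¹)
    (by rwa [← commutator_conjBy_eq_bot (g := g), conjBy_conjBy_inv])
  rwa [← commutator_conjBy_eq_bot (g := g), conjBy_conjBy_inv] at h1

/-- A member centralizing `P` and `⁅E, P⁆` is not a partner of `E`. -/
theorem not_pair_of_centralizes (hS : IsRootSubgroupSet S) (hp : IsRankOnePair C E)
    (hc : RootCommutatorCase S E P) (h1 : ⁅C, P⁆ = ⊥) (h2 : ⁅C, ⁅E, P⁆⁆ = ⊥) : False := by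
  set W := P ⊔ ⁅E, P⁆ with hW
  have hCW : C ≤ Subgroup.centralizer (W : Set G) := Subgroup.le_centralizer_iff.1
    (sup_le (Subgroup.le_centralizer_iff.1 (Subgroup.commutator_eq_bot_iff_le_centralizer.1 h1))
      (Subgroup.le_centralizer_iff.1 (Subgroup.commutator_eq_bot_iff_le_centralizer.1 h2)))
  have hle : ∀ e ∈ E, conjBy W e ≤ W := by
    intro e he
    rw [hW, conjBy_sup, conjBy_self_of_mem_normalizer
      (Subgroup.normalizer_commutator_ge_left E P he)]
    refine sup_le ?_ le_sup_right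
    have := conjBy_left_le_line (commCase_symm hc) he
    rwa [Subgroup.commutator_comm] at this
  have hEW : E ≤ Subgroup.normalizer (W : Set G) := fun e he => by
    refine conjBy_eq_self_iff.1 (le_antisymm (hle e he) ?_)
    conv_lhs => rw [← conjBy_conjBy_inv W e]
    exact conjBy_mono e (hle e⁻¹ (inv_mem he))
  obtain ⟨y, hy, hyC⟩ := RankOne.mem_unipotentSubgroups_right hp
  have hyn : y ∈ Subgroup.normalizer (W : Set G) :=
    sup_le (hCW.trans (Subgroup.centralizer_le_normalizer _)) hEW hy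
  have h3 : ⁅conjBy C y, conjBy W y⁆ = ⊥ :=
    commutator_conjBy_eq_bot.2 (Subgroup.commutator_eq_bot_iff_le_centralizer.2 hCW)
  rw [← hyC, conjBy_self_of_mem_normalizer hyn] at h3
  apply commCase_not_commute hS hc
  exact eq_bot_iff.2 ((Subgroup.commutator_mono le_rfl le_sup_left).trans h3.le)

theorem CommSub.pair (hS : IsRootSubgroupSet S) (hA : A ∈ S) (hE : E ∈ S) (hAC : ⁅A, C⁆ = ⊥)
    (h : CommSub S A C) (hp : IsRankOnePair C E) : IsRankOnePair A E := by
  rcases hS.pair A hA E hE with h1 | h1 | h1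
  · exfalso
    exact rankOne_not_commute (RankOne.symm hp) (h E hE (commutator_eq_bot_comm.1 h1))
  · exact h1
  · exfalso
    refine not_pair_of_centralizes hS hp (commCase_symm h1) (commutator_eq_bot_comm.1 hAC) ?_
    rw [Subgroup.commutator_comm E A]
    exact commutator_eq_bot_comm.1
      (h _ h1.1 (commutator_eq_bot_comm.1 (commCase_left_commute h1)))

theorem CommSub.antisymm (hS : IsRootSubgroupSet S) (hni : ∀ A ∈ S, ¬ IsIsolatedIn (FAdj S) S A)
    (hA : A ∈ S) (hC : C ∈ S) (h : CommSub S A C) : CommSub S C A := by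
  have hAC : ⁅A, C⁆ = ⊥ := h A hA (commutator_self_eq_bot hS hA)
  intro D hD hDC
  obtain ⟨E, hE, hp⟩ := exists_partner_of_not_isolated (hni C hC) hC
  have hpA := h.pair hS hA hE hAC hp
  have hCfix : ∀ {x : G}, x ∈ Subgroup.centralizer (C : Set G) → conjBy C x = C := fun hx =>
    conjBy_self_of_mem_normalizer (Subgroup.centralizer_le_normalizer _ hx)
  have hAcen := Subgroup.commutator_eq_bot_iff_le_centralizer.1 hAC
  have hDcen := Subgroup.commutator_eq_bot_iff_le_centralizer.1 hDC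
  rcases hS.pair D hD A hA with h1 | h1 | h1
  · exact h1
  · exfalso
    obtain ⟨x, hx, hxA⟩ := RankOne.mem_unipotentSubgroups_left (RankOne.symm h1)
    have hD' : CommSub S D C := by
      obtain ⟨y, hy, hyD⟩ := RankOne.mem_unipotentSubgroups_right (RankOne.symm h1)
      have h2 := h.conj hS y
      rwa [← hyD, hCfix (sup_le hAcen hDcen hy)] at h2
    have hpD := hD'.pair hS hD hE hDC hp
    obtain ⟨e, he, he1⟩ := exists_mem_ne_one_of_ne_bot (hS.ne_bot E hE)
    obtain ⟨a, ha, ha1, hea⟩ := hpA.cond_right e⁻¹ (inv_mem he) (inv_ne_one.2 he1)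
    obtain ⟨d, hd, hd1, hed⟩ := hpD.cond_right e⁻¹ (inv_mem he) (inv_ne_one.2 he1)
    obtain ⟨c, hc, -, hec⟩ := hp.cond_right e⁻¹ (inv_mem he) (inv_ne_one.2 he1)
    rw [inv_inv] at hea hed hec
    -- `E` commutes with both translates of `conjBy C e`
    have hFd : ⁅conjBy (conjBy C e) d, E⁆ = ⊥ := by
      rw [← commutator_conjBy_eq_bot (g := d⁻¹), conjBy_inv_conjBy, hed, commutator_conjBy_eq_bot,
        commutator_eq_bot_comm]
      exact hDC
    have hFa : CommSub S E (conjBy (conjBy C e) a) := by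
      have h2 := (h.conj hS e).conj hS a
      rwa [← hea, conjBy_conjBy_inv] at h2
    have h2 := hFa _ (hS.conj_mem _ (hS.conj_mem C hC e) d) hFd
    rw [← hec] at h2
    have hcd : conjBy (conjBy E c⁻¹) d = conjBy (conjBy E d) c⁻¹ := by
      rw [← conjBy_mul, ← conjBy_mul]
      congr 1
      exact Subgroup.mem_centralizer_iff.1 (hDcen hd) c⁻¹ (C.inv_mem hc) |>.symm
    have hca : conjBy (conjBy E c⁻¹) a = conjBy (conjBy E a) c⁻¹ := by
      rw [← conjBy_mul, ← conjBy_mul]
      congr 1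
      exact Subgroup.mem_centralizer_iff.1 (hAcen ha) c⁻¹ (C.inv_mem hc) |>.symm
    rw [hcd, hca, commutator_conjBy_eq_bot] at h2
    -- back to `A` and `D`
    obtain ⟨e1, he1', -, h4⟩ := hpA.cond_left a⁻¹ (inv_mem ha) (inv_ne_one.2 ha1)
    obtain ⟨e2, he2', -, h5⟩ := hpD.cond_left d⁻¹ (inv_mem hd) (inv_ne_one.2 hd1)
    rw [inv_inv] at h4 h5
    rw [← h4, ← h5, ← commutator_conjBy_eq_bot (g := e1), conjBy_conjBy_inv, ← conjBy_mul] at h2
    rcases eq_or_ne (e1 * e2⁻¹) 1 with h6 | h6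
    · rw [h6, conjBy_one] at h2
      exact rankOne_not_commute h1 h2
    · obtain ⟨d3, hd3, -, h7⟩ := hpD.cond_right (e1 * e2⁻¹)⁻¹
        (inv_mem (mul_mem he1' (inv_mem he2'))) (inv_ne_one.2 h6)
      rw [inv_inv] at h7
      rw [← h7] at h2
      have h8 := h _ (hS.conj_mem E hE d3⁻¹) h2
      rw [← hCfix (inv_mem (hDcen hd3)), commutator_conjBy_eq_bot] at h8
      exact rankOne_not_commute (RankOne.symm hp) h8
  · exfalso
    obtain ⟨B, hcy⟩ := completion hS hni hA hD (commCase_symm h1)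
    have hBc : ⁅B, C⁆ = ⊥ := h B hcy.memD (commutator_eq_bot_of_forall_comm
      fun b hb a ha => (hcy.commDA hb ha).symm)
    obtain ⟨x, hx, hxF⟩ : ∃ x ∈ D ⊔ B, ⁅A, D⁆ = conjBy A x := by
      have h2 : ⁅A, D⁆ ∈ {E | ∃ x ∈ D ⊔ B, E = conjBy A x} := by
        rw [hcy.orbit_eq.2.1]
        exact Or.inr rfl
      exact h2
    have hxc := sup_le hDcen (Subgroup.commutator_eq_bot_iff_le_centralizer.1 hBc) hx
    have hF : CommSub S ⁅A, D⁆ C := by
      have h2 := h.conj hS x
      rwa [← hxF, hCfix hxc] at h2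
    have hl := commutator_mem_linePartners hS hA (hni A hA) (commCase_symm h1)
    have hFC : ⁅⁅A, D⁆, C⁆ = ⊥ := hF _ hl.1.1 (commutator_self_eq_bot hS hl.1.1)
    have hint : A ⊓ ⁅A, D⁆ = ⊥ := (inf_eq_bot_or_eq hS hA (hni A hA) hl.1.1).resolve_right hl.1.2.1.symm
    obtain ⟨M, hM, hMn⟩ := exists_nonpartner hE hl.2.2.1 ⟨hA, le_sup_left⟩ ⟨hl.1.1, le_sup_right⟩
      hint (commCase_left_commute (commCase_symm h1))
    have hm := membersIn_line hS hA (hni A hA) (commCase_symm h1)
    rw [hm] at hM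
    rcases hM with ⟨b, hb, rfl⟩ | hM
    · have h2 : CommSub S (conjBy A b) C := by
        have h3 := h.conj hS b
        rwa [hCfix (hDcen hb)] at h3
      exact hMn (h2.pair hS (hS.conj_mem A hA b) hE (by
        rw [← hCfix (hDcen hb), commutator_conjBy_eq_bot]; exact hAC) hp)
    · rw [Set.mem_singleton_iff] at hM
      exact hMn (hM ▸ hF.pair hS hl.1.1 hE hFC hp)

theorem pairSub_comm (hS : IsRootSubgroupSet S) (hni : ∀ A ∈ S, ¬ IsIsolatedIn (FAdj S) S A)
    (hA : A ∈ S) (hC : C ∈ S) (h : rankOnePartners S A ⊆ rankOnePartners S C) :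
    ⁅A, C⁆ = ⊥ ∧ CommSub S C A := by
  have hAC : ⁅A, C⁆ = ⊥ := by
    rcases hS.pair A hA C hC with h1 | h1 | h1
    · exact h1
    · exact absurd rfl (h ⟨hC, h1⟩).2.ne
    · exfalso
      obtain ⟨D, hcy⟩ := completion hS hni hC hA (commCase_symm h1)
      exact rankOne_not_commute (h ⟨hcy.memD, hcy.isRankOnePair⟩).2
        (commutator_eq_bot_of_forall_comm fun c hc d hd => hcy.commDA hd hc)
  have hsub : CommSub S C A := by
    intro D hD hDC
    rcases hS.pair D hD A hA with h1 | h1 | h1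
    · exact h1
    · exact absurd (commutator_eq_bot_comm.1 hDC)
        (rankOne_not_commute (h ⟨hD, RankOne.symm h1⟩).2)
    · exfalso
      obtain ⟨E, hcy⟩ := completion hS hni hD hA h1
      have hK : ⁅C, ⁅D, A⁆⁆ = ⊥ := by
        rw [commutator_eq_bot_comm]
        refine Subgroup.commutator_eq_bot_iff_le_centralizer.2 ?_
        exact (Subgroup.commutator_le.2 fun d hd a ha => by
          have hd' := Subgroup.commutator_eq_bot_iff_le_centralizer.1 hDC hd
          have ha' := Subgroup.commutator_eq_bot_iff_le_centralizer.1 hAC ha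
          exact mul_mem (mul_mem (mul_mem hd' ha') (inv_mem hd')) (inv_mem ha'))
      refine not_pair_of_centralizes hS (h ⟨hcy.memD, hcy.isRankOnePair⟩).2 hcy.right hK ?_
      rw [hcy.comm_right]
      exact commutator_eq_bot_comm.1 hDC
  exact ⟨hAC, hsub⟩

theorem pairSub (hS : IsRootSubgroupSet S) (hni : ∀ A ∈ S, ¬ IsIsolatedIn (FAdj S) S A)
    (hA : A ∈ S) (hC : C ∈ S) (h : rankOnePartners S A ⊆ rankOnePartners S C) :
    ⁅A, C⁆ = ⊥ ∧ rankOnePartners S A = rankOnePartners S C := by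
  obtain ⟨hAC, hsub⟩ := pairSub_comm hS hni hA hC h
  refine ⟨hAC, Set.Subset.antisymm h ?_⟩
  rintro E ⟨hE, hp⟩
  exact ⟨hE, (hsub.antisymm hS hni hC hA).pair hS hA hE hAC hp⟩

end Cfsg.Agent.Lib.RootSubgroups.RootSet
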