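import Mathlib
import Cfsg.Prelude.Def_RootSubgroups
import Cfsg.Agent.Lib.Involution.Basic
import Cfsg.Agent.Lib.Involution.BaerSuzuki

/-!
Sets of root involutions: the three kinds of pairs, the bijection between the order-four
partners of two members with product of odd order, and the completion of a pair with product of
order four.
-/

set_option autoImplicit false

namespace Cfsg.Agent.Lib.RootSubgroups.RootInv

open Cfsg

variable {G : Type*} [Group G] {D : Set G} {a b c d e g x : G}

/-! ### Members and pairs -/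

theorem sq_one (hD : IsRootInvolutionSet D) (ha : a ∈ D) : a * a = 1 :=
  Involution.mul_self_eq_one (hD.orderOf_eq a ha)

theorem inv_self (hD : IsRootInvolutionSet D) (ha : a ∈ D) : a⁻¹ = a :=
  inv_eq_of_mul_eq_one_right (sq_one hD ha)

theorem mem_ne_one (hD : IsRootInvolutionSet D) (ha : a ∈ D) : a ≠ 1 :=
  Involution.ne_one (hD.orderOf_eq a ha)

theorem orderOf_swap (hD : IsRootInvolutionSet D) (ha : a ∈ D) (hb : b ∈ D) :
    orderOf (b * a) = orderOf (a * b) := by
  rw [← orderOf_inv (a * b), mul_inv_rev, inv_self hD ha, inv_self hD hb]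

theorem conj_cancel (hD : IsRootInvolutionSet D) (ha : a ∈ D) (z : G) : a * (a * z) = z := by
  rw [← mul_assoc, sq_one hD ha, one_mul]

theorem conj_mem' (hD : IsRootInvolutionSet D) (ha : a ∈ D) (hb : b ∈ D) : a * b * a ∈ D := by
  have h := hD.conj_mem b hb a
  rwa [inv_self hD ha] at h

theorem pow_two_eq_one_of_comm (hD : IsRootInvolutionSet D) (ha : a ∈ D) (hb : b ∈ D)
    (h : a * b = b * a) : (a * b) ^ 2 = 1 := by
  rw [pow_two, mul_assoc a b, ← mul_assoc b, ← h, mul_assoc a b b, sq_one hD hb, mul_one,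
    sq_one hD ha]

theorem eq_of_comm_of_odd (hD : IsRootInvolutionSet D) (ha : a ∈ D) (hb : b ∈ D)
    (h : a * b = b * a) (ho : Odd (orderOf (a * b))) : a = b := by
  have h2 := orderOf_dvd_of_pow_eq_one (pow_two_eq_one_of_comm hD ha hb h)
  rcases (Nat.dvd_prime Nat.prime_two).1 h2 with h1 | h1
  · exact mul_right_cancel ((orderOf_eq_one_iff.1 h1).trans (sq_one hD hb).symm)
  · rw [h1] at ho; exact absurd ho (by decide)

theorem not_comm_of_four (hD : IsRootInvolutionSet D) (ha : a ∈ D) (hb : b ∈ D)
    (h4 : orderOf (a * b) = 4) : a * b ≠ b * a := fun h => by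
  have h2 := orderOf_dvd_of_pow_eq_one (pow_two_eq_one_of_comm hD ha hb h)
  rw [h4] at h2; omega

theorem ne_of_four (hD : IsRootInvolutionSet D) (ha : a ∈ D) (hb : b ∈ D)
    (h4 : orderOf (a * b) = 4) : a ≠ b := fun h => not_comm_of_four hD ha hb h4 (by rw [h])

theorem sq_mem (hD : IsRootInvolutionSet D) (ha : a ∈ D) (hb : b ∈ D)
    (h4 : orderOf (a * b) = 4) : (a * b) ^ 2 ∈ D := by
  rcases hD.pair a ha b hb with h | h | ⟨_, h⟩
  · exact absurd h (not_comm_of_four hD ha hb h4)
  · rw [h4] at h; exact absurd h (by decide)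
  · exact h

theorem sq_swap (hD : IsRootInvolutionSet D) (ha : a ∈ D) (hb : b ∈ D)
    (h4 : orderOf (a * b) = 4) : (b * a) ^ 2 = (a * b) ^ 2 := by
  have h1 : (b * a) ^ 2 * (a * b) ^ 2 = 1 := by
    simp only [pow_two, mul_assoc, conj_cancel hD ha, conj_cancel hD hb, sq_one hD hb]
  have h2 : (a * b) ^ 2 * (a * b) ^ 2 = 1 := by
    rw [← pow_add, show 2 + 2 = orderOf (a * b) by rw [h4], pow_orderOf_eq_one]
  exact mul_right_cancel (h1.trans h2.symm)

theorem sq_comm_left (hD : IsRootInvolutionSet D) (ha : a ∈ D) (hb : b ∈ D)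
    (h4 : orderOf (a * b) = 4) : a * (a * b) ^ 2 = (a * b) ^ 2 * a := by
  nth_rw 2 [← sq_swap hD ha hb h4]
  simp only [pow_two, mul_assoc, conj_cancel hD ha, sq_one hD ha, mul_one]

theorem sq_comm_right (hD : IsRootInvolutionSet D) (ha : a ∈ D) (hb : b ∈ D)
    (h4 : orderOf (a * b) = 4) : b * (a * b) ^ 2 = (a * b) ^ 2 * b := by
  rw [← sq_swap hD ha hb h4]
  exact sq_comm_left hD hb ha ((orderOf_swap hD ha hb).trans h4)

theorem sq_mul_right (hD : IsRootInvolutionSet D) (hb : b ∈ D) :
    (a * b) ^ 2 * b = a * b * a := by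
  simp only [pow_two, mul_assoc, sq_one hD hb, mul_one]

theorem productPartners_symm (h : b ∈ productPartners D a) (ha : a ∈ D) :
    a ∈ productPartners D b := by
  obtain ⟨⟨_, hc, hne⟩, hp⟩ := h
  exact ⟨⟨ha, hc.symm, hne.symm⟩, hc ▸ hp⟩

theorem mul_mem_productPartners (hD : IsRootInvolutionSet D) (h : b ∈ productPartners D a)
    (ha : a ∈ D) : b * a ∈ productPartners D a := by
  obtain ⟨⟨hb, hc, _⟩, hp⟩ := h
  refine ⟨⟨hp, ?_, fun h => mem_ne_one hD hb (mul_eq_right.1 h)⟩, ?_⟩
  · rw [← mul_assoc, ← hc]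
  · rwa [mul_assoc, sq_one hD ha, mul_one]

/-- If `a b` has order 4 then `(a b)²` is a product partner of `a`. -/
theorem sq_mem_productPartners (hD : IsRootInvolutionSet D) (ha : a ∈ D) (hb : b ∈ D)
    (h4 : orderOf (a * b) = 4) : (a * b) ^ 2 ∈ productPartners D a := by
  refine ⟨⟨sq_mem hD ha hb h4, (sq_comm_left hD ha hb h4).symm, ?_⟩, ?_⟩
  · intro h
    apply mem_ne_one hD ha
    have h' : a * (b * a * b) = a * 1 := by
      rw [mul_one]; conv_rhs => rw [← h]
      simp only [pow_two, mul_assoc]
    have h'' := congrArg (fun z => b * z * b) (mul_left_cancel h')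
    simpa [mul_assoc, conj_cancel hD hb, sq_one hD hb] using h''
  · rw [← sq_swap hD ha hb h4, sq_mul_right hD ha]
    exact conj_mem' hD hb ha

theorem sq_mem_productPartners_right (hD : IsRootInvolutionSet D) (ha : a ∈ D) (hb : b ∈ D)
    (h4 : orderOf (a * b) = 4) : (a * b) ^ 2 ∈ productPartners D b := by
  rw [← sq_swap hD ha hb h4]
  exact sq_mem_productPartners hD hb ha ((orderOf_swap hD ha hb).trans h4)

/-- The two conjugates of a member by an order four partner commute. -/
theorem conj_comm_of_four (hD : IsRootInvolutionSet D) (ha : a ∈ D) (hb : b ∈ D)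
    (h4 : orderOf (a * b) = 4) : (a * b * a) * b = b * (a * b * a) := by
  have h := sq_swap hD ha hb h4
  simp only [pow_two, mul_assoc] at h ⊢
  exact h.symm

theorem four_of_sq_mem (hD : IsRootInvolutionSet D) (h : (a * b) ^ 2 ∈ D) :
    orderOf (a * b) = 4 := by
  apply orderOf_eq_prime_pow (p := 2) (n := 1)
  · simpa using mem_ne_one hD h
  · rw [show 2 ^ (1 + 1) = 2 * 2 from rfl, pow_mul, pow_two]; exact sq_one hD h

/-! ### Odd partners -/

theorem oddPartners_symm (hD : IsRootInvolutionSet D) (ha : a ∈ D) (h : x ∈ oddPartners D a) :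
    a ∈ oddPartners D x :=
  ⟨ha, h.2.1.symm, by rw [orderOf_swap hD ha h.1]; exact h.2.2⟩

theorem oddPartners_not_comm (hD : IsRootInvolutionSet D) (ha : a ∈ D)
    (h : x ∈ oddPartners D a) : a * x ≠ x * a :=
  fun he => h.2.1 (eq_of_comm_of_odd hD ha h.1 he h.2.2).symm

theorem oddPartners_not_four (h : x ∈ oddPartners D a) : orderOf (a * x) ≠ 4 := fun he => by
  have := h.2.2
  rw [he] at this
  exact absurd this (by decide)

theorem eq_or_pair (hD : IsRootInvolutionSet D) (ha : a ∈ D) (hb : b ∈ D) :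
    a * b = b * a ∨ b ∈ oddPartners D a ∨ orderOf (a * b) = 4 := by
  rcases hD.pair a ha b hb with h | h | h
  · exact Or.inl h
  · by_cases he : b = a
    · exact Or.inl (by rw [he])
    · exact Or.inr (Or.inl ⟨hb, he, h⟩)
  · exact Or.inr (Or.inr h.1)

theorem orderOf_mul_odd [Finite G] {w u : G} (hw : orderOf w = 2) (hwu : Commute w u)
    (hu : Odd (orderOf u)) : orderOf (w * u) = 2 * orderOf u := by
  rw [hwu.orderOf_mul_eq_mul_orderOf_of_coprime (by rw [hw]; exact Nat.coprime_two_left.2 hu), hw]

/-- A pair of members cannot have product `w u` with `w` a commuting involution and `u` of odd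
order greater than one. -/
theorem not_twice_odd [Finite G] (hD : IsRootInvolutionSet D) (ha : a ∈ D) (hb : b ∈ D) {w u : G}
    (hw : orderOf w = 2) (hwu : Commute w u) (hu : Odd (orderOf u)) (hu1 : u ≠ 1) :
    a * b ≠ w * u := fun he => by
  have h2 : orderOf (a * b) = 2 * orderOf u := by rw [he]; exact orderOf_mul_odd hw hwu hu
  have hn : orderOf u ≠ 1 := fun h => hu1 (orderOf_eq_one_iff.1 h)
  obtain ⟨k, hk⟩ := hu
  rcases hD.pair a ha b hb with h | h | ⟨h, _⟩
  · have := orderOf_dvd_of_pow_eq_one (pow_two_eq_one_of_comm hD ha hb h)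
    have := Nat.le_of_dvd two_pos this
    omega
  · rw [Nat.odd_iff] at h; omega
  · omega

/-- A product partner of `a` does not commute with an odd partner of `a`. -/
theorem partner_not_comm [Finite G] (hD : IsRootInvolutionSet D) (ha : a ∈ D)
    (hx : x ∈ oddPartners D a) (hc : c ∈ productPartners D a) : c * x ≠ x * c := by
  intro h
  obtain ⟨⟨hcD, hca, _⟩, hp⟩ := hc
  refine not_twice_odd hD hp hx.1 (hD.orderOf_eq c hcD) ?_ hx.2.2 ?_ (mul_assoc c a x)
  · exact Commute.mul_right hca h
  · exact fun h1 => oddPartners_not_comm hD ha hx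
      (by rw [mul_eq_one_iff_eq_inv.1 h1, inv_self hD hx.1])

theorem exists_conj_mem_closure (hD : IsRootInvolutionSet D) (ha : a ∈ D)
    (hx : x ∈ oddPartners D a) :
    ∃ u ∈ Subgroup.closure ({a, x} : Set G), u * a * u⁻¹ = x :=
  Involution.exists_conj_of_odd (sq_one hD ha) (sq_one hD hx.1) hx.2.2

/-- If `a` and `x` have product of odd order, `x c` has order 4 and `a` commutes with `c`, then
`a` does not commute with `(c x)²`. -/
theorem not_pair (hD : IsRootInvolutionSet D) (ha : a ∈ D) (hx : x ∈ oddPartners D a)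
    (hc : c ∈ D) (h4 : orderOf (c * x) = 4) (h1 : a * c = c * a)
    (h2 : a * (c * x) ^ 2 = (c * x) ^ 2 * a) : False := by
  set q := (c * x) ^ 2 with hq
  set W := Subgroup.closure ({c, q} : Set G) with hW
  have haW : ∀ h ∈ W, a * h = h * a := by
    intro h hh
    have : W ≤ Subgroup.centralizer ({a} : Set G) := by
      rw [hW, Subgroup.closure_le]
      rintro z (rfl | rfl) <;> rw [SetLike.mem_coe, Subgroup.mem_centralizer_singleton_iff]
      · exact h1.symm
      · exact h2.symm
    exact (Subgroup.mem_centralizer_singleton_iff.1 (this hh)).symm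
  have hxq : x * q * x⁻¹ = q := by
    rw [sq_comm_right hD hc hx.1 h4, mul_inv_cancel_right]
  have hxc : x * c * x⁻¹ = c * q := by
    rw [inv_self hD hx.1, hq, pow_two]
    simp only [mul_assoc, conj_cancel hD hc]
  have hxW : x ∈ Subgroup.normalizer (W : Set G) := by
    have hle : ∀ h ∈ W, x * h * x⁻¹ ∈ W := by
      intro h hh
      have : W ≤ W.comap (MulAut.conj x).toMonoidHom := by
        rw [hW, Subgroup.closure_le]
        rintro z (rfl | rfl) <;>
          simp only [SetLike.mem_coe, Subgroup.mem_comap, MulEquiv.coe_toMonoidHom,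
            MulAut.conj_apply]
        · rw [hxc]
          exact mul_mem (Subgroup.subset_closure (by simp)) (Subgroup.subset_closure (by simp))
        · rw [hxq]; exact Subgroup.subset_closure (by simp)
      exact this hh
    rw [Subgroup.mem_normalizer_iff]
    refine fun h => ⟨hle h, fun hh => ?_⟩
    have := hle _ hh
    simpa [inv_self hD hx.1, mul_assoc, conj_cancel hD hx.1, sq_one hD hx.1] using this
  have haN : a ∈ Subgroup.normalizer (W : Set G) := by
    rw [Subgroup.mem_normalizer_iff]
    intro h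
    constructor
    · intro hh; rwa [haW h hh, mul_inv_cancel_right]
    · intro hh
      have h' := mul_left_cancel ((haW _ hh).trans (inv_mul_cancel_right (a * h) a))
      rwa [h'] at hh
  obtain ⟨u, hu, hux⟩ := exists_conj_mem_closure hD ha hx
  have huN : u ∈ Subgroup.normalizer (W : Set G) := by
    refine (Subgroup.closure_le _).2 ?_ hu
    rintro z (rfl | rfl)
    · exact haN
    · exact hxW
  have hcW : u⁻¹ * c * u ∈ W := by
    have := (Subgroup.mem_normalizer_iff.1 (inv_mem huN) c).1 (Subgroup.subset_closure (by simp))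
    rwa [inv_inv] at this
  apply not_comm_of_four hD hc hx.1 h4
  have hh := haW _ hcW
  calc c * x = u * ((u⁻¹ * c * u) * a) * u⁻¹ := by rw [← hux]; group
    _ = u * (a * (u⁻¹ * c * u)) * u⁻¹ := by rw [hh]
    _ = x * c := by rw [← hux]; group

/-! ### The three members of a line and an outside member -/

/-- If `x` is an odd partner of `a` and has product of order 4 with a product partner `c` of `a`,
then it has product of odd order with `c a`. -/
theorem line_adj [Finite G] (hD : IsRootInvolutionSet D) (ha : a ∈ D)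
    (hx : x ∈ oddPartners D a) (hc : c ∈ productPartners D a) (h4 : orderOf (c * x) = 4) :
    x ∈ oddPartners D (c * a) := by
  have hp := mul_mem_productPartners hD hc ha
  rcases eq_or_pair hD hp.1.1 hx.1 with h | h | h
  · exact absurd h (partner_not_comm hD ha hx hp)
  · exact h
  exfalso
  have hcD := hc.1.1
  set t := c * x * c with ht
  have h1 : Commute t x := conj_comm_of_four hD hcD hx.1 h4
  have h2 : Commute t (a * x * a) := by
    have h' := conj_comm_of_four hD hp.1.1 hx.1 h
    have e : c * a * x * (c * a) = a * t * a := by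
      conv_lhs => arg 1; arg 1; rw [hc.1.2.1]
      simp only [ht, mul_assoc]
    rw [e] at h'
    have h'' := congrArg (fun z => a * z * a) h'
    simp only [mul_assoc, conj_cancel hD ha, sq_one hD ha, mul_one] at h''
    simpa [Commute, SemiconjBy, mul_assoc] using h''
  have h3 : Commute t ((x * a) ^ 2) := by
    have e : (x * a) ^ 2 = x * (a * x * a) := by simp only [pow_two, mul_assoc]
    rw [e]; exact h1.mul_right h2
  have h5 : Commute t (x * a) := by
    have hodd : Odd (orderOf (x * a)) := by rw [orderOf_swap hD ha hx.1]; exact hx.2.2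
    obtain ⟨k, hk⟩ := hodd
    have e : x * a = ((x * a) ^ 2) ^ (k + 1) := by
      rw [← pow_mul, show 2 * (k + 1) = orderOf (x * a) + 1 by omega, pow_succ,
        pow_orderOf_eq_one, one_mul]
    rw [e]; exact h3.pow_right _
  have h6 : Commute t a := by
    have e := h1.mul_right h5
    rwa [conj_cancel hD hx.1] at e
  apply oddPartners_not_comm hD ha hx
  have e := congrArg (fun z => c * z * c) h6.eq
  simp only [ht, mul_assoc, conj_cancel hD hcD] at e
  have hca : ∀ z, c * (a * z) = a * (c * z) := fun z => by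
    rw [← mul_assoc, hc.1.2.1, mul_assoc]
  simp only [hca, conj_cancel hD hcD, sq_one hD hcD, mul_one] at e
  exact e.symm

/-- The product partners of `g` having product of order 4 with `x`. -/
def fourSide (D : Set G) (g x : G) : Set G := {c | c ∈ productPartners D g ∧ orderOf (c * x) = 4}

theorem sq_mem_fourSide [Finite G] (hD : IsRootInvolutionSet D) (hg : g ∈ D)
    (hx : x ∈ oddPartners D g) (hc : c ∈ fourSide D g x) : (c * x) ^ 2 ∈ fourSide D x g := by
  obtain ⟨hcX, h4⟩ := hc
  refine ⟨sq_mem_productPartners_right hD hcX.1.1 hx.1 h4, ?_⟩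
  rcases eq_or_pair hD hg (sq_mem hD hcX.1.1 hx.1 h4) with h | h | h
  · exact absurd (not_pair hD hg hx hcX.1.1 h4 hcX.1.2.1.symm h) not_false
  · exact absurd (sq_comm_left hD hcX.1.1 hx.1 h4) (partner_not_comm hD hg h hcX)
  · rwa [orderOf_swap hD hg (sq_mem hD hcX.1.1 hx.1 h4)]

theorem fourSide_inj_comm [Finite G] (hD : IsRootInvolutionSet D) (hg : g ∈ D)
    (hx : x ∈ oddPartners D g) (hc : c ∈ fourSide D g x) (he : e ∈ fourSide D g x)
    (hce : c * e = e * c) (hsq : (c * x) ^ 2 = (e * x) ^ 2) : c = e := by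
  by_contra hne
  have hcD := hc.1.1.1
  have heD := he.1.1.1
  have hwx : Commute (e * c) x := by
    have h := congrArg (fun z => e * (z * x) * c) hsq
    simp only [pow_two, mul_assoc, sq_one hD hx.1, mul_one, conj_cancel hD heD,
      sq_one hD hcD] at h
    simpa [Commute, SemiconjBy, mul_assoc] using h
  have hw2 : orderOf (e * c) = 2 := Involution.orderOf_eq_two
    (by rw [← pow_two]; exact pow_two_eq_one_of_comm hD heD hcD hce.symm)
    (fun h => hne (by rw [mul_eq_one_iff_eq_inv.1 h, inv_self hD hcD]))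
  have hwc : Commute (e * c) c := Commute.mul_left hce.symm (Commute.refl c)
  have hwg : Commute (e * c) g := Commute.mul_left he.1.1.2.1 hc.1.1.2.1
  have hcx := line_adj hD hg hx hc.1 hc.2
  refine not_twice_odd hD (mul_mem_productPartners hD he.1 hg).1.1 hx.1 hw2
    ((hwc.mul_right hwg).mul_right hwx) hcx.2.2 ?_ ?_
  · exact fun h => hcx.2.1 (by rw [mul_eq_one_iff_eq_inv.1 h, inv_self hD hx.1])
  · simp only [mul_assoc, conj_cancel hD hcD]

theorem fourSide_inj [Finite G] (hD : IsRootInvolutionSet D) (hg : g ∈ D)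
    (hx : x ∈ oddPartners D g) (hc : c ∈ fourSide D g x) (he : e ∈ fourSide D g x)
    (hsq : (c * x) ^ 2 = (e * x) ^ 2) : c = e := by
  have hcD := hc.1.1.1
  have heD := he.1.1.1
  rcases eq_or_pair hD hcD heD with h | h | h
  · exact fourSide_inj_comm hD hg hx hc he h hsq
  · exact absurd he.1.1.2.1.symm (partner_not_comm hD hcD h (productPartners_symm hc.1 hg))
  exfalso
  -- the conjugate of `c` by `e` commutes with `c` and has the same image
  set f := e * c * e with hf
  have hfD : f ∈ D := conj_mem' hD heD hcD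
  have hfc : f * c = c * f := conj_comm_of_four hD heD hcD ((orderOf_swap hD hcD heD).trans h)
  have hne : f ≠ c := fun h' => not_comm_of_four hD hcD heD h (by
    have e' := congrArg (fun z => z * e) h'
    simp only [hf, mul_assoc, sq_one hD heD, mul_one] at e'
    exact e'.symm)
  have hfg : Commute f g := (Commute.mul_left he.1.1.2.1 hc.1.1.2.1).mul_left he.1.1.2.1
  have hfne : f ≠ g := fun h' => hc.1.1.2.2 (by
    have e' := congrArg (fun z => e * z * e) h'
    simp only [hf, mul_assoc, conj_cancel hD heD, sq_one hD heD, mul_one] at e'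
    rw [← mul_assoc e g, he.1.1.2.1, mul_assoc g, sq_one hD heD, mul_one] at e'
    exact e')
  have hfp : f * g ∈ D := by
    have e' : f * g = e * (c * g) * e := by
      simp only [hf, mul_assoc]; rw [he.1.1.2.1]
    rw [e']; exact conj_mem' hD heD hc.1.2
  have hwx : Commute (e * c) x := by
    have h' := congrArg (fun z => e * (z * x) * c) hsq
    simp only [pow_two, mul_assoc, sq_one hD hx.1, mul_one, conj_cancel hD heD,
      sq_one hD hcD] at h'
    simpa [Commute, SemiconjBy, mul_assoc] using h'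
  have hfx : (f * x) ^ 2 = (c * x) ^ 2 := by
    have h1 : Commute (e * c) ((c * x) ^ 2) :=
      Commute.mul_left (hsq ▸ sq_comm_left hD heD hx.1 he.2) (sq_comm_left hD hcD hx.1 hc.2)
    have h3 : e * x * e = (c * x) ^ 2 * x := by rw [hsq, sq_mul_right hD hx.1]
    have h4 : f * x * f = (c * x) ^ 2 * x := by
      calc f * x * f = (e * c) * (e * x * e) * (e * c)⁻¹ := by
            simp only [hf, mul_inv_rev, inv_self hD hcD, inv_self hD heD, mul_assoc]
        _ = (c * x) ^ 2 * x := by
            rw [h3, (h1.mul_right hwx).eq, mul_inv_cancel_right]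
    calc (f * x) ^ 2 = (f * x * f) * x := by simp only [pow_two, mul_assoc]
      _ = (c * x) ^ 2 := by rw [h4, mul_assoc, sq_one hD hx.1, mul_one]
  have hf4 : orderOf (f * x) = 4 := four_of_sq_mem hD (hfx ▸ sq_mem hD hcD hx.1 hc.2)
  exact hne (fourSide_inj_comm hD hg hx ⟨⟨⟨hfD, hfg, hfne⟩, hfp⟩, hf4⟩ hc hfc hfx)

/-- The squaring maps between the two sides of a pair with product of odd order are bijective. -/
theorem fourSide_surj [Finite G] (hD : IsRootInvolutionSet D) (hg : g ∈ D)
    (hx : x ∈ oddPartners D g) (hb : b ∈ fourSide D g x) :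
    ∃ h ∈ fourSide D x g, (h * g) ^ 2 = b := by
  have hgx := oddPartners_symm hD hg hx
  have h1 : (fourSide D g x).ncard ≤ (fourSide D x g).ncard :=
    Set.ncard_le_ncard_of_injOn (fun c => (c * x) ^ 2) (fun c hc => sq_mem_fourSide hD hg hx hc)
      (fun c hc e he h => fourSide_inj hD hg hx hc he h)
  have h2 : Set.InjOn (fun c => (c * g) ^ 2) (fourSide D x g) :=
    fun c hc e he h => fourSide_inj hD hx.1 hgx hc he h
  have h3 : (fun c => (c * g) ^ 2) '' fourSide D x g = fourSide D g x := by
    refine Set.eq_of_subset_of_ncard_le ?_ ?_ (Set.toFinite _)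
    · rintro _ ⟨c, hc, rfl⟩; exact sq_mem_fourSide hD hx.1 hgx hc
    · rwa [h2.ncard_image]
  rw [← h3] at hb
  obtain ⟨h, hh, he⟩ := hb
  exact ⟨h, hh, he⟩

/-- A product partner `b` of `g` is the square of `h g` for some `h` commuting with `b`, as soon
as some odd partner of `g` is not an odd partner of `b`. -/
theorem exists_root [Finite G] (hD : IsRootInvolutionSet D) (hg : g ∈ D)
    (hb : b ∈ productPartners D g) (hne : ¬ oddPartners D g ⊆ oddPartners D b) :
    ∃ h ∈ D, h * b = b * h ∧ orderOf (h * g) = 4 ∧ (h * g) ^ 2 = b := by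
  obtain ⟨x, hx, hxb⟩ := Set.not_subset.1 hne
  rcases eq_or_pair hD hb.1.1 hx.1 with h | h | h
  · exact absurd h (partner_not_comm hD hg hx hb)
  · exact absurd h hxb
  obtain ⟨k, hk, hkb⟩ := fourSide_surj hD hg hx ⟨hb, h⟩
  exact ⟨k, hk.1.1.1, hkb ▸ sq_comm_left hD hk.1.1.1 hg hk.2, hk.2, hkb⟩

/-! ### Connected sets -/

theorem orderOf_conj_mul (v a b : G) :
    orderOf ((v * a * v⁻¹) * (v * b * v⁻¹)) = orderOf (a * b) := by
  rw [show (v * a * v⁻¹) * (v * b * v⁻¹) = v * (a * b) * v⁻¹ by group]
  exact Involution.orderOf_conj_eq v _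

theorem mem_oddPartners_conj (hD : IsRootInvolutionSet D) (v : G) :
    v * e * v⁻¹ ∈ oddPartners D (v * a * v⁻¹) ↔ e ∈ oddPartners D a := by
  simp only [oddPartners, Set.mem_ofPred_eq, orderOf_conj_mul, ne_eq, mul_left_inj, mul_right_inj]
  refine ⟨fun h => ⟨?_, h.2⟩, fun h => ⟨hD.conj_mem e h.1 v, h.2⟩⟩
  have := hD.conj_mem _ h.1 v⁻¹
  simpa [mul_assoc] using this

theorem oddPartners_conj (hD : IsRootInvolutionSet D) (v a : G) :
    oddPartners D (v * a * v⁻¹) = (fun e => v * e * v⁻¹) '' oddPartners D a := by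
  ext y
  constructor
  · intro hy
    refine ⟨v⁻¹ * y * v, ?_, by group⟩
    rw [← mem_oddPartners_conj hD v]
    convert hy using 1
    group
  · rintro ⟨e, he, rfl⟩; exact (mem_oddPartners_conj hD v).2 he

theorem exists_conj (hD : IsRootInvolutionSet D) (hcon : IsConnectedSet (OddAdj D) D)
    (ha : a ∈ D) (hb : b ∈ D) : ∃ v : G, v * a * v⁻¹ = b := by
  have h := hcon a ha b hb
  induction h with
  | refl => exact ⟨1, by simp⟩
  | @tail y z _ hyz ih =>
    obtain ⟨v, hv⟩ := ih hyz.1
    obtain ⟨hy, hz, hne, ho⟩ := hyz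
    obtain ⟨u, -, hu⟩ := exists_conj_mem_closure hD hy (x := z) ⟨hz, hne.symm, ho⟩
    exact ⟨u * v, by rw [← hu, ← hv]; group⟩

theorem ncard_oddPartners_eq (hD : IsRootInvolutionSet D) (hcon : IsConnectedSet (OddAdj D) D)
    (ha : a ∈ D) (hb : b ∈ D) : (oddPartners D a).ncard = (oddPartners D b).ncard := by
  obtain ⟨v, rfl⟩ := exists_conj hD hcon ha hb
  rw [oddPartners_conj hD v a]
  refine (Set.ncard_image_of_injective _ ?_).symm
  intro p q h
  simpa using h

theorem oddPartners_eq_of_subset [Finite G] (hD : IsRootInvolutionSet D)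
    (hcon : IsConnectedSet (OddAdj D) D) (ha : a ∈ D) (hb : b ∈ D)
    (h : oddPartners D a ⊆ oddPartners D b) : oddPartners D a = oddPartners D b :=
  Set.eq_of_subset_of_ncard_le h (ncard_oddPartners_eq hD hcon ha hb).ge (Set.toFinite _)

theorem oddPartners_nonempty (hcon : IsConnectedSet (OddAdj D) D) (ha : a ∈ D) (hb : b ∈ D)
    (hne : a ≠ b) : (oddPartners D a).Nonempty := by
  rcases Relation.ReflTransGen.cases_head (hcon a ha b hb) with h | ⟨y, hy, -⟩
  · exact absurd h hne
  · exact ⟨y, hy.2.1, hy.2.2.1.symm, hy.2.2.2⟩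

theorem isPGroup_closure_pair (hD : IsRootInvolutionSet D) (ha : a ∈ D) (hb : b ∈ D)
    (h : b ∉ oddPartners D a) : IsPGroup 2 (Subgroup.closure ({a, b} : Set G)) := by
  refine Involution.isPGroup_two_closure_pair (sq_one hD ha) (sq_one hD hb) 2 ?_
  rcases eq_or_pair hD ha hb with h' | h' | h'
  · rw [pow_succ 2 1, pow_one, pow_mul, pow_two_eq_one_of_comm hD ha hb h', one_pow]
  · exact absurd h' h
  · rw [show (2 : ℕ) ^ 2 = orderOf (a * b) by rw [h']; rfl, pow_orderOf_eq_one]

/-- If `a b` has order 4 and `g = (a b)²`, then `a` and `g` have different odd partners. -/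
theorem oddPartners_sq_not_subset [Finite G] (hD : IsRootInvolutionSet D)
    (hcon : IsConnectedSet (OddAdj D) D) (ha : a ∈ D) (hb : b ∈ D) (h4 : orderOf (a * b) = 4) :
    ¬ oddPartners D ((a * b) ^ 2) ⊆ oddPartners D a := by
  intro hsub
  have hgD := sq_mem hD ha hb h4
  have hga := oddPartners_eq_of_subset hD hcon hgD ha hsub
  by_cases hgb : oddPartners D ((a * b) ^ 2) ⊆ oddPartners D b
  · -- the members with the same odd partners generate a perfect two-group
    have hba := oddPartners_eq_of_subset hD hcon hgD hb hgb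
    set A := oddPartners D a with hA
    have hbA : oddPartners D b = A := hba ▸ hga
    let H : Subgroup G :=
      { carrier := {v | (fun e => v * e * v⁻¹) '' A = A}
        one_mem' := by simp
        mul_mem' := fun {u v} hu hv => by
          simp only [Set.mem_ofPred_eq] at hu hv ⊢
          conv_rhs => rw [← hu, ← hv, ← Set.image_comp]
          exact Set.image_congr fun e _ => by simp [mul_assoc]
        inv_mem' := fun {v} hv => by
          simp only [Set.mem_ofPred_eq] at hv ⊢
          conv_lhs => rw [← hv, ← Set.image_comp]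
          simp [mul_assoc] }
    set Δ := {d | d ∈ D ∧ oddPartners D d = A} with hΔ
    have hconjΔ : ∀ v ∈ H, ∀ d ∈ Δ, v * d * v⁻¹ ∈ Δ := fun v hv d hd =>
      ⟨hD.conj_mem d hd.1 v, by rw [oddPartners_conj hD, hd.2]; exact hv⟩
    have hΔH : ∀ d ∈ Δ, d ∈ H := fun d hd => by
      show _ = A
      conv_rhs => rw [← hd.2, show d = d * d * d⁻¹ by rw [mul_inv_cancel_right],
        oddPartners_conj hD, hd.2]
    have hne : A.Nonempty := oddPartners_nonempty hcon ha hb (ne_of_four hD ha hb h4)
    obtain ⟨x, hx⟩ := hne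
    have htrans : ∀ d ∈ Δ, ∀ e ∈ Δ, ∃ v ∈ H, v * d * v⁻¹ = e := by
      intro d hd e he
      obtain ⟨u, -, hu⟩ := exists_conj_mem_closure hD hd.1 (x := x) (hd.2.symm ▸ hx)
      obtain ⟨w, -, hw⟩ := exists_conj_mem_closure hD he.1 (x := x) (he.2.symm ▸ hx)
      have he' : (w⁻¹ * u) * d * (w⁻¹ * u)⁻¹ = e := by
        calc (w⁻¹ * u) * d * (w⁻¹ * u)⁻¹ = w⁻¹ * (u * d * u⁻¹) * w := by group
          _ = e := by rw [hu, ← hw]; group
      refine ⟨w⁻¹ * u, ?_, he'⟩
      show _ = A
      conv_rhs => rw [← he.2, ← he', oddPartners_conj hD, hd.2]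
    have haΔ : a ∈ Δ := ⟨ha, rfl⟩
    have hbΔ : b ∈ Δ := ⟨hb, hbA⟩
    obtain ⟨N, hN, hN2, haN⟩ := Involution.baer_suzuki_element (p := 2) (⟨a, hΔH a haΔ⟩ : H)
      (fun v => by
        have hvΔ := hconjΔ v v.2 a haΔ
        have h := isPGroup_closure_pair hD ha hvΔ.1 fun h =>
          (show (v : G) * a * (v : G)⁻¹ ∈ oddPartners D ((v : G) * a * (v : G)⁻¹) by
            rw [hvΔ.2]; exact h).2.1 rfl
        refine (h.comap_of_injective H.subtype H.subtype_injective).to_le ?_
        rw [Subgroup.closure_le]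
        rintro z (rfl | rfl)
        · exact Subgroup.subset_closure (by simp)
        · exact Subgroup.subset_closure (by simp))
    set P := Subgroup.closure Δ with hP
    have hPN : P ≤ N.map H.subtype := by
      rw [hP, Subgroup.closure_le]
      intro d hd
      obtain ⟨v, hv, hvd⟩ := htrans a haΔ d hd
      exact ⟨⟨v, hv⟩ * ⟨a, hΔH a haΔ⟩ * ⟨v, hv⟩⁻¹, hN.conj_mem _ haN _, by simp [← hvd]⟩
    have hP2 : IsPGroup 2 P := (hN2.map H.subtype).to_le hPN
    have hgP : (a * b) ^ 2 ∈ ⁅P, P⁆ := by
      have h := Subgroup.commutator_mem_commutator (H₁ := P) (H₂ := P)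
        (Subgroup.subset_closure haΔ) (Subgroup.subset_closure hbΔ)
      rwa [commutatorElement_def, inv_self hD ha, inv_self hD hb, mul_assoc (a * b),
        ← pow_two] at h
    have hgΔ : (a * b) ^ 2 ∈ Δ := ⟨hgD, hga⟩
    have hPP : P ≤ ⁅P, P⁆ := by
      rw [hP, Subgroup.closure_le]
      intro d hd
      obtain ⟨v, hv, rfl⟩ := htrans _ hgΔ d hd
      have hmap : ⁅P, P⁆.map (MulAut.conj v).toMonoidHom ≤ ⁅P, P⁆ := by
        rw [Subgroup.map_commutator]
        have : P.map (MulAut.conj v).toMonoidHom ≤ P := by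
          rw [hP, MonoidHom.map_closure, Subgroup.closure_le]
          rintro _ ⟨e, he, rfl⟩
          exact Subgroup.subset_closure (hconjΔ v hv e he)
        exact Subgroup.commutator_mono this this
      exact hmap ⟨_, hgP, rfl⟩
    have : Nontrivial P :=
      ⟨⟨⟨a, Subgroup.subset_closure haΔ⟩, 1, fun h => mem_ne_one hD ha (congrArg Subtype.val h)⟩⟩
    have : Group.IsNilpotent P := hP2.isNilpotent
    have : Group.IsSolvable P := inferInstance
    have hlt := Group.IsSolvable.commutator_lt_top_of_nontrivial P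
    refine hlt.ne (Subgroup.map_injective P.subtype_injective ?_)
    rw [Subgroup.map_subtype_commutator, ← MonoidHom.range_eq_map, Subgroup.range_subtype]
    exact le_antisymm (Subgroup.commutator_le_self P) hPP
  · -- a root of `b` gives an element moving `g`
    set g := (a * b) ^ 2 with hg
    obtain ⟨h, hh, hhb, hh4, hsq⟩ := exists_root hD hgD (sq_mem_productPartners_right hD ha hb h4
      |> fun h => productPartners_symm h hb) hgb
    have hha : h ∉ oddPartners D a := fun h' => by
      refine oddPartners_not_four (hga ▸ h' : h ∈ oddPartners D g) ?_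
      rw [orderOf_swap hD hh hgD]; exact hh4
    have hm4 : (h * a) ^ 4 = 1 := by
      rcases eq_or_pair hD hh ha with h' | h' | h'
      · rw [show 4 = 2 * 2 from rfl, pow_mul, pow_two_eq_one_of_comm hD hh ha h', one_pow]
      · exact absurd (oddPartners_symm hD hh h') hha
      · rw [← h', pow_orderOf_eq_one]
    have hhm : Commute h ((h * a) ^ 2) := by
      have e1 : (h * a) ^ 2 = (a * h) ^ 2 := by
        have e : (h * a) ^ 2 * (a * h) ^ 2 = 1 := by
          simp only [pow_two, mul_assoc, conj_cancel hD ha, conj_cancel hD hh, sq_one hD hh]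
        exact mul_left_cancel ((show (h * a) ^ 2 * (h * a) ^ 2 = 1 by rw [← pow_add]; exact hm4).trans
          e.symm)
      show h * (h * a) ^ 2 = (h * a) ^ 2 * h
      nth_rw 2 [e1]
      simp only [pow_two, mul_assoc, conj_cancel hD hh, sq_one hD hh, mul_one]
    have hhb' : Commute h b := hhb
    have hkey : (h * a) ^ 2 * b * ((h * a) ^ 2)⁻¹ * b = g := by
      have e1 : a * b * a = g * b := (sq_mul_right hD hb).symm
      have e2 : h * g * h = b * g := by
        rw [← hsq]; simp only [pow_two, mul_assoc, sq_one hD hgD, mul_one]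
      have hga' : a * g = g * a := sq_comm_left hD ha hb h4
      have hgb' : b * g = g * b := sq_comm_right hD ha hb h4
      calc (h * a) ^ 2 * b * ((h * a) ^ 2)⁻¹ * b
          = h * a * h * (a * b * a) * h * a * h * b := by
            simp only [pow_two, mul_inv_rev, inv_self hD hh, inv_self hD ha, mul_assoc]
        _ = h * a * h * g * (b * h) * a * (h * b) := by rw [e1]; simp only [mul_assoc]
        _ = h * a * (h * g * h) * b * a * b * h := by rw [← hhb]; simp only [hhb, mul_assoc]
        _ = h * (a * b) * (g * b) * a * b * h := by rw [e2]; simp only [mul_assoc]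
        _ = h * a * g * (a * b * h) := by
            rw [← hgb']; simp only [mul_assoc, conj_cancel hD hb]
        _ = h * g * b * h := by
            rw [mul_assoc h a, hga']; simp only [mul_assoc, conj_cancel hD ha]
        _ = h * g * h * b := by rw [mul_assoc (h * g), ← hhb, ← mul_assoc]
        _ = g := by rw [e2, hgb', mul_assoc, sq_one hD hb, mul_one]
    apply not_comm_of_four hD hh hgD hh4
    rw [← hkey]
    exact ((hhm.mul_right hhb').mul_right hhm.inv_right).mul_right hhb'

theorem orderOf_eq_three [Finite G] (hD : IsRootInvolutionSet D) (ha : a ∈ D) (hb : b ∈ D)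
    (hx : x ∈ D) (h4 : orderOf (a * b) = 4) (hxa : x * a = a * x)
    (hx4 : orderOf (x * (a * b) ^ 2) = 4) (hsq : (x * (a * b) ^ 2) ^ 2 = a) :
    orderOf (b * x) = 3 := by
  have hgD := sq_mem hD ha hb h4
  set g := (a * b) ^ 2 with hg
  set y := b * x with hy
  have hxg : x * g * x⁻¹ = a * g := by
    rw [inv_self hD hx, ← hsq]
    simp only [pow_two, mul_assoc, sq_one hD hgD, mul_one]
  have hxa' : x * a * x⁻¹ = a := by rw [hxa, mul_inv_cancel_right]
  have hbg : b * g * b⁻¹ = g := by rw [sq_comm_right hD ha hb h4, mul_inv_cancel_right]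
  have hba : b * a * b⁻¹ = a * g := by
    rw [inv_self hD hb, hg, pow_two]
    simp only [mul_assoc, conj_cancel hD ha]
  have hga : g * a = a * g := (sq_comm_left hD ha hb h4).symm
  have hy1 : y * g * y⁻¹ = a := by
    calc y * g * y⁻¹ = b * (x * g * x⁻¹) * b⁻¹ := by rw [hy]; group
      _ = (b * a * b⁻¹) * (b * g * b⁻¹) := by rw [hxg]; group
      _ = a := by rw [hba, hbg, mul_assoc, sq_one hD hgD, mul_one]
  have hy2 : y * a * y⁻¹ = a * g := by
    calc y * a * y⁻¹ = b * (x * a * x⁻¹) * b⁻¹ := by rw [hy]; group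
      _ = a * g := by rw [hxa', hba]
  have hy3 : y * (a * g) * y⁻¹ = g := by
    calc y * (a * g) * y⁻¹ = (y * a * y⁻¹) * (y * g * y⁻¹) := by group
      _ = g := by rw [hy1, hy2, mul_assoc, hga, conj_cancel hD ha]
  have hne1 : a ≠ g := (sq_mem_productPartners hD ha hb h4).1.2.2.symm
  have hne2 : a * g ≠ g := fun h => mem_ne_one hD ha (mul_eq_right.1 h)
  -- `y` permutes the three members cyclically
  have hcube : y ^ 3 * g * (y ^ 3)⁻¹ = g := by
    calc y ^ 3 * g * (y ^ 3)⁻¹ = y * (y * (y * g * y⁻¹) * y⁻¹) * y⁻¹ := by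
          simp only [pow_succ, pow_zero, one_mul]; group
      _ = g := by rw [hy1, hy2, hy3]
  have hcube' : y ^ 3 * a * (y ^ 3)⁻¹ = a := by
    calc y ^ 3 * a * (y ^ 3)⁻¹ = y * (y * (y * a * y⁻¹) * y⁻¹) * y⁻¹ := by
          simp only [pow_succ, pow_zero, one_mul]; group
      _ = a := by rw [hy2, hy3, hy1]
  have h3dvd : 3 ∣ orderOf y := by
    have hfix : ∀ k : ℕ, (y ^ 3) ^ k * g * ((y ^ 3) ^ k)⁻¹ = g := by
      intro k
      induction k with
      | zero => simp
      | succ k ih =>
        calc (y ^ 3) ^ (k + 1) * g * ((y ^ 3) ^ (k + 1))⁻¹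
            = (y ^ 3) ^ k * (y ^ 3 * g * (y ^ 3)⁻¹) * ((y ^ 3) ^ k)⁻¹ := by
              rw [pow_succ]; group
          _ = g := by rw [hcube, ih]
    obtain ⟨q, r, hr, hn⟩ : ∃ q r, r < 3 ∧ orderOf y = r + 3 * q :=
      ⟨orderOf y / 3, orderOf y % 3, Nat.mod_lt _ (by norm_num), (Nat.mod_add_div _ 3).symm⟩
    have h1 : y ^ r * g * (y ^ r)⁻¹ = g := by
      calc y ^ r * g * (y ^ r)⁻¹ = y ^ r * ((y ^ 3) ^ q * g * ((y ^ 3) ^ q)⁻¹) * (y ^ r)⁻¹ := by
            rw [hfix]
        _ = y ^ (r + 3 * q) * g * (y ^ (r + 3 * q))⁻¹ := by rw [pow_add, pow_mul]; group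
        _ = g := by rw [← hn, pow_orderOf_eq_one]; group
    interval_cases r
    · exact ⟨q, by omega⟩
    · rw [pow_one, hy1] at h1; exact absurd h1 hne1
    · rw [show y ^ 2 * g * (y ^ 2)⁻¹ = y * (y * g * y⁻¹) * y⁻¹ by rw [pow_two]; group, hy1,
        hy2] at h1
      exact absurd h1 hne2
  have hodd : Odd (orderOf y) := by
    rcases hD.pair b hb x hx with h | h | ⟨h, -⟩
    · have := h3dvd.trans (orderOf_dvd_of_pow_eq_one (pow_two_eq_one_of_comm hD hb hx h))
      omega
    · exact h
    · rw [h] at h3dvd; omega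
  by_contra hne
  -- a second member acting on the triple like `x`
  set z := y ^ 3 * x with hz
  have hzD : z ∈ D := by
    have e : z = (b * x) * b * (b * x)⁻¹ := by
      simp only [hz, hy, pow_succ, pow_zero, one_mul, mul_inv_rev, inv_self hD hb, inv_self hD hx,
        mul_assoc, sq_one hD hx, mul_one]
    rw [e]; exact hD.conj_mem b hb _
  have hza : a * z = z * a := by
    have : z * a * z⁻¹ = a := by
      calc z * a * z⁻¹ = y ^ 3 * (x * a * x⁻¹) * (y ^ 3)⁻¹ := by rw [hz]; group
        _ = a := by rw [hxa', hcube']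
    exact (mul_inv_eq_iff_eq_mul.1 this).symm
  have hzx : z ∈ oddPartners D x := by
    have e : z * x = y ^ 3 := by rw [hz, mul_assoc, sq_one hD hx, mul_one]
    refine ⟨hzD, ?_, ?_⟩
    · intro h
      rw [h, sq_one hD hx] at e
      have := orderOf_dvd_of_pow_eq_one e.symm
      exact hne (Nat.dvd_antisymm this h3dvd)
    · rw [orderOf_swap hD hzD hx, e]
      exact hodd.of_dvd_nat (orderOf_pow_dvd 3)
  exact partner_not_comm hD hx hzx (hsq ▸ sq_mem_productPartners hD hx hgD hx4) hza

/-- The completion: if `a b` has order 4 and `g = (a b)²`, then some member `x` commutes with `a`,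
satisfies `(x g)² = a` and has product of order 3 with `b`. -/
theorem completion [Finite G] (hD : IsRootInvolutionSet D) (hcon : IsConnectedSet (OddAdj D) D)
    (ha : a ∈ D) (hb : b ∈ D) (h4 : orderOf (a * b) = 4) :
    ∃ x ∈ D, x * a = a * x ∧ orderOf (x * (a * b) ^ 2) = 4 ∧
      (x * (a * b) ^ 2) ^ 2 = a ∧ orderOf (b * x) = 3 := by
  have hgD := sq_mem hD ha hb h4
  obtain ⟨x, hx, hxa, hx4, hsq⟩ := exists_root hD hgD
    (productPartners_symm (sq_mem_productPartners hD ha hb h4) ha)
    (oddPartners_sq_not_subset hD hcon ha hb h4)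
  exact ⟨x, hx, hxa, hx4, hsq, orderOf_eq_three hD ha hb hx h4 hxa hx4 hsq⟩

/-- Two members have the same commuting members iff they have the same odd partners. -/
theorem commutingMembers_eq_iff [Finite G] (hD : IsRootInvolutionSet D)
    (hcon : IsConnectedSet (OddAdj D) D) (hd : d ∈ D) (he : e ∈ D) :
    commutingMembers D d = commutingMembers D e ↔ oddPartners D d = oddPartners D e := by
  constructor
  · intro hC
    have key : ∀ {d e : G}, d ∈ D → e ∈ D → commutingMembers D d = commutingMembers D e →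
        oddPartners D d ⊆ oddPartners D e := by
      intro d e hd he hC x hx
      have hed : e * d = d * e := (show e ∈ commutingMembers D d by rw [hC]; exact ⟨he, rfl⟩).2
      rcases eq_or_pair hD he hx.1 with h | h | h
      · exact absurd (show x ∈ commutingMembers D d by rw [hC]; exact ⟨hx.1, h.symm⟩).2.symm
          (oddPartners_not_comm hD hd hx)
      · exact h
      · have hf : (e * x) ^ 2 ∈ commutingMembers D d := by
          rw [hC]; exact ⟨sq_mem hD he hx.1 h, (sq_comm_left hD he hx.1 h).symm⟩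
        exact absurd (not_pair hD hd hx he h hed.symm hf.2.symm) not_false
    exact (key hd he hC).antisymm (key he hd hC.symm)
  · intro hA
    have key : ∀ {d e : G}, d ∈ D → e ∈ D → oddPartners D d = oddPartners D e →
        commutingMembers D d ⊆ commutingMembers D e := by
      intro d e hd he hA y hy
      have hde : d * e = e * d := by
        rcases eq_or_pair hD hd he with h | h | h
        · exact h
        · exact absurd rfl (show e ∈ oddPartners D e from hA ▸ h).2.1
        · obtain ⟨x, hx, hxd, -, -, h3⟩ := completion hD hcon hd he h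
          have hxe : x ∈ oddPartners D e := ⟨hx, fun h' => by
            rw [h', sq_one hD he, orderOf_one] at h3; omega, by rw [h3]; decide⟩
          rw [← hA] at hxe
          exact absurd hxd.symm (oddPartners_not_comm hD hd hxe)
      rcases eq_or_pair hD he hy.1 with h | h | h
      · exact ⟨hy.1, h.symm⟩
      · rw [← hA] at h
        exact absurd hy.2.symm (oddPartners_not_comm hD hd h)
      · exfalso
        have h4 : orderOf (y * e) = 4 := (orderOf_swap hD he hy.1).trans h
        obtain ⟨x, hx, hxy, hx4, hsq, h3⟩ := completion hD hcon hy.1 he h4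
        have hxd : x ∈ oddPartners D d := by
          rw [hA]
          exact ⟨hx, fun h' => by rw [h', sq_one hD he, orderOf_one] at h3; omega,
            by rw [h3]; decide⟩
        have hgD := sq_mem hD hy.1 he h4
        have hdg : Commute d ((y * e) ^ 2) :=
          (Commute.mul_right (hy.2.symm : Commute d y) (hde : Commute d e)).pow_right 2
        refine not_pair hD hd hxd hgD ((orderOf_swap hD hx hgD).trans hx4) hdg ?_
        rw [sq_swap hD hx hgD hx4, hsq]
        exact hy.2.symm
    exact (key hd he hA).antisymm (key he hd hA.symm)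

theorem commuting_union_four (hD : IsRootInvolutionSet D) (hd : d ∈ D) :
    commutingMembers D d ∪ fourPartners D d = D \ oddPartners D d := by
  ext y
  simp only [commutingMembers, fourPartners, Set.mem_union, Set.mem_ofPred_eq, Set.mem_sdiff]
  constructor
  · rintro (⟨hy, h⟩ | ⟨hy, h⟩)
    · exact ⟨hy, fun h' => oddPartners_not_comm hD hd h' h.symm⟩
    · exact ⟨hy, fun h' => oddPartners_not_four h' h⟩
  · rintro ⟨hy, h⟩
    rcases eq_or_pair hD hd hy with h' | h' | h'
    · exact Or.inl ⟨hy, h'.symm⟩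
    · exact absurd h' h
    · exact Or.inr ⟨hy, h'⟩

/-- The same commuting members iff the same union of commuting members and order four
partners. -/
theorem sameCommutingClass_eq [Finite G] (hD : IsRootInvolutionSet D)
    (hcon : IsConnectedSet (OddAdj D) D) (hd : d ∈ D) :
    sameCommutingClass D d = {e | e ∈ D ∧
      commutingMembers D d ∪ fourPartners D d = commutingMembers D e ∪ fourPartners D e} := by
  ext e
  refine and_congr_right fun he => ?_
  rw [commutingMembers_eq_iff hD hcon hd he, commuting_union_four hD hd, commuting_union_four hD he]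
  refine ⟨fun h => by rw [h], fun h => ?_⟩
  have hsub : ∀ z, oddPartners D z ⊆ D := fun z y hy => hy.1
  rw [← Set.sdiff_sdiff_cancel_left (hsub d), h, Set.sdiff_sdiff_cancel_left (hsub e)]

/-- A product partner with other commuting members has an order four partner with product of
order 3 with the member. -/
theorem exists_four_order_three [Finite G] (hD : IsRootInvolutionSet D)
    (hcon : IsConnectedSet (OddAdj D) D) (ha : a ∈ D) (hb : b ∈ productPartners D a)
    (hne : b ∉ sameCommutingClass D a) :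
    ∃ x ∈ fourPartners D b, orderOf (a * x) = 3 := by
  have hA : ¬ oddPartners D a ⊆ oddPartners D b := fun h =>
    hne ⟨hb.1.1, (commutingMembers_eq_iff hD hcon ha hb.1.1).2
      (oddPartners_eq_of_subset hD hcon ha hb.1.1 h)⟩
  obtain ⟨h, hh, -, hh4, hsq⟩ := exists_root hD ha hb hA
  obtain ⟨x, hx, -, hx4, -, h3⟩ := completion hD hcon hh ha hh4
  rw [hsq] at hx4
  exact ⟨x, ⟨hx, (orderOf_swap hD hx hb.1.1).trans hx4⟩, h3⟩

/-! ### Isolated members -/

theorem isolated_iff (hD : IsRootInvolutionSet D) :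
    IsIsolatedElem (OddAdj D) D d ↔ d ∈ D ∧ oddPartners D d = ∅ := by
  refine and_congr_right fun hd => ?_
  constructor
  · intro h
    exact Set.eq_empty_of_forall_notMem fun e he =>
      (h e).1 ⟨hd, he.1, he.2.1.symm, he.2.2⟩
  · intro h e
    constructor
    · exact fun ⟨_, he, hne, ho⟩ => Set.eq_empty_iff_forall_notMem.1 h e ⟨he, hne.symm, ho⟩
    · rintro ⟨he, _, hne, ho⟩
      exact Set.eq_empty_iff_forall_notMem.1 h e ⟨he, hne, by rwa [orderOf_swap hD he hd]⟩

theorem isolated_conj (hD : IsRootInvolutionSet D) (hd : IsIsolatedElem (OddAdj D) D d) (v : G) :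
    IsIsolatedElem (OddAdj D) D (v * d * v⁻¹) := by
  rw [isolated_iff hD] at hd ⊢
  refine ⟨hD.conj_mem d hd.1 v, ?_⟩
  rw [oddPartners_conj hD, hd.2, Set.image_empty]

theorem closure_isolated_normal (hD : IsRootInvolutionSet D) :
    (Subgroup.closure {w | IsIsolatedElem (OddAdj D) D w}).Normal := by
  refine ⟨fun z hz v => ?_⟩
  have h : (Subgroup.closure {w | IsIsolatedElem (OddAdj D) D w}).map
      (MulAut.conj v).toMonoidHom ≤ Subgroup.closure {w | IsIsolatedElem (OddAdj D) D w} := by
    rw [MonoidHom.map_closure, Subgroup.closure_le]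
    rintro _ ⟨w, hw, rfl⟩
    exact Subgroup.subset_closure (isolated_conj hD hw v)
  exact h ⟨z, hz, rfl⟩

theorem closure_isolated_isPGroup [Finite G] (hD : IsRootInvolutionSet D) :
    IsPGroup 2 (Subgroup.closure {w | IsIsolatedElem (OddAdj D) D w}) := by
  obtain ⟨P⟩ : Nonempty (Sylow 2 G) := inferInstance
  refine P.2.to_le ((Subgroup.closure_le _).2 fun w hw => ?_)
  obtain ⟨N, hN, hN2, hwN⟩ := Involution.baer_suzuki_element (p := 2) w fun v =>
    isPGroup_closure_pair hD hw.1 (hD.conj_mem w hw.1 v) (by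
      rw [((isolated_iff hD).1 hw).2]; exact Set.notMem_empty _)
  obtain ⟨R, hR⟩ := hN2.exists_le_sylow
  obtain ⟨v, hv⟩ := MulAction.exists_smul_eq G R P
  rw [← hv, SetLike.mem_coe, Sylow.coe_subgroup_smul,
    Subgroup.mem_pointwise_smul_iff_inv_smul_mem]
  apply hR
  simpa [MulAut.smul_def] using hN.conj_mem w hwN v⁻¹

theorem closure_isolated_inter [Finite G] (hD : IsRootInvolutionSet D) :
    (Subgroup.closure {w | IsIsolatedElem (OddAdj D) D w} : Set G) ∩ D =
      {w | IsIsolatedElem (OddAdj D) D w} := by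
  refine Set.Subset.antisymm ?_ fun w hw => ⟨Subgroup.subset_closure hw, hw.1⟩
  rintro d ⟨hdW, hd⟩
  rw [Set.mem_ofPred_eq, isolated_iff hD]
  refine ⟨hd, Set.eq_empty_of_forall_notMem fun e he => ?_⟩
  set N := Subgroup.closure {w | IsIsolatedElem (OddAdj D) D w}
  have hN : (d * e) ^ 2 ∈ N := by
    have h := mul_mem hdW ((closure_isolated_normal hD).conj_mem d hdW e)
    rw [inv_self hD he.1] at h
    simpa only [pow_two, mul_assoc, N] using h
  obtain ⟨k, hk⟩ := closure_isolated_isPGroup hD ⟨_, hN⟩
  have hk' : ((d * e) ^ 2) ^ 2 ^ k = 1 := congrArg Subtype.val hk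
  rw [← pow_mul, ← pow_succ'] at hk'
  have h1 : orderOf (d * e) = 1 :=
    Nat.Coprime.eq_one_of_dvd ((he.2.2.coprime_two_right).pow_right _)
      (orderOf_dvd_of_pow_eq_one hk')
  exact he.2.1 (by rw [← mul_eq_one_iff_inv_eq.1 (orderOf_eq_one_iff.1 h1), inv_self hD hd])

theorem exists_oddPartner_of_component
    (h : ∃ a' ∈ elemComponentOf (OddAdj D) D a, a' ≠ a) : ∃ x, x ∈ oddPartners D a := by
  obtain ⟨a', ⟨_, hr⟩, hne⟩ := h
  rcases Relation.ReflTransGen.cases_head hr with h | ⟨y, hy, -⟩
  · exact absurd h.symm hne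
  · exact ⟨y, hy.2.1, hy.2.2.1.symm, hy.2.2.2⟩

theorem oddAdj_symm (hD : IsRootInvolutionSet D) (h : OddAdj D a b) : OddAdj D b a :=
  ⟨h.2.1, h.1, h.2.2.1.symm, by rw [orderOf_swap hD h.1 h.2.1]; exact h.2.2.2⟩

theorem reach_symm (hD : IsRootInvolutionSet D) (h : Relation.ReflTransGen (OddAdj D) a b) :
    Relation.ReflTransGen (OddAdj D) b a := by
  induction h with
  | refl => exact .refl
  | tail _ h ih => exact (Relation.ReflTransGen.single (oddAdj_symm hD h)).trans ih

/-- A product partner of a non-isolated member is isolated or in the same component. -/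
theorem productPartners_component [Finite G] (hD : IsRootInvolutionSet D) (ha : a ∈ D)
    (hna : ∃ x, x ∈ oddPartners D a) (hc : c ∈ productPartners D a) :
    Relation.ReflTransGen (OddAdj D) a c ∨ IsIsolatedElem (OddAdj D) D c := by
  by_cases hiso : IsIsolatedElem (OddAdj D) D c
  · exact Or.inr hiso
  left
  have hcD := hc.1.1
  obtain ⟨y, hy⟩ : ∃ y, y ∈ oddPartners D c :=
    Set.nonempty_iff_ne_empty.2 fun h => hiso ((isolated_iff hD).2 ⟨hcD, h⟩)
  -- a common odd partner, or the product lies in both components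
  have key : ∀ {a c x : G}, a ∈ D → c ∈ productPartners D a → x ∈ oddPartners D a →
      x ∈ oddPartners D c ∨ Relation.ReflTransGen (OddAdj D) a (c * a) := by
    intro a c x ha hc hx
    rcases eq_or_pair hD hc.1.1 hx.1 with h | h | h
    · exact absurd h (partner_not_comm hD ha hx hc)
    · exact Or.inl h
    · have hl := line_adj hD ha hx hc h
      exact Or.inr (Relation.ReflTransGen.trans (Relation.ReflTransGen.single
        ⟨ha, hx.1, hx.2.1.symm, hx.2.2⟩) (Relation.ReflTransGen.single
        (oddAdj_symm hD ⟨(mul_mem_productPartners hD hc ha).1.1, hx.1, hl.2.1.symm, hl.2.2⟩)))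
  obtain ⟨x, hx⟩ := hna
  rcases key ha hc hx with h | h
  · exact (Relation.ReflTransGen.single ⟨ha, hx.1, hx.2.1.symm, hx.2.2⟩).tail
      (oddAdj_symm hD ⟨hcD, hx.1, h.2.1.symm, h.2.2⟩)
  rcases key hcD (productPartners_symm hc ha) hy with h' | h'
  · exact (Relation.ReflTransGen.single ⟨ha, hy.1, h'.2.1.symm, h'.2.2⟩).tail
      (oddAdj_symm hD ⟨hcD, hy.1, hy.2.1.symm, hy.2.2⟩)
  · rw [← hc.1.2.1] at h'
    exact h.trans (reach_symm hD h')

theorem commutator_mem_isolated [Finite G] (hD : IsRootInvolutionSet D) (ha : a ∈ D) (hb : b ∈ D)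
    (hna : ∃ a' ∈ elemComponentOf (OddAdj D) D a, a' ≠ a)
    (hnb : ∃ b' ∈ elemComponentOf (OddAdj D) D b, b' ≠ b)
    (hne : elemComponentOf (OddAdj D) D a ≠ elemComponentOf (OddAdj D) D b) :
    a * b * a⁻¹ * b⁻¹ ∈ Subgroup.closure {w | IsIsolatedElem (OddAdj D) D w} := by
  have hcomp : ¬ Relation.ReflTransGen (OddAdj D) a b := fun h => hne <| by
    ext z
    exact and_congr_right fun _ =>
      ⟨fun hz => (reach_symm hD h).trans hz, fun hz => h.trans hz⟩
  rcases eq_or_pair hD ha hb with h | h | h
  · rw [h, mul_inv_cancel_right, mul_inv_cancel]; exact one_mem _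
  · exact absurd (Relation.ReflTransGen.single ⟨ha, hb, h.2.1.symm, h.2.2⟩) hcomp
  · have e : a * b * a⁻¹ * b⁻¹ = (a * b) ^ 2 := by
      rw [inv_self hD ha, inv_self hD hb, pow_two]; simp only [mul_assoc]
    rw [e]
    rcases productPartners_component hD ha (exists_oddPartner_of_component hna)
      (sq_mem_productPartners hD ha hb h) with h1 | h1
    · rcases productPartners_component hD hb (exists_oddPartner_of_component hnb)
        (sq_mem_productPartners_right hD ha hb h) with h2 | h2
      · exact absurd (h1.trans (reach_symm hD h2)) hcomp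
      · exact Subgroup.subset_closure h2
    · exact Subgroup.subset_closure h1

end Cfsg.Agent.Lib.RootSubgroups.RootInv
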