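import Mathlib
import Cfsg.Prelude.Def_QuasithinSetup
import Cfsg.Agent.Lib.RootSubgroups.Involutions
import Cfsg.Agent.Lib.PSolvable.Core

/-!
Root involutions: a normal subgroup containing no member is central modulo `O₂(G)`; the
solvable radical.
-/

set_option autoImplicit false

namespace Cfsg.Agent.Lib.RootSubgroups.RootInv

open Cfsg
open scoped commutatorElement

variable {G : Type*} [Group G] [Finite G] {D : Set G} {a b c d n : G}

omit [Finite G] in
theorem productPartners_conj (hD : IsRootInvolutionSet D) (h : b ∈ productPartners D a) (v : G) :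
    v * b * v⁻¹ ∈ productPartners D (v * a * v⁻¹) := by
  obtain ⟨⟨hb, hc, hne⟩, hp⟩ := h
  refine ⟨⟨hD.conj_mem b hb v, ?_, by simpa using hne⟩, ?_⟩
  · simp only [mul_assoc, inv_mul_cancel_left]
    rw [← mul_assoc b a, hc, mul_assoc]
  · have h' := hD.conj_mem _ hp v
    simpa [mul_assoc] using h'

omit [Finite G] in
theorem exists_productPartner (hD : IsRootInvolutionSet D) (hcon : IsConnectedSet (OddAdj D) D)
    (hDD : (D ∩ commutingProducts D).Nonempty) (ha : a ∈ D) : ∃ c, c ∈ productPartners D a := by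
  obtain ⟨z, hz, p, hp, q, hq, hpq, hne, rfl⟩ := hDD
  obtain ⟨v, hv⟩ := exists_conj hD hcon hp ha
  refine ⟨v * q * v⁻¹, hv ▸ productPartners_conj hD ⟨⟨hq, hpq.symm, ?_⟩, hpq ▸ hz⟩ v⟩
  rintro rfl
  exact hne (sq_one hD hp)

theorem conj_comm_of_avoid (hD : IsRootInvolutionSet D) (hcon : IsConnectedSet (OddAdj D) D)
    (hDD : (D ∩ commutingProducts D).Nonempty) (N : Subgroup G) [N.Normal]
    (hN : ∀ e ∈ D, e ∉ N) (ha : a ∈ D) (hn : n ∈ N) :
    n * a * n⁻¹ * a = a * (n * a * n⁻¹) := by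
  set x := n * a * n⁻¹ with hx
  have hxD : x ∈ D := hD.conj_mem a ha n
  let π := QuotientGroup.mk' N
  have hπn : π n = 1 := (QuotientGroup.eq_one_iff n).2 hn
  have hπx : π x = π a := by rw [hx, map_mul, map_mul, map_inv, hπn, one_mul, inv_one, mul_one]
  have hout : ∀ e ∈ D, π e ≠ 1 := fun e he h => hN e he ((QuotientGroup.eq_one_iff e).1 h)
  rcases eq_or_pair hD ha hxD with h | h | h
  · exact h.symm
  · exfalso
    obtain ⟨c, hc⟩ := exists_productPartner hD hcon hDD ha
    have hp := mul_mem_productPartners hD hc ha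
    have h2 : (π (c * x)) ^ 2 = 1 := by
      rw [map_mul, hπx, ← map_mul, ← map_pow, pow_two, sq_one hD hp.1.1, map_one]
    rcases eq_or_pair hD hc.1.1 hxD with h' | h' | h'
    · exact partner_not_comm hD ha h hc h'
    · obtain ⟨m, hm⟩ := h'.2.2
      apply hout _ hp.1.1
      have h3 : (π (c * x)) ^ (orderOf (c * x)) = 1 := by rw [← map_pow, pow_orderOf_eq_one, map_one]
      rw [hm, pow_succ, pow_mul, h2, one_pow, one_mul, map_mul, hπx, ← map_mul] at h3
      exact h3
    · exact hout _ (sq_mem hD hc.1.1 hxD h') (by rw [map_pow, h2])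
  · exfalso
    apply hout _ (sq_mem hD ha hxD h)
    rw [map_pow, map_mul, hπx, ← map_mul, sq_one hD ha, map_one, one_pow]

/-- A normal subgroup containing no member is centralised modulo `O₂(G)`. -/
theorem commutator_mem_pCore (hD : IsRootInvolutionSet D) (hcon : IsConnectedSet (OddAdj D) D)
    (hDD : (D ∩ commutingProducts D).Nonempty) (N : Subgroup G) [hNn : N.Normal]
    (hN : ∀ e ∈ D, e ∉ N) (ha : a ∈ D) (hn : n ∈ N) : ⁅a, n⁆ ∈ pCore 2 G := by
  set Θ := {z | ∃ m ∈ N, z = m * a * m⁻¹} with hΘ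
  set V := Subgroup.closure Θ with hV
  have hcomm : ∀ y ∈ Θ, ∀ z ∈ Θ, y * z = z * y := by
    rintro _ ⟨m, hm, rfl⟩ _ ⟨l, hl, rfl⟩
    have h := conj_comm_of_avoid hD hcon hDD N hN ha (mul_mem (inv_mem hm) hl)
    have h' := congrArg (fun z => m * z * m⁻¹) h
    simp only [mul_assoc, mul_inv_rev, inv_inv] at h'
    simp only [mul_assoc]
    simpa [mul_assoc] using h'.symm
  have hsq : ∀ y ∈ V, y * y = 1 ∧ ∀ z ∈ Θ, y * z = z * y := by
    intro y hy
    induction hy using Subgroup.closure_induction with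
    | mem y hy =>
      obtain ⟨m, hm, rfl⟩ := hy
      exact ⟨sq_one hD (hD.conj_mem a ha m), hcomm _ ⟨m, hm, rfl⟩⟩
    | one => exact ⟨mul_one 1, fun z _ => by simp⟩
    | mul y z hy hz ihy ihz =>
      refine ⟨?_, fun w hw => (Commute.mul_left (ihy.2 w hw) (ihz.2 w hw))⟩
      have hyz : y * z = z * y := by
        have : V ≤ Subgroup.centralizer ({y} : Set G) := by
          rw [hV, Subgroup.closure_le]
          exact fun w hw => Subgroup.mem_centralizer_singleton_iff.2 (ihy.2 w hw).symm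
        exact (Subgroup.mem_centralizer_singleton_iff.1 (this hz)).symm
      rw [mul_assoc, ← mul_assoc z, ← hyz, mul_assoc y z z, ihz.1, mul_one, ihy.1]
    | inv y _ ih => rw [inv_eq_of_mul_eq_one_right ih.1]; exact ih
  set W := V ⊓ N with hW
  have hW2 : IsPGroup 2 W := fun y => ⟨1, Subtype.ext (by simpa [pow_two] using (hsq y y.2.1).1)⟩
  have hWN : N ≤ Subgroup.normalizer (W : Set G) := by
    intro m hm
    have key : ∀ l ∈ N, ∀ z ∈ W, l * z * l⁻¹ ∈ W := by
      intro l hl z hz
      refine ⟨?_, hNn.conj_mem z hz.2 l⟩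
      have h : V ≤ V.comap (MulAut.conj l).toMonoidHom := by
        rw [hV, Subgroup.closure_le]
        rintro _ ⟨m, hm, rfl⟩
        exact Subgroup.subset_closure ⟨l * m, mul_mem hl hm, by simp [mul_assoc]⟩
      exact h hz.1
    rw [Subgroup.mem_normalizer_iff]
    refine fun z => ⟨key m hm z, fun hz => ?_⟩
    simpa [mul_assoc] using key m⁻¹ (inv_mem hm) _ hz
  have hu : ⁅a, n⁆ ∈ W := by
    refine ⟨?_, ?_⟩
    · rw [commutatorElement_def, mul_assoc, mul_assoc, ← mul_assoc n, inv_self hD ha]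
      exact mul_mem (Subgroup.subset_closure ⟨1, one_mem _, by simp⟩)
        (Subgroup.subset_closure ⟨n, hn, rfl⟩)
    · rw [commutatorElement_def]
      exact N.mul_mem (hNn.conj_mem n hn a) (N.inv_mem hn)
  obtain ⟨M, hM, hM2, huM⟩ := Involution.baer_suzuki_element (p := 2) ⁅a, n⁆ fun v => by
    refine (hW2.to_sup_of_normal_right' (hW2.map (MulAut.conj v).toMonoidHom) ?_).to_le ?_
    · intro z hz
      have hzN : v⁻¹ * z * v ∈ Subgroup.normalizer (W : Set G) :=
        hWN (by simpa using hNn.conj_mem z hz.2 v⁻¹)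
      rw [Subgroup.mem_normalizer_iff] at hzN ⊢
      intro y
      simp only [Subgroup.mem_map_equiv, MulAut.conj_symm_apply]
      refine (hzN (v⁻¹ * y * v)).trans (iff_of_eq (congrArg (· ∈ W) ?_))
      group
    · rw [Subgroup.closure_le]
      rintro z (rfl | rfl)
      · exact Subgroup.mem_sup_left hu
      · exact Subgroup.mem_sup_right ⟨_, hu, rfl⟩
  exact le_sSup (show M ∈ {N : Subgroup G | N.Normal ∧ IsPGroup 2 N} from ⟨hM, hM2⟩) huM

theorem le_twoZCore (hD : IsRootInvolutionSet D) (hcon : IsConnectedSet (OddAdj D) D)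
    (hDD : (D ∩ commutingProducts D).Nonempty) (N : Subgroup G) [N.Normal]
    (hN : ∀ e ∈ D, e ∉ N) : N ≤ twoZCore G := by
  intro n hn
  show QuotientGroup.mk' (pCore 2 G) n ∈ Subgroup.center _
  rw [Subgroup.mem_center_iff]
  intro y
  obtain ⟨g, rfl⟩ := QuotientGroup.mk'_surjective _ y
  have hg : g ∈ (Subgroup.centralizer {QuotientGroup.mk' (pCore 2 G) n}).comap
      (QuotientGroup.mk' (pCore 2 G)) := by
    refine (Subgroup.closure_le _).2 ?_ (hD.generates.symm ▸ Subgroup.mem_top g :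
      g ∈ Subgroup.closure D)
    intro d hd
    rw [SetLike.mem_coe, Subgroup.mem_comap, Subgroup.mem_centralizer_singleton_iff,
      ← commutatorElement_eq_one_iff_mul_comm, ← map_commutatorElement]
    exact (QuotientGroup.eq_one_iff _).2 (commutator_mem_pCore hD hcon hDD N hN hd hn)
  exact Subgroup.mem_centralizer_singleton_iff.1 hg

theorem normal_eq_top_or_le (hD : IsRootInvolutionSet D) (hcon : IsConnectedSet (OddAdj D) D)
    (hDD : (D ∩ commutingProducts D).Nonempty) (N : Subgroup G) [hNn : N.Normal] :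
    N = ⊤ ∨ N ≤ twoZCore G := by
  by_cases h : ∀ e ∈ D, e ∉ N
  · exact Or.inr (le_twoZCore hD hcon hDD N h)
  · push Not at h
    obtain ⟨e, he, heN⟩ := h
    refine Or.inl (eq_top_iff.2 (hD.generates ▸ (Subgroup.closure_le _).2 fun d hd => ?_))
    obtain ⟨v, rfl⟩ := exists_conj hD hcon he hd
    exact hNn.conj_mem e heN v

omit [Finite G] in
theorem twoZCore_ne_top (hD : IsRootInvolutionSet D) (hcon : IsConnectedSet (OddAdj D) D)
    (hDD : (D ∩ commutingProducts D).Nonempty) : twoZCore G ≠ ⊤ := by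
  intro htop
  obtain ⟨z, hz, p, hp, q, hq, hpq, hne, rfl⟩ := hDD
  have hpq' : p ≠ q := fun h => hne (by rw [h, sq_one hD hq])
  obtain ⟨x, hx⟩ := oddPartners_nonempty hcon hp hq hpq'
  set π := QuotientGroup.mk' (pCore 2 G)
  have hc : π x ∈ Subgroup.center (G ⧸ pCore 2 G) := (htop.symm ▸ Subgroup.mem_top x : x ∈ twoZCore G)
  have h2 : (p * x) ^ 2 ∈ pCore 2 G := by
    rw [← QuotientGroup.eq_one_iff]
    show π _ = 1
    rw [map_pow, map_mul, pow_two, mul_assoc, ← mul_assoc (π x),
      ← Subgroup.mem_center_iff.1 hc (π p), mul_assoc (π p) (π x), ← map_mul, ← map_mul, ← map_mul,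
      sq_one hD hx.1, mul_one, sq_one hD hp, map_one]
  obtain ⟨k, hk⟩ := PSolvable.pCore_isPGroup (p := 2) ⟨_, h2⟩
  have hk' : ((p * x) ^ 2) ^ 2 ^ k = 1 := congrArg Subtype.val hk
  rw [← pow_mul, ← pow_succ'] at hk'
  have h1 : orderOf (p * x) = 1 :=
    Nat.Coprime.eq_one_of_dvd ((hx.2.2.coprime_two_right).pow_right _)
      (orderOf_dvd_of_pow_eq_one hk')
  exact hx.2.1 (by rw [← mul_eq_one_iff_inv_eq.1 (orderOf_eq_one_iff.1 h1), inv_self hD hp])

theorem isSimpleGroup_quotient (hD : IsRootInvolutionSet D) (hcon : IsConnectedSet (OddAdj D) D)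
    (hDD : (D ∩ commutingProducts D).Nonempty) : IsSimpleGroup (G ⧸ twoZCore G) := by
  have hnt : Nontrivial (G ⧸ twoZCore G) :=
    QuotientGroup.nontrivial_iff.2 (twoZCore_ne_top hD hcon hDD)
  refine { eq_bot_or_eq_top_of_normal := fun H hH => ?_ }
  set π := QuotientGroup.mk' (twoZCore G)
  have hs : Function.Surjective π := QuotientGroup.mk'_surjective _
  rw [← Subgroup.map_comap_eq_self_of_surjective hs H]
  rcases normal_eq_top_or_le hD hcon hDD (H.comap π) with h | h
  · exact Or.inr (by rw [h, ← MonoidHom.range_eq_map, MonoidHom.range_eq_top.2 hs])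
  · exact Or.inl ((Subgroup.map_eq_bot_iff _).2 (h.trans (QuotientGroup.ker_mk' _).ge))

theorem not_isSolvable (hD : IsRootInvolutionSet D) (hcon : IsConnectedSet (OddAdj D) D)
    (hDD : (D ∩ commutingProducts D).Nonempty) : ¬ Group.IsSolvable G := by
  intro hsol
  apply twoZCore_ne_top hD hcon hDD
  have : Group.IsSolvable G := hsol
  have := isSimpleGroup_quotient hD hcon hDD
  set Z := twoZCore G
  set π := QuotientGroup.mk' Z
  have hsolQ : Group.IsSolvable (G ⧸ Z) := Group.isSolvable_of_surjective (QuotientGroup.mk'_surjective Z)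
  have hab : ∀ u v : G, π u * π v = π v * π u := fun u v =>
    IsSimpleGroup.comm_iff_isSolvable.2 hsolQ _ _
  obtain ⟨z, hz, p, hp, q, hq, hpq, hne, rfl⟩ := hDD
  have hall : ∀ d ∈ D, π d = π p := by
    intro d hd
    obtain ⟨v, rfl⟩ := exists_conj hD hcon hp hd
    rw [map_mul, map_mul, map_inv, hab v p, mul_inv_cancel_right]
  rw [eq_top_iff, ← hD.generates, Subgroup.closure_le]
  set σ := QuotientGroup.mk' (pCore 2 G)
  have hcomm : ∀ d ∈ D, ∀ e ∈ D, σ d * σ e = σ e * σ d := by
    intro d hd e he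
    have key : ∀ d ∈ D, ∃ w ∈ Subgroup.center (G ⧸ pCore 2 G), σ d = w * σ p := by
      intro d hd
      refine ⟨σ (d * p⁻¹), ?_, by rw [← map_mul, inv_mul_cancel_right]⟩
      show d * p⁻¹ ∈ Z
      rw [← QuotientGroup.eq_one_iff]
      show π _ = 1
      rw [map_mul, map_inv, hall d hd, mul_inv_cancel]
    obtain ⟨w₁, hw₁, e₁⟩ := key d hd
    obtain ⟨w₂, hw₂, e₂⟩ := key e he
    rw [e₁, e₂]
    have c₁ : ∀ z, Commute w₁ z := fun z => (Subgroup.mem_center_iff.1 hw₁ z).symm
    have c₂ : ∀ z, Commute w₂ z := fun z => (Subgroup.mem_center_iff.1 hw₂ z).symm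
    exact Commute.mul_left (c₁ _) ((c₂ _).symm.mul_right (Commute.refl _))
  intro d hd
  show σ d ∈ Subgroup.center _
  rw [Subgroup.mem_center_iff]
  intro y
  obtain ⟨g, rfl⟩ := QuotientGroup.mk'_surjective _ y
  have hg : g ∈ (Subgroup.centralizer {σ d}).comap σ :=
    (Subgroup.closure_le ((Subgroup.centralizer {σ d}).comap σ)).2
      (fun e he => Subgroup.mem_centralizer_singleton_iff.2 (hcomm e he d hd))
      (hD.generates.symm ▸ Subgroup.mem_top g : g ∈ Subgroup.closure D)
  exact Subgroup.mem_centralizer_singleton_iff.1 hg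

/-- The solvable radical and the simple quotient. -/
theorem radical_and_simple (hD : IsRootInvolutionSet D) (hcon : IsConnectedSet (OddAdj D) D)
    (hDD : (D ∩ commutingProducts D).Nonempty) :
    solvableRadical G = twoZCore G ∧ IsSimpleGroup (G ⧸ twoZCore G) := by
  refine ⟨le_antisymm (sSup_le ?_) (le_sSup ⟨inferInstance, ?_⟩),
    isSimpleGroup_quotient hD hcon hDD⟩
  · rintro N ⟨hN, hNs⟩
    rcases normal_eq_top_or_le hD hcon hDD N with rfl | h
    · exact absurd (Group.isSolvable_of_surjective (f := (⊤ : Subgroup G).subtype)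
        fun g => ⟨⟨g, Subgroup.mem_top g⟩, rfl⟩) (not_isSolvable hD hcon hDD)
    · exact h
  · have : Group.IsNilpotent (pCore 2 G) := (PSolvable.pCore_isPGroup (p := 2)).isNilpotent
    have hcs : Group.IsSolvable (Subgroup.center (G ⧸ pCore 2 G)) :=
      Group.isSolvable_of_comm fun u v => Subtype.ext (Subgroup.mem_center_iff.1 v.2 u)
    have hle : pCore 2 G ≤ twoZCore G := fun z hz => by
      show QuotientGroup.mk' (pCore 2 G) z ∈ Subgroup.center _
      rw [show QuotientGroup.mk' (pCore 2 G) z = 1 from (QuotientGroup.eq_one_iff z).2 hz]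
      exact one_mem _
    refine Group.isSolvable_of_ker_le_range (Subgroup.inclusion hle)
      (((QuotientGroup.mk' (pCore 2 G)).comp (twoZCore G).subtype).codRestrict
        (Subgroup.center (G ⧸ pCore 2 G)) fun z => z.2) ?_
    intro z hz
    have hz1 : QuotientGroup.mk' (pCore 2 G) (z : G) = 1 := congrArg Subtype.val (MonoidHom.mem_ker.1 hz)
    exact ⟨⟨z, (QuotientGroup.eq_one_iff (z : G)).1 hz1⟩, Subtype.ext rfl⟩

end Cfsg.Agent.Lib.RootSubgroups.RootInv
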