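import Mathlib
import Cfsg.Prelude.Def_RootSubgroups
import Cfsg.Agent.Lib.RootSubgroups.Conj
import Cfsg.Agent.Lib.RootSubgroups.RootSet

/-!
Sets of abstract root subgroups seen inside the subgroup they generate.
-/

set_option autoImplicit false

namespace Cfsg.Agent.Lib.RootSubgroups.Inside

open Cfsg

variable {G : Type*} [Group G] {H A B : Subgroup G} {S : Set (Subgroup G)}

theorem map_subgroupOf (hA : A ≤ H) : (A.subgroupOf H).map H.subtype = A :=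
  Subgroup.map_subgroupOf_eq_of_le hA

theorem eq_of_map {X Y : Subgroup H} (h : X.map H.subtype = Y.map H.subtype) : X = Y :=
  Subgroup.map_injective H.subtype_injective h

theorem map_conjBy (X : Subgroup H) (g : H) :
    (conjBy X g).map H.subtype = conjBy (X.map H.subtype) g := by
  ext z
  constructor
  · rintro ⟨_, ⟨x, hx, rfl⟩, rfl⟩
    exact ⟨x, ⟨x, hx, rfl⟩, rfl⟩
  · rintro ⟨_, ⟨x, hx, rfl⟩, rfl⟩
    exact ⟨_, ⟨x, hx, rfl⟩, rfl⟩

theorem conjBy_subgroupOf (hA : A ≤ H) (g : H) :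
    conjBy (A.subgroupOf H) g = (conjBy A g).subgroupOf H := by
  refine eq_of_map ?_
  rw [map_conjBy, map_subgroupOf hA, map_subgroupOf (conjBy_le_of_mem hA g.2)]

theorem iSup_subgroupOf (hS : ∀ A ∈ S, A ≤ H) (hgen : (⨆ A ∈ S, A) = H) :
    (⨆ X ∈ (fun A : Subgroup G => A.subgroupOf H) '' S, X) = ⊤ := by
  refine eq_of_map ?_
  rw [← MonoidHom.range_eq_map, Subgroup.range_subtype, iSup_image]
  simp only [Subgroup.map_iSup]
  exact (iSup_congr fun A => iSup_congr fun hA => map_subgroupOf (hS A hA)).trans hgen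

theorem commutator_subgroupOf (hA : A ≤ H) (hB : B ≤ H) :
    ⁅A.subgroupOf H, B.subgroupOf H⁆ = ⁅A, B⁆.subgroupOf H := by
  refine eq_of_map ?_
  rw [Subgroup.map_commutator, map_subgroupOf hA, map_subgroupOf hB,
    map_subgroupOf ((Subgroup.commutator_mono hA hB).trans (Subgroup.commutator_le_self H))]

theorem isNilpotent_subgroupOf (hA : A ≤ H) (h : Group.IsNilpotent A) :
    Group.IsNilpotent (A.subgroupOf H) :=
  Group.isNilpotent_congr (Subgroup.subgroupOfEquivOfLe hA) |>.2 h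

theorem rankOneCondition_subgroupOf (hA : A ≤ H) (hB : B ≤ H) (h : RankOneCondition A B) :
    RankOneCondition (A.subgroupOf H) (B.subgroupOf H) := by
  intro a ha ha1
  obtain ⟨b, hb, hb1, e⟩ := h a ha fun e => ha1 (Subtype.ext e)
  refine ⟨⟨b, hB hb⟩, hb, fun e' => hb1 (congrArg Subtype.val e'), ?_⟩
  rw [conjBy_subgroupOf hA, conjBy_subgroupOf hB]
  exact congrArg (fun C : Subgroup G => C.subgroupOf H) e

theorem isRankOnePair_subgroupOf (hA : A ≤ H) (hB : B ≤ H) (h : IsRankOnePair A B) :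
    IsRankOnePair (A.subgroupOf H) (B.subgroupOf H) where
  ne e := h.ne (by rw [← map_subgroupOf hA, e, map_subgroupOf hB])
  nilpotent_left := isNilpotent_subgroupOf hA h.nilpotent_left
  nilpotent_right := isNilpotent_subgroupOf hB h.nilpotent_right
  cond_left := rankOneCondition_subgroupOf hA hB h.cond_left
  cond_right := rankOneCondition_subgroupOf hB hA h.cond_right

theorem closure_image_subgroupOf (hA : A ≤ H) (a : H) (f : G → G → G) (f' : H → H → H)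
    (hf : ∀ x y : H, ((f' x y : H) : G) = f x y) :
    (Subgroup.closure ((fun b : H => f' a b) '' (A.subgroupOf H : Set H))).map H.subtype =
      Subgroup.closure ((fun b : G => f a b) '' (A : Set G)) := by
  rw [MonoidHom.map_closure]
  congr 1
  ext z
  constructor
  · rintro ⟨_, ⟨b, hb, rfl⟩, rfl⟩
    exact ⟨b, hb, (hf a b).symm⟩
  · rintro ⟨b, hb, rfl⟩
    exact ⟨_, ⟨⟨b, hA hb⟩, hb, rfl⟩, hf a ⟨b, hA hb⟩⟩

theorem rootCommutatorCase_subgroupOf (hA : A ≤ H) (hB : B ≤ H) (hS : ⁅A, B⁆ ∈ S)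
    (h : (∀ c ∈ ⁅A, B⁆, ∀ x ∈ A ⊔ B, c * x = x * c) ∧
      (∀ a ∈ A, a ≠ 1 → Subgroup.closure ((fun b : G => a * b * a⁻¹ * b⁻¹) '' (B : Set G)) = ⁅A, B⁆) ∧
      (∀ b ∈ B, b ≠ 1 → Subgroup.closure ((fun a : G => a * b * a⁻¹ * b⁻¹) '' (A : Set G)) = ⁅A, B⁆)) :
    RootCommutatorCase ((fun C : Subgroup G => C.subgroupOf H) '' S) (A.subgroupOf H)
      (B.subgroupOf H) := by
  refine ⟨⟨_, hS, (commutator_subgroupOf hA hB).symm⟩, fun c hc x hx => Subtype.ext ?_,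
    fun a ha ha1 => eq_of_map ?_, fun b hb hb1 => eq_of_map ?_⟩
  · refine h.1 c ?_ x ?_
    · rw [commutator_subgroupOf hA hB] at hc; exact hc
    · have h' := Subgroup.mem_map_of_mem H.subtype hx
      rwa [Subgroup.map_sup, map_subgroupOf hA, map_subgroupOf hB] at h'
  · rw [closure_image_subgroupOf hB a (fun x y => x * y * x⁻¹ * y⁻¹) (fun x y => x * y * x⁻¹ * y⁻¹)
      (fun _ _ => rfl), h.2.1 a ha fun e => ha1 (Subtype.ext e), Subgroup.map_commutator,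
      map_subgroupOf hA, map_subgroupOf hB]
  · rw [closure_image_subgroupOf hA b (fun y x => x * y * x⁻¹ * y⁻¹) (fun y x => x * y * x⁻¹ * y⁻¹)
      (fun _ _ => rfl), h.2.2 b hb fun e => hb1 (Subtype.ext e), Subgroup.map_commutator,
      map_subgroupOf hA, map_subgroupOf hB]

theorem isRootSubgroupSet (hgen : (⨆ A ∈ S, A) = H) (hcomm : ∀ A ∈ S, IsMulCommutative A)
    (hne : ∀ A ∈ S, A ≠ ⊥) (hconj : ∀ A ∈ S, ∀ g ∈ H, conjBy A g ∈ S)
    (hpair : ∀ A ∈ S, ∀ B ∈ S, ⁅A, B⁆ = ⊥ ∨ IsRankOnePair A B ∨ RootCommutatorCase S A B) :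
    IsRootSubgroupSet ((fun A : Subgroup G => A.subgroupOf H) '' S) := by
  have hle : ∀ A ∈ S, A ≤ H := fun A hA => hgen ▸ le_iSup₂ (f := fun A (_ : A ∈ S) => A) A hA
  refine ⟨?_, ?_, iSup_subgroupOf hle hgen, ?_, ?_⟩
  · rintro _ ⟨A, hA, rfl⟩
    have := hcomm A hA
    refine ⟨⟨fun x y => Subtype.ext (Subtype.ext ?_)⟩⟩
    exact setLike_mul_comm (s := A) (Subgroup.mem_subgroupOf.1 x.2) (Subgroup.mem_subgroupOf.1 y.2)
  · rintro _ ⟨A, hA, rfl⟩ e
    simp only at e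
    exact hne A hA (by rw [← map_subgroupOf (hle A hA), e, Subgroup.map_bot])
  · rintro _ ⟨A, hA, rfl⟩ g
    exact ⟨_, hconj A hA g g.2, (conjBy_subgroupOf (hle A hA) g).symm⟩
  · rintro _ ⟨A, hA, rfl⟩ _ ⟨B, hB, rfl⟩
    rcases hpair A hA B hB with h | h | h
    · left
      rw [commutator_subgroupOf (hle A hA) (hle B hB), h, Subgroup.bot_subgroupOf]
    · exact Or.inr (Or.inl (isRankOnePair_subgroupOf (hle A hA) (hle B hB) h))
    · exact Or.inr (Or.inr (rootCommutatorCase_subgroupOf (hle A hA) (hle B hB) h.1 h.2))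

theorem isRootSubgroupClass (hgen : (⨆ A ∈ S, A) = H) (hcomm : ∀ A ∈ S, IsMulCommutative A)
    (hne : ∀ A ∈ S, A ≠ ⊥) (hconj : ∀ A ∈ S, ∀ g ∈ H, conjBy A g ∈ S)
    (hpair : ∀ A ∈ S, ∀ B ∈ S, ⁅A, B⁆ = ⊥ ∨ IsRankOnePair A B ∨ RootCommutatorCase S A B)
    (h0 : S.Nonempty) (hclass : ∀ A ∈ S, ∀ B ∈ S, ∃ g ∈ H, conjBy A g = B) :
    IsRootSubgroupClass ((fun A : Subgroup G => A.subgroupOf H) '' S) := by
  have hle : ∀ A ∈ S, A ≤ H := fun A hA => hgen ▸ le_iSup₂ (f := fun A (_ : A ∈ S) => A) A hA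
  refine ⟨isRootSubgroupSet hgen hcomm hne hconj hpair, h0.image _, ?_⟩
  rintro _ ⟨A, hA, rfl⟩ _ ⟨B, hB, rfl⟩
  obtain ⟨g, hg, e⟩ := hclass A hA B hB
  exact ⟨⟨g, hg⟩, by rw [conjBy_subgroupOf (hle A hA)]; exact congrArg _ e.symm⟩

end Cfsg.Agent.Lib.RootSubgroups.Inside
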