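import Mathlib
import Cfsg.Prelude.Def_RootSubgroups
import Cfsg.Agent.Lib.SL2.Basic
import Cfsg.Agent.Lib.LinGroup.Generation
import Cfsg.Agent.Lib.RootSubgroups.RankOne

/-!
`SL(2, k)` as a rank one group with its two unitriangular subgroups.
-/

set_option autoImplicit false

namespace Cfsg.Agent.Lib.RootSubgroups.SL2Pair

open Cfsg Cfsg.Agent.Lib.SL2 Cfsg.Agent.Lib.RootSubgroups

variable {k : Type*} [Field k]

/-- `t ↦ lower t` as a homomorphism. -/
def lowerHom : Multiplicative k →* SLtwo k where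
  toFun t := lower t.toAdd
  map_one' := lower_zero
  map_mul' s t := (lower_mul s.toAdd t.toAdd).symm

theorem upperUnipotentSL2_eq : upperUnipotentSL2 k = (upperHom (F := k)).range := by
  refine le_antisymm ((Subgroup.closure_le _).2 ?_) ?_
  · rintro g ⟨h10, h00, h11⟩
    exact ⟨Multiplicative.ofAdd (g 0 1), ext_entries h00.symm rfl h10.symm h11.symm⟩
  · rintro g ⟨t, rfl⟩
    exact Subgroup.subset_closure ⟨rfl, rfl, rfl⟩

theorem lowerUnipotentSL2_eq : lowerUnipotentSL2 k = (lowerHom (k := k)).range := by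
  refine le_antisymm ((Subgroup.closure_le _).2 ?_) ?_
  · rintro g ⟨h01, h00, h11⟩
    exact ⟨Multiplicative.ofAdd (g 1 0), ext_entries h00.symm h01.symm rfl h11.symm⟩
  · rintro g ⟨t, rfl⟩
    exact Subgroup.subset_closure ⟨rfl, rfl, rfl⟩

theorem mem_upper {g : SLtwo k} : g ∈ upperUnipotentSL2 k ↔ ∃ t : k, upper t = g := by
  rw [upperUnipotentSL2_eq]
  exact ⟨fun ⟨t, ht⟩ => ⟨t.toAdd, ht⟩, fun ⟨t, ht⟩ => ⟨Multiplicative.ofAdd t, ht⟩⟩

theorem mem_lower {g : SLtwo k} : g ∈ lowerUnipotentSL2 k ↔ ∃ t : k, lower t = g := by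
  rw [lowerUnipotentSL2_eq]
  exact ⟨fun ⟨t, ht⟩ => ⟨t.toAdd, ht⟩, fun ⟨t, ht⟩ => ⟨Multiplicative.ofAdd t, ht⟩⟩

theorem upper_mem (t : k) : upper t ∈ upperUnipotentSL2 k := mem_upper.2 ⟨t, rfl⟩

theorem lower_mem (t : k) : lower t ∈ lowerUnipotentSL2 k := mem_lower.2 ⟨t, rfl⟩

theorem upper_inj {s t : k} (h : upper s = upper t) : s = t :=
  congrArg (fun g : SLtwo k => g 0 1) h

theorem lower_inj {s t : k} (h : lower s = lower t) : s = t :=
  congrArg (fun g : SLtwo k => g 1 0) h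

theorem upper_ne_one {t : k} (ht : t ≠ 0) : upper t ≠ 1 :=
  fun h => ht (upper_inj (h.trans upper_zero.symm))

theorem lower_ne_one {t : k} (ht : t ≠ 0) : lower t ≠ 1 :=
  fun h => ht (lower_inj (h.trans lower_zero.symm))

theorem sup_eq_top : lowerUnipotentSL2 k ⊔ upperUnipotentSL2 k = ⊤ := by
  refine Cfsg.Agent.Lib.LinGroup.eq_top_of_transvection_mem _ fun i j hij c => ?_
  fin_cases i <;> fin_cases j
  · exact absurd rfl hij
  · refine Subgroup.mem_sup_right (mem_upper.2 ⟨c, ?_⟩)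
    refine ext_entries ?_ ?_ ?_ ?_ <;>
      simp [Matrix.SpecialLinearGroup.transvection, Matrix.transvection]
  · refine Subgroup.mem_sup_left (mem_lower.2 ⟨c, ?_⟩)
    refine ext_entries ?_ ?_ ?_ ?_ <;>
      simp [Matrix.SpecialLinearGroup.transvection, Matrix.transvection]
  · exact absurd rfl hij

/-- The elements conjugating the lower group onto the upper one. -/
theorem conj_weyl_lower : conjBy (lowerUnipotentSL2 k) (weyl : SLtwo k) = upperUnipotentSL2 k := by
  have hrel : ∀ t : k, (weyl : SLtwo k) * lower t * weyl⁻¹ = upper (-t) := by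
    intro t
    refine ext_entries ?_ ?_ ?_ ?_ <;> simp [mul_00, mul_01, mul_10, mul_11, inv_00, inv_01, inv_10, inv_11]
  ext g
  constructor
  · rintro ⟨a, ha, rfl⟩
    obtain ⟨t, rfl⟩ := mem_lower.1 ha
    exact mem_upper.2 ⟨-t, (hrel t).symm⟩
  · intro hg
    obtain ⟨t, rfl⟩ := mem_upper.1 hg
    exact ⟨lower (-t), lower_mem _, (hrel (-t)).trans (by rw [neg_neg])⟩

/-- The key identity behind the rank one condition. -/
theorem conj_eq {s t : k} (hst : s * t = 1) :
    conjBy (lowerUnipotentSL2 k) (upper s)⁻¹ = conjBy (upperUnipotentSL2 k) (lower t)⁻¹ := by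
  have hfix : ∀ r : k, (upper s * (lower t)⁻¹) * upper r * (upper s * (lower t)⁻¹)⁻¹ =
      lower (-t * t * r) := by
    intro r
    refine ext_entries ?_ ?_ ?_ ?_ <;>
      simp [mul_00, mul_01, mul_10, mul_11, inv_00, inv_01, inv_10, inv_11] <;> grind
  rw [conjBy_eq_iff, inv_inv, ← conjBy_mul]
  ext g
  constructor
  · intro hg
    obtain ⟨u, rfl⟩ := mem_lower.1 hg
    refine ⟨upper (-(u * s * s)), upper_mem _, (hfix _).trans (congrArg lower ?_)⟩
    grind
  · rintro ⟨a, ha, rfl⟩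
    obtain ⟨r, rfl⟩ := mem_upper.1 ha
    exact mem_lower.2 ⟨_, (hfix r).symm⟩

theorem commutative_upper : IsMulCommutative (upperUnipotentSL2 k) := by
  refine ⟨⟨fun x y => Subtype.ext ?_⟩⟩
  obtain ⟨s, hs⟩ := mem_upper.1 x.2
  obtain ⟨t, ht⟩ := mem_upper.1 y.2
  simp only [Subgroup.coe_mul, ← hs, ← ht, upper_mul, add_comm]

theorem commutative_lower : IsMulCommutative (lowerUnipotentSL2 k) := by
  refine ⟨⟨fun x y => Subtype.ext ?_⟩⟩
  obtain ⟨s, hs⟩ := mem_lower.1 x.2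
  obtain ⟨t, ht⟩ := mem_lower.1 y.2
  simp only [Subgroup.coe_mul, ← hs, ← ht, lower_mul, add_comm]

theorem isRankOnePair : IsRankOnePair (lowerUnipotentSL2 k) (upperUnipotentSL2 k) := by
  refine ⟨?_, ?_, ?_, ?_, ?_⟩
  · intro h
    have h1 : upper (1 : k) ∈ lowerUnipotentSL2 k := h ▸ upper_mem 1
    obtain ⟨t, ht⟩ := mem_lower.1 h1
    simpa using congrArg (fun g : SLtwo k => g 0 1) ht
  · exact @CommGroup.isNilpotent _ { (inferInstance : Group (lowerUnipotentSL2 k)) with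
      mul_comm := commutative_lower.is_comm.comm }
  · exact @CommGroup.isNilpotent _ { (inferInstance : Group (upperUnipotentSL2 k)) with
      mul_comm := commutative_upper.is_comm.comm }
  · intro a ha ha1
    obtain ⟨t, rfl⟩ := mem_lower.1 ha
    have ht : t ≠ 0 := fun h => ha1 (h ▸ lower_zero)
    exact ⟨upper t⁻¹, upper_mem _, upper_ne_one (inv_ne_zero ht), conj_eq (inv_mul_cancel₀ ht)⟩
  · intro b hb hb1
    obtain ⟨s, rfl⟩ := mem_upper.1 hb
    have hs : s ≠ 0 := fun h => hb1 (h ▸ upper_zero)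
    exact ⟨lower s⁻¹, lower_mem _, lower_ne_one (inv_ne_zero hs),
      (conj_eq (mul_inv_cancel₀ hs)).symm⟩

theorem isSpecial : IsSpecialRankOnePair (lowerUnipotentSL2 k) (upperUnipotentSL2 k) := by
  refine ⟨isRankOnePair, fun a ha ha1 b hb hb1 he => ?_⟩
  obtain ⟨t, rfl⟩ := mem_lower.1 ha
  have ht : t ≠ 0 := fun h => ha1 (h ▸ lower_zero)
  obtain rfl := RankOne.partner_unique isRankOnePair hb (upper_mem t⁻¹) he
    (conj_eq (inv_mul_cancel₀ ht))
  refine ext_entries ?_ ?_ ?_ ?_ <;>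
    simp [mul_00, mul_01, mul_10, mul_11, inv_00, inv_01, inv_10, inv_11] <;> grind

end Cfsg.Agent.Lib.RootSubgroups.SL2Pair
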