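import Mathlib
import Cfsg.Prelude.Def_RootSubgroups
import Cfsg.Agent.Lib.RootSubgroups.SL2Pair
import Cfsg.Agent.Lib.RootSubgroups.Connected

/-!
Groups of transvections in a matrix group: the three cases for two of them.
-/

set_option autoImplicit false

namespace Cfsg.Agent.Lib.RootSubgroups.Transv

open Cfsg Cfsg.Agent.Lib.RootSubgroups Cfsg.Agent.Lib.SL2 Matrix
open scoped commutatorElement

universe u v w

variable {n : Type u} [Fintype n] [DecidableEq n] {k : Type v} [Field k] {G : Type w} [Group G]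

/-- The transvection matrix `1 + c p φ`. -/
def tv (p φ : n → k) (c : k) : Matrix n n k := 1 + c • vecMulVec p φ

theorem tv_zero (p φ : n → k) : tv p φ 0 = 1 := by simp [tv]

theorem vmv_mul (p φ q ψ : n → k) :
    vecMulVec p φ * vecMulVec q ψ = (φ ⬝ᵥ q) • vecMulVec p ψ := by
  rw [vecMulVec_mul_vecMulVec, vecMulVec_smul]

theorem vmv_sq {p φ : n → k} (h : φ ⬝ᵥ p = 0) : vecMulVec p φ * vecMulVec p φ = 0 := by
  rw [vmv_mul, h, zero_smul]

theorem tv_mul {p φ : n → k} (h : φ ⬝ᵥ p = 0) (c d : k) : tv p φ c * tv p φ d = tv p φ (c + d) := by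
  simp only [tv, mul_add, add_mul, mul_one, one_mul, Matrix.smul_mul, Matrix.mul_smul, vmv_sq h,
    smul_zero, add_zero, add_smul]
  abel

theorem tv_comm {p φ q ψ : n → k} (h1 : φ ⬝ᵥ q = 0) (h2 : ψ ⬝ᵥ p = 0) (c d : k) :
    tv p φ c * tv q ψ d = tv q ψ d * tv p φ c := by
  simp only [tv, mul_add, add_mul, mul_one, one_mul, Matrix.smul_mul, Matrix.mul_smul, vmv_mul, h1,
    h2, zero_smul, smul_zero, add_zero]
  abel

theorem tv_commutator {p φ q ψ : n → k} (hp : φ ⬝ᵥ p = 0) (hq : ψ ⬝ᵥ q = 0) (h : ψ ⬝ᵥ p = 0)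
    (c d : k) :
    tv p φ c * tv q ψ d * tv p φ (-c) * tv q ψ (-d) = tv p ψ (c * d * (φ ⬝ᵥ q)) := by
  simp only [tv, mul_add, add_mul, mul_one, one_mul, Matrix.smul_mul, Matrix.mul_smul, vmv_mul, hp,
    hq, h, zero_smul, smul_zero, add_zero, smul_smul]
  module

theorem vmv_ne_zero {p φ : n → k} (hp : p ≠ 0) (hφ : φ ≠ 0) : vecMulVec p φ ≠ 0 := by
  obtain ⟨i, hi⟩ := Function.ne_iff.1 hp
  obtain ⟨j, hj⟩ := Function.ne_iff.1 hφ
  intro h
  have h1 := congrFun (congrFun h i) j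
  rw [vecMulVec_apply] at h1
  exact mul_ne_zero hi hj h1

theorem tv_inj {p φ : n → k} (hp : p ≠ 0) (hφ : φ ≠ 0) {c d : k} (h : tv p φ c = tv p φ d) :
    c = d := by
  have h1 : c • vecMulVec p φ = d • vecMulVec p φ := add_left_cancel h
  by_contra hne
  have h2 : (c - d) • vecMulVec p φ = 0 := by rw [sub_smul, h1, sub_self]
  exact vmv_ne_zero hp hφ ((smul_eq_zero.1 h2).resolve_left (sub_ne_zero.2 hne))

theorem tv_conj {M M' : Matrix n n k} (h : M' * M = 1) (p φ : n → k) (c : k) :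
    M * tv p φ c * M' = tv (M *ᵥ p) (φ ᵥ* M') c := by
  have h' : M * M' = 1 := mul_eq_one_comm.1 h
  simp only [tv, mul_add, add_mul, mul_one, h', Matrix.smul_mul, Matrix.mul_smul, mul_vecMulVec,
    vecMulVec_mul]

theorem dot_conj {M M' : Matrix n n k} (h : M' * M = 1) (p φ : n → k) :
    (φ ᵥ* M') ⬝ᵥ (M *ᵥ p) = φ ⬝ᵥ p := by
  rw [← dotProduct_mulVec, mulVec_mulVec, h, one_mulVec]

variable (ι : G →* Matrix n n k)

/-- `A` is the group of the transvections `1 + c p φ`. -/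
structure Data (A : Subgroup G) (p φ : n → k) : Prop where
  dot : φ ⬝ᵥ p = 0
  ne_p : p ≠ 0
  ne_φ : φ ≠ 0
  mem : ∀ g ∈ A, ∃ c, ι g = tv p φ c
  surj : ∀ c, ∃ g ∈ A, ι g = tv p φ c

variable {ι}

theorem map_inv_tv (hι : Function.Injective ι) {p φ : n → k} (h : φ ⬝ᵥ p = 0) {g : G} {c : k}
    (hg : ι g = tv p φ c) : ι g⁻¹ = tv p φ (-c) := by
  have h1 : ι g⁻¹ * ι g = 1 := by rw [← map_mul, inv_mul_cancel, map_one]
  calc ι g⁻¹ = ι g⁻¹ * (tv p φ c * tv p φ (-c)) := by rw [tv_mul h, add_neg_cancel, tv_zero, mul_one]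
    _ = tv p φ (-c) := by rw [← mul_assoc, ← hg, h1, one_mul]

theorem data_closure {s : Set G} {p φ : n → k} (hι : Function.Injective ι) (h : φ ⬝ᵥ p = 0)
    (hp : p ≠ 0) (hφ : φ ≠ 0) (hs : ∀ g ∈ s, ∃ c, ι g = tv p φ c)
    (hsurj : ∀ c, ∃ g ∈ s, ι g = tv p φ c) : Data ι (Subgroup.closure s) p φ := by
  refine ⟨h, hp, hφ, fun g hg => ?_, fun c => ?_⟩
  · induction hg using Subgroup.closure_induction with
    | mem x hx => exact hs x hx
    | one => exact ⟨0, by rw [map_one, tv_zero]⟩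
    | mul x y _ _ hx hy =>
      obtain ⟨c, hc⟩ := hx
      obtain ⟨d, hd⟩ := hy
      exact ⟨c + d, by rw [map_mul, hc, hd, tv_mul h]⟩
    | inv x _ hx =>
      obtain ⟨c, hc⟩ := hx
      exact ⟨-c, map_inv_tv hι h hc⟩
  · obtain ⟨g, hg, hgc⟩ := hsurj c
    exact ⟨g, Subgroup.subset_closure hg, hgc⟩

namespace Data

variable {A B D : Subgroup G} {p φ q ψ : n → k}

theorem of_tv_eq (hA : Data ι A p φ) (h : ψ ⬝ᵥ q = 0) (hq : q ≠ 0) (hψ : ψ ≠ 0)
    (he : ∀ c, tv p φ c = tv q ψ c) : Data ι A q ψ :=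
  ⟨h, hq, hψ, fun g hg => (hA.mem g hg).imp fun c hc => hc.trans (he c),
    fun c => by simpa [he] using hA.surj c⟩

theorem ne_bot (hA : Data ι A p φ) : A ≠ ⊥ := by
  intro h
  obtain ⟨g, hg, hgc⟩ := hA.surj 1
  rw [h, Subgroup.mem_bot] at hg
  rw [hg, map_one, ← tv_zero p φ] at hgc
  exact zero_ne_one (tv_inj hA.ne_p hA.ne_φ hgc)

theorem comm (hι : Function.Injective ι) (hA : Data ι A p φ) (hB : Data ι B q ψ) (h1 : φ ⬝ᵥ q = 0)
    (h2 : ψ ⬝ᵥ p = 0) : ⁅A, B⁆ = ⊥ := by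
  refine commutator_eq_bot_of_forall_comm fun a ha b hb => hι ?_
  obtain ⟨c, hc⟩ := hA.mem a ha
  obtain ⟨d, hd⟩ := hB.mem b hb
  rw [map_mul, map_mul, hc, hd, tv_comm h1 h2]

theorem conj (hι : Function.Injective ι) (hA : Data ι A p φ) (g : G) :
    Data ι (conjBy A g) (ι g *ᵥ p) (φ ᵥ* ι g⁻¹) := by
  have h : ι g⁻¹ * ι g = 1 := by rw [← map_mul, inv_mul_cancel, map_one]
  refine ⟨by rw [dot_conj h, hA.dot], fun h0 => hA.ne_p ?_, fun h0 => hA.ne_φ ?_, ?_, fun c => ?_⟩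
  · have := congrArg (ι g⁻¹ *ᵥ ·) h0
    simpa [h] using this
  · have := congrArg (· ᵥ* ι g) h0
    simpa [vecMul_vecMul, h] using this
  · rintro _ ⟨a, ha, rfl⟩
    obtain ⟨c, hc⟩ := hA.mem a ha
    refine ⟨c, ?_⟩
    show ι (g * a * g⁻¹) = _
    rw [map_mul, map_mul, hc, tv_conj h]
  · obtain ⟨a, ha, hc⟩ := hA.surj c
    exact ⟨g * a * g⁻¹, conj_mem_conjBy ha, by rw [map_mul, map_mul, hc, tv_conj h]⟩

theorem commutative (hι : Function.Injective ι) (hA : Data ι A p φ) : IsMulCommutative A := by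
  have h := hA.comm hι hA hA.dot hA.dot
  exact ⟨⟨fun x y => Subtype.ext (commute_of_commutator_eq_bot h x.2 y.2)⟩⟩

theorem commutator_value (hι : Function.Injective ι) (hA : Data ι A p φ) (hB : Data ι B q ψ)
    (h : ψ ⬝ᵥ p = 0) {a b : G} (hb : b ∈ B) {c d : k}
    (hc : ι a = tv p φ c) (hd : ι b = tv q ψ d) :
    ι (a * b * a⁻¹ * b⁻¹) = tv p ψ (c * d * (φ ⬝ᵥ q)) := by
  rw [map_mul, map_mul, map_mul, hc, hd, map_inv_tv hι hA.dot hc, map_inv_tv hι hB.dot hd,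
    tv_commutator hA.dot hB.dot h]

/-- The commutator case. -/
theorem commCase (hι : Function.Injective ι) {S : Set (Subgroup G)} (hA : Data ι A p φ)
    (hB : Data ι B q ψ) (hD : Data ι D p ψ) (hDS : D ∈ S) (h1 : φ ⬝ᵥ q ≠ 0) :
    RootCommutatorCase S A B := by
  have h2 : ψ ⬝ᵥ p = 0 := hD.dot
  have hmem : ∀ a ∈ A, ∀ b ∈ B, a * b * a⁻¹ * b⁻¹ ∈ D := by
    intro a ha b hb
    obtain ⟨c, hc⟩ := hA.mem a ha
    obtain ⟨d, hd⟩ := hB.mem b hb
    obtain ⟨g, hg, hgv⟩ := hD.surj (c * d * (φ ⬝ᵥ q))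
    rw [← commutator_value hι hA hB h2 hb hc hd] at hgv
    exact hι hgv ▸ hg
  have hleft : ∀ a ∈ A, a ≠ 1 →
      Subgroup.closure ((fun b : G => a * b * a⁻¹ * b⁻¹) '' (B : Set G)) = D := by
    intro a ha ha1
    refine le_antisymm ((Subgroup.closure_le _).2 ?_) fun g hg => ?_
    · rintro _ ⟨b, hb, rfl⟩; exact hmem a ha b hb
    obtain ⟨c, hc⟩ := hA.mem a ha
    have hc0 : c ≠ 0 := fun h => ha1 (hι (by rw [hc, h, tv_zero, map_one]))
    obtain ⟨e, he⟩ := hD.mem g hg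
    obtain ⟨b, hb, hbv⟩ := hB.surj (e / (c * (φ ⬝ᵥ q)))
    refine Subgroup.subset_closure ⟨b, hb, hι ?_⟩
    rw [commutator_value hι hA hB h2 hb hc hbv, he]
    congr 1
    field_simp
  have hright : ∀ b ∈ B, b ≠ 1 →
      Subgroup.closure ((fun a : G => a * b * a⁻¹ * b⁻¹) '' (A : Set G)) = D := by
    intro b hb hb1
    refine le_antisymm ((Subgroup.closure_le _).2 ?_) fun g hg => ?_
    · rintro _ ⟨a, ha, rfl⟩; exact hmem a ha b hb
    obtain ⟨d, hd⟩ := hB.mem b hb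
    have hd0 : d ≠ 0 := fun h => hb1 (hι (by rw [hd, h, tv_zero, map_one]))
    obtain ⟨e, he⟩ := hD.mem g hg
    obtain ⟨a, ha, hav⟩ := hA.surj (e / (d * (φ ⬝ᵥ q)))
    refine Subgroup.subset_closure ⟨a, ha, hι ?_⟩
    rw [commutator_value hι hA hB h2 hb hav hd, he]
    congr 1
    field_simp
  have hK : ⁅A, B⁆ = D := by
    refine le_antisymm (Subgroup.commutator_le.2 hmem) ?_
    obtain ⟨a, ha, ha1⟩ := exists_mem_ne_one_of_ne_bot hA.ne_bot
    rw [← hleft a ha ha1, Subgroup.closure_le]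
    rintro _ ⟨b, hb, rfl⟩
    exact Subgroup.commutator_mem_commutator ha hb
  rw [RootCommutatorCase, hK]
  refine ⟨hDS, fun c hc x hx => ?_, hleft, hright⟩
  have hle : D ≤ Subgroup.centralizer ((A ⊔ B : Subgroup G) : Set G) :=
    Subgroup.le_centralizer_iff.1 (sup_le
      (Subgroup.commutator_eq_bot_iff_le_centralizer.1 (hA.comm hι hD hA.dot h2))
      (Subgroup.commutator_eq_bot_iff_le_centralizer.1 (hB.comm hι hD h2 hB.dot)))
  exact (Subgroup.mem_centralizer_iff.1 (hle hc) x hx).symm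

/-- The rank one case. -/
theorem pair (hι : Function.Injective ι) (hA : Data ι A p φ) (hB : Data ι B q ψ)
    (h1 : φ ⬝ᵥ q ≠ 0) (h2 : ψ ⬝ᵥ p ≠ 0) : IsPSL2PairOver k A B ∧ IsRankOnePair A B := by
  let U : Matrix n (Fin 2) k := of fun i j => if j = 0 then p i else q i
  let W : Matrix (Fin 2) n k := of fun j i => if j = 0 then (ψ ⬝ᵥ p)⁻¹ * ψ i else (φ ⬝ᵥ q)⁻¹ * φ i
  have hWU : W * U = 1 := by
    ext i j
    fin_cases i <;> fin_cases j <;>
      simp [W, U, Matrix.mul_apply, mul_assoc, ← Finset.mul_sum, ← dotProduct.eq_def]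
    all_goals first | exact inv_mul_cancel₀ h2 | exact inv_mul_cancel₀ h1 | exact Or.inr hB.dot | exact Or.inr hA.dot
  let Φ : SLtwo k → Matrix n n k := fun g => 1 + U * ((g : Matrix (Fin 2) (Fin 2) k) - 1) * W
  have hΦ1 : Φ 1 = 1 := by simp [Φ]
  have hΦmul : ∀ g h, Φ (g * h) = Φ g * Φ h := by
    intro g h
    set a := (g : Matrix (Fin 2) (Fin 2) k) - 1 with ha
    set b := (h : Matrix (Fin 2) (Fin 2) k) - 1 with hb
    have e : ((g * h : SLtwo k) : Matrix (Fin 2) (Fin 2) k) - 1 = a + b + a * b := by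
      rw [ha, hb, show ((g * h : SLtwo k) : Matrix (Fin 2) (Fin 2) k) = g.1 * h.1 from rfl]; noncomm_ring
    have e2 : U * a * W * (U * b * W) = U * (a * b) * W := by
      calc U * a * W * (U * b * W) = U * a * ((W * U) * b * W) := by simp only [Matrix.mul_assoc]
        _ = U * (a * b) * W := by rw [hWU, Matrix.one_mul]; simp only [Matrix.mul_assoc]
    show 1 + U * (((g * h : SLtwo k) : Matrix (Fin 2) (Fin 2) k) - 1) * W = _
    simp only [Φ, ← ha, ← hb, e, Matrix.add_mul, Matrix.mul_add, Matrix.mul_one, Matrix.one_mul, e2]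
    abel
  have hΦinj : Function.Injective Φ := by
    intro g h he
    have h3 := congrArg (fun X => W * (X - 1) * U) he
    simp only [Φ, add_sub_cancel_left] at h3
    have e : ∀ a : Matrix (Fin 2) (Fin 2) k, W * (U * a * W) * U = a := fun a => by
      calc W * (U * a * W) * U = (W * U) * a * (W * U) := by simp only [Matrix.mul_assoc]
        _ = a := by rw [hWU, Matrix.one_mul, Matrix.mul_one]
    rw [e, e] at h3
    exact Subtype.ext (sub_left_injective h3)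
  have hup : ∀ t, Φ (upper t) = tv p φ (t / (φ ⬝ᵥ q)) := fun t => by
    ext i j
    simp [Φ, U, W, tv, Matrix.mul_apply, Fin.sum_univ_two, vecMulVec_apply]
    ring
  have hlo : ∀ t, Φ (lower t) = tv q ψ (t / (ψ ⬝ᵥ p)) := fun t => by
    ext i j
    simp [Φ, U, W, tv, Matrix.mul_apply, Fin.sum_univ_two, vecMulVec_apply]
    ring
  let K : Subgroup (SLtwo k) :=
    { carrier := {g | ∃ x ∈ A ⊔ B, ι x = Φ g}
      one_mem' := ⟨1, one_mem _, by rw [map_one, hΦ1]⟩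
      mul_mem' := by
        rintro g h ⟨x, hx, hgx⟩ ⟨y, hy, hhy⟩
        exact ⟨x * y, mul_mem hx hy, by rw [map_mul, hgx, hhy, hΦmul]⟩
      inv_mem' := by
        rintro g ⟨x, hx, hgx⟩
        refine ⟨x⁻¹, inv_mem hx, ?_⟩
        have h3 : ι x⁻¹ * ι x = 1 := by rw [← map_mul, inv_mul_cancel, map_one]
        calc ι x⁻¹ = ι x⁻¹ * (Φ g * Φ g⁻¹) := by rw [← hΦmul, mul_inv_cancel, hΦ1, mul_one]
          _ = Φ g⁻¹ := by rw [← mul_assoc, ← hgx, h3, one_mul] }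
  have hK : ∀ g, g ∈ K := by
    intro g
    have htop : lowerUnipotentSL2 k ⊔ upperUnipotentSL2 k ≤ K := by
      refine sup_le (fun x hx => ?_) (fun x hx => ?_)
      · obtain ⟨t, rfl⟩ := SL2Pair.mem_lower.1 hx
        obtain ⟨b, hb, hbv⟩ := hB.surj (t / (ψ ⬝ᵥ p))
        exact ⟨b, Subgroup.mem_sup_right hb, hbv.trans (hlo t).symm⟩
      · obtain ⟨t, rfl⟩ := SL2Pair.mem_upper.1 hx
        obtain ⟨a, ha, hav⟩ := hA.surj (t / (φ ⬝ᵥ q))
        exact ⟨a, Subgroup.mem_sup_left ha, hav.trans (hup t).symm⟩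
    exact htop (SL2Pair.sup_eq_top (k := k) ▸ Subgroup.mem_top g)
  choose f hfmem hf using hK
  let χ : SLtwo k →* G :=
    { toFun := f
      map_one' := hι (by rw [hf, hΦ1, map_one])
      map_mul' := fun g h => hι (by rw [map_mul, hf, hf, hf, hΦmul]) }
  have hχ : ∀ g, ι (χ g) = Φ g := hf
  have hχinj : Function.Injective χ := fun g h he => hΦinj (by rw [← hχ, ← hχ, he])
  have mapU : (upperUnipotentSL2 k).map χ = A := by
    ext a
    constructor
    · rintro ⟨x, hx, rfl⟩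
      obtain ⟨t, rfl⟩ := SL2Pair.mem_upper.1 hx
      obtain ⟨a, ha, hav⟩ := hA.surj (t / (φ ⬝ᵥ q))
      rwa [show χ (upper t) = a from hι (by rw [hχ, hup, hav])]
    · intro ha
      obtain ⟨c, hc⟩ := hA.mem a ha
      refine ⟨upper (c * (φ ⬝ᵥ q)), SL2Pair.upper_mem _, hι ?_⟩
      rw [hχ, hup, hc, mul_div_cancel_right₀ c h1]
  have mapL : (lowerUnipotentSL2 k).map χ = B := by
    ext a
    constructor
    · rintro ⟨x, hx, rfl⟩
      obtain ⟨t, rfl⟩ := SL2Pair.mem_lower.1 hx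
      obtain ⟨a, ha, hav⟩ := hB.surj (t / (ψ ⬝ᵥ p))
      rwa [show χ (lower t) = a from hι (by rw [hχ, hlo, hav])]
    · intro ha
      obtain ⟨c, hc⟩ := hB.mem a ha
      refine ⟨lower (c * (ψ ⬝ᵥ p)), SL2Pair.lower_mem _, hι ?_⟩
      rw [hχ, hlo, hc, mul_div_cancel_right₀ c h2]
  refine ⟨⟨χ, ?_, ?_, mapU, mapL⟩, ?_⟩
  · rw [MonoidHom.range_eq_map, ← SL2Pair.sup_eq_top (k := k), Subgroup.map_sup, mapU, mapL, sup_comm]
  · rw [(MonoidHom.ker_eq_bot_iff χ).2 hχinj]; exact bot_le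
  · rcases RootSet.pair_map (SL2Pair.isRankOnePair (k := k)) χ with h | h
    · exact absurd (Subgroup.map_injective hχinj h) SL2Pair.isRankOnePair.ne
    · rw [mapU, mapL] at h; exact RankOne.symm h

end Data

/-- The root subgroup axioms for a family of transvection groups. -/
theorem rootSet (hι : Function.Injective ι) {S : Set (Subgroup G)}
    (hdata : ∀ A ∈ S, ∃ p φ, Data ι A p φ)
    (hex : ∀ A ∈ S, ∀ B ∈ S, ∀ p φ q ψ, Data ι A p φ → Data ι B q ψ → φ ⬝ᵥ q ≠ 0 → ψ ⬝ᵥ p = 0 →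
      ∃ D ∈ S, Data ι D p ψ)
    (hgen : (⨆ A ∈ S, A) = ⊤) (hconj : ∀ A ∈ S, ∀ g : G, conjBy A g ∈ S) :
    IsKRootSubgroupSet k S := by
  have hcases : ∀ A ∈ S, ∀ B ∈ S, ⁅A, B⁆ = ⊥ ∨ (IsPSL2PairOver k A B ∧ IsRankOnePair A B) ∨
      RootCommutatorCase S A B := by
    intro A hA B hB
    obtain ⟨p, φ, dA⟩ := hdata A hA
    obtain ⟨q, ψ, dB⟩ := hdata B hB
    by_cases h1 : φ ⬝ᵥ q = 0
    · by_cases h2 : ψ ⬝ᵥ p = 0
      · exact Or.inl (dA.comm hι dB h1 h2)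
      · obtain ⟨D, hD, dD⟩ := hex B hB A hA q ψ p φ dB dA h2 h1
        exact Or.inr (Or.inr (RootSet.commCase_symm (dB.commCase hι dA dD hD h2)))
    · by_cases h2 : ψ ⬝ᵥ p = 0
      · obtain ⟨D, hD, dD⟩ := hex A hA B hB p φ q ψ dA dB h1 h2
        exact Or.inr (Or.inr (dA.commCase hι dB dD hD h1))
      · exact Or.inr (Or.inl (dA.pair hι dB h1 h2))
  have hS : IsRootSubgroupSet S :=
    { commutative := fun A hA => by obtain ⟨p, φ, d⟩ := hdata A hA; exact d.commutative hι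
      ne_bot := fun A hA => by obtain ⟨p, φ, d⟩ := hdata A hA; exact d.ne_bot
      generates := hgen
      conj_mem := hconj
      pair := fun A hA B hB => (hcases A hA B hB).imp id (Or.imp And.right id) }
  refine ⟨hS, fun A hA B hB hp => ?_⟩
  rcases hcases A hA B hB with h | h | h
  · exact absurd h (RootSet.rankOne_not_commute hp)
  · exact h.1
  · exact absurd h (RootSet.rankOne_not_commCase hS hB hp)

end Cfsg.Agent.Lib.RootSubgroups.Transv
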