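import Mathlib
import Cfsg.Agent.Lib.RootSubgroups.TransvectionPairs
import Cfsg.Agent.Lib.RootSubgroups.SubgroupOfSet

/-!
Groups of transvections with scalars in a subfield, and transfer of their axioms to the generated
subgroup.
-/

set_option autoImplicit false

namespace Cfsg.Agent.Lib.RootSubgroups

open Cfsg Cfsg.Agent.Lib.SL2 Matrix
open scoped commutatorElement

namespace Transv

universe u v w

variable {n : Type u} [Fintype n] [DecidableEq n] {F : Type v} [Field F] {G : Type w} [Group G]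
  {L : Type*} [Field L]

variable (ι : G →* Matrix n n F) (e : L →+* F)

/-- `A` is the group of the transvections `1 + e(l) p φ`. -/
structure SubData (A : Subgroup G) (p φ : n → F) : Prop where
  dot : φ ⬝ᵥ p = 0
  ne_p : p ≠ 0
  ne_φ : φ ≠ 0
  mem : ∀ g ∈ A, ∃ l, ι g = tv p φ (e l)
  surj : ∀ l, ∃ g ∈ A, ι g = tv p φ (e l)

variable {ι e}

theorem subData_closure {s : Set G} {p φ : n → F} (hι : Function.Injective ι) (h : φ ⬝ᵥ p = 0)
    (hp : p ≠ 0) (hφ : φ ≠ 0) (hs : ∀ g ∈ s, ∃ l, ι g = tv p φ (e l))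
    (hsurj : ∀ l, ∃ g ∈ s, ι g = tv p φ (e l)) : SubData ι e (Subgroup.closure s) p φ := by
  refine ⟨h, hp, hφ, fun g hg => ?_, fun l => ?_⟩
  · induction hg using Subgroup.closure_induction with
    | mem x hx => exact hs x hx
    | one => exact ⟨0, by rw [map_one, map_zero, tv_zero]⟩
    | mul x y _ _ hx hy =>
      obtain ⟨c, hc⟩ := hx
      obtain ⟨d, hd⟩ := hy
      exact ⟨c + d, by rw [map_mul, hc, hd, tv_mul h, map_add]⟩
    | inv x _ hx =>
      obtain ⟨c, hc⟩ := hx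
      exact ⟨-c, by rw [map_neg]; exact map_inv_tv hι h hc⟩
  · obtain ⟨g, hg, hgc⟩ := hsurj l
    exact ⟨g, Subgroup.subset_closure hg, hgc⟩

namespace SubData

variable {A B : Subgroup G} {p φ q ψ : n → F}

theorem ne_bot (hA : SubData ι e A p φ) : A ≠ ⊥ := by
  intro h
  obtain ⟨g, hg, hgc⟩ := hA.surj 1
  rw [h, Subgroup.mem_bot] at hg
  rw [hg, map_one, map_one, ← tv_zero p φ] at hgc
  exact zero_ne_one (tv_inj hA.ne_p hA.ne_φ hgc)

theorem comm (hι : Function.Injective ι) (hA : SubData ι e A p φ) (hB : SubData ι e B q ψ)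
    (h1 : φ ⬝ᵥ q = 0) (h2 : ψ ⬝ᵥ p = 0) : ⁅A, B⁆ = ⊥ := by
  refine commutator_eq_bot_of_forall_comm fun a ha b hb => hι ?_
  obtain ⟨c, hc⟩ := hA.mem a ha
  obtain ⟨d, hd⟩ := hB.mem b hb
  rw [map_mul, map_mul, hc, hd, tv_comm h1 h2]

theorem commutative (hι : Function.Injective ι) (hA : SubData ι e A p φ) : IsMulCommutative A := by
  have h := hA.comm hι hA hA.dot hA.dot
  exact ⟨⟨fun x y => Subtype.ext (commute_of_commutator_eq_bot h x.2 y.2)⟩⟩

/-- The rank one case. -/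
theorem pair (hι : Function.Injective ι) (hA : SubData ι e A p φ) (hB : SubData ι e B q ψ)
    {N : L} (hN : (φ ⬝ᵥ q) * (ψ ⬝ᵥ p) = e N) (hN0 : N ≠ 0) :
    IsPSL2PairOver L A B ∧ IsRankOnePair A B := by
  have hs : (φ ⬝ᵥ q) * (ψ ⬝ᵥ p) ≠ 0 := by rw [hN]; exact (map_ne_zero e).2 hN0
  have h1 : φ ⬝ᵥ q ≠ 0 := left_ne_zero_of_mul hs
  have h2 : ψ ⬝ᵥ p ≠ 0 := right_ne_zero_of_mul hs
  let U : Matrix n (Fin 2) F := of fun i j => if j = 0 then p i else (φ ⬝ᵥ q)⁻¹ * q i
  let W : Matrix (Fin 2) n F := of fun j i => if j = 0 then (ψ ⬝ᵥ p)⁻¹ * ψ i else φ i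
  have hWU : W * U = 1 := by
    ext i j
    fin_cases i <;> fin_cases j <;>
      simp [W, U, Matrix.mul_apply, mul_assoc, mul_left_comm _ (φ ⬝ᵥ q)⁻¹, ← Finset.mul_sum,
        ← dotProduct.eq_def]
    all_goals first | exact inv_mul_cancel₀ h2 | exact inv_mul_cancel₀ h1 | exact Or.inr hB.dot | exact Or.inr hA.dot | exact hA.dot | exact Or.inr (Or.inr hB.dot)
  let Φ : SLtwo L → Matrix n n F := fun g =>
    1 + U * (((g : Matrix (Fin 2) (Fin 2) L)).map e - 1) * W
  have hΦ1 : Φ 1 = 1 := by simp [Φ]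
  have hΦmul : ∀ g h, Φ (g * h) = Φ g * Φ h := by
    intro g h
    set a := (g : Matrix (Fin 2) (Fin 2) L).map e - 1 with ha
    set b := (h : Matrix (Fin 2) (Fin 2) L).map e - 1 with hb
    have e1 : ((g * h : SLtwo L) : Matrix (Fin 2) (Fin 2) L).map e - 1 = a + b + a * b := by
      rw [ha, hb, show ((g * h : SLtwo L) : Matrix (Fin 2) (Fin 2) L) = g.1 * h.1 from rfl,
        Matrix.map_mul]
      noncomm_ring
    have e2 : U * a * W * (U * b * W) = U * (a * b) * W := by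
      calc U * a * W * (U * b * W) = U * a * ((W * U) * b * W) := by simp only [Matrix.mul_assoc]
        _ = U * (a * b) * W := by rw [hWU, Matrix.one_mul]; simp only [Matrix.mul_assoc]
    show 1 + U * (((g * h : SLtwo L) : Matrix (Fin 2) (Fin 2) L).map e - 1) * W = _
    simp only [Φ, ← ha, ← hb, e1, Matrix.add_mul, Matrix.mul_add, Matrix.mul_one, Matrix.one_mul, e2]
    abel
  have hΦinj : Function.Injective Φ := by
    intro g h he
    have h3 := congrArg (fun X => W * (X - 1) * U) he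
    simp only [Φ, add_sub_cancel_left] at h3
    have e1 : ∀ a : Matrix (Fin 2) (Fin 2) F, W * (U * a * W) * U = a := fun a => by
      calc W * (U * a * W) * U = (W * U) * a * (W * U) := by simp only [Matrix.mul_assoc]
        _ = a := by rw [hWU, Matrix.one_mul, Matrix.mul_one]
    rw [e1, e1] at h3
    exact Subtype.ext (Matrix.map_injective e.injective (sub_left_injective h3))
  have hup : ∀ t, Φ (upper t) = tv p φ (e t) := fun t => by
    ext i j
    simp [Φ, U, W, tv, Matrix.mul_apply, Fin.sum_univ_two, vecMulVec_apply]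
    ring
  have hlo : ∀ t, Φ (lower t) = tv q ψ (e (t / N)) := fun t => by
    ext i j
    simp [Φ, U, W, tv, Matrix.mul_apply, Fin.sum_univ_two, vecMulVec_apply, ← hN]
    ring
  let K : Subgroup (SLtwo L) :=
    { carrier := {g | ∃ x ∈ A ⊔ B, ι x = Φ g}
      one_mem' := ⟨1, one_mem _, by rw [map_one, hΦ1]⟩
      mul_mem' := by
        rintro g h ⟨x, hx, hgx⟩ ⟨y, hy, hhy⟩
        exact ⟨x * y, mul_mem hx hy, by rw [map_mul, hgx, hhy, hΦmul]⟩
      inv_mem' := by
        rintro g ⟨x, hx, hgx⟩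
        refine ⟨x⁻¹, inv_mem hx, ?_⟩
        have h3 : ι x⁻¹ * ι x = 1 := by rw [← map_mul, inv_mul_cancel, map_one]
        calc ι x⁻¹ = ι x⁻¹ * (Φ g * Φ g⁻¹) := by rw [← hΦmul, mul_inv_cancel, hΦ1, mul_one]
          _ = Φ g⁻¹ := by rw [← mul_assoc, ← hgx, h3, one_mul] }
  have hK : ∀ g, g ∈ K := by
    intro g
    have htop : lowerUnipotentSL2 L ⊔ upperUnipotentSL2 L ≤ K := by
      refine sup_le (fun x hx => ?_) (fun x hx => ?_)
      · obtain ⟨t, rfl⟩ := SL2Pair.mem_lower.1 hx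
        obtain ⟨b, hb, hbv⟩ := hB.surj (t / N)
        exact ⟨b, Subgroup.mem_sup_right hb, hbv.trans (hlo t).symm⟩
      · obtain ⟨t, rfl⟩ := SL2Pair.mem_upper.1 hx
        obtain ⟨a, ha, hav⟩ := hA.surj t
        exact ⟨a, Subgroup.mem_sup_left ha, hav.trans (hup t).symm⟩
    exact htop (SL2Pair.sup_eq_top (k := L) ▸ Subgroup.mem_top g)
  choose f _ hf using hK
  let χ : SLtwo L →* G :=
    { toFun := f
      map_one' := hι (by rw [hf, hΦ1, map_one])
      map_mul' := fun g h => hι (by rw [map_mul, hf, hf, hf, hΦmul]) }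
  have hχ : ∀ g, ι (χ g) = Φ g := hf
  have hχinj : Function.Injective χ := fun g h he => hΦinj (by rw [← hχ, ← hχ, he])
  have mapU : (upperUnipotentSL2 L).map χ = A := by
    ext a
    constructor
    · rintro ⟨x, hx, rfl⟩
      obtain ⟨t, rfl⟩ := SL2Pair.mem_upper.1 hx
      obtain ⟨a, ha, hav⟩ := hA.surj t
      rwa [show χ (upper t) = a from hι (by rw [hχ, hup, hav])]
    · intro ha
      obtain ⟨c, hc⟩ := hA.mem a ha
      exact ⟨upper c, SL2Pair.upper_mem _, hι (by rw [hχ, hup, hc])⟩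
  have mapL : (lowerUnipotentSL2 L).map χ = B := by
    ext a
    constructor
    · rintro ⟨x, hx, rfl⟩
      obtain ⟨t, rfl⟩ := SL2Pair.mem_lower.1 hx
      obtain ⟨a, ha, hav⟩ := hB.surj (t / N)
      rwa [show χ (lower t) = a from hι (by rw [hχ, hlo, hav])]
    · intro ha
      obtain ⟨c, hc⟩ := hB.mem a ha
      refine ⟨lower (c * N), SL2Pair.lower_mem _, hι ?_⟩
      rw [hχ, hlo, hc, mul_div_cancel_right₀ c hN0]
  refine ⟨⟨χ, ?_, ?_, mapU, mapL⟩, ?_⟩
  · rw [MonoidHom.range_eq_map, ← SL2Pair.sup_eq_top (k := L), Subgroup.map_sup, mapU, mapL, sup_comm]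
  · rw [(MonoidHom.ker_eq_bot_iff χ).2 hχinj]; exact bot_le
  · rcases RootSet.pair_map (SL2Pair.isRankOnePair (k := L)) χ with h | h
    · exact absurd (Subgroup.map_injective hχinj h) SL2Pair.isRankOnePair.ne
    · rw [mapU, mapL] at h; exact RankOne.symm h

end SubData

end Transv

namespace Inside

variable {G : Type*} [Group G] {A B H : Subgroup G} {S : Set (Subgroup G)} {L : Type*} [Field L]

theorem isPSL2PairOver_subgroupOf (hA : A ≤ H) (hB : B ≤ H) (h : IsPSL2PairOver L A B) :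
    IsPSL2PairOver L (A.subgroupOf H) (B.subgroupOf H) := by
  obtain ⟨φ, hr, hk, hU, hV⟩ := h
  have hmem : ∀ x, φ x ∈ H := fun x => sup_le hA hB (hr ▸ ⟨x, rfl⟩)
  refine ⟨φ.codRestrict H hmem, ?_, ?_, ?_, ?_⟩
  · refine eq_of_map ?_
    rw [Subgroup.map_sup, map_subgroupOf hA, map_subgroupOf hB, MonoidHom.map_range, ← hr]
    rfl
  · intro x hx
    exact hk (congrArg Subtype.val hx)
  · refine eq_of_map ?_
    rw [Subgroup.map_map, map_subgroupOf hA, ← hU]
    rfl
  · refine eq_of_map ?_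
    rw [Subgroup.map_map, map_subgroupOf hB, ← hV]
    rfl

theorem exists_conj_of_pair (hp : IsRankOnePair A B) : ∃ g ∈ A ⊔ B, conjBy A g = B := by
  obtain ⟨a, ha, ha1⟩ := (Subgroup.bot_or_exists_ne_one A).resolve_left (RankOne.left_ne_bot hp)
  obtain ⟨b, hb, -, e⟩ := hp.cond_left a ha ha1
  exact ⟨a * b⁻¹, mul_mem (Subgroup.mem_sup_left ha) (inv_mem (Subgroup.mem_sup_right hb)),
    by rw [conjBy_mul, e, conjBy_conjBy_inv]⟩

/-- A connected family of transvection groups inside the group it generates. -/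
theorem degenerate_class (hgen : (⨆ A ∈ S, A) = H) (hcomm : ∀ A ∈ S, IsMulCommutative A)
    (hne : ∀ A ∈ S, A ≠ ⊥) (hconj : ∀ A ∈ S, ∀ g ∈ H, conjBy A g ∈ S) (h0 : S.Nonempty)
    (hpair : ∀ A ∈ S, ∀ B ∈ S, ⁅A, B⁆ = ⊥ ∨ (IsPSL2PairOver L A B ∧ IsRankOnePair A B))
    (hconn : IsConnectedFamily (FAdj S) S) :
    IsRootSubgroupClass ((fun A : Subgroup G => A.subgroupOf H) '' S) ∧
      IsDegenerateRootSet ((fun A : Subgroup G => A.subgroupOf H) '' S) ∧
      IsKRootSubgroupSet L ((fun A : Subgroup G => A.subgroupOf H) '' S) ∧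
      IsConnectedFamily (FAdj ((fun A : Subgroup G => A.subgroupOf H) '' S))
        ((fun A : Subgroup G => A.subgroupOf H) '' S) := by
  have hle : ∀ A ∈ S, A ≤ H := fun A hA => hgen ▸ le_iSup₂ (f := fun A (_ : A ∈ S) => A) A hA
  have hclass : ∀ A ∈ S, ∀ B ∈ S, ∃ g ∈ H, conjBy A g = B := by
    intro A hA B hB
    have hr := hconn A hA B hB
    clear hB
    induction hr with
    | refl => exact ⟨1, one_mem _, conjBy_one A⟩
    | tail _ h ih =>
      obtain ⟨g, hg, e⟩ := ih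
      obtain ⟨v, hv, e'⟩ := exists_conj_of_pair h.2.2
      exact ⟨v * g, mul_mem (sup_le (hle _ h.1) (hle _ h.2.1) hv) hg, by rw [conjBy_mul, e, e']⟩
  have hcls := isRootSubgroupClass hgen hcomm hne hconj
    (fun A hA B hB => (hpair A hA B hB).imp id fun h => Or.inl h.2) h0 hclass
  have hcases : ∀ X ∈ (fun A : Subgroup G => A.subgroupOf H) '' S,
      ∀ Y ∈ (fun A : Subgroup G => A.subgroupOf H) '' S,
        ⁅X, Y⁆ = ⊥ ∨ (IsPSL2PairOver L X Y ∧ IsRankOnePair X Y) := by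
    rintro _ ⟨A, hA, rfl⟩ _ ⟨B, hB, rfl⟩
    refine (hpair A hA B hB).imp (fun h => ?_) fun h =>
      ⟨isPSL2PairOver_subgroupOf (hle A hA) (hle B hB) h.1,
        isRankOnePair_subgroupOf (hle A hA) (hle B hB) h.2⟩
    rw [commutator_subgroupOf (hle A hA) (hle B hB), h, Subgroup.bot_subgroupOf]
  refine ⟨hcls, fun X hX Y hY hc => ?_, ⟨hcls.1, fun X hX Y hY hp => ?_⟩, ?_⟩
  · rcases hcases X hX Y hY with h | h
    · exact RootSet.commCase_not_commute hcls.1 hc h
    · exact RootSet.rankOne_not_commCase hcls.1 hY h.2 hc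
  · exact ((hcases X hX Y hY).resolve_left (RootSet.rankOne_not_commute hp)).1
  · rintro _ ⟨A, hA, rfl⟩ _ ⟨B, hB, rfl⟩
    refine Relation.ReflTransGen.lift (fun A : Subgroup G => A.subgroupOf H) (fun X Y h => ?_) _ _ (hconn A hA B hB)
    exact ⟨⟨X, h.1, rfl⟩, ⟨Y, h.2.1, rfl⟩, isRankOnePair_subgroupOf (hle X h.1) (hle Y h.2.1) h.2.2⟩

end Inside

end Cfsg.Agent.Lib.RootSubgroups
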