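import Mathlib
import Cfsg.Agent.Lib.RootSubgroups.TransvectionSub

/-!
Groups `1 + k N`, `N² = 0`, in an algebra: the three cases for two of them.
-/

set_option autoImplicit false

namespace Cfsg.Agent.Lib.RootSubgroups.NilPair

open Cfsg Cfsg.Agent.Lib.RootSubgroups Cfsg.Agent.Lib.SL2
open scoped commutatorElement

variable {k : Type*} [Field k] {R : Type*} [Ring R] [Algebra k R] {G : Type*} [Group G]

variable (k) in
/-- `A` is the group of the elements `1 + c N`. -/
structure Data (ι : G →* R) (A : Subgroup G) (N : R) : Prop where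
  sq : N * N = 0
  ne : N ≠ 0
  mem : ∀ g ∈ A, ∃ c : k, ι g = 1 + c • N
  surj : ∀ c : k, ∃ g ∈ A, ι g = 1 + c • N

variable {ι : G →* R} {A B D : Subgroup G} {N M : R}

theorem elem_mul (h : N * N = 0) (c d : k) : (1 + c • N) * (1 + d • N) = 1 + (c + d) • N := by
  simp only [mul_add, add_mul, one_mul, mul_one, smul_mul_assoc, mul_smul_comm, h, smul_zero]
  module

theorem map_inv_elem (h : N * N = 0) {g : G} {c : k} (hg : ι g = 1 + c • N) :
    ι g⁻¹ = 1 + (-c) • N := by
  have h1 : ι g⁻¹ * ι g = 1 := by rw [← map_mul, inv_mul_cancel, map_one]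
  calc ι g⁻¹ = ι g⁻¹ * ((1 + c • N) * (1 + (-c) • N)) := by
        rw [elem_mul h, add_neg_cancel, zero_smul, add_zero, mul_one]
    _ = 1 + (-c) • N := by rw [← mul_assoc, ← hg, h1, one_mul]

theorem data_closure {s : Set G} (h : N * N = 0) (hN : N ≠ 0)
    (hs : ∀ g ∈ s, ∃ c : k, ι g = 1 + c • N) (hsurj : ∀ c : k, ∃ g ∈ s, ι g = 1 + c • N) :
    Data k ι (Subgroup.closure s) N := by
  refine ⟨h, hN, fun g hg => ?_, fun c => ?_⟩
  · induction hg using Subgroup.closure_induction with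
    | mem x hx => exact hs x hx
    | one => exact ⟨0, by rw [map_one, zero_smul, add_zero]⟩
    | mul x y _ _ hx hy =>
      obtain ⟨c, hc⟩ := hx
      obtain ⟨d, hd⟩ := hy
      exact ⟨c + d, by rw [map_mul, hc, hd, elem_mul h]⟩
    | inv x _ hx =>
      obtain ⟨c, hc⟩ := hx
      exact ⟨-c, map_inv_elem h hc⟩
  · obtain ⟨g, hg, hgc⟩ := hsurj c
    exact ⟨g, Subgroup.subset_closure hg, hgc⟩

theorem Data.ne_bot (hA : Data k ι A N) : A ≠ ⊥ := by
  intro h
  obtain ⟨g, hg, hgc⟩ := hA.surj 1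
  rw [h, Subgroup.mem_bot] at hg
  rw [hg, map_one, one_smul, eq_comm, add_eq_left] at hgc
  exact hA.ne hgc

theorem Data.comm (hι : Function.Injective ι) (hA : Data k ι A N) (hB : Data k ι B M)
    (h : N * M = M * N) : ⁅A, B⁆ = ⊥ := by
  refine commutator_eq_bot_of_forall_comm fun a ha b hb => hι ?_
  obtain ⟨c, hc⟩ := hA.mem a ha
  obtain ⟨d, hd⟩ := hB.mem b hb
  rw [map_mul, map_mul, hc, hd]
  simp only [mul_add, add_mul, one_mul, mul_one, smul_mul_assoc, mul_smul_comm, h]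
  module

theorem Data.commutative (hι : Function.Injective ι) (hA : Data k ι A N) : IsMulCommutative A := by
  have h := hA.comm hι hA rfl
  exact ⟨⟨fun x y => Subtype.ext (commute_of_commutator_eq_bot h x.2 y.2)⟩⟩

theorem Data.commutator_value (hA : Data k ι A N) (hB : Data k ι B M)
    (h1 : N * M * N = 0) (h2 : M * N * M = 0) {a b : G} {c d : k} (hc : ι a = 1 + c • N)
    (hd : ι b = 1 + d • M) : ι (a * b * a⁻¹ * b⁻¹) = 1 + (c * d) • (N * M - M * N) := by
  rw [map_mul, map_mul, map_mul, hc, hd, map_inv_elem hA.sq hc, map_inv_elem hB.sq hd]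
  have f1 : N * (M * N) = 0 := by rw [← mul_assoc, h1]
  have f2 : M * (N * M) = 0 := by rw [← mul_assoc, h2]
  have f3 : ∀ x, N * (N * x) = 0 := fun x => by rw [← mul_assoc, hA.sq, zero_mul]
  have f4 : ∀ x, M * (M * x) = 0 := fun x => by rw [← mul_assoc, hB.sq, zero_mul]
  have f5 : ∀ x, N * (M * (N * x)) = 0 := fun x => by rw [← mul_assoc, ← mul_assoc, h1, zero_mul]
  have f6 : ∀ x, M * (N * (M * x)) = 0 := fun x => by rw [← mul_assoc, ← mul_assoc, h2, zero_mul]
  simp only [mul_add, add_mul, one_mul, mul_one, smul_mul_assoc, mul_smul_comm, mul_assoc, hA.sq,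
    hB.sq, f1, f2, f3, f4, f5, f6, smul_zero, mul_zero, zero_mul]
  module

/-- The commutator case. -/
theorem Data.commCase (hι : Function.Injective ι) {S : Set (Subgroup G)} (hA : Data k ι A N)
    (hB : Data k ι B M) (h1 : N * M * N = 0) (h2 : M * N * M = 0)
    (hD : Data k ι D (N * M - M * N)) (hDS : D ∈ S) : RootCommutatorCase S A B := by
  have hmem : ∀ a ∈ A, ∀ b ∈ B, a * b * a⁻¹ * b⁻¹ ∈ D := by
    intro a ha b hb
    obtain ⟨c, hc⟩ := hA.mem a ha
    obtain ⟨d, hd⟩ := hB.mem b hb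
    obtain ⟨g, hg, hgv⟩ := hD.surj (c * d)
    rw [← hA.commutator_value hB h1 h2 hc hd] at hgv
    exact hι hgv ▸ hg
  have hleft : ∀ a ∈ A, a ≠ 1 →
      Subgroup.closure ((fun b : G => a * b * a⁻¹ * b⁻¹) '' (B : Set G)) = D := by
    intro a ha ha1
    refine le_antisymm ((Subgroup.closure_le _).2 ?_) fun g hg => ?_
    · rintro _ ⟨b, hb, rfl⟩; exact hmem a ha b hb
    obtain ⟨c, hc⟩ := hA.mem a ha
    have hc0 : c ≠ 0 := fun h => ha1 (hι (by rw [hc, h, zero_smul, add_zero, map_one]))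
    obtain ⟨e, he⟩ := hD.mem g hg
    obtain ⟨b, hb, hbv⟩ := hB.surj (e / c)
    exact Subgroup.subset_closure ⟨b, hb, hι (by
      rw [hA.commutator_value hB h1 h2 hc hbv, he, mul_div_cancel₀ _ hc0])⟩
  have hright : ∀ b ∈ B, b ≠ 1 →
      Subgroup.closure ((fun a : G => a * b * a⁻¹ * b⁻¹) '' (A : Set G)) = D := by
    intro b hb hb1
    refine le_antisymm ((Subgroup.closure_le _).2 ?_) fun g hg => ?_
    · rintro _ ⟨a, ha, rfl⟩; exact hmem a ha b hb
    obtain ⟨d, hd⟩ := hB.mem b hb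
    have hd0 : d ≠ 0 := fun h => hb1 (hι (by rw [hd, h, zero_smul, add_zero, map_one]))
    obtain ⟨e, he⟩ := hD.mem g hg
    obtain ⟨a, ha, hav⟩ := hA.surj (e / d)
    exact Subgroup.subset_closure ⟨a, ha, hι (by
      rw [hA.commutator_value hB h1 h2 hav hd, he, div_mul_cancel₀ _ hd0])⟩
  have hK : ⁅A, B⁆ = D := by
    refine le_antisymm (Subgroup.commutator_le.2 hmem) ?_
    obtain ⟨a, ha, ha1⟩ := exists_mem_ne_one_of_ne_bot hA.ne_bot
    rw [← hleft a ha ha1, Subgroup.closure_le]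
    rintro _ ⟨b, hb, rfl⟩
    exact Subgroup.commutator_mem_commutator ha hb
  rw [RootCommutatorCase, hK]
  refine ⟨hDS, fun c hc x hx => ?_, hleft, hright⟩
  have e1 : N * (N * M - M * N) = (N * M - M * N) * N := by
    rw [mul_sub, sub_mul, ← mul_assoc, ← mul_assoc, hA.sq, zero_mul, h1, mul_assoc M N N, hA.sq,
      mul_zero]
  have e2 : M * (N * M - M * N) = (N * M - M * N) * M := by
    rw [mul_sub, sub_mul, ← mul_assoc, ← mul_assoc, hB.sq, zero_mul, h2, mul_assoc N M M, hB.sq,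
      mul_zero]
  have hle : D ≤ Subgroup.centralizer ((A ⊔ B : Subgroup G) : Set G) :=
    Subgroup.le_centralizer_iff.1 (sup_le
      (Subgroup.commutator_eq_bot_iff_le_centralizer.1 (hA.comm hι hD e1))
      (Subgroup.commutator_eq_bot_iff_le_centralizer.1 (hB.comm hι hD e2)))
  exact (Subgroup.mem_centralizer_iff.1 (hle hc) x hx).symm

/-- The rank one case. -/
theorem Data.pair (hι : Function.Injective ι) (hA : Data k ι A N) (hB : Data k ι B M) {s : k}
    (hs : s ≠ 0) (h1 : N * M * N = s • N) (h2 : M * N * M = s • M) :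
    IsPSL2PairOver k A B ∧ IsRankOnePair A B := by
  set Mh := s⁻¹ • M with hMh
  have q1 : Mh * Mh = 0 := by
    rw [hMh, smul_mul_smul_comm, hB.sq, smul_zero]
  have q2 : N * Mh * N = N := by
    rw [hMh, mul_smul_comm, smul_mul_assoc, h1, smul_smul, inv_mul_cancel₀ hs, one_smul]
  have q3 : Mh * N * Mh = Mh := by
    rw [hMh, smul_mul_assoc, smul_mul_smul_comm, h2, smul_smul, mul_assoc, inv_mul_cancel₀ hs,
      mul_one]
  have a1 : N * (Mh * N) = N := by rw [← mul_assoc, q2]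
  have a2 : Mh * (N * Mh) = Mh := by rw [← mul_assoc, q3]
  have a3 : ∀ x, N * (Mh * (N * x)) = N * x := fun x => by rw [← mul_assoc, ← mul_assoc, q2]
  have a4 : ∀ x, Mh * (N * (Mh * x)) = Mh * x := fun x => by rw [← mul_assoc, ← mul_assoc, q3]
  have a5 : ∀ x, N * (N * x) = 0 := fun x => by rw [← mul_assoc, hA.sq, zero_mul]
  have a6 : ∀ x, Mh * (Mh * x) = 0 := fun x => by rw [← mul_assoc, q1, zero_mul]
  let Φ : SLtwo k → R := fun g =>
    1 + (g 0 0 - 1) • (N * Mh) + g 0 1 • N + g 1 0 • Mh + (g 1 1 - 1) • (Mh * N)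
  have hΦ1 : Φ 1 = 1 := by simp [Φ]
  have hΦmul : ∀ g h, Φ (g * h) = Φ g * Φ h := by
    intro g h
    have e : ∀ i j : Fin 2, (g * h : SLtwo k) i j = g i 0 * h 0 j + g i 1 * h 1 j := fun i j => by
      show ((g : Matrix (Fin 2) (Fin 2) k) * (h : Matrix (Fin 2) (Fin 2) k)) i j = _
      rw [Matrix.mul_apply, Fin.sum_univ_two]
    simp only [Φ, e, mul_add, add_mul, one_mul, mul_one, smul_mul_assoc, mul_smul_comm, mul_assoc,
      hA.sq, q1, a1, a2, a3, a4, a5, a6, smul_zero, mul_zero]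
    module
  have hΦinj : Function.Injective Φ := by
    intro g h he
    have n1 : N * Mh ≠ 0 := fun h0 => hA.ne (by rw [← q2, h0, zero_mul])
    have n3 : Mh ≠ 0 := fun h0 => hA.ne (by rw [← q2, h0, mul_zero, zero_mul])
    have n2 : Mh * N ≠ 0 := fun h0 => n3 (by rw [← q3, h0, zero_mul])
    have n4 : N * Mh * (N * Mh) = N * Mh := by rw [← mul_assoc, q2]
    have k00 := congrArg (fun x => N * Mh * x * (N * Mh)) he
    have k01 := congrArg (fun x => N * Mh * x * (Mh * N)) he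
    have k10 := congrArg (fun x => Mh * N * x * (N * Mh)) he
    have k11 := congrArg (fun x => Mh * N * x * (Mh * N)) he
    simp only [Φ, mul_add, add_mul, one_mul, mul_one, smul_mul_assoc, mul_smul_comm, mul_assoc,
      hA.sq, q1, a1, a2, a3, a4, a5, a6, smul_zero, mul_zero, add_zero, zero_add] at k00 k01 k10 k11
    have c00 : g 0 0 = h 0 0 := by
      refine smul_left_injective k n1 ?_
      simp only [sub_smul, one_smul, add_sub_cancel] at k00
      exact k00
    have c11 : g 1 1 = h 1 1 := by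
      refine smul_left_injective k n2 ?_
      simp only [sub_smul, one_smul, add_sub_cancel] at k11
      exact k11
    exact SL2.ext_entries c00 (smul_left_injective k hA.ne k01) (smul_left_injective k n3 k10) c11
  have hup : ∀ t, Φ (upper t) = 1 + t • N := fun t => by simp [Φ]
  have hlo : ∀ t, Φ (lower t) = 1 + (t / s) • M := fun t => by
    simp [Φ, hMh, smul_smul, div_eq_mul_inv]
  let K : Subgroup (SLtwo k) :=
    { carrier := {g | ∃ x ∈ A ⊔ B, ι x = Φ g}
      one_mem' := ⟨1, one_mem _, by rw [map_one, hΦ1]⟩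
      mul_mem' := by
        rintro g h ⟨x, hx, hgx⟩ ⟨y, hy, hhy⟩
        exact ⟨x * y, mul_mem hx hy, by rw [map_mul, hgx, hhy, hΦmul]⟩
      inv_mem' := by
        rintro g ⟨x, hx, hgx⟩
        refine ⟨x⁻¹, inv_mem hx, ?_⟩
        have h3 : ι x⁻¹ * ι x = 1 := by rw [← map_mul, inv_mul_cancel, map_one]
        calc ι x⁻¹ = ι x⁻¹ * (Φ g * Φ g⁻¹) := by rw [← hΦmul, mul_inv_cancel, hΦ1, mul_one]
          _ = Φ g⁻¹ := by rw [← mul_assoc, ← hgx, h3, one_mul] }
  have hK : ∀ g, g ∈ K := by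
    intro g
    have htop : lowerUnipotentSL2 k ⊔ upperUnipotentSL2 k ≤ K := by
      refine sup_le (fun x hx => ?_) (fun x hx => ?_)
      · obtain ⟨t, rfl⟩ := SL2Pair.mem_lower.1 hx
        obtain ⟨b, hb, hbv⟩ := hB.surj (t / s)
        exact ⟨b, Subgroup.mem_sup_right hb, hbv.trans (hlo t).symm⟩
      · obtain ⟨t, rfl⟩ := SL2Pair.mem_upper.1 hx
        obtain ⟨a, ha, hav⟩ := hA.surj t
        exact ⟨a, Subgroup.mem_sup_left ha, hav.trans (hup t).symm⟩
    exact htop (SL2Pair.sup_eq_top (k := k) ▸ Subgroup.mem_top g)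
  choose f _ hf using hK
  let χ : SLtwo k →* G :=
    { toFun := f
      map_one' := hι (by rw [hf, hΦ1, map_one])
      map_mul' := fun g h => hι (by rw [map_mul, hf, hf, hf, hΦmul]) }
  have hχ : ∀ g, ι (χ g) = Φ g := hf
  have hχinj : Function.Injective χ := fun g h he => hΦinj (by rw [← hχ, ← hχ, he])
  have mapU : (upperUnipotentSL2 k).map χ = A := by
    ext a
    constructor
    · rintro ⟨x, hx, rfl⟩
      obtain ⟨t, rfl⟩ := SL2Pair.mem_upper.1 hx
      obtain ⟨a, ha, hav⟩ := hA.surj t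
      rwa [show χ (upper t) = a from hι (by rw [hχ, hup, hav])]
    · intro ha
      obtain ⟨c, hc⟩ := hA.mem a ha
      exact ⟨upper c, SL2Pair.upper_mem _, hι (by rw [hχ, hup, hc])⟩
  have mapL : (lowerUnipotentSL2 k).map χ = B := by
    ext a
    constructor
    · rintro ⟨x, hx, rfl⟩
      obtain ⟨t, rfl⟩ := SL2Pair.mem_lower.1 hx
      obtain ⟨a, ha, hav⟩ := hB.surj (t / s)
      rwa [show χ (lower t) = a from hι (by rw [hχ, hlo, hav])]
    · intro ha
      obtain ⟨c, hc⟩ := hB.mem a ha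
      refine ⟨lower (c * s), SL2Pair.lower_mem _, hι ?_⟩
      rw [hχ, hlo, hc, mul_div_cancel_right₀ c hs]
  refine ⟨⟨χ, ?_, ?_, mapU, mapL⟩, ?_⟩
  · rw [MonoidHom.range_eq_map, ← SL2Pair.sup_eq_top (k := k), Subgroup.map_sup, mapU, mapL, sup_comm]
  · rw [(MonoidHom.ker_eq_bot_iff χ).2 hχinj]; exact bot_le
  · rcases RootSet.pair_map (SL2Pair.isRankOnePair (k := k)) χ with h | h
    · exact absurd (Subgroup.map_injective hχinj h) SL2Pair.isRankOnePair.ne
    · rw [mapU, mapL] at h; exact RankOne.symm h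

end Cfsg.Agent.Lib.RootSubgroups.NilPair
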