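import Mathlib
import Cfsg.Prelude.Def_RootSubgroups

/-!
Quadratic pairs: elementary facts about `sameActionClass`.
-/

set_option autoImplicit false

namespace Cfsg.Agent.Lib.RootSubgroups.QuadPair

open Cfsg

variable {k : Type*} [Field k] {M : Type*} [AddCommGroup M] [Module k M]

/-- The nilpotent part `σ - 1`. -/
abbrev nil (σ : LinearMap.GeneralLinearGroup k M) : Module.End k M := (σ : M →ₗ[k] M) - 1

theorem coe_eq (σ : LinearMap.GeneralLinearGroup k M) : (σ : Module.End k M) = 1 + nil σ := by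
  simp [nil]

theorem eq_of_nil_eq {σ τ : LinearMap.GeneralLinearGroup k M} (h : nil σ = nil τ) : σ = τ := by
  apply Units.ext
  rw [coe_eq σ, coe_eq τ, h]

theorem nil_one : nil (1 : LinearMap.GeneralLinearGroup k M) = 0 := by simp [nil]

theorem nil_mul (σ τ : LinearMap.GeneralLinearGroup k M) :
    nil (σ * τ) = nil σ + nil τ + nil σ * nil τ := by
  show ((σ * τ : LinearMap.GeneralLinearGroup k M) : Module.End k M) - 1 = _
  rw [Units.val_mul, coe_eq σ, coe_eq τ]
  noncomm_ring

theorem nil_inv {σ : LinearMap.GeneralLinearGroup k M} (h : nil σ * nil σ = 0) :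
    nil σ⁻¹ = -nil σ := by
  have h1 : ((σ⁻¹ : LinearMap.GeneralLinearGroup k M) : Module.End k M) = 1 - nil σ := by
    apply Units.inv_eq_of_mul_eq_one_right
    rw [coe_eq σ, show (1 + nil σ) * (1 - nil σ) = 1 - nil σ * nil σ by noncomm_ring, h, sub_zero]
  show ((σ⁻¹ : LinearMap.GeneralLinearGroup k M) : Module.End k M) - 1 = _
  rw [h1]; abel

theorem mem_scalarFamily {σ τ : LinearMap.GeneralLinearGroup k M} :
    τ ∈ scalarFamily σ ↔ ∃ c : k, nil τ = c • nil σ := by
  refine ⟨fun ⟨c, hc⟩ => ⟨c, ?_⟩, fun ⟨c, hc⟩ => ⟨c, ?_⟩⟩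
  · show (τ : Module.End k M) - 1 = _
    rw [show (τ : Module.End k M) = 1 + c • nil σ from hc]; abel
  · show (τ : Module.End k M) = 1 + c • nil σ
    rw [coe_eq τ, hc]

/-- The unit `1 + α` for `α * α = 0`. -/
def ofNil (α : Module.End k M) (h : α * α = 0) : LinearMap.GeneralLinearGroup k M where
  val := 1 + α
  inv := 1 - α
  val_inv := by rw [show (1 + α) * (1 - α) = 1 - α * α by noncomm_ring, h, sub_zero]
  inv_val := by rw [show (1 - α) * (1 + α) = 1 - α * α by noncomm_ring, h, sub_zero]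

theorem nil_ofNil (α : Module.End k M) (h : α * α = 0) : nil (ofNil α h) = α := by
  show (1 + α) - 1 = α
  abel

theorem range_le_ker {α : Module.End k M} (h : α * α = 0) :
    LinearMap.range α ≤ LinearMap.ker α := by
  rintro _ ⟨x, rfl⟩
  exact congrArg (fun f : Module.End k M => f x) h

theorem mul_eq_zero_of_range_le_ker {α β : Module.End k M}
    (h : LinearMap.range β ≤ LinearMap.ker α) : α * β = 0 :=
  LinearMap.ext fun x => h ⟨x, rfl⟩

theorem quad_mul_self {σ : LinearMap.GeneralLinearGroup k M} (h : IsQuadraticOn σ) :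
    nil σ * nil σ = 0 := h.1

variable {G : Subgroup (LinearMap.GeneralLinearGroup k M)} {σ τ : LinearMap.GeneralLinearGroup k M}

theorem sameAction_mul_zero (hσ : σ ∈ minimalQuadraticElements G) (hτ : τ ∈ sameActionClass G σ)
    {ρ : LinearMap.GeneralLinearGroup k M} (hρ : ρ ∈ sameActionClass G σ) :
    nil τ * nil ρ = 0 := by
  apply mul_eq_zero_of_range_le_ker
  rw [hρ.2.2, hτ.2.1]
  exact range_le_ker hσ.1.2.1.1

theorem self_mem_sameActionClass (hσ : σ ∈ minimalQuadraticElements G) :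
    σ ∈ sameActionClass G σ := ⟨hσ, rfl, rfl⟩

theorem inv_mem_sameActionClass (hσ : σ ∈ minimalQuadraticElements G)
    (hτ : τ ∈ sameActionClass G σ) : τ⁻¹ ∈ sameActionClass G σ := by
  have h0 := sameAction_mul_zero hσ hτ hτ
  have hn := nil_inv h0
  have hr : LinearMap.range (nil τ⁻¹) = LinearMap.range (nil τ) := by rw [hn, LinearMap.range_neg]
  have hk : LinearMap.ker (nil τ⁻¹) = LinearMap.ker (nil τ) := by
    rw [hn]; exact LinearMap.ker_neg _
  obtain ⟨⟨⟨hG, hq, hsf⟩, hmin⟩, hker, hran⟩ := hτ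
  refine ⟨⟨⟨inv_mem hG, ⟨?_, ?_⟩, ?_⟩, fun ρ hρ => ?_⟩, hk.trans hker, hr.trans hran⟩
  · show nil τ⁻¹ * nil τ⁻¹ = 0
    rw [hn, neg_mul_neg, h0]
  · show nil τ⁻¹ ≠ 0
    rw [hn, neg_ne_zero]; exact hq.2
  · intro ρ hρ
    obtain ⟨c, hc⟩ := mem_scalarFamily.1 hρ
    exact hsf (mem_scalarFamily.2 ⟨-c, by rw [hc, hn, smul_neg, neg_smul]⟩)
  · refine le_trans (le_of_eq ?_) (hmin ρ hρ)
    show Module.finrank k (LinearMap.range (nil τ⁻¹)) = Module.finrank k (LinearMap.range (nil τ))
    rw [hr]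

theorem mul_mem_sameActionClass [FiniteDimensional k M] (hσ : σ ∈ minimalQuadraticElements G)
    (hτ : τ ∈ sameActionClass G σ) {ρ : LinearMap.GeneralLinearGroup k M}
    (hρ : ρ ∈ sameActionClass G σ) (hne : τ * ρ ≠ 1) : τ * ρ ∈ sameActionClass G σ := by
  have hsum : nil (τ * ρ) = nil τ + nil ρ := by
    rw [nil_mul, sameAction_mul_zero hσ hτ hρ, add_zero]
  have hkle : LinearMap.ker (nil σ) ≤ LinearMap.ker (nil (τ * ρ)) := by
    intro x hx
    rw [LinearMap.mem_ker, hsum, LinearMap.add_apply, LinearMap.mem_ker.1 (hτ.2.1.symm ▸ hx),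
      LinearMap.mem_ker.1 (hρ.2.1.symm ▸ hx), add_zero]
  have hrle : LinearMap.range (nil (τ * ρ)) ≤ LinearMap.range (nil σ) := by
    rintro _ ⟨x, rfl⟩
    rw [hsum, LinearMap.add_apply]
    exact add_mem (hτ.2.2 ▸ LinearMap.mem_range_self (nil τ) x)
      (hρ.2.2 ▸ LinearMap.mem_range_self (nil ρ) x)
  have hq : τ * ρ ∈ quadraticElements G := by
    refine ⟨mul_mem hτ.1.1.1 hρ.1.1.1, ⟨?_, ?_⟩, ?_⟩
    · exact mul_eq_zero_of_range_le_ker
        (hrle.trans ((range_le_ker hσ.1.2.1.1).trans hkle))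
    · exact fun h => hne (eq_of_nil_eq (h.trans nil_one.symm))
    · intro υ hυ
      obtain ⟨c, hc⟩ := mem_scalarFamily.1 hυ
      have h0 : ∀ {π : LinearMap.GeneralLinearGroup k M}, π ∈ sameActionClass G σ →
          (c • nil π) * (c • nil π) = 0 := fun hπ => by
        rw [smul_mul_assoc, mul_smul_comm, sameAction_mul_zero hσ hπ hπ, smul_zero, smul_zero]
      have e : υ = ofNil _ (h0 hτ) * ofNil _ (h0 hρ) := by
        apply eq_of_nil_eq
        rw [nil_mul, nil_ofNil, nil_ofNil, hc, hsum, smul_add, smul_mul_assoc, mul_smul_comm,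
          sameAction_mul_zero hσ hτ hρ, smul_zero, smul_zero, add_zero]
      rw [e]
      exact mul_mem (hτ.1.1.2.2 (mem_scalarFamily.2 ⟨c, nil_ofNil _ _⟩))
        (hρ.1.1.2.2 (mem_scalarFamily.2 ⟨c, nil_ofNil _ _⟩))
  have hd : Module.finrank k (LinearMap.range (nil σ)) ≤
      Module.finrank k (LinearMap.range (nil (τ * ρ))) := hσ.2 _ hq
  have hr := Submodule.eq_of_le_of_finrank_le hrle hd
  refine ⟨⟨hq, fun υ hυ => ?_⟩, (Submodule.eq_of_le_of_finrank_le hkle ?_).symm, hr⟩
  · refine le_trans (le_of_eq ?_) (hσ.2 υ hυ)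
    show Module.finrank k (LinearMap.range (nil (τ * ρ))) = Module.finrank k (LinearMap.range (nil σ))
    rw [hr]
  · have h1 := LinearMap.finrank_range_add_finrank_ker (nil σ)
    have h2 := LinearMap.finrank_range_add_finrank_ker (nil (τ * ρ))
    omega

theorem sameActionSubgroup_eq [FiniteDimensional k M] (hσ : σ ∈ minimalQuadraticElements G) :
    (sameActionSubgroup G σ : Set (LinearMap.GeneralLinearGroup k M)) = sameActionClass G σ ∪ {1} := by
  classical
  refine Set.Subset.antisymm ?_ (Set.union_subset Subgroup.subset_closure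
    (Set.singleton_subset_iff.2 (one_mem _)))
  let K : Subgroup (LinearMap.GeneralLinearGroup k M) :=
    { carrier := sameActionClass G σ ∪ {1}
      one_mem' := Or.inr rfl
      mul_mem' := fun {x y} hx hy => by
        rcases hx with hx | hx
        · rcases hy with hy | hy
          · by_cases h : x * y = 1
            · exact Or.inr h
            · exact Or.inl (mul_mem_sameActionClass hσ hx hy h)
          · rw [Set.mem_singleton_iff.1 hy, mul_one]; exact Or.inl hx
        · rw [Set.mem_singleton_iff.1 hx, one_mul]; exact hy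
      inv_mem' := fun {x} hx => by
        rcases hx with hx | hx
        · exact Or.inl (inv_mem_sameActionClass hσ hx)
        · rw [Set.mem_singleton_iff.1 hx]; exact Or.inr inv_one }
  exact (Subgroup.closure_le K).2 Set.subset_union_left

theorem sameActionSubgroup_comm [FiniteDimensional k M] (hσ : σ ∈ minimalQuadraticElements G)
    {x y : LinearMap.GeneralLinearGroup k M} (hx : x ∈ sameActionSubgroup G σ)
    (hy : y ∈ sameActionSubgroup G σ) : nil x * nil y = 0 := by
  rw [← SetLike.mem_coe, sameActionSubgroup_eq hσ] at hx hy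
  rcases hx with hx | hx
  · rcases hy with hy | hy
    · exact sameAction_mul_zero hσ hx hy
    · rw [Set.mem_singleton_iff.1 hy, nil_one, mul_zero]
  · rw [Set.mem_singleton_iff.1 hx, nil_one, zero_mul]

end Cfsg.Agent.Lib.RootSubgroups.QuadPair
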