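import Mathlib
import Cfsg.Agent.Lib.RootSubgroups.QuadPairBasic

/-!
Linear maps which lower the degree of a descending filtration, the attached groups, and the iterated
derived subgroups of a subgroup.
-/

set_option autoImplicit false

namespace Cfsg.Agent.Lib.RootSubgroups.QuadPair

open Cfsg

variable {k : Type*} [Field k] {M : Type*} [AddCommGroup M] [Module k M]

/-- The maps which raise the index of the filtration by at least `m`. -/
def Deg (F : ℕ → Submodule k M) (m : ℕ) : Submodule k (Module.End k M) where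
  carrier := {f | ∀ i, ∀ x ∈ F i, f x ∈ F (i + m)}
  zero_mem' i x _ := by simp
  add_mem' {f g} hf hg i x hx := add_mem (hf i x hx) (hg i x hx)
  smul_mem' c f hf i x hx := Submodule.smul_mem _ c (hf i x hx)

variable {F : ℕ → Submodule k M}

theorem mem_Deg {m : ℕ} {f : Module.End k M} :
    f ∈ Deg F m ↔ ∀ i, ∀ x ∈ F i, f x ∈ F (i + m) := Iff.rfl

theorem Deg_mono (hF : Antitone F) {m n : ℕ} (h : n ≤ m) {f : Module.End k M} (hf : f ∈ Deg F m) :
    f ∈ Deg F n := fun i x hx => hF (Nat.add_le_add_left h i) (hf i x hx)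

theorem Deg_mul {m n l : ℕ} (hl : n + m = l) {f g : Module.End k M} (hf : f ∈ Deg F m)
    (hg : g ∈ Deg F n) : f * g ∈ Deg F l := fun i x hx => by
  rw [← hl, ← Nat.add_assoc]
  exact hf (i + n) _ (hg i x hx)

theorem Deg_mul_le (hF : Antitone F) {m n l : ℕ} (hl : l ≤ m + n) {f g : Module.End k M}
    (hf : f ∈ Deg F m) (hg : g ∈ Deg F n) : f * g ∈ Deg F l :=
  Deg_mono hF (by omega) (Deg_mul (n := n) rfl hf hg)

theorem Deg_apply_zero {m : ℕ} (hm : F m = ⊥) {f : Module.End k M} (hf : f ∈ Deg F m) {x : M}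
    (hx : x ∈ F 0) : f x = 0 := by
  have h := hf 0 x hx
  rwa [Nat.zero_add, hm, Submodule.mem_bot] at h

theorem Deg_eq_zero {m : ℕ} (h0 : F 0 = ⊤) (hm : F m = ⊥) {f : Module.End k M}
    (hf : f ∈ Deg F m) : f = 0 :=
  LinearMap.ext fun x => by simpa using Deg_apply_zero hm hf (x := x) (h0 ▸ Submodule.mem_top)

theorem nil_inv' (g : LinearMap.GeneralLinearGroup k M) :
    nil g⁻¹ = -(((g⁻¹ : LinearMap.GeneralLinearGroup k M) : Module.End k M) * nil g) := by
  simp [nil, mul_sub]

theorem nil_comm (g h : LinearMap.GeneralLinearGroup k M) :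
    nil (g * h * g⁻¹ * h⁻¹) = (nil g * nil h - nil h * nil g) *
      ((g⁻¹ : LinearMap.GeneralLinearGroup k M) : Module.End k M) *
      ((h⁻¹ : LinearMap.GeneralLinearGroup k M) : Module.End k M) := by
  have e : nil g * nil h - nil h * nil g =
      (g : Module.End k M) * h - (h : Module.End k M) * g := by
    simp only [nil]; noncomm_ring
  rw [e, sub_mul, sub_mul, nil]
  congr 1
  simp only [mul_assoc, ← Units.val_mul]
  simp [mul_assoc]

variable [FiniteDimensional k M]

theorem map_eq_of_mapsTo (g : LinearMap.GeneralLinearGroup k M) (W : Submodule k M)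
    (h : ∀ x ∈ W, (g : Module.End k M) x ∈ W) :
    ∀ x ∈ W, ((g⁻¹ : LinearMap.GeneralLinearGroup k M) : Module.End k M) x ∈ W := by
  have hinv : ∀ y, ((g⁻¹ : LinearMap.GeneralLinearGroup k M) : Module.End k M)
      ((g : Module.End k M) y) = y := fun y => by
    rw [← Module.End.mul_apply, ← Units.val_mul]; simp
  have hinj : Function.Injective ((g : Module.End k M).restrict h) := fun a b hab =>
    Subtype.ext <| by
      simpa [hinv] using congrArg
        (fun z : W => ((g⁻¹ : LinearMap.GeneralLinearGroup k M) : Module.End k M) z.1) hab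
  intro x hx
  obtain ⟨y, hy⟩ := (LinearMap.injective_iff_surjective.1 hinj) ⟨x, hx⟩
  have e : (g : Module.End k M) y.1 = x := congrArg Subtype.val hy
  rw [← e, hinv]
  exact y.2

/-- The group of `g` with `g - 1` raising the index by at least `m`. -/
def filtSubgroup (hF : Antitone F) (m : ℕ) : Subgroup (LinearMap.GeneralLinearGroup k M) where
  carrier := {g | nil g ∈ Deg F m}
  one_mem' := by simp [nil_one]
  mul_mem' {g h} hg hh := by
    show nil (g * h) ∈ Deg F m
    rw [nil_mul]
    exact add_mem (add_mem hg hh) (Deg_mul_le hF (Nat.le_add_left m m) hg hh)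
  inv_mem' {g} hg := by
    show nil g⁻¹ ∈ Deg F m
    rw [nil_inv']
    refine neg_mem fun i x hx => map_eq_of_mapsTo g _ (fun y hy => ?_) _ (hg i x hx)
    rw [coe_eq g, LinearMap.add_apply]
    exact add_mem hy (hF (Nat.le_add_right (i + m) m) (hg (i + m) y hy))

theorem mem_filtSubgroup (hF : Antitone F) {m : ℕ} {g : LinearMap.GeneralLinearGroup k M} :
    g ∈ filtSubgroup hF m ↔ nil g ∈ Deg F m := Iff.rfl

theorem val_mem_Deg_zero (hF : Antitone F) {m : ℕ} {g : LinearMap.GeneralLinearGroup k M}
    (hg : g ∈ filtSubgroup hF m) : (g : Module.End k M) ∈ Deg F 0 := by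
  rw [coe_eq g]
  exact add_mem (fun i x hx => by simpa using hx) (Deg_mono hF (Nat.zero_le m) hg)

theorem commutator_filtSubgroup_le (hF : Antitone F) (m n : ℕ) :
    ⁅filtSubgroup hF m, filtSubgroup hF n⁆ ≤ filtSubgroup hF (m + n) := by
  rw [Subgroup.commutator_le]
  intro g hg h hh
  rw [mem_filtSubgroup, commutatorElement_def, nil_comm]
  refine Deg_mul (Nat.zero_add _) (Deg_mul (Nat.zero_add _) ?_ (val_mem_Deg_zero hF (inv_mem hg)))
    (val_mem_Deg_zero hF (inv_mem hh))
  exact sub_mem (Deg_mul (Nat.add_comm n m) hg hh) (Deg_mul rfl hh hg)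

/-- A group with a filtration of finite length from `⊤` to `⊥` acts unipotently. -/
theorem isUnipotentOn_of_filtration (hF : Antitone F) (h0 : F 0 = ⊤) {N : ℕ} (hN : F N = ⊥)
    {H : Subgroup (LinearMap.GeneralLinearGroup k M)} (hH : H ≤ filtSubgroup hF 1) :
    IsUnipotentOn H := by
  refine ⟨N, fun l hl hlen => ?_⟩
  have key : ∀ l : List (LinearMap.GeneralLinearGroup k M), (∀ g ∈ l, g ∈ H) →
      (l.map nil).prod ∈ Deg F l.length := by
    intro l
    induction l with
    | nil => intro _ i x hx; simpa using hx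
    | cons a t ih =>
      intro hl
      rw [List.map_cons, List.prod_cons, List.length_cons]
      exact Deg_mul rfl (hH (hl a List.mem_cons_self)) (ih fun g hg => hl g (List.mem_cons_of_mem a hg))
  have h := Deg_eq_zero h0 hN (hlen ▸ key l hl)
  convert h using 2
  clear key hl hlen h
  induction l with
  | nil => rfl
  | cons a t ih => simpa [nil] using ih

omit [FiniteDimensional k M]

/-! ### Iterated derived subgroups -/

variable {G : Type*} [Group G]

/-- The iterated derived subgroups of a subgroup. -/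
def dIter (H : Subgroup G) : ℕ → Subgroup G
  | 0 => H
  | n + 1 => ⁅dIter H n, dIter H n⁆

theorem dIter_le (H : Subgroup G) (n : ℕ) : dIter H n ≤ H := by
  induction n with
  | zero => exact le_rfl
  | succ n ih => exact (Subgroup.commutator_le_self _).trans ih

theorem dIter_mono {H K : Subgroup G} (h : H ≤ K) (n : ℕ) : dIter H n ≤ dIter K n := by
  induction n with
  | zero => exact h
  | succ n ih => exact Subgroup.commutator_mono ih ih

theorem map_dIter {G' : Type*} [Group G'] (f : G →* G') (H : Subgroup G) (n : ℕ) :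
    (dIter H n).map f = dIter (H.map f) n := by
  induction n with
  | zero => rfl
  | succ n ih => simp only [dIter, Subgroup.map_commutator, ih]

theorem dIter_normal_in (H : Subgroup G) (n : ℕ) {h : G} (hh : h ∈ H) {x : G}
    (hx : x ∈ dIter H n) : h * x * h⁻¹ ∈ dIter H n := by
  have e : H.map (MulAut.conj h).toMonoidHom = H := by
    refine le_antisymm ?_ fun y hy => ⟨h⁻¹ * y * h, mul_mem (mul_mem (inv_mem hh) hy) hh, ?_⟩
    · rintro _ ⟨y, hy, rfl⟩
      exact mul_mem (mul_mem hh hy) (inv_mem hh)
    · simp [mul_assoc]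
  have h' := Subgroup.mem_map_of_mem (MulAut.conj h).toMonoidHom hx
  rw [map_dIter, e] at h'
  simpa using h'

theorem dIter_top_of_perfect (h : ⁅(⊤ : Subgroup G), (⊤ : Subgroup G)⁆ = ⊤) (n : ℕ) :
    dIter (⊤ : Subgroup G) n = ⊤ := by
  induction n with
  | zero => rfl
  | succ n ih => rw [dIter, ih, h]

/-- A group between the two-power steps of a filtration. -/
theorem dIter_le_filtSubgroup [FiniteDimensional k M] (hF : Antitone F)
    {H : Subgroup (LinearMap.GeneralLinearGroup k M)} (hH : H ≤ filtSubgroup hF 1) (n : ℕ) :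
    dIter H n ≤ filtSubgroup hF (2 ^ n) := by
  induction n with
  | zero => simpa [dIter] using hH
  | succ n ih =>
    rw [dIter, pow_succ, mul_two]
    exact (Subgroup.commutator_mono ih ih).trans (commutator_filtSubgroup_le hF _ _)

end Cfsg.Agent.Lib.RootSubgroups.QuadPair
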