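import Mathlib
import Cfsg.Agent.Lib.RootSubgroups.QuadPairFiltration

/-!
Two square zero maps `α`, `β` with nilpotent anticommutator: if both give scalar families of minimal
rank in a group then `α β α = 0 = β α β`.
-/

set_option autoImplicit false

namespace Cfsg.Agent.Lib.RootSubgroups.QuadPair

open Cfsg

section algebra

variable {A : Type*} [Ring A] {a b : A}

theorem left_anti (ha : a * a = 0) : a * (a * b + b * a) = a * b * a := by
  rw [mul_add, ← mul_assoc, ha, zero_mul, zero_add, mul_assoc]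

theorem right_anti (ha : a * a = 0) : (a * b + b * a) * a = a * b * a := by
  rw [add_mul, mul_assoc b, ha, mul_zero, add_zero]

theorem commute_anti (ha : a * a = 0) : Commute a (a * b + b * a) :=
  (left_anti ha).trans (right_anti ha).symm

theorem commute_anti' (hb : b * b = 0) : Commute b (a * b + b * a) := by
  rw [add_comm]; exact commute_anti hb

theorem commute_anti_ab (ha : a * a = 0) (hb : b * b = 0) :
    Commute (a * b - b * a) (a * b + b * a) :=
  ((commute_anti ha).mul_left (commute_anti' hb)).sub_left ((commute_anti' hb).mul_left (commute_anti ha))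

theorem diff_mul_left (ha : a * a = 0) : (a * b - b * a) * a = a * (a * b + b * a) := by
  rw [left_anti ha, sub_mul, mul_assoc b, ha, mul_zero, sub_zero]

theorem mul_diff_left (ha : a * a = 0) : a * (a * b - b * a) = -(a * (a * b + b * a)) := by
  rw [left_anti ha, mul_sub, ← mul_assoc, ha, zero_mul, zero_sub, mul_assoc]

theorem diff_mul_right (hb : b * b = 0) : (a * b - b * a) * b = -(b * (a * b + b * a)) := by
  rw [← neg_sub, neg_mul, diff_mul_left hb, add_comm (b * a)]

theorem mul_diff_right (hb : b * b = 0) : b * (a * b - b * a) = b * (a * b + b * a) := by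
  rw [← neg_sub, mul_neg, mul_diff_left hb, neg_neg, add_comm (b * a)]

theorem diff_sq (ha : a * a = 0) (hb : b * b = 0) :
    (a * b - b * a) * (a * b - b * a) = (a * b + b * a) * (a * b + b * a) := by
  calc (a * b - b * a) * (a * b - b * a) = ((a * b - b * a) * a) * b - ((a * b - b * a) * b) * a := by
        noncomm_ring
    _ = a * (a * b + b * a) * b + b * (a * b + b * a) * a := by
        rw [diff_mul_left ha, diff_mul_right hb, neg_mul, sub_neg_eq_add]
    _ = _ := by
        rw [(commute_anti ha).eq, (commute_anti' hb).eq, mul_assoc, mul_assoc, ← mul_add]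

end algebra

variable {k : Type*} [Field k] {M : Type*} [AddCommGroup M] [Module k M]
  {G : Subgroup (LinearMap.GeneralLinearGroup k M)} {σ τ : LinearMap.GeneralLinearGroup k M}

theorem sq_zero (hσ : σ ∈ minimalQuadraticElements G) : nil σ * nil σ = 0 := hσ.1.2.1.1

theorem nil_ne_zero (hσ : σ ∈ minimalQuadraticElements G) : nil σ ≠ 0 := hσ.1.2.1.2

theorem rank_eq (hσ : σ ∈ minimalQuadraticElements G) (hτ : τ ∈ minimalQuadraticElements G) :
    Module.finrank k (LinearMap.range (nil σ)) = Module.finrank k (LinearMap.range (nil τ)) :=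
  le_antisymm (hσ.2 τ hτ.1) (hτ.2 σ hσ.1)

theorem rank_pos [FiniteDimensional k M] (hσ : σ ∈ minimalQuadraticElements G) :
    0 < Module.finrank k (LinearMap.range (nil σ)) := by
  rw [pos_iff_ne_zero, Ne, Submodule.finrank_eq_zero, LinearMap.range_eq_bot]
  exact nil_ne_zero hσ

theorem exists_family (hσ : σ ∈ minimalQuadraticElements G) (c : k) :
    ∃ g ∈ scalarFamily σ, nil g = c • nil σ := by
  have h : (c • nil σ) * (c • nil σ) = 0 := by
    rw [smul_mul_assoc, mul_smul_comm, sq_zero hσ, smul_zero, smul_zero]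
  exact ⟨ofNil _ h, mem_scalarFamily.2 ⟨c, nil_ofNil _ h⟩, nil_ofNil _ h⟩

theorem exists_family' (hσ : nil σ * nil σ = 0) (c : k) :
    ∃ g ∈ scalarFamily σ, nil g = c • nil σ := by
  have h : (c • nil σ) * (c • nil σ) = 0 := by
    rw [smul_mul_assoc, mul_smul_comm, hσ, smul_zero, smul_zero]
  exact ⟨ofNil _ h, mem_scalarFamily.2 ⟨c, nil_ofNil _ h⟩, nil_ofNil _ h⟩

theorem scalarFamily_sub (hσ : σ ∈ minimalQuadraticElements G) :
    scalarFamily σ ⊆ (G : Set (LinearMap.GeneralLinearGroup k M)) := hσ.1.2.2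

theorem pair_le (hσ : σ ∈ minimalQuadraticElements G) (hτ : τ ∈ minimalQuadraticElements G) :
    Subgroup.closure (scalarFamily σ ∪ scalarFamily τ) ≤ G :=
  (Subgroup.closure_le G).2 (Set.union_subset (scalarFamily_sub hσ) (scalarFamily_sub hτ))

/-- A square zero map whose scalar family lies in `G` has at least minimal rank. -/
theorem quad_of_family {γ : Module.End k M} (hγ : γ ≠ 0) (hsq : γ * γ = 0)
    (hfam : ∀ c : k, ∃ g ∈ G, nil g = c • γ) :
    ∃ ρ ∈ quadraticElements G, nil ρ = γ := by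
  obtain ⟨ρ, hρG, hρ⟩ := hfam 1
  rw [one_smul] at hρ
  refine ⟨ρ, ⟨hρG, ⟨?_, ?_⟩, fun π hπ => ?_⟩, hρ⟩
  · show nil ρ * nil ρ = 0
    rw [hρ, hsq]
  · show nil ρ ≠ 0
    rw [hρ]; exact hγ
  · obtain ⟨c, hc⟩ := mem_scalarFamily.1 hπ
    obtain ⟨g, hg, hgc⟩ := hfam c
    rw [hρ, ← hgc] at hc
    rw [eq_of_nil_eq hc]
    exact hg

theorem rank_le_of_family (hσ : σ ∈ minimalQuadraticElements G) {γ : Module.End k M} (hγ : γ ≠ 0)
    (hsq : γ * γ = 0) (hfam : ∀ c : k, ∃ g ∈ G, nil g = c • γ) :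
    Module.finrank k (LinearMap.range (nil σ)) ≤ Module.finrank k (LinearMap.range γ) := by
  obtain ⟨ρ, hρ, e⟩ := quad_of_family hγ hsq hfam
  rw [← e]
  exact hσ.2 ρ hρ

theorem minimal_of_family (hσ : σ ∈ minimalQuadraticElements G) {γ : Module.End k M} (hγ : γ ≠ 0)
    (hsq : γ * γ = 0) (hfam : ∀ c : k, ∃ g ∈ G, nil g = c • γ)
    (hr : Module.finrank k (LinearMap.range γ) ≤ Module.finrank k (LinearMap.range (nil σ))) :
    ∃ ρ ∈ minimalQuadraticElements G, nil ρ = γ := by
  obtain ⟨ρ, hρ, e⟩ := quad_of_family hγ hsq hfam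
  refine ⟨ρ, ⟨hρ, fun π hπ => ?_⟩, e⟩
  show Module.finrank k (LinearMap.range (nil ρ)) ≤ _
  rw [e]
  exact hr.trans (hσ.2 π hπ)

theorem finrank_map_add_inf_ker [FiniteDimensional k M] (f : Module.End k M) (W : Submodule k M) :
    Module.finrank k (W.map f) + Module.finrank k ↥(W ⊓ LinearMap.ker f) = Module.finrank k W := by
  have h := LinearMap.finrank_range_add_finrank_ker (f.domRestrict W)
  rw [LinearMap.range_domRestrict, LinearMap.ker_domRestrict] at h
  rw [← h]
  congr 1
  have e := Submodule.equivMapOfInjective W.subtype W.injective_subtype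
    ((LinearMap.ker f).comap W.subtype)
  rw [e.finrank_eq, Submodule.map_comap_subtype]

theorem finrank_map_lt [FiniteDimensional k M] {f : Module.End k M} (hf : IsNilpotent f)
    {W : Submodule k M} (hW : ∀ x ∈ W, f x ∈ W) (hne : W ≠ ⊥) :
    Module.finrank k (W.map f) < Module.finrank k W := by
  refine Submodule.finrank_lt_finrank_of_lt (lt_of_le_of_ne ?_ fun h => hne ?_)
  · rintro _ ⟨x, hx, rfl⟩; exact hW x hx
  · obtain ⟨n, hn⟩ := hf
    have : W = W.map (f ^ n) := by
      clear hn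
      induction n with
      | zero => rw [pow_zero, Module.End.one_eq_id, Submodule.map_id]
      | succ n ih => rw [pow_succ, Module.End.mul_eq_comp, Submodule.map_comp, h, ← ih]
    rw [this, hn, Submodule.map_zero]

/-! ### The filtration of the words -/

/-- The images of `M₀` under the products of the two maps. -/
def altF (α β : Module.End k M) (M₀ : Submodule k M) : ℕ → Submodule k M
  | 0 => M₀
  | n + 1 => (altF α β M₀ n).map α ⊔ (altF α β M₀ n).map β

variable {α β : Module.End k M} {M₀ : Submodule k M}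

theorem altF_antitone (hα : ∀ x ∈ M₀, α x ∈ M₀) (hβ : ∀ x ∈ M₀, β x ∈ M₀) :
    Antitone (altF α β M₀) := by
  refine antitone_nat_of_succ_le fun n => ?_
  induction n with
  | zero =>
    exact sup_le (by rintro _ ⟨x, hx, rfl⟩; exact hα x hx) (by rintro _ ⟨x, hx, rfl⟩; exact hβ x hx)
  | succ n ih => exact sup_le_sup (Submodule.map_mono ih) (Submodule.map_mono ih)

theorem left_mem_Deg : α ∈ Deg (altF α β M₀) 1 :=
  fun _ _ hx => Submodule.mem_sup_left (Submodule.mem_map_of_mem hx)

theorem right_mem_Deg : β ∈ Deg (altF α β M₀) 1 :=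
  fun _ _ hx => Submodule.mem_sup_right (Submodule.mem_map_of_mem hx)

theorem anti_pow_mem_Deg (i : ℕ) : (α * β + β * α) ^ i ∈ Deg (altF α β M₀) (2 * i) := by
  induction i with
  | zero => intro j x hx; simpa using hx
  | succ i ih =>
    rw [pow_succ]
    exact Deg_mul (n := 2) (by omega) ih
      (add_mem (Deg_mul rfl left_mem_Deg right_mem_Deg) (Deg_mul rfl right_mem_Deg left_mem_Deg))

theorem left_pow_mem_Deg (i : ℕ) :
    α * (α * β + β * α) ^ i ∈ Deg (altF α β M₀) (2 * i + 1) :=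
  Deg_mul rfl left_mem_Deg (anti_pow_mem_Deg i)

theorem right_pow_mem_Deg (i : ℕ) :
    β * (α * β + β * α) ^ i ∈ Deg (altF α β M₀) (2 * i + 1) :=
  Deg_mul rfl right_mem_Deg (anti_pow_mem_Deg i)

theorem diff_pow_mem_Deg (i : ℕ) :
    (α * β - β * α) * (α * β + β * α) ^ i ∈ Deg (altF α β M₀) (2 * i + 2) :=
  Deg_mul (n := 2 * i) (m := 2) (by omega)
    (sub_mem (Deg_mul rfl left_mem_Deg right_mem_Deg) (Deg_mul rfl right_mem_Deg left_mem_Deg))
    (anti_pow_mem_Deg i)

theorem altF_odd_le (hα : α * α = 0) (hβ : β * β = 0) (i : ℕ) :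
    altF α β M₀ (2 * i + 1) ≤
      M₀.map (α * (α * β + β * α) ^ i) ⊔ M₀.map (β * (α * β + β * α) ^ i) := by
  induction i with
  | zero => simp [altF]
  | succ i ih =>
    set z := α * β + β * α
    have e : ∀ (f g : Module.End k M), (M₀.map g).map f = M₀.map (f * g) :=
      fun f g => (Submodule.map_comp g f M₀).symm
    rw [show 2 * (i + 1) + 1 = 2 * i + 1 + 1 + 1 by omega, altF, altF]
    refine le_trans (sup_le_sup
      (Submodule.map_mono (sup_le_sup (Submodule.map_mono ih) (Submodule.map_mono ih)))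
      (Submodule.map_mono (sup_le_sup (Submodule.map_mono ih) (Submodule.map_mono ih)))) ?_
    have hαz : α * z = α * β * α := left_anti hα
    have hβz : β * z = β * α * β := by
      rw [show z = β * α + α * β from add_comm _ _, left_anti hβ]
    simp only [Submodule.map_sup, e, ← mul_assoc, hα, hβ, zero_mul, Submodule.map_zero, bot_sup_eq,
      sup_bot_eq]
    rw [pow_succ', ← mul_assoc, ← mul_assoc, hαz, hβz]

theorem altF_eq_bot (hα : α * α = 0) (hβ : β * β = 0) {i : ℕ}
    (h1 : ∀ x ∈ M₀, (α * (α * β + β * α) ^ i) x = 0) (h2 : ∀ x ∈ M₀, (β * (α * β + β * α) ^ i) x = 0) :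
    altF α β M₀ (2 * i + 1) = ⊥ :=
  eq_bot_iff.2 <| (altF_odd_le hα hβ i).trans <| sup_le
    (by rintro _ ⟨x, hx, rfl⟩; exact h1 x hx) (by rintro _ ⟨x, hx, rfl⟩; exact h2 x hx)

/-! ### Commutators up to two degrees -/

theorem nil_comm_mod [FiniteDimensional k M] {F : ℕ → Submodule k M} (hF : Antitone F)
    {g h : LinearMap.GeneralLinearGroup k M} {L S b : Module.End k M} {i : ℕ} (hi : 1 ≤ i)
    (hL : L ∈ Deg F i) (hS : S ∈ Deg F (i + 1)) (hg : nil g - L - S ∈ Deg F (i + 2))
    (hh : nil h = b) (hb : b ∈ Deg F 1) :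
    nil (g * h * g⁻¹ * h⁻¹) - ((L * b - b * L) + (S * b - b * S) - (L * b - b * L) * L
      - (L * b - b * L) * b) ∈ Deg F (i + 3) := by
  set a := nil g
  have ha : a ∈ Deg F i := by
    have h1 := add_mem (add_mem (Deg_mono hF (Nat.le_add_right i 2) hg)
      (Deg_mono hF (Nat.le_add_right i 1) hS)) hL
    simpa using h1
  have hgm : g ∈ filtSubgroup hF 1 := Deg_mono hF hi ha
  have hhm : h ∈ filtSubgroup hF 1 := show nil h ∈ Deg F 1 from hh ▸ hb
  set a' := nil g⁻¹ with ha'
  set b' := nil h⁻¹ with hb'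
  have ha'm : a' ∈ Deg F 1 := inv_mem hgm
  have hb'm : b' ∈ Deg F 1 := inv_mem hhm
  have ea : a' = -a - a' * a := by
    have h1 : a' = -((1 + a') * a) := by
      conv_lhs => rw [ha', nil_inv', coe_eq]
    conv_lhs => rw [h1]
    noncomm_ring
  have eb : b' = -b - b' * b := by
    have h1 : b' = -((1 + b') * b) := by
      conv_lhs => rw [hb', nil_inv', coe_eq, hh]
    conv_lhs => rw [h1]
    noncomm_ring
  rw [nil_comm, hh, coe_eq g⁻¹, coe_eq h⁻¹, ← ha', ← hb']
  have hP : (1 + a') * (1 + b') - (1 - L - b) ∈ Deg F 2 := by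
    have h1 : a' + L ∈ Deg F 2 := by
      rw [ea, show -a - a' * a + L = -(a - L - S) - S - a' * a by abel]
      exact sub_mem (sub_mem (neg_mem (Deg_mono hF (by omega) hg)) (Deg_mono hF (by omega) hS))
        (Deg_mul_le hF (by omega) ha'm ha)
    have h2 : b' + b ∈ Deg F 2 := by
      rw [eb, show -b - b' * b + b = -(b' * b) by abel]
      exact neg_mem (Deg_mul rfl hb'm hb)
    rw [show (1 + a') * (1 + b') - (1 - L - b) = (a' + L) + (b' + b) + a' * b' by noncomm_ring]
    exact add_mem (add_mem h1 h2) (Deg_mul rfl ha'm hb'm)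
  set P := (1 + a') * (1 + b') with hPdef
  have hP0 : P ∈ Deg F 0 := by
    rw [hPdef, ha', hb', ← coe_eq, ← coe_eq]
    exact Deg_mul rfl (val_mem_Deg_zero hF (inv_mem hgm)) (val_mem_Deg_zero hF (inv_mem hhm))
  rw [mul_assoc _ (1 + a') (1 + b'), ← hPdef,
    show (a * b - b * a) * P - ((L * b - b * L) + (S * b - b * S) - (L * b - b * L) * L
      - (L * b - b * L) * b) = ((a - L - S) * b - b * (a - L - S)) * P
        + ((L * b - b * L) + (S * b - b * S)) * (P - (1 - L - b))
        - (S * b - b * S) * (L + b) by noncomm_ring]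
  refine sub_mem (add_mem ?_ ?_) ?_
  · exact Deg_mul_le hF (m := i + 3) (n := 0) le_rfl
      (sub_mem (Deg_mul_le hF (m := i + 2) (by omega) hg hb) (Deg_mul_le hF (by omega) hb hg)) hP0
  · exact Deg_mul_le hF (m := i + 1) (by omega) (add_mem
      (sub_mem (Deg_mul_le hF (m := i) (by omega) hL hb) (Deg_mul_le hF (by omega) hb hL))
      (sub_mem (Deg_mul_le hF (by omega) hS hb) (Deg_mul_le hF (by omega) hb hS))) hP
  · exact Deg_mul_le hF (m := i + 2) (by omega)
      (sub_mem (Deg_mul_le hF (m := i + 1) (by omega) hS hb) (Deg_mul_le hF (by omega) hb hS))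
      (add_mem (Deg_mono hF hi hL) hb)

/-! ### Iterated commutators of the two families -/

/-- The exact shape modulo two degrees of a member reached after `2 j + 1` steps. -/
def Inv (σ τ : LinearMap.GeneralLinearGroup k M) (j : ℕ) (c : k) : Prop :=
  ∃ g ∈ Subgroup.closure (scalarFamily σ ∪ scalarFamily τ), ∃ y : k,
    nil g - (2 ^ j * c) • (nil σ * (nil σ * nil τ + nil τ * nil σ) ^ j)
      - y • ((nil σ * nil τ - nil τ * nil σ) * (nil σ * nil τ + nil τ * nil σ) ^ j)
      ∈ Deg (altF (nil σ) (nil τ) ⊤) (2 * j + 3)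

/-- The shape after `2 j + 2` steps. -/
def Inv' (σ τ : LinearMap.GeneralLinearGroup k M) (j : ℕ) (c : k) : Prop :=
  ∃ g ∈ Subgroup.closure (scalarFamily σ ∪ scalarFamily τ), ∃ u v : k,
    nil g - (2 ^ j * c) • ((nil σ * nil τ - nil τ * nil σ) * (nil σ * nil τ + nil τ * nil σ) ^ j)
      - (u • (nil σ * (nil σ * nil τ + nil τ * nil σ) ^ (j + j + 1)) +
          v • (nil τ * (nil σ * nil τ + nil τ * nil σ) ^ (j + 1)))
      ∈ Deg (altF (nil σ) (nil τ) ⊤) (2 * j + 4)

theorem inv'_of_inv [FiniteDimensional k M] (hσ : nil σ * nil σ = 0)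
    (hτ : nil τ * nil τ = 0) {j : ℕ} {c : k} (h : Inv σ τ j c) : Inv' σ τ j c := by
  obtain ⟨g, hg, y, hy⟩ := h
  have ha := hσ
  have hb := hτ
  set a := nil σ
  set b := nil τ
  set z := a * b + b * a
  set D := a * b - b * a
  set e := (2 : k) ^ j * c
  have hF : Antitone (altF a b ⊤) := altF_antitone (fun x _ => Submodule.mem_top) (fun x _ => Submodule.mem_top)
  refine ⟨g * τ * g⁻¹ * τ⁻¹, mul_mem (mul_mem (mul_mem hg ?_) (inv_mem hg)) (inv_mem ?_),
    -(e * e), e - 2 * y, ?_⟩
  · exact Subgroup.subset_closure (Or.inr (mem_scalarFamily.2 ⟨1, by rw [one_smul]⟩))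
  · exact Subgroup.subset_closure (Or.inr (mem_scalarFamily.2 ⟨1, by rw [one_smul]⟩))
  have h1 := nil_comm_mod hF (i := 2 * j + 1) (L := e • (a * z ^ j)) (S := y • (D * z ^ j))
    (Nat.le_add_left 1 (2 * j)) (Submodule.smul_mem _ _ (left_pow_mem_Deg j))
    (Submodule.smul_mem _ _ (diff_pow_mem_Deg j)) hy rfl (right_mem_Deg (β := b))
  have hc : Commute b (z ^ j) := (commute_anti' (a := a) hb).pow_right j
  have hca : Commute a (z ^ j) := (commute_anti (b := b) ha).pow_right j
  have hDa : D * a = a * z := diff_mul_left ha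
  have hDb : D * b = -(b * z) := diff_mul_right hb
  have hbD : b * D = b * z := mul_diff_right hb
  have hD : a * b - b * a = D := rfl
  have e1 : (e • (a * z ^ j)) * b - b * (e • (a * z ^ j)) = e • (D * z ^ j) := by
    rw [smul_mul_assoc, mul_smul_comm, ← smul_sub, mul_assoc a, ← hc.eq, ← mul_assoc, ← mul_assoc,
      ← sub_mul, hD]
  have e2 : (y • (D * z ^ j)) * b - b * (y • (D * z ^ j)) = (-2 * y) • (b * z ^ (j + 1)) := by
    rw [smul_mul_assoc, mul_smul_comm, ← smul_sub, mul_assoc D, ← hc.eq, ← mul_assoc, ← mul_assoc,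
      hDb, hbD, neg_mul, mul_assoc b, ← pow_succ', ← neg_add',
      ← two_smul k, smul_neg, smul_smul, ← neg_smul]
    congr 1
    ring
  have e3 : (e • (D * z ^ j)) * (e • (a * z ^ j)) = (e * e) • (a * z ^ (j + j + 1)) := by
    rw [smul_mul_assoc, mul_smul_comm, smul_smul, mul_assoc D, ← mul_assoc (z ^ j), ← hca.eq,
      mul_assoc a, ← pow_add]
    congr 1
    rw [← mul_assoc, hDa, mul_assoc, ← pow_succ']
  have e4 : (e • (D * z ^ j)) * b = (-e) • (b * z ^ (j + 1)) := by
    rw [smul_mul_assoc, mul_assoc D, ← hc.eq, ← mul_assoc, hDb, neg_mul, mul_assoc b,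
      ← pow_succ', smul_neg, neg_smul]
  rw [e1, e2, e3, e4] at h1
  convert h1 using 1
  simp only [sub_smul, neg_smul, neg_mul]
  abel

theorem inv_of_inv' [FiniteDimensional k M] (hσ : nil σ * nil σ = 0)
    (hτ : nil τ * nil τ = 0) {j : ℕ} {c : k} (h : Inv' σ τ j c) :
    Inv σ τ (j + 1) c := by
  obtain ⟨g, hg, u, v, hy⟩ := h
  have ha := hσ
  have hb := hτ
  set a := nil σ
  set b := nil τ
  set z := a * b + b * a
  set D := a * b - b * a
  set e := (2 : k) ^ j * c
  have hF : Antitone (altF a b ⊤) := altF_antitone (fun x _ => Submodule.mem_top) (fun x _ => Submodule.mem_top)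
  refine ⟨g * σ * g⁻¹ * σ⁻¹, mul_mem (mul_mem (mul_mem hg ?_) (inv_mem hg)) (inv_mem ?_), -v, ?_⟩
  · exact Subgroup.subset_closure (Or.inl (mem_scalarFamily.2 ⟨1, by rw [one_smul]⟩))
  · exact Subgroup.subset_closure (Or.inl (mem_scalarFamily.2 ⟨1, by rw [one_smul]⟩))
  have hS : u • (a * z ^ (j + j + 1)) + v • (b * z ^ (j + 1)) ∈
      Deg (altF a b ⊤) (2 * j + 2 + 1) :=
    add_mem (Submodule.smul_mem _ _ (Deg_mono hF (by omega) (left_pow_mem_Deg (j + j + 1))))
      (Submodule.smul_mem _ _ (Deg_mono hF (by omega) (right_pow_mem_Deg (j + 1))))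
  have h1 := nil_comm_mod hF (i := 2 * j + 2) (L := e • (D * z ^ j)) (b := a) (h := σ)
    (by omega) (Submodule.smul_mem _ _ (diff_pow_mem_Deg j)) hS hy rfl (left_mem_Deg (α := a))
  have hca : ∀ n, Commute a (z ^ n) := fun n => (commute_anti (b := b) ha).pow_right n
  have hcb : ∀ n, Commute b (z ^ n) := fun n => (commute_anti' (a := a) hb).pow_right n
  have hDa : D * a = a * z := diff_mul_left ha
  have haD : a * D = -(a * z) := mul_diff_left ha
  have hD : a * b - b * a = D := rfl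
  have e1 : (e • (D * z ^ j)) * a - a * (e • (D * z ^ j)) = (2 * e) • (a * z ^ (j + 1)) := by
    rw [smul_mul_assoc, mul_smul_comm, ← smul_sub, mul_assoc D, ← (hca j).eq, ← mul_assoc,
      ← mul_assoc, hDa, haD, neg_mul, mul_assoc a, ← pow_succ',
      sub_neg_eq_add, ← two_smul k, smul_smul, mul_comm]
  have hu : a * z ^ (j + j + 1) * a = 0 := by
    rw [mul_assoc, ← (hca _).eq, ← mul_assoc, ha, zero_mul]
  have hu' : a * (a * z ^ (j + j + 1)) = 0 := by rw [← mul_assoc, ha, zero_mul]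
  have hv : b * z ^ (j + 1) * a - a * (b * z ^ (j + 1)) = -(D * z ^ (j + 1)) := by
    rw [mul_assoc b, ← (hca _).eq, ← mul_assoc, ← mul_assoc, ← sub_mul, ← neg_mul, ← hD, neg_sub]
  have e2 : (u • (a * z ^ (j + j + 1)) + v • (b * z ^ (j + 1))) * a
      - a * (u • (a * z ^ (j + j + 1)) + v • (b * z ^ (j + 1))) = (-v) • (D * z ^ (j + 1)) := by
    rw [add_mul, mul_add, smul_mul_assoc, smul_mul_assoc, mul_smul_comm, mul_smul_comm, hu, hu',
      smul_zero, zero_add, zero_add, ← smul_sub, hv, smul_neg, neg_smul]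
  have hz' : a * z ^ (j + 1) * a = 0 := by
    rw [mul_assoc, ← (hca _).eq, ← mul_assoc, ha, zero_mul]
  have e4 : ((2 * e) • (a * z ^ (j + 1))) * a = 0 := by
    rw [smul_mul_assoc, hz', smul_zero]
  rw [e1, e2, e4, sub_zero] at h1
  have hE : ((2 * e) • (a * z ^ (j + 1))) * (e • (D * z ^ j)) ∈
      Deg (altF a b ⊤) (2 * (j + 1) + 3) :=
    Deg_mul_le hF (by omega) (Submodule.smul_mem _ _ (left_pow_mem_Deg (j + 1)))
      (Submodule.smul_mem _ _ (diff_pow_mem_Deg j))
  have h2 := sub_mem (Deg_mono hF (show 2 * (j + 1) + 3 ≤ 2 * j + 2 + 3 by omega) h1) hE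
  rw [show (2 : k) ^ (j + 1) * c = 2 * e by rw [pow_succ]; ring]
  convert h2 using 1
  abel

theorem inv_all [FiniteDimensional k M] (hσ : nil σ * nil σ = 0)
    (hτ : nil τ * nil τ = 0) (j : ℕ) (c : k) : Inv σ τ j c := by
  induction j with
  | zero =>
    obtain ⟨g, hg, e⟩ := exists_family' hσ c
    refine ⟨g, Subgroup.subset_closure (Or.inl hg), 0, ?_⟩
    simp [e]
  | succ j ih => exact inv_of_inv' hσ hτ (inv'_of_inv hσ hτ ih)

variable [FiniteDimensional k M]

theorem top_word_zero (hk2 : (2 : k) ≠ 0) (hσ : σ ∈ minimalQuadraticElements G)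
    (hτ : τ ∈ minimalQuadraticElements G) {r : ℕ} (hr : 1 ≤ r)
    (h1 : nil σ * (nil σ * nil τ + nil τ * nil σ) ^ (r + 1) = 0)
    (h2 : nil τ * (nil σ * nil τ + nil τ * nil σ) ^ (r + 1) = 0) :
    nil σ * (nil σ * nil τ + nil τ * nil σ) ^ r = 0 := by
  by_contra hne
  have ha := sq_zero hσ
  have hb := sq_zero hτ
  have hG := pair_le hσ hτ
  set a := nil σ with haeq
  set b := nil τ with hbeq
  set z := a * b + b * a with hzdef
  set D := a * b - b * a with hDdef
  have hbot : altF a b ⊤ (2 * r + 3) = ⊥ :=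
    altF_eq_bot (i := r + 1) ha hb (fun x _ => by rw [h1]; rfl) (fun x _ => by rw [h2]; rfl)
  have hzero : ∀ {f : Module.End k M} {m}, 2 * r + 3 ≤ m → f ∈ Deg (altF a b ⊤) m → f = 0 :=
    fun hm hf => Deg_eq_zero (F := altF a b ⊤) rfl hbot
      (Deg_mono (altF_antitone (fun _ _ => Submodule.mem_top) (fun _ _ => Submodule.mem_top)) hm hf)
  have hz : z ^ (r + 2) = 0 := by
    rw [pow_succ', hzdef, add_mul, mul_assoc, mul_assoc, ← hzdef, h2, h1, mul_zero, mul_zero, add_zero]
  have hnil : IsNilpotent (z ^ r) := ⟨r + 2, by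
    rw [← pow_mul]
    exact pow_eq_zero_of_le (Nat.le_mul_of_pos_left _ hr) hz⟩
  have h2r : (2 : k) ^ r ≠ 0 := pow_ne_zero _ hk2
  have hca : ∀ n, Commute a (z ^ n) := fun n => (commute_anti (b := b) ha).pow_right n
  have hcb : ∀ n, Commute b (z ^ n) := fun n => (commute_anti' (a := a) hb).pow_right n
  have hsmall : ∀ {γ : Module.End k M}, γ ≠ 0 → γ * γ = 0 → (∀ c : k, ∃ g ∈ G, nil g = c • γ) →
      ¬ Module.finrank k (LinearMap.range γ) < Module.finrank k (LinearMap.range a) :=
    fun h h' h'' hlt => absurd (rank_le_of_family hσ h h' h'') (not_le.2 hlt)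
  by_cases hX : D * z ^ r = 0
  · refine hsmall hne ?_ (fun c => ?_) ?_
    · rw [mul_assoc, ← mul_assoc (z ^ r), ← (hca r).eq, ← mul_assoc, ← mul_assoc, ha, zero_mul, zero_mul]
    · obtain ⟨g, hg, y, hy⟩ := inv_all (sq_zero hσ) (sq_zero hτ) r (c / 2 ^ r)
      refine ⟨g, hG hg, ?_⟩
      rw [← haeq, ← hbeq, ← hzdef, ← hDdef, hX, smul_zero, sub_zero, mul_div_cancel₀ _ h2r] at hy
      exact sub_eq_zero.1 (hzero le_rfl hy)
    · rw [(hca r).eq, Module.End.mul_eq_comp, LinearMap.range_comp]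
      refine finrank_map_lt hnil ?_ ?_
      · rintro _ ⟨x, rfl⟩
        exact ⟨(z ^ r) x, congrArg (fun f : Module.End k M => f x) (hca r).eq⟩
      · rw [Ne, LinearMap.range_eq_bot]; exact nil_ne_zero hσ
  · refine hsmall hX ?_ (fun c => ?_) ?_
    · rw [((commute_anti_ab ha hb).pow_right r).symm.mul_mul_mul_comm, diff_sq ha hb,
        ← hzdef, ← pow_two, ← pow_add, ← pow_add]
      exact pow_eq_zero_of_le (by omega) hz
    · obtain ⟨g, hg, u, v, hy⟩ := inv'_of_inv (sq_zero hσ) (sq_zero hτ) (inv_all (sq_zero hσ) (sq_zero hτ) r (c / 2 ^ r))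
      refine ⟨g, hG hg, ?_⟩
      rw [← haeq, ← hbeq, ← hzdef, ← hDdef, mul_div_cancel₀ _ h2r] at hy
      have h1' : a * z ^ (r + r + 1) = 0 := by
        rw [show r + r + 1 = r + 1 + r by omega, pow_add, ← mul_assoc, h1, zero_mul]
      rw [h1', h2, smul_zero, smul_zero, add_zero, sub_zero] at hy
      exact sub_eq_zero.1 (hzero (Nat.le_succ _) hy)
    · set S := LinearMap.range (a * b)
      have hS : S = (LinearMap.range b).map a := LinearMap.range_comp b a
      have hle : LinearMap.range (D * z ^ r) ≤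
          S.map (z ^ r) ⊔ (LinearMap.range b ⊓ LinearMap.ker a) := by
        rintro _ ⟨x, rfl⟩
        have e : D * z ^ r = z ^ r * (a * b) - b * (a * z ^ r) := by
          rw [hDdef, sub_mul, ((hca r).mul_left (hcb r)).eq, mul_assoc b]
        rw [e, LinearMap.sub_apply]
        refine sub_mem (Submodule.mem_sup_left ⟨_, ⟨x, rfl⟩, rfl⟩) (Submodule.mem_sup_right
          ⟨⟨_, rfl⟩, ?_⟩)
        show a ((b * (a * z ^ r)) x) = 0
        rw [← Module.End.mul_apply, ← mul_assoc, ← mul_assoc, ← left_anti ha, ← hzdef, mul_assoc,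
          ← pow_succ', h1]
        rfl
      refine lt_of_le_of_lt ((Submodule.finrank_mono hle).trans
        (Submodule.finrank_add_le_finrank_add_finrank _ _)) ?_
      have h4 := finrank_map_add_inf_ker a (LinearMap.range b)
      rw [← hS] at h4
      have h5 : Module.finrank k (LinearMap.range b) = Module.finrank k (LinearMap.range a) :=
        rank_eq hτ hσ
      have h6 : Module.finrank k (S.map (z ^ r)) < Module.finrank k S := by
        refine finrank_map_lt hnil ?_ fun h0 => hne ?_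
        · rintro _ ⟨x, rfl⟩
          exact ⟨(z ^ r) x, congrArg (fun f : Module.End k M => f x) ((hca r).mul_left (hcb r)).eq⟩
        · rw [LinearMap.range_eq_bot] at h0
          rw [show r = r - 1 + 1 by omega, pow_succ', ← mul_assoc, hzdef, left_anti ha, h0, zero_mul,
            zero_mul]
      omega

/-- If the anticommutator is nilpotent, all products of three vanish. -/
theorem word_zero (hk2 : (2 : k) ≠ 0) (hσ : σ ∈ minimalQuadraticElements G)
    (hτ : τ ∈ minimalQuadraticElements G)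
    (hz : IsNilpotent (nil σ * nil τ + nil τ * nil σ)) :
    nil σ * nil τ * nil σ = 0 ∧ nil τ * nil σ * nil τ = 0 := by
  obtain ⟨n, hn⟩ := hz
  set z := nil σ * nil τ + nil τ * nil σ with hzdef
  have key : ∀ m, nil σ * z ^ (m + 1) = 0 ∧ nil τ * z ^ (m + 1) = 0 →
      nil σ * z ^ 1 = 0 ∧ nil τ * z ^ 1 = 0 := by
    intro m
    induction m with
    | zero => exact id
    | succ m ih =>
      intro h
      refine ih ⟨top_word_zero hk2 hσ hτ (Nat.le_add_left 1 m) h.1 h.2, ?_⟩
      rw [hzdef, add_comm] at h ⊢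
      exact top_word_zero hk2 hτ hσ (Nat.le_add_left 1 m) h.2 h.1
  obtain ⟨h1, h2⟩ := key n ⟨by rw [pow_succ, hn, zero_mul, mul_zero], by rw [pow_succ, hn, zero_mul, mul_zero]⟩
  rw [pow_one] at h1 h2
  refine ⟨by rw [← left_anti (sq_zero hσ)]; exact h1, ?_⟩
  rw [← left_anti (sq_zero hτ), add_comm]
  exact h2

end Cfsg.Agent.Lib.RootSubgroups.QuadPair
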