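import Mathlib

/-!
The subgroup of `SL₂(R)` generated by upper unitriangular matrices with entries in a field `k` and
lower unitriangular matrices with entries in `k λ`, for an algebra `R = k[λ]` with `λ` a unit.
-/

set_option autoImplicit false

namespace Cfsg.Agent.Lib.RootSubgroups.SL2Ring

open Matrix

/-- `SL(2, R)`. -/
abbrev SLR (R : Type*) [CommRing R] := Matrix.SpecialLinearGroup (Fin 2) R

variable {R : Type*} [CommRing R]

/-- The element with the given entries. -/
def mk (a b c d : R) (h : a * d - b * c = 1) : SLR R :=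
  ⟨!![a, b; c, d], by rw [Matrix.det_fin_two_of, h]⟩

theorem ext2 {g h : SLR R} (h00 : g 0 0 = h 0 0) (h01 : g 0 1 = h 0 1)
    (h10 : g 1 0 = h 1 0) (h11 : g 1 1 = h 1 1) : g = h := by
  refine Matrix.SpecialLinearGroup.ext _ _ fun i j => ?_
  fin_cases i <;> fin_cases j <;> assumption

@[simp] theorem mk_00 (a b c d : R) (h : a * d - b * c = 1) : mk a b c d h 0 0 = a := rfl
@[simp] theorem mk_01 (a b c d : R) (h : a * d - b * c = 1) : mk a b c d h 0 1 = b := rfl
@[simp] theorem mk_10 (a b c d : R) (h : a * d - b * c = 1) : mk a b c d h 1 0 = c := rfl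
@[simp] theorem mk_11 (a b c d : R) (h : a * d - b * c = 1) : mk a b c d h 1 1 = d := rfl

theorem det_eq (g : SLR R) : g 0 0 * g 1 1 - g 0 1 * g 1 0 = 1 := by
  rw [← Matrix.det_fin_two]; exact g.2

theorem mul_00 (g h : SLR R) : (g * h) 0 0 = g 0 0 * h 0 0 + g 0 1 * h 1 0 := by
  simp [Matrix.mul_apply, Fin.sum_univ_two]

theorem mul_01 (g h : SLR R) : (g * h) 0 1 = g 0 0 * h 0 1 + g 0 1 * h 1 1 := by
  simp [Matrix.mul_apply, Fin.sum_univ_two]

theorem mul_10 (g h : SLR R) : (g * h) 1 0 = g 1 0 * h 0 0 + g 1 1 * h 1 0 := by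
  simp [Matrix.mul_apply, Fin.sum_univ_two]

theorem mul_11 (g h : SLR R) : (g * h) 1 1 = g 1 0 * h 0 1 + g 1 1 * h 1 1 := by
  simp [Matrix.mul_apply, Fin.sum_univ_two]

theorem inv_00 (g : SLR R) : (g⁻¹) 0 0 = g 1 1 := by
  simp [Matrix.SpecialLinearGroup.coe_inv, Matrix.adjugate_fin_two]

theorem inv_01 (g : SLR R) : (g⁻¹) 0 1 = -g 0 1 := by
  simp [Matrix.SpecialLinearGroup.coe_inv, Matrix.adjugate_fin_two]

theorem inv_10 (g : SLR R) : (g⁻¹) 1 0 = -g 1 0 := by
  simp [Matrix.SpecialLinearGroup.coe_inv, Matrix.adjugate_fin_two]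

theorem inv_11 (g : SLR R) : (g⁻¹) 1 1 = g 0 0 := by
  simp [Matrix.SpecialLinearGroup.coe_inv, Matrix.adjugate_fin_two]

/-- Upper unitriangular. -/
def ux (t : R) : SLR R := mk 1 t 0 1 (by ring)

/-- Lower unitriangular. -/
def ly (t : R) : SLR R := mk 1 0 t 1 (by ring)

theorem ux_add (s t : R) : ux (s + t) = ux s * ux t := by
  apply ext2 <;> simp [ux, mul_00, mul_01, mul_10, mul_11, add_comm]

theorem ly_add (s t : R) : ly (s + t) = ly s * ly t := by
  apply ext2 <;> simp [ly, mul_00, mul_01, mul_10, mul_11, add_comm]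

theorem ux_zero : ux (0 : R) = 1 := by apply ext2 <;> simp [ux]

theorem ly_zero : ly (0 : R) = 1 := by apply ext2 <;> simp [ly]

theorem ux_neg (t : R) : ux (-t) = (ux t)⁻¹ := by
  rw [eq_inv_iff_mul_eq_one, ← ux_add, neg_add_cancel, ux_zero]

theorem ly_neg (t : R) : ly (-t) = (ly t)⁻¹ := by
  rw [eq_inv_iff_mul_eq_one, ← ly_add, neg_add_cancel, ly_zero]

/-- Rescaling the off-diagonal entries by a unit. -/
def scale (r : Rˣ) : SLR R →* SLR R where
  toFun g := mk (g 0 0) (r * g 0 1) (↑r⁻¹ * g 1 0) (g 1 1) (by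
    have h := det_eq g
    linear_combination h - g 0 1 * g 1 0 * r.mul_inv)
  map_one' := by apply ext2 <;> simp
  map_mul' g h := by
    apply ext2
    · simp only [mk_00, mk_01, mk_10, mul_00]
      linear_combination -(g 0 1 * h 1 0) * r.mul_inv
    · simp only [mk_00, mk_01, mk_11, mul_01]
      ring
    · simp only [mk_00, mk_10, mk_11, mul_10]
      ring
    · simp only [mk_01, mk_10, mk_11, mul_11]
      linear_combination -(g 1 0 * h 0 1) * r.mul_inv

theorem scale_ux (r : Rˣ) (t : R) : scale r (ux t) = ux (r * t) := by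
  apply ext2 <;> simp [scale, ux]

theorem scale_ly (r : Rˣ) (t : R) : scale r (ly t) = ly (↑r⁻¹ * t) := by
  apply ext2 <;> simp [scale, ly]

variable {k : Type*} [Field k] [Algebra k R]

/-- The generators. -/
def gens (k : Type*) [Field k] [Algebra k R] (lam : R) : Set (SLR R) :=
  (Set.range fun c : k => ux (algebraMap k R c)) ∪
    Set.range fun c : k => ly (algebraMap k R c * lam)

/-- The generated subgroup. -/
def gen (k : Type*) [Field k] [Algebra k R] (lam : R) : Subgroup (SLR R) :=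
  Subgroup.closure (gens k lam)

variable {lam : R}

theorem ux_mem (c : k) : ux (algebraMap k R c) ∈ gen k lam :=
  Subgroup.subset_closure (Or.inl ⟨c, rfl⟩)

theorem ly_mem (c : k) : ly (algebraMap k R c * lam) ∈ gen k lam :=
  Subgroup.subset_closure (Or.inr ⟨c, rfl⟩)

theorem scale_mem {g : SLR R} (hg : g ∈ gen k lam) (r : kˣ) :
    scale (Units.map (algebraMap k R).toMonoidHom r) g ∈ gen k lam := by
  have h : gen k lam ≤ (gen k lam).comap (scale (Units.map (algebraMap k R).toMonoidHom r)) := by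
    rw [gen, Subgroup.closure_le]
    rintro _ (⟨c, rfl⟩ | ⟨c, rfl⟩)
    · rw [SetLike.mem_coe, Subgroup.mem_comap, scale_ux]
      show ux (algebraMap k R r * algebraMap k R c) ∈ gen k lam
      rw [← map_mul]; exact ux_mem _
    · rw [SetLike.mem_coe, Subgroup.mem_comap, scale_ly]
      show ly (algebraMap k R ↑r⁻¹ * (algebraMap k R c * lam)) ∈ gen k lam
      rw [← mul_assoc, ← map_mul]; exact ly_mem _
  exact h hg

/-- The upper entries of the group, a `k`-space. -/
def upperSpace (k : Type*) [Field k] [Algebra k R] (lam : R) : Submodule k R where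
  carrier := {r | ux r ∈ gen k lam}
  zero_mem' := by simp [ux_zero, one_mem]
  add_mem' {a b} ha hb := by
    show ux (a + b) ∈ gen k lam
    rw [ux_add]; exact mul_mem ha hb
  smul_mem' c a ha := by
    show ux (c • a) ∈ gen k lam
    rcases eq_or_ne c 0 with rfl | hc
    · rw [zero_smul, ux_zero]; exact one_mem _
    · have h := scale_mem ha (Units.mk0 c hc)
      rw [scale_ux] at h
      rw [Algebra.smul_def]; exact h

theorem one_mem_upperSpace : (1 : R) ∈ upperSpace k lam := by
  have h := ux_mem (lam := lam) (1 : k)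
  rw [map_one] at h
  exact h

/-- Conjugation of an upper element by an upper triangular member. -/
theorem upperSpace_tri {g : SLR R} (hg : g ∈ gen k lam) (h0 : g 1 0 = 0) {u : R}
    (hu : u ∈ upperSpace k lam) : g 0 0 * g 0 0 * u ∈ upperSpace k lam := by
  show ux _ ∈ gen k lam
  have e : g * ux u * g⁻¹ = ux (g 0 0 * g 0 0 * u) := by
    have h := det_eq g
    rw [h0, mul_zero, sub_zero] at h
    apply ext2 <;>
      simp only [ux, mk_00, mk_01, mk_10, mk_11, mul_00, mul_01, mul_10, mul_11, inv_00, inv_01,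
        inv_10, inv_11, h0]
    · linear_combination h
    · ring
    · ring
    · linear_combination h
  rw [← e]
  exact mul_mem (mul_mem hg hu) (inv_mem hg)

theorem ly_mem_of_antidiag {g : SLR R} (hg : g ∈ gen k lam) (h1 : g 1 1 = 0) {v : R}
    (hv : -(g 0 1 * g 0 1 * v) ∈ upperSpace k lam) : ly v ∈ gen k lam := by
  have e : g * ly v * g⁻¹ = ux (-(g 0 1 * g 0 1 * v)) := by
    have h := det_eq g
    rw [h1, mul_zero, zero_sub] at h
    apply ext2 <;>
      simp only [ux, ly, mk_00, mk_01, mk_10, mk_11, mul_00, mul_01, mul_10, mul_11, inv_00,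
        inv_01, inv_10, inv_11, h1]
    · linear_combination h
    · ring
    · ring
    · linear_combination h
  have e' : ly v = g⁻¹ * ux (-(g 0 1 * g 0 1 * v)) * g := by rw [← e]; group
  rw [e']
  exact mul_mem (mul_mem (inv_mem hg) hv) hg

theorem tri_of_antidiag {g g' : SLR R} (h : g 1 1 = 0) (h' : g' 1 1 = 0) :
    (g * g'⁻¹) 1 0 = 0 ∧ g' 0 1 * (g * g'⁻¹) 0 0 = g 0 1 := by
  refine ⟨by simp [mul_10, inv_00, inv_10, h, h'], ?_⟩
  have hd := det_eq g'
  rw [h', mul_zero, zero_sub] at hd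
  simp only [mul_00, inv_00, inv_10, h']
  linear_combination (g 0 1) * hd

/-! ### The span of the first powers -/

/-- The span of the powers below `j`. -/
def powSpan (k : Type*) [Field k] [Algebra k R] (lam : R) (j : ℕ) : Submodule k R :=
  Submodule.span k ((fun i => lam ^ i) '' Set.Iio j)

theorem pow_mem_powSpan {i j : ℕ} (h : i < j) : lam ^ i ∈ powSpan k lam j :=
  Submodule.subset_span ⟨i, h, rfl⟩

theorem powSpan_mono {i j : ℕ} (h : i ≤ j) : powSpan k lam i ≤ powSpan k lam j :=
  Submodule.span_mono (Set.image_mono fun _ hx => lt_of_lt_of_le hx h)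

theorem lam_mul_powSpan {j : ℕ} {x : R} (hx : x ∈ powSpan k lam j) :
    lam * x ∈ powSpan k lam (j + 1) := by
  induction hx using Submodule.span_induction with
  | mem y hy =>
    obtain ⟨i, hi, rfl⟩ := hy
    rw [← pow_succ']
    exact pow_mem_powSpan (Nat.succ_lt_succ hi)
  | zero => rw [mul_zero]; exact zero_mem _
  | add y z _ _ hy hz => rw [mul_add]; exact add_mem hy hz
  | smul c y _ hy => rw [mul_smul_comm]; exact Submodule.smul_mem _ c hy

theorem mem_powSpan_succ {j : ℕ} {x : R} (hx : x ∈ powSpan k lam (j + 1)) :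
    ∃ y ∈ powSpan k lam j, ∃ t : k, x = y + t • lam ^ j := by
  have e : powSpan k lam (j + 1) = powSpan k lam j ⊔ k ∙ lam ^ j := by
    rw [powSpan, powSpan, ← Submodule.span_union]
    congr 1
    ext z
    simp only [Set.mem_image, Set.mem_Iio, Set.mem_union, Set.mem_singleton_iff]
    constructor
    · rintro ⟨i, hi, rfl⟩
      rcases Nat.lt_succ_iff_lt_or_eq.1 hi with h | h
      · exact Or.inl ⟨i, h, rfl⟩
      · exact Or.inr (by rw [h])
    · rintro (⟨i, hi, rfl⟩ | rfl)
      · exact ⟨i, Nat.lt_succ_of_lt hi, rfl⟩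
      · exact ⟨j, Nat.lt_succ_self j, rfl⟩
  rw [e] at hx
  obtain ⟨y, hy, z, hz, rfl⟩ := Submodule.mem_sup.1 hx
  obtain ⟨t, rfl⟩ := Submodule.mem_span_singleton.1 hz
  exact ⟨y, hy, t, rfl⟩

/-- `x` in the span below `j` is killed by `l` on all products with powers below `j` only if
it is zero. -/
def NonDeg (k : Type*) [Field k] [Algebra k R] (lam : R) (l : R →ₗ[k] k) (j : ℕ) : Prop :=
  ∀ x ∈ powSpan k lam j, (∀ i < j, l (x * lam ^ i) = 0) → x = 0

theorem nonDeg_of_triangular {l : R →ₗ[k] k} {d : ℕ} (hlt : ∀ m < d, l (lam ^ m) = 0)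
    (hd : l (lam ^ d) ≠ 0) : NonDeg k lam l (d + 1) := by
  intro x hx h
  suffices ∀ j ≤ d + 1, x ∈ powSpan k lam j → x = 0 from this (d + 1) le_rfl hx
  intro j
  induction j with
  | zero =>
    intro _ hx'
    simpa [powSpan] using hx'
  | succ j ih =>
    intro hj hx'
    apply ih (Nat.le_of_succ_le hj)
    obtain ⟨y, hy, t, rfl⟩ := mem_powSpan_succ hx'
    have hy0 : ∀ z ∈ powSpan k lam j, l (z * lam ^ (d - j)) = 0 := by
      intro z hz
      induction hz using Submodule.span_induction with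
      | mem w hw =>
        obtain ⟨i, hi, rfl⟩ := hw
        rw [← pow_add]
        exact hlt _ (by simp only [Set.mem_Iio] at hi; omega)
      | zero => rw [zero_mul, map_zero]
      | add z w _ _ hz hw => rw [add_mul, map_add, hz, hw, add_zero]
      | smul c z _ hz => rw [smul_mul_assoc, map_smul, hz, smul_zero]
    have h0 := h (d - j) (by omega)
    rw [add_mul, map_add, hy0 y hy, zero_add, smul_mul_assoc, ← pow_add,
      show j + (d - j) = d by omega, map_smul, smul_eq_mul] at h0
    rw [(mul_eq_zero.1 h0).resolve_right hd, zero_smul, add_zero]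
    exact hy

/-- Some member sends the second basis vector to a multiple of the first, the multiplier being
orthogonal to the powers below `n - 1` for the twisted form. -/
theorem exists_antidiag {n : ℕ} (hn : 1 ≤ n) (hspan : powSpan k lam n = ⊤)
    (hone : ∀ j < n, ∀ x ∈ powSpan k lam j, 1 + lam * x ≠ 0) (l : R →ₗ[k] k)
    (hB : ∀ j, 1 ≤ j → j ≤ n → NonDeg k lam l j)
    (hB' : ∀ j, 1 ≤ j → j ≤ n → NonDeg k lam (l ∘ₗ LinearMap.mulLeft k lam) j) :
    ∃ g ∈ gen k lam, g 1 1 = 0 ∧ ∀ i, i + 1 < n → l (lam * g 0 1 * lam ^ i) = 0 := by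
  suffices h : ∀ j, 1 ≤ j → j ≤ n → ∃ g ∈ gen k lam, g 0 1 ∈ powSpan k lam j ∧ g 0 1 ≠ 0 ∧
      (∀ i, i + 1 < j → l (lam * g 0 1 * lam ^ i) = 0) ∧
      (∃ x ∈ powSpan k lam j, g 1 1 = 1 + lam * x) ∧ ∀ i < j, l (g 1 1 * lam ^ i) = 0 by
    obtain ⟨g, hg, -, -, hP, -, hQ⟩ := h n hn le_rfl
    exact ⟨g, hg, hB n hn le_rfl _ (hspan ▸ Submodule.mem_top) hQ, hP⟩
  intro j hj
  induction j, hj using Nat.le_induction with
  | base =>
    intro hn'
    have hne : (1 : R) ≠ 0 := by simpa using hone 0 hn' 0 (zero_mem _)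
    have h1 : (1 : R) ∈ powSpan k lam 1 := by simpa using pow_mem_powSpan (k := k) (lam := lam) Nat.zero_lt_one
    have hl : l lam ≠ 0 := fun h0 => hne (hB' 1 le_rfl hn' 1 h1 (fun i hi => by
      obtain rfl : i = 0 := by omega
      simpa using h0))
    refine ⟨ly (algebraMap k R (-(l 1 / l lam)) * lam) * ux (algebraMap k R 1),
      mul_mem (ly_mem _) (ux_mem _), ?_, ?_, fun i hi => absurd hi (by omega),
      ⟨algebraMap k R (-(l 1 / l lam)), ?_, ?_⟩, ?_⟩
    · simpa [ly, ux, mul_01] using h1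
    · simpa [ly, ux, mul_01] using hne
    · rw [Algebra.algebraMap_eq_smul_one]; exact Submodule.smul_mem _ _ h1
    · simp [ly, ux, mul_11, mul_comm, add_comm]
    · intro i hi
      obtain rfl : i = 0 := by omega
      simp only [ly, ux, mul_11, mk_10, mk_11, mk_01, map_one, mul_one, pow_zero, map_add,
        ← Algebra.smul_def, map_smul, smul_eq_mul]
      field_simp
      ring
  | succ j hj ih =>
    intro hjn
    obtain ⟨g, hg, hPmem, hP0, hP, ⟨x, hx, hQx⟩, hQ⟩ := ih (Nat.le_of_succ_le hjn)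
    set P := g 0 1 with hPdef
    set Q := g 1 1 with hQdef
    have hQ0 : Q ≠ 0 := hQx ▸ hone j (Nat.lt_of_succ_le hjn) x hx
    have hQmem : Q ∈ powSpan k lam (j + 1) := by
      rw [hQx]
      refine add_mem ?_ (lam_mul_powSpan hx)
      simpa using pow_mem_powSpan (k := k) (lam := lam) (Nat.succ_pos j)
    have hα : l (Q * lam ^ j) ≠ 0 := fun h0 => hQ0 (hB (j + 1) (by omega) hjn Q hQmem fun i hi => by
      rcases Nat.lt_succ_iff_lt_or_eq.1 hi with h | h
      · exact hQ i h
      · rw [h]; exact h0)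
    set a := -(l (P * lam ^ j) / l (Q * lam ^ j)) with ha
    set P' := P + a • Q with hP'
    have hP'mem : P' ∈ powSpan k lam (j + 1) :=
      add_mem (powSpan_mono (Nat.le_succ j) hPmem) (Submodule.smul_mem _ _ hQmem)
    have hP'orth : ∀ i, i + 1 < j + 1 → l (lam * P' * lam ^ i) = 0 := by
      intro i hi
      have e : ∀ z : R, lam * z * lam ^ i = z * lam ^ (i + 1) := fun z => by rw [pow_succ]; ring
      rw [e, hP', add_mul, map_add, smul_mul_assoc, map_smul, smul_eq_mul, ← e P]
      rcases Nat.lt_succ_iff_lt_or_eq.1 hi with h | h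
      · rw [hP i h, hQ (i + 1) h, mul_zero, add_zero]
      · rw [e, h, ha]; field_simp; ring
    have hP'0 : P' ≠ 0 := by
      intro h0
      by_cases ha0 : a = 0
      · exact hP0 (by rwa [hP', ha0, zero_smul, add_zero] at h0)
      · apply hQ0
        refine hB j hj (Nat.le_of_succ_le hjn) Q ?_ hQ
        have e : Q = a⁻¹ • (-P) := by
          rw [eq_inv_smul_iff₀ ha0]
          exact eq_neg_of_add_eq_zero_right h0
        rw [e]
        exact Submodule.smul_mem _ _ (neg_mem hPmem)
    have hβ : l (lam * P' * lam ^ j) ≠ 0 := fun h0 =>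
      hP'0 (hB' (j + 1) (by omega) hjn P' hP'mem fun i hi => by
        rw [LinearMap.comp_apply, LinearMap.mulLeft_apply, ← mul_assoc]
        rcases Nat.lt_succ_iff_lt_or_eq.1 hi with h | h
        · exact hP'orth i (by omega)
        · rw [h]; exact h0)
    set c := -(l (Q * lam ^ j) / l (lam * P' * lam ^ j)) with hc
    refine ⟨ly (algebraMap k R c * lam) * (ux (algebraMap k R a) * g),
      mul_mem (ly_mem _) (mul_mem (ux_mem _) hg), ?_⟩
    have e1 : (ly (algebraMap k R c * lam) * (ux (algebraMap k R a) * g)) 0 1 = P' := by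
      simp [ly, ux, mul_01, mul_11, hP', Algebra.smul_def, hPdef, hQdef]
    have e2 : (ly (algebraMap k R c * lam) * (ux (algebraMap k R a) * g)) 1 1 =
        Q + c • (lam * P') := by
      simp [ly, ux, mul_01, mul_11, hP', Algebra.smul_def, hPdef, hQdef]
      ring
    rw [e1, e2]
    refine ⟨hP'mem, hP'0, hP'orth, ⟨x + c • P', ?_, ?_⟩, fun i hi => ?_⟩
    · exact add_mem (powSpan_mono (Nat.le_succ j) hx) (Submodule.smul_mem _ _ hP'mem)
    · rw [hQx, Algebra.smul_def, Algebra.smul_def]; ring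
    · rw [add_mul, map_add, smul_mul_assoc, map_smul, smul_eq_mul]
      rcases Nat.lt_succ_iff_lt_or_eq.1 hi with h | h
      · rw [hQ i h, hP'orth i (by omega), mul_zero, add_zero]
      · rw [h, hc]; field_simp; ring

/-! ### Infinitely many scalars -/

theorem linearIndependent_powSpan {n : ℕ} (hind : LinearIndependent k fun i : Fin n => lam ^ (i : ℕ))
    {j : ℕ} (hj : j < n) {x : R} (hx : x ∈ powSpan k lam j) : 1 + lam * x ≠ 0 := by
  intro h
  have hmem : lam * x ∈ Submodule.span k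
      ((fun i : Fin n => lam ^ (i : ℕ)) '' {i | (i : ℕ) ≠ 0}) := by
    clear h
    induction hx using Submodule.span_induction with
    | mem y hy =>
      obtain ⟨i, hi, rfl⟩ := hy
      simp only [Set.mem_Iio] at hi
      rw [← pow_succ']
      exact Submodule.subset_span ⟨⟨i + 1, by omega⟩, by simp, rfl⟩
    | zero => rw [mul_zero]; exact zero_mem _
    | add y z _ _ hy hz => rw [mul_add]; exact add_mem hy hz
    | smul c y _ hy => rw [mul_smul_comm]; exact Submodule.smul_mem _ c hy
  refine hind.notMem_span_image (s := {i : Fin n | (i : ℕ) ≠ 0}) (x := ⟨0, by omega⟩) (by simp) ?_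
  have e : (lam ^ ((⟨0, by omega⟩ : Fin n) : ℕ)) = -(lam * x) := by
    simp only [pow_zero]
    exact eq_neg_of_add_eq_zero_left h
  rw [e]
  exact neg_mem hmem

section generic

variable {n : ℕ}

/-- The Hankel matrix of the twisted form. -/
def hankel (k : Type*) [Field k] [Algebra k R] (lam : R) (l : R →ₗ[k] k) (j : ℕ) :
    Matrix (Fin j) (Fin j) k :=
  Matrix.of fun i m => l (lam ^ ((i : ℕ) + (m : ℕ)))

theorem nonDeg_iff (hind : LinearIndependent k fun i : Fin n => lam ^ (i : ℕ)) {j : ℕ} (hj : j ≤ n)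
    (l : R →ₗ[k] k) : NonDeg k lam l j ↔ (hankel k lam l j).det ≠ 0 := by
  have hval : ∀ (c : Fin j → k) (m : Fin j), l ((∑ i, c i • lam ^ (i : ℕ)) * lam ^ (m : ℕ)) =
      Matrix.vecMul c (hankel k lam l j) m := by
    intro c m
    simp [Matrix.vecMul, dotProduct, hankel, Finset.sum_mul, pow_add]
  constructor
  · intro h hdet
    obtain ⟨c, hc0, hc⟩ := Matrix.exists_vecMul_eq_zero_iff.2 hdet
    have hx := h (∑ i, c i • lam ^ (i : ℕ))
      (Submodule.sum_mem _ fun i _ => Submodule.smul_mem _ _ (pow_mem_powSpan i.2))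
      (fun m hm => by rw [hval c ⟨m, hm⟩, hc, Pi.zero_apply])
    apply hc0
    have hind' : LinearIndependent k fun i : Fin j => lam ^ (i : ℕ) :=
      hind.comp (Fin.castLE hj) (Fin.castLE_injective hj)
    funext i
    exact Fintype.linearIndependent_iff.1 hind' c hx i
  · intro hdet x hx h
    have hx' : x ∈ Submodule.span k (Set.range fun i : Fin j => lam ^ (i : ℕ)) := by
      refine Submodule.span_mono ?_ hx
      rintro _ ⟨i, hi, rfl⟩
      exact ⟨⟨i, hi⟩, rfl⟩
    obtain ⟨c, rfl⟩ := (Submodule.mem_span_range_iff_exists_fun k).1 hx'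
    have hc : Matrix.vecMul c (hankel k lam l j) = 0 := by
      funext m
      rw [← hval c m, h m m.2, Pi.zero_apply]
    rw [Matrix.eq_zero_of_vecMul_eq_zero hdet hc]
    simp

/-- The determinant of the twisted Hankel matrix as a polynomial in the twist. -/
noncomputable def hankelPoly (k : Type*) [Field k] [Algebra k R] (lam : R) (l : R →ₗ[k] k) (n j : ℕ) (e : R) :
    MvPolynomial (Fin n) k :=
  (Matrix.of fun i m : Fin j => ∑ t : Fin n,
    MvPolynomial.C (l (lam ^ (t : ℕ) * e * lam ^ ((i : ℕ) + (m : ℕ)))) * MvPolynomial.X t).det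

theorem eval_hankelPoly (l : R →ₗ[k] k) (j : ℕ) (e : R) (c : Fin n → k) :
    MvPolynomial.eval c (hankelPoly k lam l n j e) =
      (hankel k lam (l ∘ₗ LinearMap.mulLeft k ((∑ t, c t • lam ^ (t : ℕ)) * e)) j).det := by
  rw [hankelPoly, RingHom.map_det]
  congr 1
  funext i m
  simp [hankel, Finset.sum_mul, mul_comm (c _)]

end generic

/-- Over an infinite field the group contains all upper and all lower elements. -/
theorem full_of_infinite [Infinite k] (h2 : (2 : k) ≠ 0) [Nontrivial R] [Module.Finite k R]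
    (hgen : Algebra.adjoin k ({lam} : Set R) = ⊤) (hlam : IsUnit lam) :
    upperSpace k lam = ⊤ ∧ ∀ v : R, ly v ∈ gen k lam := by
  classical
  have hint : IsIntegral k lam := IsIntegral.of_finite k lam
  set n := (minpoly k lam).natDegree with hndef
  have hn : 1 ≤ n := minpoly.natDegree_pos hint
  have hind : LinearIndependent k fun i : Fin n => lam ^ (i : ℕ) := linearIndependent_pow lam
  have hspan : powSpan k lam n = ⊤ := by
    rw [eq_top_iff]
    intro x _
    have hx : x ∈ Algebra.adjoin k ({lam} : Set R) := hgen ▸ Algebra.mem_top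
    rw [Algebra.adjoin_singleton_eq_range_aeval] at hx
    obtain ⟨f, rfl⟩ := hx
    have hmon := minpoly.monic hint
    have e : Polynomial.aeval lam f = Polynomial.aeval lam (f %ₘ minpoly k lam) :=
      (Polynomial.aeval_modByMonic_eq_self_of_root (minpoly.aeval k lam)).symm
    show Polynomial.aeval lam f ∈ _
    rw [e, Polynomial.aeval_eq_sum_range' (n := n) (Polynomial.natDegree_modByMonic_lt f hmon
      (minpoly.ne_one k lam))]
    exact Submodule.sum_mem _ fun i hi =>
      Submodule.smul_mem _ _ (pow_mem_powSpan (Finset.mem_range.1 hi))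
  have hone : ∀ j < n, ∀ x ∈ powSpan k lam j, 1 + lam * x ≠ 0 :=
    fun j hj x hx => linearIndependent_powSpan hind hj hx
  obtain ⟨l₀, hl₀lt, hl₀d⟩ : ∃ l : R →ₗ[k] k, (∀ m < n - 1, l (lam ^ m) = 0) ∧
      l (lam ^ (n - 1)) = 1 := by
    have hspan' : ⊤ ≤ Submodule.span k (Set.range fun i : Fin n => lam ^ (i : ℕ)) := by
      rw [← hspan]
      refine Submodule.span_mono ?_
      rintro _ ⟨i, hi, rfl⟩
      exact ⟨⟨i, hi⟩, rfl⟩
    set b := Module.Basis.mk hind hspan'
    refine ⟨b.coord ⟨n - 1, by omega⟩, fun m hm => ?_, ?_⟩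
    · have : lam ^ m = b ⟨m, by omega⟩ := (Module.Basis.mk_apply hind hspan' ⟨m, by omega⟩).symm
      rw [this, Module.Basis.coord_apply, Module.Basis.repr_self, Finsupp.single_apply, if_neg]
      simp [Fin.ext_iff]; omega
    · have : lam ^ (n - 1) = b ⟨n - 1, by omega⟩ :=
        (Module.Basis.mk_apply hind hspan' ⟨n - 1, by omega⟩).symm
      rw [this, Module.Basis.coord_apply, Module.Basis.repr_self, Finsupp.single_apply, if_pos rfl]
  -- the form is non-degenerate
  have hnd₀ : NonDeg k lam l₀ n := by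
    have := nonDeg_of_triangular (k := k) (lam := lam) (l := l₀) (d := n - 1) hl₀lt
      (by rw [hl₀d]; exact one_ne_zero)
    rwa [show n - 1 + 1 = n by omega] at this
  -- the polynomial excluding the bad twists
  set bad : MvPolynomial (Fin n) k :=
    ∏ j ∈ Finset.Icc 1 n, (hankelPoly k lam l₀ n j 1 * hankelPoly k lam l₀ n j lam) with hbad
  set el : (Fin n → k) → R := fun c => ∑ t, c t • lam ^ (t : ℕ) with hel
  have hcoord : ∀ z : R, ∃ c, el c = z := by
    intro z
    have hz : z ∈ Submodule.span k (Set.range fun i : Fin n => lam ^ (i : ℕ)) := by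
      have : z ∈ powSpan k lam n := hspan ▸ Submodule.mem_top
      refine Submodule.span_mono ?_ this
      rintro _ ⟨i, hi, rfl⟩
      exact ⟨⟨i, hi⟩, rfl⟩
    obtain ⟨c, hc⟩ := (Submodule.mem_span_range_iff_exists_fun k).1 hz
    exact ⟨c, hc⟩
  have hbad0 : bad ≠ 0 := by
    rw [hbad, Finset.prod_ne_zero_iff]
    intro j hj
    rw [Finset.mem_Icc] at hj
    obtain ⟨u, hu⟩ := hlam
    have wit : ∀ e z : R, z * e = lam ^ (n - j) → hankelPoly k lam l₀ n j e ≠ 0 := by
      intro e z hz
      obtain ⟨c, hc⟩ := hcoord z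
      intro h0
      have h1 : NonDeg k lam (l₀ ∘ₗ LinearMap.mulLeft k ((el c) * e)) j := by
        have := nonDeg_of_triangular (k := k) (lam := lam)
          (l := l₀ ∘ₗ LinearMap.mulLeft k ((el c) * e)) (d := j - 1)
          (fun m hm => by
            rw [hc, hz, LinearMap.comp_apply, LinearMap.mulLeft_apply, ← pow_add]
            exact hl₀lt _ (by omega))
          (by
            rw [hc, hz, LinearMap.comp_apply, LinearMap.mulLeft_apply, ← pow_add,
              show n - j + (j - 1) = n - 1 by omega, hl₀d]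
            exact one_ne_zero)
        rwa [show j - 1 + 1 = j by omega] at this
      have h2 := eval_hankelPoly (k := k) (lam := lam) l₀ j e c
      rw [h0, map_zero] at h2
      exact (nonDeg_iff hind hj.2 _).1 h1 h2.symm
    refine mul_ne_zero (wit 1 _ (mul_one _)) (wit lam (lam ^ (n - j) * ↑u⁻¹) ?_)
    rw [← hu, mul_assoc, Units.inv_mul, mul_one]
  -- good twists
  have good : ∀ c, MvPolynomial.eval c bad ≠ 0 → ∃ g ∈ gen k lam, g 1 1 = 0 ∧
      ∃ t : k, lam * g 0 1 * el c = algebraMap k R t := by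
    intro c hc
    rw [hbad, map_prod, Finset.prod_ne_zero_iff] at hc
    have hB : ∀ j, 1 ≤ j → j ≤ n →
        NonDeg k lam (l₀ ∘ₗ LinearMap.mulLeft k (el c)) j ∧
          NonDeg k lam ((l₀ ∘ₗ LinearMap.mulLeft k (el c)) ∘ₗ LinearMap.mulLeft k lam) j := by
      intro j h1 h2
      have h := hc j (Finset.mem_Icc.2 ⟨h1, h2⟩)
      rw [map_mul, mul_ne_zero_iff, eval_hankelPoly, eval_hankelPoly, mul_one] at h
      refine ⟨(nonDeg_iff hind h2 _).2 h.1, (nonDeg_iff hind h2 _).2 ?_⟩
      rw [LinearMap.comp_assoc]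
      convert h.2 using 4
      ext z
      simp [hel]
    obtain ⟨g, hg, hg1, horth⟩ := exists_antidiag hn hspan hone _ (fun j a b => (hB j a b).1)
      (fun j a b => (hB j a b).2)
    refine ⟨g, hg, hg1, l₀ (lam * g 0 1 * el c * lam ^ (n - 1)), ?_⟩
    set z := lam * g 0 1 * el c with hz
    have hdiff : ∀ i < n, l₀ ((z - algebraMap k R (l₀ (z * lam ^ (n - 1)))) * lam ^ i) = 0 := by
      intro i hi
      rw [sub_mul, map_sub, ← Algebra.smul_def, map_smul, smul_eq_mul]
      rcases eq_or_ne i (n - 1) with rfl | hne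
      · rw [hl₀d, mul_one, sub_self]
      · rw [hl₀lt i (by omega), mul_zero, sub_zero]
        have := horth i (by omega)
        rw [LinearMap.comp_apply, LinearMap.mulLeft_apply] at this
        rw [← this, hz]
        congr 1
        ring
    exact sub_eq_zero.1 (hnd₀ _ (hspan ▸ Submodule.mem_top) hdiff)
  -- a first good twist
  obtain ⟨c₀, hc₀⟩ : ∃ c, MvPolynomial.eval c bad ≠ 0 := by
    by_contra h
    push Not at h
    exact hbad0 (MvPolynomial.funext fun c => by rw [h c, map_zero])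
  obtain ⟨g₀, hg₀, hg₀1, t₀, ht₀⟩ := good c₀ hc₀
  have unit_of : ∀ {g : SLR R}, g 1 1 = 0 → IsUnit (g 0 1) := fun {g} h => by
    have hd := det_eq g
    rw [h, mul_zero, zero_sub, ← mul_neg] at hd
    exact IsUnit.of_mul_eq_one _ hd
  have ht₀0 : t₀ ≠ 0 ∧ IsUnit (el c₀) := by
    have hne : t₀ ≠ 0 := by
      rintro rfl
      rw [map_zero] at ht₀
      have h1 : el c₀ = 0 := (IsUnit.mul_right_eq_zero (hlam.mul (unit_of hg₀1))).1 ht₀
      apply hc₀
      rw [hbad, map_prod]
      refine Finset.prod_eq_zero (Finset.mem_Icc.2 ⟨hn, le_rfl⟩) ?_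
      rw [map_mul, eval_hankelPoly, show (∑ t, c₀ t • lam ^ (t : ℕ)) = 0 from h1]
      have hz : (hankel k lam (l₀ ∘ₗ LinearMap.mulLeft k ((0 : R) * 1)) n) = 0 := by
        funext i m; simp [hankel]
      have : Nonempty (Fin n) := ⟨⟨0, by omega⟩⟩
      rw [hz, Matrix.det_zero, zero_mul]
    refine ⟨hne, isUnit_of_mul_isUnit_right (x := lam * g₀ 0 1) ?_⟩
    rw [ht₀]
    exact (isUnit_iff_ne_zero.2 hne).map (algebraMap k R)
  obtain ⟨s₀, hs₀⟩ := ht₀0.2
  -- the upper space is invariant under the squares of the quotients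
  have hinv : ∀ c, MvPolynomial.eval c bad ≠ 0 → ∀ u ∈ upperSpace k lam,
      el c * el c * ((↑s₀⁻¹ : R) * ↑s₀⁻¹) * u ∈ upperSpace k lam := by
    intro c hc u hu
    obtain ⟨g, hg, hg1, t, ht⟩ := good c hc
    obtain ⟨h10, h00⟩ := tri_of_antidiag hg₀1 hg1
    have h := upperSpace_tri (mul_mem hg₀ (inv_mem hg)) h10 hu
    rcases eq_or_ne t 0 with rfl | ht0
    · rw [map_zero] at ht
      rw [(IsUnit.mul_right_eq_zero (hlam.mul (unit_of hg1))).1 ht]
      simp
    have e : (g₀ * g⁻¹) 0 0 = algebraMap k R (t₀ / t) * (el c * ↑s₀⁻¹) := by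
      apply (hlam.mul (unit_of hg1)).mul_left_cancel
      rw [mul_assoc lam, h00]
      have e1 : lam * g₀ 0 1 = algebraMap k R t₀ * ↑s₀⁻¹ := by
        rw [← ht₀, ← hs₀, mul_assoc (lam * g₀ 0 1), Units.mul_inv, mul_one]
      rw [e1, ← mul_assoc (lam * g 0 1), mul_comm (lam * g 0 1) (algebraMap k R _), mul_assoc,
        ← mul_assoc (lam * g 0 1), ht, ← mul_assoc, ← map_mul, div_mul_cancel₀ _ ht0]
    rw [e] at h
    have h' := Submodule.smul_mem _ ((t / t₀) * (t / t₀)) h
    rw [Algebra.smul_def] at h'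
    convert h' using 1
    have hone' : algebraMap k R (t / t₀) * algebraMap k R (t₀ / t) = 1 := by
      rw [← map_mul, div_mul_div_comm, mul_comm t t₀, div_self (mul_ne_zero ht₀0.1 ht0), map_one]
    rw [map_mul]
    linear_combination
      -(el c * el c * ((↑s₀⁻¹ : R) * ↑s₀⁻¹) * u) *
        (algebraMap k R (t / t₀) * algebraMap k R (t₀ / t) + 1) * hone'
  -- hence under all multiplications
  have hall : ∀ u ∈ upperSpace k lam, ∀ z : R, z * z * ((↑s₀⁻¹ : R) * ↑s₀⁻¹) * u ∈ upperSpace k lam := by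
    intro u hu z
    by_contra hz
    obtain ⟨φ, hφ, hφU⟩ := Submodule.exists_le_ker_of_notMem hz
    obtain ⟨cz, hcz⟩ := hcoord z
    set q : MvPolynomial (Fin n) k := ∑ i : Fin n, ∑ m : Fin n,
      MvPolynomial.C (φ (lam ^ (i : ℕ) * lam ^ (m : ℕ) * ((↑s₀⁻¹ : R) * ↑s₀⁻¹) * u)) *
        MvPolynomial.X i * MvPolynomial.X m with hq
    have hqe : ∀ c, MvPolynomial.eval c q =
        φ (el c * el c * ((↑s₀⁻¹ : R) * ↑s₀⁻¹) * u) := by
      intro c
      rw [hq, hel]
      simp only [map_sum, map_mul, MvPolynomial.eval_C, MvPolynomial.eval_X, Finset.sum_mul,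
        Finset.mul_sum]
      refine Finset.sum_congr rfl fun i _ => Finset.sum_congr rfl fun m _ => ?_
      simp only [smul_mul_assoc, mul_smul_comm, map_smul, smul_eq_mul]
      ring
    have h0 : bad * q = 0 := MvPolynomial.funext fun c => by
      rw [map_mul, map_zero]
      by_cases hc : MvPolynomial.eval c bad = 0
      · rw [hc, zero_mul]
      · rw [hqe, hφU (hinv c hc u hu), mul_zero]
    have h1 := hqe cz
    rw [(mul_eq_zero.1 h0).resolve_left hbad0, map_zero, hcz] at h1
    exact hφ h1.symm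
  have hU : upperSpace k lam = ⊤ := by
    rw [eq_top_iff]
    intro r _
    set w := (↑s₀ : R) * ↑s₀ * r
    have h1 := hall 1 one_mem_upperSpace
    have h := sub_mem (sub_mem (h1 (1 + w)) (h1 1)) (h1 w)
    have e : (1 + w) * (1 + w) * ((↑s₀⁻¹ : R) * ↑s₀⁻¹) * 1 - 1 * 1 * ((↑s₀⁻¹ : R) * ↑s₀⁻¹) * 1
        - w * w * ((↑s₀⁻¹ : R) * ↑s₀⁻¹) * 1 = (2 : k) • r := by
      have hs : (↑s₀ : R) * ↑s₀⁻¹ = 1 := s₀.mul_inv
      rw [Algebra.smul_def, map_ofNat]
      simp only [w]
      linear_combination (2 * r * (↑s₀ * ↑s₀⁻¹ + 1)) * hs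
    rw [e] at h
    simpa [smul_smul, inv_mul_cancel₀ h2] using Submodule.smul_mem _ (2 : k)⁻¹ h
  exact ⟨hU, fun v => ly_mem_of_antidiag hg₀ hg₀1 (hU ▸ Submodule.mem_top)⟩

end Cfsg.Agent.Lib.RootSubgroups.SL2Ring
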