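import Mathlib
import Cfsg.Agent.Lib.RootSubgroups.QuadPairWords
import Cfsg.Agent.Lib.RootSubgroups.SL2Ring

/-!
For two square zero maps `a`, `b` the Fitting decomposition of `z = a b + b a` and the action of
`SL₂(k[λ])`, `λ = a b` on `P = a (M₁)`, on the part `M₁` on which `z` is invertible.
-/

set_option autoImplicit false

namespace Cfsg.Agent.Lib.RootSubgroups.QuadPair

open SL2Ring
open scoped IsMulCommutative

variable {k : Type*} [Field k]

section act

variable {R : Type*} [CommRing R] [Algebra k R] {V : Type*} [AddCommGroup V] [Module k V]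

/-- The action on pairs of vectors. -/
def act (ev : R →ₐ[k] Module.End k V) : SLR R →* Module.End k (V × V) where
  toFun g := ((ev (g 0 0)).coprod (ev (g 0 1))).prod ((ev (g 1 0)).coprod (ev (g 1 1)))
  map_one' := by
    refine LinearMap.ext fun w => ?_
    simp
  map_mul' g h := by
    refine LinearMap.ext fun w => ?_
    simp [mul_00, mul_01, mul_10, mul_11]
    constructor <;> abel

theorem act_apply (ev : R →ₐ[k] Module.End k V) (g : SLR R) (u v : V) :
    act ev g (u, v) = (ev (g 0 0) u + ev (g 0 1) v, ev (g 1 0) u + ev (g 1 1) v) := rfl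

theorem act_ux (ev : R →ₐ[k] Module.End k V) (r : R) (u v : V) :
    act ev (ux r) (u, v) = (u + ev r v, v) := by simp [act_apply, ux]

theorem act_ly (ev : R →ₐ[k] Module.End k V) (r : R) (u v : V) :
    act ev (ly r) (u, v) = (u, ev r u + v) := by simp [act_apply, ly]

theorem act_inj {ev : R →ₐ[k] Module.End k V} (hev : Function.Injective ev) {g : SLR R}
    (h : act ev g = 1) : g = 1 := by
  have h1 : ∀ u v : V, act ev g (u, v) = (u, v) := fun u v => by rw [h]; rfl
  simp only [act_apply, Prod.ext_iff] at h1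
  apply ext2 <;> apply hev <;> refine LinearMap.ext fun u => ?_
  · simpa using (h1 u 0).1
  · simpa using (h1 0 u).1
  · simpa using (h1 u 0).2
  · simpa using (h1 0 u).2

theorem isUnit_of_faithful [Module.Finite k R] {ev : R →ₐ[k] Module.End k V} (hev : Function.Injective ev)
    {r : R} (hr : ∀ u, ev r u = 0 → u = 0) : IsUnit r := by
  have hinj : Function.Injective (LinearMap.mulLeft k r) := by
    rw [← LinearMap.ker_eq_bot, LinearMap.ker_eq_bot']
    intro s hs
    apply hev
    rw [map_zero]
    refine LinearMap.ext fun u => hr _ ?_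
    rw [← Module.End.mul_apply, ← map_mul, show r * s = 0 from hs, map_zero]
    rfl
  obtain ⟨s, hs⟩ := LinearMap.injective_iff_surjective.1 hinj 1
  exact isUnit_iff_exists_inv.2 ⟨s, hs⟩

end act

variable {M : Type*} [AddCommGroup M] [Module k M] (a b : Module.End k M) (N : ℕ)

/-- The anticommutator. -/
abbrev zed : Module.End k M := a * b + b * a

/-- The part where the anticommutator is nilpotent. -/
abbrev part₀ : Submodule k M := LinearMap.ker (zed a b ^ N)

/-- The part where the anticommutator is invertible. -/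
abbrev part₁ : Submodule k M := LinearMap.range (zed a b ^ N)

/-- `a M₁`. -/
abbrev top₁ : Submodule k M := (part₁ a b N).map a

/-- Standing hypotheses on the two maps. -/
structure Fitting : Prop where
  sq₁ : a * a = 0
  sq₂ : b * b = 0
  pos : 1 ≤ N
  compl : IsCompl (part₀ a b N) (part₁ a b N)

variable {a b N} (h : Fitting a b N)

include h

theorem Fitting.map₁ {x : M} (hx : x ∈ part₁ a b N) : a x ∈ part₁ a b N ∧ b x ∈ part₁ a b N := by
  obtain ⟨y, rfl⟩ := hx
  exact ⟨⟨a y, (congrArg (fun f : Module.End k M => f y) ((commute_anti h.sq₁).pow_right N).eq).symm⟩,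
    ⟨b y, (congrArg (fun f : Module.End k M => f y) ((commute_anti' h.sq₂).pow_right N).eq).symm⟩⟩

theorem Fitting.map₀ {x : M} (hx : x ∈ part₀ a b N) : a x ∈ part₀ a b N ∧ b x ∈ part₀ a b N := by
  rw [LinearMap.mem_ker] at hx
  have e : ∀ c, Commute c (zed a b) → c x ∈ part₀ a b N := fun c hc => by
    rw [LinearMap.mem_ker, ← Module.End.mul_apply, ← (hc.pow_right N).eq, Module.End.mul_apply, hx,
      map_zero]
  exact ⟨e a (commute_anti h.sq₁), e b (commute_anti' h.sq₂)⟩

theorem Fitting.eq_zero {x : M} (hx : x ∈ part₁ a b N) (hz : zed a b x = 0) : x = 0 := by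
  refine (Submodule.disjoint_def.1 h.compl.disjoint) x ?_ hx
  rw [LinearMap.mem_ker, show N = N - 1 + 1 from (Nat.sub_add_cancel h.pos).symm, pow_succ,
    Module.End.mul_apply, hz, map_zero]

theorem Fitting.top_le : top₁ a b N ≤ part₁ a b N := by
  rintro _ ⟨x, hx, rfl⟩
  exact (h.map₁ hx).1

theorem Fitting.a_top {x : M} (hx : x ∈ top₁ a b N) : a x = 0 := by
  obtain ⟨y, -, rfl⟩ := hx
  exact congrArg (fun f : Module.End k M => f y) h.sq₁

theorem Fitting.ab_top {x : M} (hx : x ∈ top₁ a b N) : (a * b) x ∈ top₁ a b N :=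
  Submodule.mem_map_of_mem (h.map₁ (h.top_le hx)).2

theorem Fitting.zed_top {x : M} (hx : x ∈ top₁ a b N) : zed a b x = (a * b) x := by
  simp [zed, h.a_top hx]

/-- `λ`. -/
abbrev Fitting.lam : Module.End k (top₁ a b N) := (a * b).restrict fun _ hx => h.ab_top hx

/-- `k[λ]`. -/
abbrev Fitting.ring : Subalgebra k (Module.End k (top₁ a b N)) := Algebra.adjoin k {h.lam}

/-- `λ` as a member of `k[λ]`. -/
abbrev Fitting.gen : h.ring := ⟨h.lam, Algebra.self_mem_adjoin_singleton k h.lam⟩

theorem Fitting.gen_adjoin : Algebra.adjoin k ({h.gen} : Set h.ring) = ⊤ :=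
  by
    apply Subalgebra.map_injective (f := h.ring.val) Subtype.val_injective
    rw [AlgHom.map_adjoin, Set.image_singleton, Algebra.map_top, Subalgebra.range_val]
    rfl

variable [FiniteDimensional k M]

omit [FiniteDimensional k M] in
theorem Fitting.lam_inj {u : top₁ a b N} (hu : h.lam u = 0) : u = 0 := by
  refine Subtype.ext (h.eq_zero (h.top_le u.2) ?_)
  rw [h.zed_top u.2]
  exact congrArg Subtype.val hu

theorem Fitting.gen_unit : IsUnit h.gen :=
  isUnit_of_faithful (R := h.ring) (ev := h.ring.val) Subtype.val_injective fun _ hu => h.lam_inj hu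

/-- `λ⁻¹`. -/
noncomputable abbrev Fitting.inv : Module.End k (top₁ a b N) := ((h.gen_unit.unit⁻¹ : (h.ring)ˣ) : h.ring)

theorem Fitting.lam_inv (v : top₁ a b N) : h.lam (h.inv v) = v := by
  have e := congrArg Subtype.val h.gen_unit.mul_val_inv
  exact congrArg (fun f : Module.End k (top₁ a b N) => f v) e

theorem Fitting.inv_lam (v : top₁ a b N) : h.inv (h.lam v) = v := by
  have e := congrArg Subtype.val h.gen_unit.val_inv_mul
  exact congrArg (fun f : Module.End k (top₁ a b N) => f v) e

/-- `(u, v) ↦ u + b λ⁻¹ v`. -/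
noncomputable def Fitting.iota : (top₁ a b N × top₁ a b N) →ₗ[k] M :=
  (top₁ a b N).subtype.coprod (b ∘ₗ (top₁ a b N).subtype ∘ₗ h.inv)

theorem Fitting.iota_apply (u v : top₁ a b N) : h.iota (u, v) = (u : M) + b (h.inv v : M) := rfl

theorem Fitting.a_b_inv (v : top₁ a b N) : a (b (h.inv v : M)) = v :=
  congrArg Subtype.val (h.lam_inv v)

theorem Fitting.a_iota (u v : top₁ a b N) : a (h.iota (u, v)) = h.iota (v, 0) := by
  rw [h.iota_apply, h.iota_apply, map_add, h.a_top u.2, h.a_b_inv]
  simp

theorem Fitting.b_iota (u v : top₁ a b N) : b (h.iota (u, v)) = h.iota (0, h.lam u) := by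
  rw [h.iota_apply, h.iota_apply, map_add, h.inv_lam, ← Module.End.mul_apply b b, h.sq₂]
  simp

theorem Fitting.iota_inj : Function.Injective h.iota := by
  rw [← LinearMap.ker_eq_bot, LinearMap.ker_eq_bot']
  rintro ⟨u, v⟩ hw
  have h1 := congrArg a hw
  rw [h.a_iota, h.iota_apply, map_zero, map_zero] at h1
  have hv : v = 0 := Subtype.ext (by simpa using h1)
  rw [hv, h.iota_apply, map_zero] at hw
  exact Prod.ext (Subtype.ext (by simpa using hw)) hv

theorem Fitting.iota_range : LinearMap.range h.iota = part₁ a b N := by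
  refine le_antisymm ?_ fun x hx => ?_
  · rintro _ ⟨⟨u, v⟩, rfl⟩
    rw [h.iota_apply]
    exact add_mem (h.top_le u.2) (h.map₁ (h.top_le (h.inv v).2)).2
  · set v : top₁ a b N := ⟨a x, Submodule.mem_map_of_mem hx⟩
    set u := x - b (h.inv v : M) with hu
    have hu0 : a u = 0 := by rw [hu, map_sub, h.a_b_inv]; exact sub_self _
    have hu1 : u ∈ part₁ a b N := sub_mem hx (h.map₁ (h.top_le (h.inv v).2)).2
    set w : top₁ a b N := ⟨a (b u), Submodule.mem_map_of_mem (h.map₁ hu1).2⟩
    have hz : zed a b (h.inv w : M) = zed a b u := by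
      rw [h.zed_top (h.inv w).2]
      show a (b _) = a (b u) + b (a u)
      rw [h.a_b_inv, hu0, map_zero, add_zero]
    have he : u = (h.inv w : M) := by
      rw [← sub_eq_zero]
      exact h.eq_zero (sub_mem hu1 (h.top_le (h.inv w).2)) (by rw [map_sub, hz, sub_self])
    refine ⟨(h.inv w, v), ?_⟩
    rw [h.iota_apply, ← he, hu, sub_add_cancel]

/-- Coordinates on `M`. -/
noncomputable def Fitting.coords : (part₀ a b N × (top₁ a b N × top₁ a b N)) ≃ₗ[k] M :=
  LinearEquiv.ofBijective ((part₀ a b N).subtype.coprod h.iota) ⟨by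
    rw [← LinearMap.ker_eq_bot, LinearMap.ker_eq_bot']
    rintro ⟨x, w⟩ hw
    have h1 : h.iota w ∈ part₁ a b N := h.iota_range ▸ LinearMap.mem_range_self _ _
    have hx : (x : M) = 0 := by
      refine (Submodule.disjoint_def.1 h.compl.disjoint) _ x.2 ?_
      rw [show (x : M) = -h.iota w from eq_neg_of_add_eq_zero_left hw]
      exact neg_mem h1
    refine Prod.ext (Subtype.ext hx) (h.iota_inj ?_)
    simpa [hx] using hw, by
    rw [← LinearMap.range_eq_top, LinearMap.range_coprod, Submodule.range_subtype, h.iota_range]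
    exact h.compl.sup_eq_top⟩

theorem Fitting.coords_apply (x : part₀ a b N) (w : top₁ a b N × top₁ a b N) :
    h.coords (x, w) = (x : M) + h.iota w := rfl

theorem Fitting.ext_coords {f g : Module.End k M} (h₀ : ∀ x ∈ part₀ a b N, f x = g x)
    (h₁ : ∀ u v : top₁ a b N, f (h.iota (u, v)) = g (h.iota (u, v))) : f = g := by
  refine LinearMap.ext fun m => ?_
  obtain ⟨⟨x, u, v⟩, rfl⟩ := h.coords.surjective m
  rw [h.coords_apply, map_add, map_add, h₀ x x.2, h₁]

/-- The action of `SL₂(k[λ])` on `M`, trivial on `M₀`. -/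
noncomputable def Fitting.rep : SLR h.ring →* LinearMap.GeneralLinearGroup k M :=
  MonoidHom.toHomUnits
    { toFun := fun g => h.coords.toLinearMap ∘ₗ
        (LinearMap.id.prodMap (act h.ring.val g)) ∘ₗ h.coords.symm.toLinearMap
      map_one' := by
        refine LinearMap.ext fun m => ?_
        simp
      map_mul' := fun g g' => by
        refine LinearMap.ext fun m => ?_
        simp }

theorem Fitting.rep_part₀ (g : SLR h.ring) {x : M} (hx : x ∈ part₀ a b N) :
    (h.rep g : Module.End k M) x = x := by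
  have e : x = h.coords (⟨x, hx⟩, 0) := by simp [h.coords_apply]
  show h.coords (LinearMap.id.prodMap (act h.ring.val g) (h.coords.symm x)) = x
  conv_lhs => rw [e, LinearEquiv.symm_apply_apply]
  simp [h.coords_apply]

theorem Fitting.rep_iota (g : SLR h.ring) (w : top₁ a b N × top₁ a b N) :
    (h.rep g : Module.End k M) (h.iota w) = h.iota (act h.ring.val g w) := by
  have e : h.iota w = h.coords (0, w) := by simp [h.coords_apply]
  show h.coords (LinearMap.id.prodMap (act h.ring.val g) (h.coords.symm (h.iota w))) = _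
  rw [e, LinearEquiv.symm_apply_apply]
  simp [h.coords_apply]

theorem Fitting.rep_inj : Function.Injective h.rep := by
  rw [injective_iff_map_eq_one]
  intro g hg
  refine act_inj (ev := h.ring.val) Subtype.val_injective (LinearMap.ext fun w => h.iota_inj ?_)
  rw [← h.rep_iota, hg]
  rfl

theorem Fitting.nil_ux_iota (r : h.ring) (u v : top₁ a b N) :
    nil (h.rep (ux r)) (h.iota (u, v)) = ((r : Module.End k (top₁ a b N)) v : M) := by
  rw [nil, LinearMap.sub_apply, Module.End.one_apply, h.rep_iota, act_ux, ← map_sub]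
  simp [h.iota_apply]

theorem Fitting.nil_ly_iota (r : h.ring) (u v : top₁ a b N) :
    nil (h.rep (ly r)) (h.iota (u, v)) = b (h.inv ((r : Module.End k (top₁ a b N)) u) : M) := by
  rw [nil, LinearMap.sub_apply, Module.End.one_apply, h.rep_iota, act_ly, ← map_sub]
  simp [h.iota_apply]

theorem Fitting.nil_part₀ (g : SLR h.ring) {x : M} (hx : x ∈ part₀ a b N) :
    nil (h.rep g) x = 0 := by
  rw [nil, LinearMap.sub_apply, Module.End.one_apply, h.rep_part₀ g hx, sub_self]

theorem Fitting.nil_ux_smul (c : k) (r : h.ring) :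
    nil (h.rep (ux (c • r))) = c • nil (h.rep (ux r)) := by
  refine h.ext_coords (fun x hx => ?_) fun u v => ?_
  · rw [h.nil_part₀ _ hx, LinearMap.smul_apply, h.nil_part₀ _ hx, smul_zero]
  · rw [h.nil_ux_iota, LinearMap.smul_apply, h.nil_ux_iota]
    rfl

theorem Fitting.nil_ly_smul (c : k) (r : h.ring) :
    nil (h.rep (ly (c • r))) = c • nil (h.rep (ly r)) := by
  refine h.ext_coords (fun x hx => ?_) fun u v => ?_
  · rw [h.nil_part₀ _ hx, LinearMap.smul_apply, h.nil_part₀ _ hx, smul_zero]
  · rw [h.nil_ly_iota, LinearMap.smul_apply, h.nil_ly_iota]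
    simp

theorem Fitting.nil_ux_range (r : h.ring) :
    LinearMap.range (nil (h.rep (ux r))) =
      (LinearMap.range (r : Module.End k (top₁ a b N))).map (top₁ a b N).subtype := by
  refine le_antisymm ?_ ?_
  · rintro _ ⟨m, rfl⟩
    obtain ⟨⟨x, u, v⟩, rfl⟩ := h.coords.surjective m
    rw [h.coords_apply, map_add, h.nil_part₀ _ x.2, zero_add, h.nil_ux_iota]
    exact ⟨_, ⟨v, rfl⟩, rfl⟩
  · rintro _ ⟨_, ⟨v, rfl⟩, rfl⟩
    exact ⟨h.iota (0, v), h.nil_ux_iota r 0 v⟩

end Cfsg.Agent.Lib.RootSubgroups.QuadPair
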