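import Mathlib
import Cfsg.Agent.Lib.RootSubgroups.SL2Ring
import Cfsg.Agent.Lib.SL2.Basic
import Cfsg.Agent.Lib.Core.Nilpotent
import Cfsg.Agent.S0801

/-!
The subgroup of `SL₂(k[λ])` generated by two scalar root groups when `k` is finite: everything if
`k[λ]` is a field, and `k[λ]` is a field if no upper entry is a nonzero non-unit.
-/

set_option autoImplicit false

namespace Cfsg.Agent.Lib.RootSubgroups.SL2Ring

open Matrix

section map

variable {R S : Type*} [CommRing R] [CommRing S] (f : R →+* S)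

theorem map_apply (g : SLR R) (i j : Fin 2) :
    Matrix.SpecialLinearGroup.map f g i j = f (g i j) := rfl

theorem map_ux (t : R) : Matrix.SpecialLinearGroup.map f (ux t) = ux (f t) := by
  apply ext2 <;> simp [map_apply, ux]

theorem map_ly (t : R) : Matrix.SpecialLinearGroup.map f (ly t) = ly (f t) := by
  apply ext2 <;> simp [map_apply, ly]

/-- Exchanging the two basis vectors. -/
def swap : SLR R →* SLR R where
  toFun g := mk (g 1 1) (g 1 0) (g 0 1) (g 0 0) (by
    have h := det_eq g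
    linear_combination h)
  map_one' := by apply ext2 <;> simp
  map_mul' g h := by
    apply ext2 <;> simp only [mk_00, mk_01, mk_10, mk_11, mul_00, mul_01, mul_10, mul_11] <;> ring

theorem swap_ux (t : R) : swap (ux t) = ly t := by
  apply ext2 <;> simp [swap, ux, ly]

theorem swap_ly (t : R) : swap (ly t) = ux t := by
  apply ext2 <;> simp [swap, ux, ly]

theorem ux_pow (t : R) (n : ℕ) : ux t ^ n = ux ((n : R) * t) := by
  induction n with
  | zero => simp [ux_zero]
  | succ n ih => rw [pow_succ, ih, ← ux_add]; push_cast; ring_nf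

theorem ly_pow (t : R) (n : ℕ) : ly t ^ n = ly ((n : R) * t) := by
  induction n with
  | zero => simp [ly_zero]
  | succ n ih => rw [pow_succ, ih, ← ly_add]; push_cast; ring_nf

theorem ux_inj {s t : R} (h : ux s = ux t) : s = t := congrArg (fun g : SLR R => g 0 1) h

theorem ly_inj {s t : R} (h : ly s = ly t) : s = t := congrArg (fun g : SLR R => g 1 0) h

theorem commute_ux_iff {g : SLR R} (h : g * ux 1 = ux 1 * g) : g 1 0 = 0 ∧ g 0 0 = g 1 1 := by
  have h1 := congrArg (fun z : SLR R => z 0 0) h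
  have h2 := congrArg (fun z : SLR R => z 0 1) h
  simp [ux, mul_00, mul_01] at h1 h2
  refine ⟨h1, ?_⟩
  linear_combination h2

theorem eq_one_of_pow {p e : ℕ} (hp : Odd p) {a : R} (h2 : a * a = 1) (h : a ^ p ^ e = 1) :
    a = 1 := by
  obtain ⟨m, hm⟩ := hp.pow (n := e)
  rwa [hm, pow_succ, pow_mul, pow_two, h2, one_pow, one_mul] at h

theorem tri_pow_00 {g : SLR R} (h : g 1 0 = 0) (n : ℕ) :
    (g ^ n) 1 0 = 0 ∧ (g ^ n) 0 0 = g 0 0 ^ n := by
  induction n with
  | zero => simp
  | succ n ih =>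
    rw [pow_succ, mul_10, mul_00, ih.1, ih.2, h]
    simp [pow_succ]

/-- A `p`-element commuting with `ux 1` is upper unitriangular. -/
theorem eq_ux_of_commute {p e : ℕ} (hp : Odd p) {g : SLR R} (h : g * ux 1 = ux 1 * g)
    (hg : g ^ p ^ e = 1) : g = ux (g 0 1) := by
  obtain ⟨h10, hd⟩ := commute_ux_iff h
  have hdet := det_eq g
  rw [h10, mul_zero, sub_zero, ← hd] at hdet
  have h1 : g 0 0 = 1 := eq_one_of_pow hp hdet (e := e) (by
    rw [← (tri_pow_00 h10 _).2, hg]; simp)
  apply ext2 <;> simp [ux, h1, h10, ← hd]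

/-- A unipotent element has `p`-power order. -/
theorem pow_eq_one_of_trace (p : ℕ) [Fact p.Prime] [CharP R p] {g : SLR R}
    (hg : IsNilpotent (g 0 0 + g 1 1 - 2)) : ∃ e, g ^ p ^ e = 1 := by
  set M : Matrix (Fin 2) (Fin 2) R := (g : Matrix (Fin 2) (Fin 2) R)
  have hsq : (M - 1) * (M - 1) = (g 0 0 + g 1 1 - 2) • M := by
    have h := det_eq g
    ext i j
    fin_cases i <;> fin_cases j <;>
      simp [M, Matrix.mul_apply, Fin.sum_univ_two]
    · linear_combination -h
    · ring
    · ring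
    · linear_combination -h
  obtain ⟨N, hN⟩ := hg
  obtain ⟨e, he⟩ : ∃ e, 2 * N ≤ p ^ e := ⟨2 * N, (Nat.lt_pow_self (Fact.out : p.Prime).one_lt).le⟩
  refine ⟨e, Subtype.ext ?_⟩
  have h0 : (M - 1) ^ p ^ e = 0 := by
    refine pow_eq_zero_of_le he ?_
    rw [pow_mul, pow_two, hsq, smul_pow, hN, zero_smul]
  rw [Matrix.SpecialLinearGroup.coe_pow, Matrix.SpecialLinearGroup.coe_one]
  show M ^ p ^ e = 1
  rw [show M = (M - 1) + 1 by rw [sub_add_cancel],
    add_pow_char_pow_of_commute (p := p) (h := Commute.one_right (M - 1)), h0, one_pow, zero_add]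

end map

/-! ### Fields -/

section field

variable {L : Type*} [Field L]

theorem mem_of_all {H : Subgroup (SLR L)} (hu : ∀ t, ux t ∈ H) (hl : ∀ t, ly t ∈ H) (g : SLR L) :
    g ∈ H := by
  have key : ∀ g : SLR L, g 1 0 ≠ 0 → g ∈ H := by
    intro g hc
    have h := det_eq g
    have e : g = ux ((g 0 0 - 1) / g 1 0) * ly (g 1 0) * ux ((g 1 1 - 1) / g 1 0) := by
      have hα : g 1 0 * ((g 0 0 - 1) / g 1 0) = g 0 0 - 1 := mul_div_cancel₀ _ hc
      have hβ : g 1 0 * ((g 1 1 - 1) / g 1 0) = g 1 1 - 1 := mul_div_cancel₀ _ hc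
      generalize (g 0 0 - 1) / g 1 0 = α at hα ⊢
      generalize (g 1 1 - 1) / g 1 0 = β at hβ ⊢
      apply ext2 <;> simp only [ux, ly, mk_00, mk_01, mk_10, mk_11, mul_00, mul_01, mul_10, mul_11]
      · linear_combination -hα
      · apply mul_left_cancel₀ hc
        linear_combination -h - hα - (1 + g 1 0 * α) * hβ - (g 1 1 - 1) * hα
      · ring
      · linear_combination -hβ
    rw [e]
    exact mul_mem (mul_mem (hu _) (hl _)) (hu _)
  by_cases hc : g 1 0 = 0
  · have ha : g 0 0 ≠ 0 := fun h0 => by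
      have h := det_eq g
      rw [h0, hc] at h
      simp at h
    have h1 : ((ly 1 * g : SLR L)) 1 0 ≠ 0 := by simpa [ly, mul_10, hc] using ha
    have e : g = (ly 1)⁻¹ * (ly 1 * g) := by rw [inv_mul_cancel_left]
    rw [e]
    exact mul_mem (inv_mem (hl 1)) (key _ h1)
  · exact key g hc

variable {N : Subgroup (SLR L)}

/-- A lower triangular non-scalar element of a normal subgroup gives a lower unitriangular one. -/
theorem exists_ly_of_tri (hN : N.Normal) (h2 : (2 : L) ≠ 0) {M : SLR L} (hM : M ∈ N)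
    (h01 : M 0 1 = 0) (hne : M 0 0 * M 0 0 ≠ 1 ∨ M 1 0 ≠ 0) : ∃ t, t ≠ 0 ∧ ly t ∈ N := by
  have hd := det_eq M
  rw [h01, zero_mul, sub_zero] at hd
  by_cases ha : M 0 0 * M 0 0 = 1
  · have hc : M 1 0 ≠ 0 := hne.resolve_left (not_not.2 ha)
    have hda : M 1 1 = M 0 0 := mul_left_cancel₀ (left_ne_zero_of_mul_eq_one hd) (hd.trans ha.symm)
    refine ⟨2 * M 0 0 * M 1 0,
      mul_ne_zero (mul_ne_zero h2 (left_ne_zero_of_mul_eq_one hd)) hc, ?_⟩
    have e : M * M = ly (2 * M 0 0 * M 1 0) := by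
      apply ext2 <;> simp [ly, mul_00, mul_01, mul_10, mul_11, h01, hda, ha]
      ring
    rw [← e]
    exact mul_mem hM hM
  · refine ⟨M 1 1 * M 1 1 - 1, fun h => ha ?_, ?_⟩
    · have h' : M 1 1 * M 1 1 = 1 := sub_eq_zero.1 h
      linear_combination (M 1 1 * M 0 0 + 1) * hd - M 0 0 * M 0 0 * h'
    · have e : M * ly 1 * M⁻¹ * (ly 1)⁻¹ = ly (M 1 1 * M 1 1 - 1) := by
        rw [← ly_neg]
        apply ext2 <;>
          simp only [ly, mk_00, mk_01, mk_10, mk_11, mul_00, mul_01, mul_10, mul_11, inv_00, inv_01,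
            inv_10, inv_11, h01]
        · linear_combination hd
        · ring
        · linear_combination -hd
        · linear_combination hd
      rw [← e]
      have hc := hN.conj_mem M⁻¹ (inv_mem hM) (ly 1)
      have := mul_mem hM hc
      simpa [mul_assoc] using this

/-- A normal subgroup of `SL₂` without unitriangular elements is scalar. -/
theorem normal_scalar (hN : N.Normal) (h2 : (2 : L) ≠ 0)
    (hsq : ∀ u : L, ∃ t : L, t ≠ 0 ∧ t * t ≠ u) (hno : ∀ t, ly t ∈ N → t = 0) {n : SLR L}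
    (hn : n ∈ N) : n 1 0 = 0 ∧ n 0 1 = 0 ∧ n 0 0 = n 1 1 := by
  have tri : ∀ M ∈ N, M 0 1 = 0 → M 0 0 * M 0 0 = 1 ∧ M 1 0 = 0 := by
    intro M hM h01
    by_contra h
    obtain ⟨t, ht, htN⟩ := exists_ly_of_tri hN h2 hM h01 (by tauto)
    exact ht (hno t htN)
  -- all members are lower triangular
  have h01 : ∀ n ∈ N, n 0 1 = 0 := by
    intro n hn
    by_contra hb
    -- a member with non-zero upper entry and non-zero trace
    obtain ⟨t, ht, htne⟩ := hsq (-2 / (n 0 1 * n 0 1))
    set m := n * ly t * n⁻¹ * (ly t)⁻¹ with hm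
    have hmN : m ∈ N := by
      have := mul_mem hn (hN.conj_mem n⁻¹ (inv_mem hn) (ly t))
      simpa [hm, mul_assoc] using this
    have hm01 : m 0 1 = -(n 0 1 * n 0 1 * t) := by
      simp only [hm, ly, mk_00, mk_01, mk_10, mk_11, mul_00, mul_01, inv_00, inv_01, inv_10, inv_11]
      ring
    have hmtr : m 0 0 + m 1 1 = 2 + n 0 1 * n 0 1 * (t * t) := by
      simp only [hm, ly, mk_00, mk_01, mk_10, mk_11, mul_00, mul_01, mul_10, mul_11, inv_00, inv_01,
        inv_10, inv_11]
      linear_combination 2 * det_eq n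
    have hmb : m 0 1 ≠ 0 := by
      rw [hm01, neg_ne_zero]; exact mul_ne_zero (mul_ne_zero hb hb) ht
    have hmt : m 0 0 + m 1 1 ≠ 0 := by
      rw [hmtr]
      intro h
      apply htne
      field_simp
      linear_combination h
    -- conjugate it to kill the lower right entry
    set r := -(m 1 1) / m 0 1 with hr
    set q := ly r * m * (ly r)⁻¹ with hq
    have hqN : q ∈ N := hN.conj_mem m hmN _
    have hq01 : q 0 1 = m 0 1 := by
      simp [hq, ly, mul_00, mul_01, mul_10, mul_11, inv_00, inv_01, inv_10, inv_11]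
    have hq11 : q 1 1 = 0 := by
      simp [hq, ly, mul_00, mul_01, mul_10, mul_11, inv_00, inv_01, inv_10, inv_11, hr]
      field_simp
      ring
    have hq00 : q 0 0 = m 0 0 + m 1 1 := by
      simp [hq, ly, mul_00, mul_01, mul_10, mul_11, inv_00, inv_01, inv_10, inv_11, hr]
      field_simp
    -- commutator with a diagonal element
    obtain ⟨s, hs, hs1⟩ := hsq 1
    set h := mk s 0 0 s⁻¹ (by rw [mul_inv_cancel₀ hs]; ring) with hh
    set M := h * q * h⁻¹ * q⁻¹ with hMdef
    have hMN : M ∈ N := mul_mem (hN.conj_mem q hqN h) (inv_mem hqN)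
    have hd := det_eq q
    rw [hq11, mul_zero, zero_sub] at hd
    have e00 : M 0 0 = s * s := by
      simp only [hMdef, hh, mk_00, mk_01, mk_10, mk_11, mul_00, mul_01, inv_00, inv_01, inv_10,
        inv_11, hq11]
      linear_combination (s * s) * hd
    have e01 : M 0 1 = q 0 0 * q 0 1 * (s * s - 1) := by
      simp only [hMdef, hh, mk_00, mk_01, mk_10, mk_11, mul_00, mul_01, inv_00, inv_01, inv_10,
        inv_11, hq11]
      field_simp
      ring
    -- `M` is upper triangular: exchange the roles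
    have e10 : M 1 0 = 0 := by
      simp only [hMdef, hh, mk_00, mk_01, mk_10, mk_11, mul_10, mul_11, inv_00, inv_01, inv_10,
        inv_11, hq11]
      ring
    set W : SLR L := mk 0 1 (-1) 0 (by ring) with hW
    have hM' : W * M * W⁻¹ ∈ N := hN.conj_mem M hMN W
    have f01 : (W * M * W⁻¹) 0 1 = 0 := by
      simp [hW, mul_00, mul_01, mul_10, mul_11, inv_01, inv_11, e10]
    have f10 : (W * M * W⁻¹) 1 0 = -M 0 1 := by
      simp [hW, mul_00, mul_01, mul_10, mul_11, inv_00, inv_10]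
    have h0 := (tri _ hM' f01).2
    rw [f10, neg_eq_zero, e01, hq00, hq01] at h0
    simp only [mul_eq_zero, sub_eq_zero] at h0
    rcases h0 with (h0 | h0) | h0
    · exact hmt h0
    · exact hmb h0
    · exact hs1 h0
  have h := h01 n hn
  obtain ⟨ha, hc⟩ := tri n hn h
  have hd := det_eq n
  rw [h, zero_mul, sub_zero] at hd
  exact ⟨hc, h, mul_left_cancel₀ (left_ne_zero_of_mul_eq_one hd) (ha.trans hd.symm)⟩

variable {k : Type*} [Field k] [Algebra k L] {lam : L}

theorem span_invariant (h2 : (2 : L) ≠ 0) (F₀ : Subfield L) {f : L}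
    (hf : f ∈ F₀) (hsq : ∀ g ∈ F₀, g ≠ 0 → ∀ u ∈ upperSpace k lam, g * g * u ∈ upperSpace k lam)
    {u : L} (hu : u ∈ upperSpace k lam) (hk2 : (2 : k) ≠ 0) : f * u ∈ upperSpace k lam := by
  have all : ∀ g ∈ F₀, g * g * u ∈ upperSpace k lam := fun g hg => by
    rcases eq_or_ne g 0 with rfl | hg0
    · simp
    · exact hsq g hg hg0 u hu
  have h := sub_mem (sub_mem (all _ (add_mem (one_mem _) hf)) (all 1 (one_mem _))) (all f hf)
  have h' := Submodule.smul_mem _ (2 : k)⁻¹ h
  convert h' using 1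
  rw [Algebra.smul_def, map_inv₀, map_ofNat]
  field_simp
  ring

/-- Over a finite field the group is everything. -/
theorem full_of_finite_field [Finite k] [Finite L] (hk2 : (2 : k) ≠ 0) (hk3 : Nat.card k ≠ 3)
    (hgen : Algebra.adjoin k ({lam} : Set L) = ⊤) (hlam : lam ≠ 0) : gen k lam = ⊤ := by
  classical
  have h2 : (2 : L) ≠ 0 := by
    rw [← map_ofNat (algebraMap k L) 2]
    exact (map_ne_zero _).2 hk2
  -- a scalar avoiding the exceptional case
  obtain ⟨c, hc0, hc⟩ : ∃ c : k, c ≠ 0 ∧ (algebraMap k L c * lam) ^ 2 ≠ -1 := by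
    by_contra h
    push Not at h
    have h1 := h 1 one_ne_zero
    rw [map_one, one_mul] at h1
    have hall : ∀ c : k, c = 0 ∨ c = 1 ∨ c = -1 := by
      intro c
      by_cases hc0 : c = 0
      · exact Or.inl hc0
      · have h' := h c hc0
        rw [mul_pow, h1, mul_neg_one, neg_inj, ← map_pow, ← map_one (algebraMap k L),
          (algebraMap k L).injective.eq_iff] at h'
        rcases sq_eq_one_iff.1 h' with h'' | h''
        · exact Or.inr (Or.inl h'')
        · exact Or.inr (Or.inr h'')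
    have : Fintype k := Fintype.ofFinite k
    apply hk3
    rw [Nat.card_eq_fintype_card, ← Finset.card_univ]
    have hu : (Finset.univ : Finset k) = {0, 1, -1} := by
      ext x; simpa using hall x
    rw [hu, Finset.card_eq_three]
    exact ⟨0, 1, -1, zero_ne_one, (neg_ne_zero.2 one_ne_zero).symm,
      fun h => hk2 (by linear_combination h), rfl⟩
  set μ₀ := algebraMap k L c * lam with hμ₀
  set F₀ := Subfield.closure ({μ₀} : Set L) with hF₀
  let μ : F₀ := ⟨μ₀, Subfield.subset_closure rfl⟩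
  have : Fintype F₀ := Fintype.ofFinite F₀
  have hclo : Subfield.closure ({μ} : Set F₀) = ⊤ := by
    refine eq_top_iff.2 fun z _ => ?_
    have hz : (z : L) ∈ (Subfield.closure ({μ} : Set F₀)).map F₀.subtype := by
      rw [RingHom.map_field_closure, Set.image_singleton]
      exact z.2
    obtain ⟨z', hz', hzz⟩ := hz
    rwa [← (F₀.subtype.injective hzz)]
  have hμ : μ ≠ 0 := fun h => by
    have h' : μ₀ = 0 := congrArg Subtype.val h
    exact mul_ne_zero ((map_ne_zero _).2 hc0) hlam h'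
  have h20 : (2 : F₀) ≠ 0 := fun h => h2 (by
    have h' := congrArg F₀.subtype h
    rwa [map_ofNat, map_zero] at h')
  have hexc : ¬ (Fintype.card F₀ = 9 ∧ μ ^ 2 = -1) := fun h => hc (by
    simpa [μ] using congrArg Subtype.val h.2)
  have htop : Subgroup.closure {g : Matrix.SpecialLinearGroup (Fin 2) F₀ |
      (g : Matrix (Fin 2) (Fin 2) F₀) = !![1, 0; 1, 1] ∨
      (g : Matrix (Fin 2) (Fin 2) F₀) = !![1, μ; 0, 1]} = ⊤ := by
    rcases Cfsg.Agent.S0801.result h20 μ hμ hclo with h | h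
    · exact h.1
    · exact absurd ⟨h.1, h.2.1⟩ hexc
  set φ : SLR F₀ →* SLR L := swap.comp (Matrix.SpecialLinearGroup.map F₀.subtype)
  have hφ : ∀ g, φ g ∈ gen k lam := by
    intro g
    have hg : g ∈ (gen k lam).comap φ := by
      have : (⊤ : Subgroup (SLR F₀)) ≤ (gen k lam).comap φ := by
        rw [← htop, Subgroup.closure_le]
        rintro g (hg | hg)
        · rw [show g = ly 1 from Subtype.ext hg, SetLike.mem_coe, Subgroup.mem_comap,
            MonoidHom.comp_apply, map_ly, swap_ly, map_one]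
          simpa using ux_mem (lam := lam) (1 : k)
        · rw [show g = ux μ from Subtype.ext hg, SetLike.mem_coe, Subgroup.mem_comap,
            MonoidHom.comp_apply, map_ux, swap_ux]
          exact ly_mem c
      exact this (Subgroup.mem_top g)
    exact hg
  have hu₀ : ∀ f ∈ F₀, ux f ∈ gen k lam := fun f hf => by
    have := hφ (ly ⟨f, hf⟩)
    rwa [MonoidHom.comp_apply, map_ly, swap_ly] at this
  have hl₀ : ∀ f ∈ F₀, ly f ∈ gen k lam := fun f hf => by
    have := hφ (ux ⟨f, hf⟩)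
    rwa [MonoidHom.comp_apply, map_ux, swap_ux] at this
  -- Weyl elements
  have weyl : ∀ f ∈ F₀, f ≠ 0 → ∃ g ∈ gen k lam, g 1 1 = 0 ∧ g 0 1 = f := by
    intro f hf hf0
    refine ⟨ux f * ly (-f⁻¹) * ux f,
      mul_mem (mul_mem (hu₀ f hf) (hl₀ _ (neg_mem (inv_mem hf)))) (hu₀ f hf), ?_, ?_⟩
    · simp [ux, ly, mul_10, mul_11, hf0]
    · simp [ux, ly, mul_00, mul_01, hf0]
  obtain ⟨w, hw, hw11, hw01⟩ := weyl 1 (one_mem _) one_ne_zero
  have hsq : ∀ g ∈ F₀, g ≠ 0 → ∀ u ∈ upperSpace k lam, g * g * u ∈ upperSpace k lam := by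
    intro g hg hg0 u hu
    obtain ⟨w', hw', h11, h01⟩ := weyl g hg hg0
    obtain ⟨h10, h00⟩ := tri_of_antidiag h11 hw11
    have := upperSpace_tri (mul_mem hw' (inv_mem hw)) h10 hu
    rw [hw01, one_mul, h01] at h00
    rwa [h00] at this
  have hclosed : ∀ u ∈ upperSpace k lam, lam * u ∈ upperSpace k lam := by
    intro u hu
    have h := span_invariant h2 F₀ (Subfield.subset_closure (s := ({μ₀} : Set L)) rfl) hsq hu hk2
    have h' := Submodule.smul_mem _ c⁻¹ h
    convert h' using 1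
    rw [Algebra.smul_def, hμ₀, map_inv₀]
    field_simp [(map_ne_zero (algebraMap k L)).2 hc0]
  have hU : ∀ x : L, x ∈ upperSpace k lam := by
    intro x
    have hx : x ∈ Algebra.adjoin k ({lam} : Set L) := hgen ▸ Algebra.mem_top
    suffices ∀ u ∈ upperSpace k lam, x * u ∈ upperSpace k lam by
      simpa using this 1 one_mem_upperSpace
    induction hx using Algebra.adjoin_induction with
    | mem y hy => rw [Set.mem_singleton_iff.1 hy]; exact hclosed
    | algebraMap r =>
      intro u hu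
      rw [← Algebra.smul_def]
      exact Submodule.smul_mem _ _ hu
    | add y z _ _ hy hz => intro u hu; rw [add_mul]; exact add_mem (hy u hu) (hz u hu)
    | mul y z _ _ hy hz => intro u hu; rw [mul_assoc]; exact hy _ (hz u hu)
  rw [Subgroup.eq_top_iff']
  exact mem_of_all hU fun v => ly_mem_of_antidiag hw hw11 (hU _)

end field

/-! ### No nonzero non-unit among the upper entries -/

section reduction

variable {R : Type*} [CommRing R] {k : Type*} [Field k] [Algebra k R] {lam : R}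

theorem symm_mem (hlam : IsUnit lam) {g : SLR R} (hg : g ∈ gen k lam) :
    scale hlam.unit⁻¹ (swap g) ∈ gen k lam := by
  have h : gen k lam ≤ (gen k lam).comap ((scale hlam.unit⁻¹).comp swap) := by
    rw [gen, Subgroup.closure_le]
    rintro _ (⟨c, rfl⟩ | ⟨c, rfl⟩)
    · rw [SetLike.mem_coe, Subgroup.mem_comap, MonoidHom.comp_apply, swap_ux, scale_ly, inv_inv,
        IsUnit.unit_spec, mul_comm]
      exact ly_mem c
    · rw [SetLike.mem_coe, Subgroup.mem_comap, MonoidHom.comp_apply, swap_ly, scale_ux]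
      have e : ((hlam.unit⁻¹ : Rˣ) : R) * (algebraMap k R c * lam) = algebraMap k R c := by
        rw [mul_left_comm, IsUnit.val_inv_mul, mul_one]
      rw [e]
      exact ux_mem c
  exact h hg

theorem char_of_finite [Finite k] (hk2 : (2 : k) ≠ 0) [Nontrivial R] :
    ∃ p, p.Prime ∧ Odd p ∧ CharP k p ∧ CharP R p := by
  obtain ⟨p, hpk⟩ := CharP.exists k
  have hp : p.Prime := (CharP.char_is_prime_or_zero k p).resolve_right (by
    rintro rfl
    have := CharP.charP_to_charZero k
    exact not_finite k)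
  refine ⟨p, hp, hp.odd_of_ne_two fun h => hk2 ?_, hpk,
    charP_of_injective_algebraMap (algebraMap k R).injective p⟩
  subst h
  exact CharP.cast_eq_zero k 2

theorem residue_full [Finite R] [Finite k] (hk2 : (2 : k) ≠ 0) (hk3 : Nat.card k ≠ 3)
    (hgen : Algebra.adjoin k ({lam} : Set R) = ⊤) (hlam : IsUnit lam) (m : Ideal R)
    (hm : m.IsMaximal) (s : SLR (R ⧸ m)) :
    ∃ g ∈ gen k lam, Matrix.SpecialLinearGroup.map (Ideal.Quotient.mk m) g = s := by
  letI := Ideal.Quotient.field m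
  have : Finite (R ⧸ m) := Finite.of_surjective _ Ideal.Quotient.mk_surjective
  have hgen' : Algebra.adjoin k ({Ideal.Quotient.mk m lam} : Set (R ⧸ m)) = ⊤ := by
    have h := congrArg (fun S => S.map (Ideal.Quotient.mkₐ k m)) hgen
    simp only [AlgHom.map_adjoin, Set.image_singleton, Algebra.map_top] at h
    rw [(AlgHom.range_eq_top _).2 (Ideal.Quotient.mkₐ_surjective k m)] at h
    exact h
  have hle : gen k (Ideal.Quotient.mk m lam) ≤
      (gen k lam).map (Matrix.SpecialLinearGroup.map (Ideal.Quotient.mk m)) := by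
    rw [gen, Subgroup.closure_le]
    rintro _ (⟨c, rfl⟩ | ⟨c, rfl⟩)
    · exact ⟨ux (algebraMap k R c), ux_mem c, by rw [map_ux]; rfl⟩
    · exact ⟨ly (algebraMap k R c * lam), ly_mem c, by rw [map_ly, map_mul]; rfl⟩
  obtain ⟨g, hg, hgs⟩ := hle (full_of_finite_field hk2 hk3 hgen' (hlam.map _).ne_zero ▸
    Subgroup.mem_top s)
  exact ⟨g, hg, hgs⟩

/-- Reduction of the group modulo an ideal. -/
def resMap (k : Type*) [Field k] [Algebra k R] (lam : R) (m : Ideal R) :
    ↥(gen k lam) →* SLR (R ⧸ m) :=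
  (Matrix.SpecialLinearGroup.map (Ideal.Quotient.mk m)).comp (gen k lam).subtype

theorem resMap_apply (m : Ideal R) (h : ↥(gen k lam)) :
    resMap k lam m h = Matrix.SpecialLinearGroup.map (Ideal.Quotient.mk m) (h : SLR R) := rfl

variable [Finite R] [Nontrivial R] [Finite k]

variable {p : ℕ} [Fact p.Prime] [CharP R p] {m : Ideal R}

omit [Finite k] in
theorem ker_no_p (hk2 : (2 : k) ≠ 0) (hm : m.IsMaximal)
    (hU : ∀ r ∈ upperSpace k lam, r ≠ 0 → IsUnit r) :
    ∀ y ∈ (resMap k lam m).ker, y ^ p = 1 → y = 1 := by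
  have hp : p.Prime := Fact.out
  have hodd : Odd p := hp.odd_of_ne_two fun h => hk2 (by
    subst h
    apply (algebraMap k R).injective
    rw [map_ofNat, map_zero]
    exact_mod_cast CharP.cast_eq_zero R 2)
  have hx : ux (1 : R) ∈ gen k lam := by simpa using ux_mem (lam := lam) (1 : k)
  set π := resMap k lam m
  have hπ' := resMap_apply (k := k) (lam := lam) m
  set x : ↥(gen k lam) := ⟨ux 1, hx⟩
  have hxp : x ^ p = 1 := Subtype.ext (by
    rw [Subgroup.coe_pow, ux_pow, CharP.cast_eq_zero, zero_mul, ux_zero]; rfl)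
  intro y hy hyp
  by_contra hy1
  have hyP : IsPGroup p (Subgroup.zpowers y) :=
    IsPGroup.of_card (n := 1) (by rw [Nat.card_zpowers, orderOf_eq_prime hyp hy1, pow_one])
  have hxne : x ≠ 1 := fun h => one_ne_zero (ux_inj ((congrArg Subtype.val h).trans ux_zero.symm))
  have hxP : IsPGroup p (Subgroup.zpowers x) :=
    IsPGroup.of_card (n := 1) (by rw [Nat.card_zpowers, orderOf_eq_prime hxp hxne, pow_one])
  obtain ⟨P, hP⟩ := hxP.exists_le_sylow
  obtain ⟨Q, hQ⟩ := hyP.exists_le_sylow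
  obtain ⟨v, hv⟩ := MulAction.exists_smul_eq (↥(gen k lam)) Q P
  have hyP' : v * y * v⁻¹ ∈ (P : Subgroup ↥(gen k lam)) := by
    rw [← hv, Sylow.coe_subgroup_smul, Subgroup.mem_pointwise_smul_iff_inv_smul_mem]
    simpa [MulAut.smul_def, mul_assoc] using hQ (Subgroup.mem_zpowers y)
  have hyK : v * y * v⁻¹ ∈ π.ker := π.normal_ker.conj_mem y hy v
  have : Group.IsNilpotent (P : Subgroup ↥(gen k lam)) := P.2.isNilpotent
  have : (π.ker.subgroupOf (P : Subgroup ↥(gen k lam))).Normal := π.normal_ker.subgroupOf _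
  have hne : π.ker.subgroupOf (P : Subgroup ↥(gen k lam)) ≠ ⊥ := fun h => hy1 (by
    have : (⟨_, hyP'⟩ : (P : Subgroup ↥(gen k lam))) ∈ π.ker.subgroupOf (P : Subgroup ↥(gen k lam)) := hyK
    rw [h, Subgroup.mem_bot] at this
    have := congrArg Subtype.val this
    simpa using this)
  obtain ⟨z, hz, hz1⟩ := (Subgroup.bot_or_exists_ne_one _).resolve_left
    (Nilp.inf_center_ne_bot_of_normal hne)
  have hzc : z * ⟨x, hP (Subgroup.mem_zpowers x)⟩ = ⟨x, hP (Subgroup.mem_zpowers x)⟩ * z :=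
    (Subgroup.mem_center_iff.1 hz.2 _).symm
  obtain ⟨e, he⟩ := P.2 z
  have hb := eq_ux_of_commute (g := ((z : ↥(gen k lam)) : SLR R)) hodd
    (congrArg (fun w : (P : Subgroup ↥(gen k lam)) => ((w : ↥(gen k lam)) : SLR R)) hzc) (e := e)
    (by simpa using congrArg (fun w : (P : Subgroup ↥(gen k lam)) => ((w : ↥(gen k lam)) : SLR R)) he)
  set b := ((z : ↥(gen k lam)) : SLR R) 0 1 with hbdef
  have hbU : b ∈ upperSpace k lam := by
    show ux b ∈ gen k lam
    rw [← hb]; exact (z : ↥(gen k lam)).2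
  have hb0 : b ≠ 0 := fun h => hz1 (Subtype.ext (Subtype.ext (by rw [hb, h, ux_zero]; rfl)))
  have hbm : b ∈ m := by
    rw [← Ideal.Quotient.eq_zero_iff_mem]
    have h1 : π (z : ↥(gen k lam)) = 1 := hz.1
    rw [hπ', hb, map_ux, ← ux_zero] at h1
    exact ux_inj h1
  exact hm.ne_top (Ideal.eq_top_of_isUnit_mem _ hbm (hU b hbU hb0))

omit [Finite k] in
theorem ker_no_p_pow (hk2 : (2 : k) ≠ 0) (hm : m.IsMaximal)
    (hU : ∀ r ∈ upperSpace k lam, r ≠ 0 → IsUnit r) :
    ∀ y ∈ (resMap k lam m).ker, ∀ e, y ^ p ^ e = 1 → y = 1 := by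
  intro y hy e
  induction e generalizing y with
  | zero => simp
  | succ e ih =>
    intro h
    rw [pow_succ', pow_mul] at h
    exact ker_no_p hk2 hm hU y hy (ih _ (pow_mem hy p) h)

theorem ker_central (hk2 : (2 : k) ≠ 0) (hk3 : Nat.card k ≠ 3)
    (hgen : Algebra.adjoin k ({lam} : Set R) = ⊤) (hlam : IsUnit lam) (hm : m.IsMaximal)
    (hU : ∀ r ∈ upperSpace k lam, r ≠ 0 → IsUnit r) :
    ∀ y ∈ (resMap k lam m).ker, ∀ h : ↥(gen k lam), y * h = h * y := by
  obtain ⟨p, hp, hodd, hpk, hcR⟩ := char_of_finite (R := R) hk2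
  have : Fact p.Prime := ⟨hp⟩
  set π := resMap k lam m
  intro y hy h
  set c := y * h * y⁻¹ * h⁻¹ with hc
  have hcK : c ∈ π.ker := by
    have := mul_mem hy (π.normal_ker.conj_mem y⁻¹ (inv_mem hy) h)
    simpa [hc, mul_assoc] using this
  have hnil : IsNilpotent ((c : SLR R) 0 0 + (c : SLR R) 1 1 - 2) := by
    rw [nilpotent_iff_mem_prime]
    intro q hq
    have := hq
    have hqm : q.IsMaximal := IsArtinianRing.isMaximal_of_isPrime q
    letI := Ideal.Quotient.field q
    set ψ := Matrix.SpecialLinearGroup.map (n := Fin 2) (Ideal.Quotient.mk q)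
    set N : Subgroup (SLR (R ⧸ q)) := π.ker.map (ψ.comp (gen k lam).subtype) with hN
    have hNn : N.Normal := π.normal_ker.map (ψ.comp (gen k lam).subtype) fun s => by
      obtain ⟨g, hg, hgs⟩ := residue_full hk2 hk3 hgen hlam q hqm s
      exact ⟨⟨g, hg⟩, hgs⟩
    have hno : ∀ t, ly t ∈ N → t = 0 := by
      intro t ht
      obtain ⟨n', hn', hnt⟩ := ht
      -- the order of `n'` is prime to `p`
      have hcop : ¬ p ∣ orderOf n' := by
        intro hdvd
        have h1 := ker_no_p hk2 hm hU (n' ^ (orderOf n' / p)) (pow_mem hn' _)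
          (by rw [← pow_mul, Nat.div_mul_cancel hdvd, pow_orderOf_eq_one])
        have h2 := orderOf_dvd_of_pow_eq_one h1
        have h3 := Nat.le_of_dvd (Nat.div_pos (Nat.le_of_dvd (orderOf_pos n') hdvd) hp.pos) h2
        have h4 := Nat.div_lt_self (orderOf_pos n') hp.one_lt
        omega
      have : CharP (R ⧸ q) p := charP_of_injective_algebraMap (algebraMap k (R ⧸ q)).injective p
      have h5 : orderOf (ly t) ∣ p := orderOf_dvd_of_pow_eq_one (by
        rw [ly_pow, CharP.cast_eq_zero, zero_mul, ly_zero])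
      have h6 : orderOf (ly t) ∣ orderOf n' := by
        rw [← hnt]
        exact orderOf_map_dvd (ψ.comp (gen k lam).subtype) n'
      rcases (Nat.dvd_prime hp).1 h5 with h7 | h7
      · exact ly_inj ((orderOf_eq_one_iff.1 h7).trans ly_zero.symm)
      · exact absurd (h7 ▸ h6) hcop
    have h2q : (2 : R ⧸ q) ≠ 0 := by
      rw [← map_ofNat (algebraMap k (R ⧸ q)) 2]
      exact (map_ne_zero _).2 hk2
    have hsq : ∀ u : R ⧸ q, ∃ t : R ⧸ q, t ≠ 0 ∧ t * t ≠ u := by
      intro u
      by_contra hh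
      push Not at hh
      have h1 := hh 1 one_ne_zero
      have : Fintype k := Fintype.ofFinite k
      have hall : ∀ c : k, c = 0 ∨ c = 1 ∨ c = -1 := by
        intro c
        by_cases hc0 : c = 0
        · exact Or.inl hc0
        · have h' := hh (algebraMap k (R ⧸ q) c) ((map_ne_zero _).2 hc0)
          rw [← h1, mul_one, ← map_mul, ← map_one (algebraMap k (R ⧸ q)),
            (algebraMap k (R ⧸ q)).injective.eq_iff] at h'
          exact Or.inr (mul_self_eq_one_iff.1 h')
      classical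
      apply hk3
      rw [Nat.card_eq_fintype_card, ← Finset.card_univ]
      have hu : (Finset.univ : Finset k) = {0, 1, -1} := by
        ext z; simpa using hall z
      rw [hu, Finset.card_eq_three]
      exact ⟨0, 1, -1, zero_ne_one, (neg_ne_zero.2 one_ne_zero).symm,
        fun h => hk2 (by linear_combination h), rfl⟩
    obtain ⟨e1, e2, e3⟩ :=
      normal_scalar hNn h2q hsq hno (n := ψ (y : SLR R)) ⟨y, hy, rfl⟩
    have hcomm : ψ (c : SLR R) = 1 := by
      have hh : ψ (y : SLR R) * ψ (h : SLR R) = ψ (h : SLR R) * ψ (y : SLR R) := by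
        apply ext2 <;> simp only [mul_00, mul_01, mul_10, mul_11, e1, e2, e3] <;> ring
      simp only [hc, Subgroup.coe_mul, Subgroup.coe_inv, map_mul, map_inv, hh]
      group
    have h00 := congrArg (fun z : SLR (R ⧸ q) => z 0 0) hcomm
    have h11 := congrArg (fun z : SLR (R ⧸ q) => z 1 1) hcomm
    simp only [ψ, map_apply] at h00 h11
    rw [← Ideal.Quotient.eq_zero_iff_mem, map_sub, map_add, h00, h11, map_ofNat]
    simp
    ring
  obtain ⟨e, he⟩ := pow_eq_one_of_trace p hnil
  have := ker_no_p_pow hk2 hm hU c hcK e (Subtype.ext (by simpa using he))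
  exact mul_inv_eq_one.1 (by rw [← this, hc]; group)

theorem lift_comm (hk2 : (2 : k) ≠ 0) (hk3 : Nat.card k ≠ 3)
    (hgen : Algebra.adjoin k ({lam} : Set R) = ⊤) (hlam : IsUnit lam) (hm : m.IsMaximal)
    (hU : ∀ r ∈ upperSpace k lam, r ≠ 0 → IsUnit r) :
    ∀ {y z : ↥(gen k lam)}, y ^ p = 1 →
      resMap k lam m y * resMap k lam m z = resMap k lam m z * resMap k lam m y → y * z = z * y := by
  set π := resMap k lam m
  intro y z hy hyz
  have hc : z * y * z⁻¹ * y⁻¹ ∈ π.ker := by
    rw [MonoidHom.mem_ker, map_mul, map_mul, map_mul, map_inv, map_inv, ← hyz]; group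
  have e : z * y * z⁻¹ = (z * y * z⁻¹ * y⁻¹) * y := by group
  have h1 : (z * y * z⁻¹ * y⁻¹) ^ p = 1 := by
    have h2 : (z * y * z⁻¹) ^ p = 1 := by rw [← MulAut.conj_apply, ← map_pow, hy, map_one]
    rwa [e, (Commute.mul_pow (ker_central hk2 hk3 hgen hlam hm hU _ hc y)), hy, mul_one] at h2
  have h3 := ker_no_p hk2 hm hU _ hc h1
  exact ((mul_inv_eq_iff_eq_mul.1 (mul_inv_eq_one.1 h3)).symm)

theorem residue_surj (hk2 : (2 : k) ≠ 0) (hk3 : Nat.card k ≠ 3)
    (hgen : Algebra.adjoin k ({lam} : Set R) = ⊤) (hlam : IsUnit lam) (hm : m.IsMaximal)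
    (hU : ∀ r ∈ upperSpace k lam, r ≠ 0 → IsUnit r) :
    ∀ l : R ⧸ m, ∃ u ∈ upperSpace k lam, Ideal.Quotient.mk m u = l := by
  obtain ⟨p, hp, hodd, hpk, hcR⟩ := char_of_finite (R := R) hk2
  have : Fact p.Prime := ⟨hp⟩
  have hx : ux (1 : R) ∈ gen k lam := by simpa using ux_mem (lam := lam) (1 : k)
  set π := resMap k lam m
  have hπ' := resMap_apply (k := k) (lam := lam) m
  intro l
  have : CharP (R ⧸ m) p := by
    letI := Ideal.Quotient.field m
    exact charP_of_injective_algebraMap (algebraMap k (R ⧸ m)).injective p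
  obtain ⟨g, hg, hgl⟩ := residue_full hk2 hk3 hgen hlam m hm (ux l)
  set h : ↥(gen k lam) := ⟨g, hg⟩
  have hhp : h ^ p ∈ π.ker := by
    rw [MonoidHom.mem_ker, map_pow, hπ', hgl, ux_pow, CharP.cast_eq_zero, zero_mul, ux_zero]
  -- the part of order `p`
  set d := orderOf (h ^ p)
  have hd : ¬ p ∣ d := by
    intro hdvd
    have h1 := ker_no_p hk2 hm hU _ (pow_mem hhp (d / p))
      (by rw [← pow_mul, Nat.div_mul_cancel hdvd, pow_orderOf_eq_one])
    have h2 := orderOf_dvd_of_pow_eq_one h1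
    have h3 := Nat.le_of_dvd (Nat.div_pos (Nat.le_of_dvd (orderOf_pos _) hdvd) hp.pos) h2
    have h4 := Nat.div_lt_self (orderOf_pos (h ^ p)) hp.one_lt
    omega
  obtain ⟨i, hi⟩ : ∃ i : ℕ, ((d * i : ℕ) : R ⧸ m) = 1 := by
    obtain ⟨i, -, hi⟩ := Nat.exists_mul_mod_eq_one_of_coprime
      ((hp.coprime_iff_not_dvd.2 hd).symm) hp.one_lt
    refine ⟨i, ?_⟩
    rw [← Nat.mod_add_div (d * i) p, hi, Nat.cast_add, Nat.cast_mul, CharP.cast_eq_zero (R ⧸ m) p,
      zero_mul, add_zero, Nat.cast_one]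
  set h' := h ^ (d * i)
  have hp' : h' ^ p = 1 := by
    rw [← pow_mul, mul_comm, ← mul_assoc, pow_mul, pow_mul, pow_orderOf_eq_one, one_pow]
  have hπh' : π h' = ux l := by
    rw [map_pow, hπ', hgl, ux_pow, hi, one_mul]
  have hcomm := lift_comm hk2 hk3 hgen hlam hm hU (z := ⟨ux 1, hx⟩) hp' (by
    rw [hπh', hπ', map_ux, ← ux_add, ← ux_add, add_comm])
  have hb := eq_ux_of_commute (g := (h' : SLR R)) hodd (congrArg Subtype.val hcomm) (e := 1)
    (by simpa using congrArg Subtype.val hp')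
  refine ⟨(h' : SLR R) 0 1, show ux _ ∈ gen k lam from hb ▸ h'.2, ux_inj ?_⟩
  rw [← map_ux, ← hb, ← hπ', hπh']

omit [Finite R] [Nontrivial R] [Finite k] [Fact p.Prime] in
theorem ly_lam_mem (hlam : IsUnit lam) {u : R} (hu : u ∈ upperSpace k lam) :
    ly (lam * u) ∈ gen k lam := by
  have h := symm_mem hlam hu
  rw [swap_ux, scale_ly, inv_inv, IsUnit.unit_spec] at h
  exact h

theorem weyl_conj (hk2 : (2 : k) ≠ 0) (hk3 : Nat.card k ≠ 3)
    (hgen : Algebra.adjoin k ({lam} : Set R) = ⊤) (hlam : IsUnit lam) (hm : m.IsMaximal)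
    (hU : ∀ r ∈ upperSpace k lam, r ≠ 0 → IsUnit r) {v₁ : R} (hv : ly v₁ ∈ gen k lam)
    (hv₁m : Ideal.Quotient.mk m v₁ = -1) {u : R} (hu : u ∈ upperSpace k lam) :
    (1 + v₁) * v₁ * u = 0 ∧ ly (-(v₁ * v₁ * u)) ∈ gen k lam := by
  obtain ⟨p, hp, hodd, hpk, hcR⟩ := char_of_finite (R := R) hk2
  have : Fact p.Prime := ⟨hp⟩
  set H := gen k lam with hH
  set π := resMap k lam m
  have hπ' := resMap_apply (k := k) (lam := lam) m
  have hx : ux (1 : R) ∈ gen k lam := by simpa using ux_mem (lam := lam) (1 : k)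
  set w : ↥H := ⟨ux 1 * ly v₁ * ux 1, mul_mem (mul_mem hx hv) hx⟩
  set y : ↥H := w * ⟨ux u, hu⟩ * w⁻¹
  have hyp : y ^ p = 1 := Subtype.ext (by
    rw [Subgroup.coe_pow]
    show ((w : SLR R) * ux u * (w : SLR R)⁻¹) ^ p = 1
    rw [← MulAut.conj_apply, ← map_pow, ux_pow, CharP.cast_eq_zero, zero_mul, ux_zero, map_one])
  have hz : ly lam ∈ H := by simpa using ly_mem (lam := lam) (1 : k)
  have hπw : π w = mk 0 1 (-1) 0 (by ring) := by
    rw [hπ']
    show Matrix.SpecialLinearGroup.map _ (ux 1 * ly v₁ * ux 1) = _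
    rw [map_mul, map_mul, map_ux, map_ly, map_one, hv₁m]
    apply ext2 <;> simp [ux, ly, mul_00, mul_01, mul_10, mul_11]
  have hcomm := lift_comm hk2 hk3 hgen hlam hm hU (z := (⟨ly lam, hz⟩ : ↥H)) hyp (by
    simp only [y, map_mul, map_inv]
    rw [show resMap k lam m w = _ from hπw, hπ', hπ', map_ux, map_ly]
    apply ext2 <;>
      simp [ux, ly, mul_00, mul_01, mul_10, mul_11, inv_00, inv_01, inv_10, inv_11] <;> ring)
  have hc' := congrArg Subtype.val hcomm
  have h01 := congrArg (fun z : SLR R => z 0 0) hc'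
  simp only [y, Subgroup.coe_mul, Subgroup.coe_inv, ly, ux, mk_00, mk_01, mk_10, mk_11, mul_00,
    mul_01, inv_00, inv_01, inv_10, inv_11] at h01
  have e01 : (w : SLR R) 0 0 * (w : SLR R) 0 0 * u = 0 := by
    apply hlam.mul_right_cancel
    linear_combination h01
  have h10 := congrArg (fun z : SLR R => z 1 0) hc'
  simp only [y, Subgroup.coe_mul, Subgroup.coe_inv, ly, ux, mk_00, mk_01, mk_10, mk_11, mul_00,
    mul_01, mul_10, mul_11, inv_00, inv_01, inv_10, inv_11] at h10
  have e2 : (2 : R) * ((w : SLR R) 0 0 * (w : SLR R) 1 0 * u) = 0 := by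
    apply hlam.mul_right_cancel
    linear_combination h10
  have h2R : IsUnit (2 : R) := by
    rw [← map_ofNat (algebraMap k R) 2]
    exact (isUnit_iff_ne_zero.2 hk2).map _
  have e3 := (IsUnit.mul_right_eq_zero h2R).1 e2
  have hw00 : (w : SLR R) 0 0 = 1 + v₁ := by simp [w, ux, ly, mul_00, mul_01, add_comm]
  have hw10 : (w : SLR R) 1 0 = v₁ := by simp [w, ux, ly, mul_10, mul_11]
  refine ⟨by rw [← hw00, ← hw10]; exact e3, ?_⟩
  rw [← hw10]
  have e : ly (-((w : SLR R) 1 0 * (w : SLR R) 1 0 * u)) = (y : SLR R) := by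
    have hd := det_eq (w : SLR R)
    simp only [y, Subgroup.coe_mul, Subgroup.coe_inv]
    apply ext2 <;>
      simp only [ly, ux, mk_00, mk_01, mk_10, mk_11, mul_00, mul_01, mul_10, mul_11, inv_00,
        inv_01, inv_10, inv_11]
    · linear_combination e3 - hd
    · linear_combination -e01
    · ring
    · linear_combination -e3 - hd
  rw [e]; exact y.2

/-- If no upper entry is a nonzero non-unit then `k[λ]` is a field. -/
theorem isField_of_no_nonunit (hk2 : (2 : k) ≠ 0) (hk3 : Nat.card k ≠ 3)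
    (hgen : Algebra.adjoin k ({lam} : Set R) = ⊤) (hlam : IsUnit lam)
    (hU : ∀ r ∈ upperSpace k lam, r ≠ 0 → IsUnit r) : IsField R := by
  obtain ⟨m, hm⟩ := Ideal.exists_maximal R
  obtain ⟨u₁, hu₁, hu₁m⟩ := residue_surj hk2 hk3 hgen hlam hm hU
    (-(Ideal.Quotient.mk m ↑hlam.unit⁻¹))
  set v₁ := lam * u₁ with hv₁
  have hv₁m : Ideal.Quotient.mk m v₁ = -1 := by
    rw [map_mul, hu₁m, mul_neg, ← map_mul, IsUnit.mul_val_inv, map_one]
  have hwl : ∀ u ∈ upperSpace k lam, (1 + v₁) * v₁ * u = 0 ∧ ly (-(v₁ * v₁ * u)) ∈ gen k lam :=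
    fun u hu => weyl_conj hk2 hk3 hgen hlam hm hU (ly_lam_mem hlam hu₁) hv₁m hu
  have hv1 : v₁ = -1 := by
    have h1 := (hwl 1 one_mem_upperSpace).1
    rw [mul_one] at h1
    have hu₁0 : u₁ ≠ 0 := fun h => by
      rw [hv₁, h, mul_zero, map_zero] at hv₁m
      letI := Ideal.Quotient.field m
      exact neg_ne_zero.2 one_ne_zero hv₁m.symm
    have h2 := (IsUnit.mul_left_eq_zero (hlam.mul (hU u₁ hu₁ hu₁0))).1 h1
    linear_combination h2
  -- the upper entries form an ideal containing `1`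
  have hclosed : ∀ u ∈ upperSpace k lam, lam * u ∈ upperSpace k lam := by
    intro u hu
    have h1 := symm_mem hlam (ly_lam_mem hlam hu)
    rw [swap_ly, scale_ux, ← mul_assoc, IsUnit.val_inv_mul, one_mul] at h1
    -- `U` lies in `λ U`, hence equals it
    have hsub : ∀ z ∈ upperSpace k lam, ((hlam.unit⁻¹ : Rˣ) : R) * z ∈ upperSpace k lam := by
      intro z hz
      have h2 := (hwl z hz).2
      rw [hv1] at h2
      have h3 := symm_mem hlam h2
      rw [swap_ly, scale_ux] at h3
      have h4 : ((hlam.unit⁻¹ : Rˣ) : R) * -(-1 * -1 * z) ∈ upperSpace k lam := h3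
      simpa using neg_mem h4
    have hmap : (upperSpace k lam).map (LinearMap.mulLeft k ((hlam.unit⁻¹ : Rˣ) : R)) =
        upperSpace k lam := by
      have : Module.Finite k R := Module.Finite.of_finite
      refine Submodule.eq_of_le_of_finrank_eq ?_ ?_
      · rintro _ ⟨z, hz, rfl⟩; exact hsub z hz
      · exact (Submodule.equivMapOfInjective _
          (fun a b hab => (Units.mul_right_inj _).1 hab) _).finrank_eq.symm
    rw [← hmap] at hu
    obtain ⟨z, hz, rfl⟩ := hu
    simpa [← mul_assoc] using hz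
  have hall : ∀ r : R, r ∈ upperSpace k lam := by
    intro r
    have hr : r ∈ Algebra.adjoin k ({lam} : Set R) := hgen ▸ Algebra.mem_top
    suffices ∀ u ∈ upperSpace k lam, r * u ∈ upperSpace k lam by
      simpa using this 1 one_mem_upperSpace
    induction hr using Algebra.adjoin_induction with
    | mem y hy => rw [Set.mem_singleton_iff.1 hy]; exact hclosed
    | algebraMap c => intro u hu; rw [← Algebra.smul_def]; exact Submodule.smul_mem _ _ hu
    | add y z _ _ hy hz => intro u hu; rw [add_mul]; exact add_mem (hy u hu) (hz u hu)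
    | mul y z _ _ hy hz => intro u hu; rw [mul_assoc]; exact hy _ (hz u hu)
  refine ⟨⟨0, 1, zero_ne_one⟩, mul_comm, fun {a} ha => ?_⟩
  exact isUnit_iff_exists_inv.1 (hU a (hall a) ha)

end reduction

end Cfsg.Agent.Lib.RootSubgroups.SL2Ring

namespace Cfsg.Agent.Lib.RootSubgroups.SL2Ring

/-- For a simple algebraic extension `L = k(λ)` the two scalar root groups generate `SL₂(L)`. -/
theorem full_field {k L : Type*} [Field k] [Field L] [Algebra k L] [Module.Finite k L] {lam : L}
    (hk2 : (2 : k) ≠ 0) (hk3 : Nat.card k ≠ 3) (hgen : Algebra.adjoin k ({lam} : Set L) = ⊤)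
    (hlam : lam ≠ 0) : gen k lam = ⊤ := by
  rcases finite_or_infinite k with hk | hk
  · have : Finite L := Module.finite_of_finite k
    exact full_of_finite_field hk2 hk3 hgen hlam
  · obtain ⟨hU, hV⟩ := full_of_infinite hk2 hgen (isUnit_iff_ne_zero.2 hlam)
    rw [Subgroup.eq_top_iff']
    exact mem_of_all (fun t => show t ∈ upperSpace k lam by rw [hU]; exact Submodule.mem_top) hV

end Cfsg.Agent.Lib.RootSubgroups.SL2Ring
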