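import Mathlib
import Cfsg.Agent.Lib.RootSubgroups.SL2RingFinite
import Cfsg.Agent.Lib.RootSubgroups.QuadPairFiltration

/-!
Upper unitriangular members of the iterated derived subgroups of the group generated by two scalar
root groups in `SL₂(k[λ])`.
-/

set_option autoImplicit false
set_option linter.style.haveILetI false

namespace Cfsg.Agent.Lib.RootSubgroups.SL2Ring

open Matrix QuadPair

variable {k : Type*} [Field k]

theorem exists_scalar (hk2 : (2 : k) ≠ 0) (hk3 : Nat.card k ≠ 3) : ∃ r : k, r ≠ 0 ∧ r * r ≠ 1 := by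
  by_contra hh
  push Not at hh
  have hall : ∀ c : k, c = 0 ∨ c = 1 ∨ c = -1 := fun c => by
    by_cases hc : c = 0
    · exact Or.inl hc
    · exact Or.inr (mul_self_eq_one_iff.1 (hh c hc))
  classical
  have : Fintype k := Fintype.ofSurjective (fun i : Fin 3 => ![(0 : k), 1, -1] i) fun c => by
    rcases hall c with rfl | rfl | rfl
    · exact ⟨0, rfl⟩
    · exact ⟨1, rfl⟩
    · exact ⟨2, rfl⟩
  apply hk3
  rw [Nat.card_eq_fintype_card, ← Finset.card_univ]
  have hu : (Finset.univ : Finset k) = {0, 1, -1} := by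
    ext z; simpa using hall z
  rw [hu, Finset.card_eq_three]
  exact ⟨0, 1, -1, zero_ne_one, (neg_ne_zero.2 one_ne_zero).symm,
    fun h => hk2 (by linear_combination h), rfl⟩

variable {R : Type*} [CommRing R] [Algebra k R] {lam : R}

/-- The Weyl-type product. -/
theorem diag_mem {H : Subgroup (SLR R)} (hu : ∀ t, ux t ∈ H) (hl : ∀ t, ly t ∈ H) (r : Rˣ) :
    mk (r : R) 0 0 (↑r⁻¹) (by simp) ∈ H := by
  have e : (mk (r : R) 0 0 (↑r⁻¹) (by simp) : SLR R) =
      ux (r : R) * ly (-(↑r⁻¹ : R)) * ux (r : R) * (ux (-1) * ly 1 * ux (-1)) := by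
    have h := r.mul_inv
    have h' := r.inv_mul
    apply ext2 <;> simp [ux, ly, mul_00, mul_01, mul_10, mul_11]
  rw [e]
  exact mul_mem (mul_mem (mul_mem (hu _) (hl _)) (hu _))
    (mul_mem (mul_mem (hu _) (hl _)) (hu _))

theorem ux_ly_mem_dIter (hk2 : (2 : k) ≠ 0) (hk3 : Nat.card k ≠ 3) {H : Subgroup (SLR R)}
    (hu : ∀ t, ux t ∈ H) (hl : ∀ t, ly t ∈ H) (n : ℕ) :
    (∀ t, ux t ∈ dIter H n) ∧ ∀ t, ly t ∈ dIter H n := by
  induction n with
  | zero => exact ⟨hu, hl⟩
  | succ n ih =>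
    obtain ⟨r, hr0, hr1⟩ := exists_scalar hk2 hk3
    set u : Rˣ := Units.map (algebraMap k R).toMonoidHom (Units.mk0 r hr0) with hudef
    have hd := diag_mem ih.1 ih.2 u
    have hs : ∀ x : k, x ≠ 0 → ∀ t : R, ∃ s, algebraMap k R x * s = t := fun x hx t =>
      ⟨algebraMap k R x⁻¹ * t, by rw [← mul_assoc, ← map_mul, mul_inv_cancel₀ hx, map_one, one_mul]⟩
    have e1 : (u : R) = algebraMap k R r := rfl
    have e2 : ((u⁻¹ : Rˣ) : R) = algebraMap k R r⁻¹ := rfl
    have e3 : algebraMap k R r * algebraMap k R r⁻¹ = 1 := by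
      rw [← map_mul, mul_inv_cancel₀ hr0, map_one]
    constructor
    · intro t
      obtain ⟨s, rfl⟩ := hs (r * r - 1) (sub_ne_zero.2 hr1) t
      have h := Subgroup.commutator_mem_commutator hd (ih.1 s)
      show ux _ ∈ ⁅dIter H n, dIter H n⁆
      rw [commutatorElement_def, ← ux_neg] at h
      convert h using 1
      simp only [map_sub, map_mul, map_one, e1, e2]
      apply ext2 <;>
        simp only [ux, mk_00, mk_01, mk_10, mk_11, mul_00, mul_01, mul_10, mul_11, inv_00, inv_01,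
          inv_10, inv_11]
      · linear_combination -e3
      · linear_combination s * e3
      · ring
      · linear_combination -e3
    · intro t
      obtain ⟨s, rfl⟩ := hs (r⁻¹ * r⁻¹ - 1) (sub_ne_zero.2 fun h => hr1 (by
        rw [← mul_inv, inv_eq_one] at h; exact h)) t
      have h := Subgroup.commutator_mem_commutator hd (ih.2 s)
      show ly _ ∈ ⁅dIter H n, dIter H n⁆
      rw [commutatorElement_def, ← ly_neg] at h
      convert h using 1
      simp only [map_sub, map_mul, map_one, e1, e2]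
      apply ext2 <;>
        simp only [ly, mk_00, mk_01, mk_10, mk_11, mul_00, mul_01, mul_10, mul_11, inv_00, inv_01,
          inv_10, inv_11]
      · linear_combination -e3
      · ring
      · linear_combination s * e3
      · linear_combination -e3

theorem dIter_top_field {L : Type*} [Field L] [Algebra k L] (hk2 : (2 : k) ≠ 0)
    (hk3 : Nat.card k ≠ 3) (n : ℕ) : dIter (⊤ : Subgroup (SLR L)) n = ⊤ := by
  obtain ⟨h1, h2⟩ := ux_ly_mem_dIter (R := L) (H := ⊤) hk2 hk3 (fun _ => Subgroup.mem_top _)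
    (fun _ => Subgroup.mem_top _) n
  exact (Subgroup.eq_top_iff' _).2 (mem_of_all h1 h2)

theorem map_scale_gen (r : kˣ) :
    (gen k lam).map (scale (Units.map (algebraMap k R).toMonoidHom r)) = gen k lam := by
  refine le_antisymm (by rintro _ ⟨g, hg, rfl⟩; exact scale_mem hg r) fun g hg => ?_
  refine ⟨_, scale_mem hg r⁻¹, ?_⟩
  have h := r.mul_inv
  apply ext2 <;> simp [scale, ← mul_assoc, ← map_mul]

theorem scale_mem_dIter {n : ℕ} {g : SLR R} (hg : g ∈ dIter (gen k lam) n) (r : kˣ) :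
    scale (Units.map (algebraMap k R).toMonoidHom r) g ∈ dIter (gen k lam) n := by
  have h := Subgroup.mem_map_of_mem (scale (Units.map (algebraMap k R).toMonoidHom r)) hg
  rwa [map_dIter, map_scale_gen] at h

section finite

variable [Finite R] [Nontrivial R] {p : ℕ} [Fact p.Prime] [CharP R p]

/-- A normal subgroup with an element of order `p` has an upper unitriangular member. -/
theorem exists_ux_of_p_elt (hodd : Odd p) {N : Subgroup ↥(gen k lam)} (hN : N.Normal)
    {y : ↥(gen k lam)} (hy : y ∈ N) (hyp : y ^ p = 1) (hy1 : y ≠ 1) :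
    ∃ b : R, b ≠ 0 ∧ ∃ h : ux b ∈ gen k lam, (⟨ux b, h⟩ : ↥(gen k lam)) ∈ N := by
  have hp : p.Prime := Fact.out
  have hx : ux (1 : R) ∈ gen k lam := by simpa using ux_mem (lam := lam) (1 : k)
  set x : ↥(gen k lam) := ⟨ux 1, hx⟩
  have hxp : x ^ p = 1 := Subtype.ext (by
    rw [Subgroup.coe_pow, ux_pow, CharP.cast_eq_zero, zero_mul, ux_zero]; rfl)
  have hyP : IsPGroup p (Subgroup.zpowers y) :=
    IsPGroup.of_card (n := 1) (by rw [Nat.card_zpowers, orderOf_eq_prime hyp hy1, pow_one])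
  have hxne : x ≠ 1 := fun h => one_ne_zero (ux_inj ((congrArg Subtype.val h).trans ux_zero.symm))
  have hxP : IsPGroup p (Subgroup.zpowers x) :=
    IsPGroup.of_card (n := 1) (by rw [Nat.card_zpowers, orderOf_eq_prime hxp hxne, pow_one])
  obtain ⟨P, hP⟩ := hxP.exists_le_sylow
  obtain ⟨Q, hQ⟩ := hyP.exists_le_sylow
  obtain ⟨v, hv⟩ := MulAction.exists_smul_eq (↥(gen k lam)) Q P
  have hyP' : v * y * v⁻¹ ∈ (P : Subgroup ↥(gen k lam)) := by
    rw [← hv, Sylow.coe_subgroup_smul, Subgroup.mem_pointwise_smul_iff_inv_smul_mem]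
    simpa [MulAut.smul_def, mul_assoc] using hQ (Subgroup.mem_zpowers y)
  have hyK : v * y * v⁻¹ ∈ N := hN.conj_mem y hy v
  have : Group.IsNilpotent (P : Subgroup ↥(gen k lam)) := P.2.isNilpotent
  have : (N.subgroupOf (P : Subgroup ↥(gen k lam))).Normal := hN.subgroupOf _
  have hne : N.subgroupOf (P : Subgroup ↥(gen k lam)) ≠ ⊥ := fun h => hy1 (by
    have : (⟨_, hyP'⟩ : (P : Subgroup ↥(gen k lam))) ∈ N.subgroupOf (P : Subgroup ↥(gen k lam)) := hyK
    rw [h, Subgroup.mem_bot] at this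
    have := congrArg Subtype.val this
    simpa using this)
  obtain ⟨z, hz, hz1⟩ := (Subgroup.bot_or_exists_ne_one _).resolve_left
    (Nilp.inf_center_ne_bot_of_normal hne)
  have hzc : z * ⟨x, hP (Subgroup.mem_zpowers x)⟩ = ⟨x, hP (Subgroup.mem_zpowers x)⟩ * z :=
    (Subgroup.mem_center_iff.1 hz.2 _).symm
  obtain ⟨e, he⟩ := P.2 z
  have hb := eq_ux_of_commute (g := ((z : ↥(gen k lam)) : SLR R)) hodd
    (congrArg (fun w : (P : Subgroup ↥(gen k lam)) => ((w : ↥(gen k lam)) : SLR R)) hzc) (e := e)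
    (by simpa using congrArg (fun w : (P : Subgroup ↥(gen k lam)) => ((w : ↥(gen k lam)) : SLR R)) he)
  set b := ((z : ↥(gen k lam)) : SLR R) 0 1 with hbdef
  have hbU : ux b ∈ gen k lam := by rw [← hb]; exact (z : ↥(gen k lam)).2
  refine ⟨b, fun h => hz1 (Subtype.ext (Subtype.ext (by rw [hb, h, ux_zero]; rfl))), hbU, ?_⟩
  have e' : (z : ↥(gen k lam)) = ⟨ux b, hbU⟩ := Subtype.ext hb
  rw [← e']
  exact hz.1

variable [Finite k]

omit [Nontrivial R] in
theorem residue_dIter (hk2 : (2 : k) ≠ 0) (hk3 : Nat.card k ≠ 3)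
    (hgen : Algebra.adjoin k ({lam} : Set R) = ⊤) (hlam : IsUnit lam) (q : Ideal R)
    (hq : q.IsMaximal) (n : ℕ) (s : SLR (R ⧸ q)) :
    ∃ g ∈ dIter (gen k lam) n, Matrix.SpecialLinearGroup.map (Ideal.Quotient.mk q) g = s := by
  letI := Ideal.Quotient.field q
  set ψ := Matrix.SpecialLinearGroup.map (n := Fin 2) (Ideal.Quotient.mk q)
  have h : (gen k lam).map ψ = ⊤ :=
    (Subgroup.eq_top_iff' _).2 fun t => residue_full hk2 hk3 hgen hlam q hq t
  have h' := map_dIter ψ (gen k lam) n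
  rw [h, dIter_top_field (k := k) (L := R ⧸ q) hk2 hk3] at h'
  exact ((Subgroup.eq_top_iff' _).1 h') s

theorem central_of_no_p (hk2 : (2 : k) ≠ 0) (hk3 : Nat.card k ≠ 3)
    (hgen : Algebra.adjoin k ({lam} : Set R) = ⊤) (hlam : IsUnit lam) {N : Subgroup ↥(gen k lam)}
    (hN : N.Normal) (hno : ∀ y ∈ N, y ^ p = 1 → y = 1) :
    ∀ y ∈ N, ∀ h : ↥(gen k lam), y * h = h * y := by
  have hp : p.Prime := Fact.out
  have hpow : ∀ e, ∀ y ∈ N, y ^ p ^ e = 1 → y = 1 := by
    intro e
    induction e with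
    | zero => intro y _ h; simpa using h
    | succ e ih =>
      intro y hy h
      rw [pow_succ', pow_mul] at h
      exact hno y hy (ih _ (pow_mem hy p) h)
  intro y hy h
  set c := y * h * y⁻¹ * h⁻¹ with hc
  have hcK : c ∈ N := by
    have := mul_mem hy (hN.conj_mem y⁻¹ (inv_mem hy) h)
    simpa [hc, mul_assoc] using this
  have hnil : IsNilpotent ((c : SLR R) 0 0 + (c : SLR R) 1 1 - 2) := by
    rw [nilpotent_iff_mem_prime]
    intro q hq
    have := hq
    have hqm : q.IsMaximal := IsArtinianRing.isMaximal_of_isPrime q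
    letI := Ideal.Quotient.field q
    set ψ := Matrix.SpecialLinearGroup.map (n := Fin 2) (Ideal.Quotient.mk q)
    set N' : Subgroup (SLR (R ⧸ q)) := N.map (ψ.comp (gen k lam).subtype) with hN'
    have hNn : N'.Normal := hN.map (ψ.comp (gen k lam).subtype) fun s => by
      obtain ⟨g, hg, hgs⟩ := residue_full hk2 hk3 hgen hlam q hqm s
      exact ⟨⟨g, hg⟩, hgs⟩
    have hnot : ∀ t, ly t ∈ N' → t = 0 := by
      intro t ht
      obtain ⟨n', hn', hnt⟩ := ht
      have hcop : ¬ p ∣ orderOf n' := by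
        intro hdvd
        have h1 := hno (n' ^ (orderOf n' / p)) (pow_mem hn' _)
          (by rw [← pow_mul, Nat.div_mul_cancel hdvd, pow_orderOf_eq_one])
        have h2 := orderOf_dvd_of_pow_eq_one h1
        have h3 := Nat.le_of_dvd (Nat.div_pos (Nat.le_of_dvd (orderOf_pos n') hdvd) hp.pos) h2
        have h4 := Nat.div_lt_self (orderOf_pos n') hp.one_lt
        omega
      have : CharP k p := (Algebra.charP_iff k R p).2 ‹_›
      have : CharP (R ⧸ q) p := charP_of_injective_algebraMap (algebraMap k (R ⧸ q)).injective p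
      have h5 : orderOf (ly t) ∣ p := orderOf_dvd_of_pow_eq_one (by
        rw [ly_pow, CharP.cast_eq_zero, zero_mul, ly_zero])
      have h6 : orderOf (ly t) ∣ orderOf n' := by
        rw [← hnt]
        exact orderOf_map_dvd (ψ.comp (gen k lam).subtype) n'
      rcases (Nat.dvd_prime hp).1 h5 with h7 | h7
      · exact ly_inj ((orderOf_eq_one_iff.1 h7).trans ly_zero.symm)
      · exact absurd (h7 ▸ h6) hcop
    have h2q : (2 : R ⧸ q) ≠ 0 := by
      rw [← map_ofNat (algebraMap k (R ⧸ q)) 2]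
      exact (map_ne_zero _).2 hk2
    have hsq : ∀ u : R ⧸ q, ∃ t : R ⧸ q, t ≠ 0 ∧ t * t ≠ u := by
      intro u
      obtain ⟨r, hr0, hr1⟩ := exists_scalar hk2 hk3
      by_cases hu : u = 1
      · refine ⟨algebraMap k _ r, (map_ne_zero _).2 hr0, ?_⟩
        rw [hu, ← map_mul, ← map_one (algebraMap k (R ⧸ q))]
        exact fun e => hr1 ((algebraMap k (R ⧸ q)).injective e)
      · exact ⟨1, one_ne_zero, by rw [one_mul]; exact Ne.symm hu⟩
    obtain ⟨e1, e2, e3⟩ :=
      normal_scalar hNn h2q hsq hnot (n := ψ (y : SLR R)) ⟨y, hy, rfl⟩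
    have hcomm : ψ (c : SLR R) = 1 := by
      have hh : ψ (y : SLR R) * ψ (h : SLR R) = ψ (h : SLR R) * ψ (y : SLR R) := by
        apply ext2 <;> simp only [mul_00, mul_01, mul_10, mul_11, e1, e2, e3] <;> ring
      simp only [hc, Subgroup.coe_mul, Subgroup.coe_inv, map_mul, map_inv, hh]
      group
    have h00 := congrArg (fun z : SLR (R ⧸ q) => z 0 0) hcomm
    have h11 := congrArg (fun z : SLR (R ⧸ q) => z 1 1) hcomm
    simp only [ψ, map_apply] at h00 h11
    rw [← Ideal.Quotient.eq_zero_iff_mem, map_sub, map_add, h00, h11, map_ofNat]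
    simp
    ring
  obtain ⟨e, he⟩ := pow_eq_one_of_trace p hnil
  have := hpow e c hcK (Subtype.ext (by simpa using he))
  exact mul_inv_eq_one.1 (by rw [← this, hc]; group)

end finite

/-- Each derived subgroup has a nontrivial upper unitriangular member, with non-unit entry unless
`k[λ]` is a field. -/
theorem exists_derived_ux [Nontrivial R] [Module.Finite k R] (hk2 : (2 : k) ≠ 0)
    (hk3 : Nat.card k ≠ 3) (hgen : Algebra.adjoin k ({lam} : Set R) = ⊤) (hlam : IsUnit lam)
    (hR : ¬ IsField R) (n : ℕ) : ∃ b : R, b ≠ 0 ∧ ¬ IsUnit b ∧ ux b ∈ dIter (gen k lam) n := by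
  rcases finite_or_infinite k with hk | hk
  · have : Finite R := Module.finite_of_finite k
    obtain ⟨p, hp, hodd, hpk, hcR⟩ := char_of_finite (R := R) hk2
    have : Fact p.Prime := ⟨hp⟩
    obtain ⟨u, huU, hu0, hunit⟩ : ∃ u ∈ upperSpace k lam, u ≠ 0 ∧ ¬ IsUnit u := by
      by_contra hh
      push Not at hh
      exact hR (isField_of_no_nonunit hk2 hk3 hgen hlam hh)
    obtain ⟨m, hm, hum⟩ := exists_max_ideal_of_mem_nonunits (show u ∈ nonunits R from hunit)
    set I : Subgroup ↥(gen k lam) := (dIter (gen k lam) n).subgroupOf (gen k lam) with hI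
    have hIn : I.Normal := ⟨fun x hx g => dIter_normal_in _ n g.2 hx⟩
    set π := resMap k lam m
    set N := I ⊓ π.ker
    have hNn : N.Normal := inferInstance
    by_cases hno : ∀ y ∈ N, y ^ p = 1 → y = 1
    · exfalso
      have hcent := central_of_no_p hk2 hk3 hgen hlam hNn hno
      set x : ↥(gen k lam) := ⟨ux u, huU⟩
      have hxp : x ^ p = 1 := Subtype.ext (by
        rw [Subgroup.coe_pow, ux_pow, CharP.cast_eq_zero, zero_mul, ux_zero]; rfl)
      have hxK : x ∈ π.ker := by
        rw [MonoidHom.mem_ker, resMap_apply, map_ux, Ideal.Quotient.eq_zero_iff_mem.2 hum, ux_zero]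
      have hcomm : ∀ i ∈ I, x * i = i * x := by
        intro i hi
        have hc : x * i * x⁻¹ * i⁻¹ ∈ N := by
          refine ⟨I.mul_mem (hIn.conj_mem i hi x) (I.inv_mem hi), ?_⟩
          have := π.ker.mul_mem hxK (π.normal_ker.conj_mem x⁻¹ (π.ker.inv_mem hxK) i)
          simpa [mul_assoc] using this
        set c := x * i * x⁻¹ * i⁻¹ with hcdef
        have hpow : ∀ j : ℕ, x ^ j * i * (x ^ j)⁻¹ = c ^ j * i := by
          intro j
          induction j with
          | zero => simp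
          | succ j ih =>
            have e : x * c = c * x := (hcent c hc x).symm
            calc x ^ (j + 1) * i * (x ^ (j + 1))⁻¹ = x * (x ^ j * i * (x ^ j)⁻¹) * x⁻¹ := by
                  rw [pow_succ']; group
              _ = (x * c ^ j * x⁻¹) * (x * i * x⁻¹) := by rw [ih]; group
              _ = c ^ j * (c * i) := by
                  rw [(Commute.pow_right e j).eq, hcdef]; group
              _ = c ^ (j + 1) * i := by rw [← mul_assoc, pow_succ]
        have h1 := hpow p
        rw [hxp, inv_one, one_mul, mul_one, right_eq_mul] at h1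
        exact mul_inv_eq_iff_eq_mul.1 (mul_inv_eq_one.1 (hno c hc h1))
      have hann : ∀ i ∈ dIter (gen k lam) n, u * i 1 0 = 0 := by
        intro i hi
        have h := congrArg (fun z : ↥(gen k lam) => (z : SLR R) 0 0)
          (hcomm ⟨i, dIter_le _ n hi⟩ hi)
        simpa [x, ux, mul_00] using h
      obtain ⟨q, hq, hle⟩ := Ideal.exists_le_maximal
        (LinearMap.ker (LinearMap.mulLeft R u) : Ideal R) (fun h => hu0 (by
          have h1 : (1 : R) ∈ (LinearMap.ker (LinearMap.mulLeft R u) : Ideal R) :=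
            h ▸ Submodule.mem_top
          simpa using h1))
      obtain ⟨g, hg, hgs⟩ := residue_dIter hk2 hk3 hgen hlam q hq n (ly 1)
      have h1 := congrArg (fun z : SLR (R ⧸ q) => z 1 0) hgs
      simp only [map_apply, ly, mk_10] at h1
      have h2 : g 1 0 ∈ q := hle (by simpa using hann g hg)
      rw [Ideal.Quotient.eq_zero_iff_mem.2 h2] at h1
      letI := Ideal.Quotient.field q
      exact zero_ne_one h1
    · push Not at hno
      obtain ⟨y, hy, hyp, hy1⟩ := hno
      obtain ⟨b, hb0, hb, hbN⟩ := exists_ux_of_p_elt hodd hNn hy hyp hy1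
      refine ⟨b, hb0, fun h => hm.ne_top (Ideal.eq_top_of_isUnit_mem m ?_ h), hbN.1⟩
      have h1 : π ⟨ux b, hb⟩ = 1 := hbN.2
      rw [resMap_apply, map_ux, ← ux_zero] at h1
      exact Ideal.Quotient.eq_zero_iff_mem.1 (ux_inj h1)
  · obtain ⟨hU, hV⟩ := full_of_infinite hk2 hgen hlam
    obtain ⟨b, hb⟩ : ∃ b : R, b ≠ 0 ∧ ¬ IsUnit b := by
      by_contra hh
      push Not at hh
      exact hR ⟨⟨0, 1, zero_ne_one⟩, mul_comm, fun {a} ha => isUnit_iff_exists_inv.1 (hh a ha)⟩
    refine ⟨b, hb.1, hb.2, (ux_ly_mem_dIter hk2 hk3 (fun t => ?_) hV n).1 b⟩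
    show t ∈ upperSpace k lam
    rw [hU]; exact Submodule.mem_top

end Cfsg.Agent.Lib.RootSubgroups.SL2Ring
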