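import Mathlib
import Cfsg.Agent.Lib.RootSubgroups.QuadPairModel
import Cfsg.Agent.Lib.RootSubgroups.SL2RingDerived

/-!
Two members of `𝒬_d` whose anticommutator is not nilpotent are opposite and generate `SL₂` over a
field.
-/

set_option autoImplicit false
set_option linter.style.haveILetI false

universe w v

namespace Cfsg.Agent.Lib.RootSubgroups.QuadPair

open Cfsg SL2Ring
open scoped IsMulCommutative

variable {k : Type w} [Field k] {M : Type v} [AddCommGroup M] [Module k M]
  {G : Subgroup (LinearMap.GeneralLinearGroup k M)} {σ τ : LinearMap.GeneralLinearGroup k M}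

/-- The commutator space of each element meets the fixed space of the other trivially. -/
def Opp (σ τ : LinearMap.GeneralLinearGroup k M) : Prop :=
  Disjoint (LinearMap.range (nil σ)) (LinearMap.ker (nil τ)) ∧
    Disjoint (LinearMap.range (nil τ)) (LinearMap.ker (nil σ))

theorem Opp.symm (h : Opp σ τ) : Opp τ σ := ⟨h.2, h.1⟩

theorem opp_congr {σ' τ' : LinearMap.GeneralLinearGroup k M} (hσ : σ' ∈ sameActionClass G σ)
    (hτ : τ' ∈ sameActionClass G τ) : Opp σ' τ' ↔ Opp σ τ := by
  unfold Opp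
  rw [show LinearMap.range (nil σ') = LinearMap.range (nil σ) from hσ.2.2,
    show LinearMap.range (nil τ') = LinearMap.range (nil τ) from hτ.2.2,
    show LinearMap.ker (nil σ') = LinearMap.ker (nil σ) from hσ.2.1,
    show LinearMap.ker (nil τ') = LinearMap.ker (nil τ) from hτ.2.1]

variable [FiniteDimensional k M]

theorem Opp.isCompl (h : Opp σ τ) (hσ : σ ∈ minimalQuadraticElements G)
    (hτ : τ ∈ minimalQuadraticElements G) :
    IsCompl (LinearMap.range (nil σ)) (LinearMap.ker (nil τ)) := by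
  refine ⟨h.1, codisjoint_iff.2 (Submodule.eq_top_of_disjoint _ _ ?_ h.1)⟩
  have h1 := rank_eq hσ hτ
  have h2 := LinearMap.finrank_range_add_finrank_ker (nil τ)
  omega

theorem Opp.ker_eq (h : Opp σ τ) (hσ : σ ∈ minimalQuadraticElements G)
    (hτ : τ ∈ minimalQuadraticElements G) :
    LinearMap.ker (nil σ) =
      LinearMap.range (nil σ) ⊔ (LinearMap.ker (nil σ) ⊓ LinearMap.ker (nil τ)) := by
  rw [inf_comm, ← sup_inf_assoc_of_le _ (range_le_ker (sq_zero hσ)), (h.isCompl hσ hτ).sup_eq_top,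
    top_inf_eq]

theorem Opp.sup_eq_top (h : Opp σ τ) (hσ : σ ∈ minimalQuadraticElements G)
    (hτ : τ ∈ minimalQuadraticElements G) :
    (LinearMap.ker (nil σ) ⊓ LinearMap.ker (nil τ)) ⊔
      (LinearMap.range (nil σ) ⊔ LinearMap.range (nil τ)) = ⊤ := by
  rw [sup_left_comm, sup_comm _ (LinearMap.range (nil τ)), inf_comm, ← h.symm.ker_eq hτ hσ,
    (h.isCompl hσ hτ).sup_eq_top]

theorem Opp.ext_of {f g : Module.End k M} (h : Opp σ τ) (hσ : σ ∈ minimalQuadraticElements G)
    (hτ : τ ∈ minimalQuadraticElements G)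
    (h0 : ∀ x, nil σ x = 0 → nil τ x = 0 → f x = g x) (h1 : ∀ x, f (nil σ x) = g (nil σ x))
    (h2 : ∀ x, f (nil τ x) = g (nil τ x)) : f = g := by
  have hle : (⊤ : Submodule k M) ≤ LinearMap.eqLocus f g := by
    rw [← h.sup_eq_top hσ hτ]
    refine sup_le (fun x hx => h0 x hx.1 hx.2) (sup_le ?_ ?_)
    · rintro _ ⟨x, rfl⟩; exact h1 x
    · rintro _ ⟨x, rfl⟩; exact h2 x
  exact LinearMap.ext fun x => hle Submodule.mem_top

omit [FiniteDimensional k M] in
theorem Opp.not_nilpotent (h : Opp σ τ) (hσ : σ ∈ minimalQuadraticElements G) :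
    ¬ IsNilpotent (zed (nil σ) (nil τ)) := by
  rintro ⟨n, hn⟩
  have key : ∀ x, zed (nil σ) (nil τ) (nil σ x) = 0 → nil σ x = 0 := by
    intro x hx
    have h0 : nil σ (nil σ x) = 0 := congrArg (fun f : Module.End k M => f x) (sq_zero hσ)
    have h1 : nil σ (nil τ (nil σ x)) = 0 := by
      rw [zed, LinearMap.add_apply, Module.End.mul_apply, Module.End.mul_apply, h0, map_zero,
        add_zero] at hx
      exact hx
    exact Submodule.disjoint_def.1 h.1 _ ⟨x, rfl⟩
      (Submodule.disjoint_def.1 h.2 _ ⟨_, rfl⟩ h1)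
  have : ∀ j, zed (nil σ) (nil τ) ^ j * nil σ = 0 → nil σ = 0 := by
    intro j
    induction j with
    | zero => intro h; simpa using h
    | succ j ih =>
      intro hj
      refine ih (LinearMap.ext fun x => ?_)
      rw [← ((commute_anti (sq_zero hσ)).pow_right j).eq, Module.End.mul_apply, LinearMap.zero_apply]
      apply key
      rw [← Module.End.mul_apply, ← Module.End.mul_apply, mul_assoc,
        ((commute_anti (sq_zero hσ)).pow_right j).eq, ← mul_assoc, ← pow_succ', hj]
      rfl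
  exact nil_ne_zero hσ (this n (by rw [hn, zero_mul]))

omit [FiniteDimensional k M] in
theorem Fitting.symm {a b : Module.End k M} {N : ℕ} (h : Fitting a b N) : Fitting b a N := by
  refine ⟨h.sq₂, h.sq₁, h.pos, ?_⟩
  simp only [part₀, part₁, zed, add_comm (b * a)]
  exact h.compl

theorem exists_fitting {a b : Module.End k M} (ha : a * a = 0) (hb : b * b = 0) :
    ∃ N, Fitting a b N := by
  obtain ⟨N, hN⟩ := Filter.eventually_atTop.1 (LinearMap.eventually_isCompl_ker_pow_range_pow (zed a b))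
  exact ⟨max N 1, ha, hb, le_max_right _ _, hN _ (le_max_left _ _)⟩

theorem nontrivial_ring {a b : Module.End k M} {N : ℕ} (h : Fitting a b N)
    (hz : ¬ IsNilpotent (zed a b)) : Nontrivial h.ring := by
  have : Nontrivial (top₁ a b N) := by
    by_contra hne
    rw [not_nontrivial_iff_subsingleton] at hne
    refine hz ⟨N, LinearMap.range_eq_bot.1 ?_⟩
    show part₁ a b N = ⊥
    rw [← h.iota_range, LinearMap.range_eq_bot]
    refine LinearMap.ext fun w => ?_
    rw [Subsingleton.elim w 0, map_zero]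
    rfl
  exact ⟨⟨0, 1, fun e => (zero_ne_one (α := Module.End k (top₁ a b N))) (congrArg Subtype.val e)⟩⟩

/-- A member of a late derived subgroup over `SL₂(k[λ])` is a member of the generated group. -/
theorem exists_rep_mem {σ τ : LinearMap.GeneralLinearGroup k M} {N : ℕ} (h : Fitting (nil σ) (nil τ) N) {g : SLR h.ring}
    (hg : g ∈ dIter (SL2Ring.gen k h.gen) (2 * N + 1)) :
    h.rep g ∈ Subgroup.closure (scalarFamily σ ∪ scalarFamily τ) := by
  set a := nil σ with ha
  set b := nil τ with hb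
  set S : Set (SLR h.ring × LinearMap.GeneralLinearGroup k M) :=
    {p | ∃ c : k, (p.1 = ux (algebraMap k h.ring c) ∧ nil p.2 = c • a) ∨
      (p.1 = ly (algebraMap k h.ring c * h.gen) ∧ nil p.2 = c • b)} with hS
  set Γ := Subgroup.closure S
  set H := Subgroup.closure (scalarFamily σ ∪ scalarFamily τ)
  let Good : Subgroup (SLR h.ring × LinearMap.GeneralLinearGroup k M) :=
    { carrier := {p | ∀ w, (p.2 : Module.End k M) (h.iota w) = h.iota (act h.ring.val p.1 w)}
      one_mem' := fun w => by simp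
      mul_mem' := fun {p q} hp hq w => by
        simp only [Prod.fst_mul, Prod.snd_mul, Units.val_mul, map_mul, Module.End.mul_apply, hq w,
          hp _]
      inv_mem' := fun {p} hp w => by
        have h1 := hp (act h.ring.val p.1⁻¹ w)
        rw [← Module.End.mul_apply (act h.ring.val p.1), ← map_mul, mul_inv_cancel, map_one,
          Module.End.one_apply] at h1
        simp only [Prod.fst_inv, Prod.snd_inv]
        rw [← h1, ← Module.End.mul_apply, ← Units.val_mul, inv_mul_cancel]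
        rfl }
  have hgood : Γ ≤ Good := by
    rw [Subgroup.closure_le]
    rintro ⟨p, q⟩ ⟨c, ⟨hp, hq⟩ | ⟨hp, hq⟩⟩ ⟨u, v⟩ <;> simp only at hp hq <;> subst hp
    · rw [coe_eq q, hq, LinearMap.add_apply, LinearMap.smul_apply, h.a_iota, ← map_smul,
        Module.End.one_apply, ← map_add, act_ux, AlgHom.commutes, Module.algebraMap_end_apply]
      simp
    · rw [coe_eq q, hq, LinearMap.add_apply, LinearMap.smul_apply, h.b_iota, ← map_smul,
        Module.End.one_apply, ← map_add, act_ly, map_mul, AlgHom.commutes, Module.End.mul_apply,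
        Module.algebraMap_end_apply]
      simp [add_comm]
  have hsnd : Γ.map (MonoidHom.snd _ _) ≤ H := by
    rw [MonoidHom.map_closure, Subgroup.closure_le]
    rintro _ ⟨⟨p, q⟩, ⟨c, ⟨-, hq⟩ | ⟨-, hq⟩⟩, rfl⟩
    · exact Subgroup.subset_closure (Or.inl (mem_scalarFamily.2 ⟨c, hq⟩))
    · exact Subgroup.subset_closure (Or.inr (mem_scalarFamily.2 ⟨c, hq⟩))
  have hfst : Γ.map (MonoidHom.fst _ _) = SL2Ring.gen k h.gen := by
    rw [MonoidHom.map_closure]
    congr 1
    ext g
    constructor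
    · rintro ⟨⟨p, q⟩, ⟨c, ⟨hp, -⟩ | ⟨hp, -⟩⟩, rfl⟩
      · exact Or.inl ⟨c, hp.symm⟩
      · exact Or.inr ⟨c, hp.symm⟩
    · rintro (⟨c, rfl⟩ | ⟨c, rfl⟩)
      · obtain ⟨q, -, hq⟩ := exists_family' h.sq₁ c
        exact ⟨(_, q), ⟨c, Or.inl ⟨rfl, hq⟩⟩, rfl⟩
      · obtain ⟨q, -, hq⟩ := exists_family' h.sq₂ c
        exact ⟨(_, q), ⟨c, Or.inr ⟨rfl, hq⟩⟩, rfl⟩
  rw [← hfst, ← map_dIter] at hg
  obtain ⟨⟨p, q⟩, hp, rfl⟩ := hg
  have hqd : q ∈ dIter H (2 * N + 1) := by
    refine dIter_mono hsnd _ ?_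
    rw [← map_dIter]
    exact ⟨_, hp, rfl⟩
  suffices q = h.rep p by
    show h.rep p ∈ H
    exact this ▸ dIter_le _ _ hqd
  have hF : Antitone (altF a b (part₀ a b N)) :=
    altF_antitone (fun x hx => (h.map₀ hx).1) (fun x hx => (h.map₀ hx).2)
  have hH : H ≤ filtSubgroup hF 1 := by
    rw [Subgroup.closure_le]
    rintro x (hx | hx) <;> obtain ⟨c, hc⟩ := mem_scalarFamily.1 hx <;>
      rw [SetLike.mem_coe, mem_filtSubgroup, hc]
    · exact Submodule.smul_mem _ _ left_mem_Deg
    · exact Submodule.smul_mem _ _ right_mem_Deg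
  have hbot : altF a b (part₀ a b N) (2 * N + 1) = ⊥ :=
    altF_eq_bot h.sq₁ h.sq₂
      (fun x hx => by rw [Module.End.mul_apply, LinearMap.mem_ker.1 hx, map_zero])
      (fun x hx => by rw [Module.End.mul_apply, LinearMap.mem_ker.1 hx, map_zero])
  have hq0 : nil q ∈ Deg (altF a b (part₀ a b N)) (2 * N + 1) :=
    Deg_mono hF (le_of_lt (Nat.lt_two_pow_self)) (dIter_le_filtSubgroup hF hH _ hqd)
  refine Units.ext (h.ext_coords (fun x hx => ?_) fun u v => ?_)
  · rw [h.rep_part₀ _ hx, coe_eq q, LinearMap.add_apply, Module.End.one_apply,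
      Deg_apply_zero hbot hq0 hx, add_zero]
  · rw [h.rep_iota]
    exact hgood (dIter_le _ _ hp) (u, v)

theorem nil_ux_sq {a b : Module.End k M} {N : ℕ} (h : Fitting a b N) (r : h.ring) :
    nil (h.rep (ux r)) * nil (h.rep (ux r)) = 0 := by
  refine h.ext_coords (fun x hx => ?_) fun u v => ?_
  · rw [Module.End.mul_apply, h.nil_part₀ _ hx, map_zero, LinearMap.zero_apply]
  · rw [Module.End.mul_apply, h.nil_ux_iota, LinearMap.zero_apply]
    have e : ((r : Module.End k (top₁ a b N)) v : M) =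
        h.iota ((r : Module.End k (top₁ a b N)) v, 0) := by simp [h.iota_apply]
    rw [e, h.nil_ux_iota, map_zero]
    rfl

theorem field_and_top (hk2 : (2 : k) ≠ 0) (hk3 : Nat.card k ≠ 3)
    (hσ : σ ∈ minimalQuadraticElements G) (hτ : τ ∈ minimalQuadraticElements G) {N : ℕ}
    (h : Fitting (nil σ) (nil τ) N) (hz : ¬ IsNilpotent (zed (nil σ) (nil τ))) :
    IsField h.ring ∧ top₁ (nil σ) (nil τ) N = LinearMap.range (nil σ) := by
  have := nontrivial_ring h hz
  have hle : top₁ (nil σ) (nil τ) N ≤ LinearMap.range (nil σ) := by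
    rintro _ ⟨x, -, rfl⟩; exact ⟨x, rfl⟩
  have key : ∀ r : h.ring, r ≠ 0 → ux r ∈ dIter (SL2Ring.gen k h.gen) (2 * N + 1) →
      Module.finrank k (LinearMap.range (nil σ)) ≤
        Module.finrank k (LinearMap.range (r : Module.End k (top₁ (nil σ) (nil τ) N))) := by
    intro r hr hmem
    have h1 : nil (h.rep (ux r)) ≠ 0 := by
      intro h0
      apply hr
      refine Subtype.ext (LinearMap.ext fun v => Subtype.ext ?_)
      rw [← h.nil_ux_iota r 0 v, h0]
      rfl
    have h2 := rank_le_of_family hσ h1 (nil_ux_sq h r) fun c => ?_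
    · rwa [h.nil_ux_range, Submodule.finrank_map_subtype_eq] at h2
    · refine ⟨h.rep (ux (c • r)), pair_le hσ hτ (exists_rep_mem h ?_), h.nil_ux_smul c r⟩
      rcases eq_or_ne c 0 with rfl | hc
      · rw [zero_smul, ux_zero]; exact one_mem _
      · have h3 := scale_mem_dIter hmem (Units.mk0 c hc)
        rw [scale_ux] at h3
        rw [Algebra.smul_def]
        exact h3
  have hR : IsField h.ring := by
    by_contra hR
    obtain ⟨r, hr0, hru, hr⟩ :=
      exists_derived_ux (R := h.ring) hk2 hk3 h.gen_adjoin h.gen_unit hR (2 * N + 1)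
    refine hru (isUnit_of_faithful (ev := h.ring.val) Subtype.val_injective ?_)
    have h1 := key r hr0 hr
    have h2 : LinearMap.range (r : Module.End k (top₁ (nil σ) (nil τ) N)) = ⊤ := by
      refine Submodule.eq_top_of_finrank_eq (le_antisymm (Submodule.finrank_le _) ?_)
      exact (Submodule.finrank_mono hle).trans h1
    intro u hu
    exact (LinearMap.ker_eq_bot'.1
      (LinearMap.ker_eq_bot_iff_range_eq_top.2 h2)) u hu
  refine ⟨hR, Submodule.eq_of_le_of_finrank_le hle ?_⟩
  have h1 := key 1 one_ne_zero (by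
    letI := IsField.toField (R := h.ring) hR
    rw [full_field hk2 hk3 h.gen_adjoin (h.gen_unit.ne_zero), dIter_top_field hk2 hk3]
    exact Subgroup.mem_top _)
  refine h1.trans (Submodule.finrank_le _)

theorem opp_of_not_nilpotent (hk2 : (2 : k) ≠ 0) (hk3 : Nat.card k ≠ 3)
    (hσ : σ ∈ minimalQuadraticElements G) (hτ : τ ∈ minimalQuadraticElements G)
    (hz : ¬ IsNilpotent (zed (nil σ) (nil τ))) : Opp σ τ := by
  have main : ∀ {σ τ : LinearMap.GeneralLinearGroup k M}, σ ∈ minimalQuadraticElements G →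
      τ ∈ minimalQuadraticElements G → ¬ IsNilpotent (zed (nil σ) (nil τ)) →
      Disjoint (LinearMap.range (nil σ)) (LinearMap.ker (nil τ)) := by
    intro σ τ hσ hτ hz
    obtain ⟨N, h⟩ := exists_fitting (sq_zero hσ) (sq_zero hτ)
    rw [← (field_and_top hk2 hk3 hσ hτ h hz).2, Submodule.disjoint_def]
    intro x hx hx0
    refine h.eq_zero (h.top_le hx) ?_
    rw [h.zed_top hx, Module.End.mul_apply, LinearMap.mem_ker.1 hx0, map_zero]
  refine ⟨main hσ hτ hz, main hτ hσ ?_⟩
  rwa [zed, add_comm]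

theorem opp_iff (hk2 : (2 : k) ≠ 0) (hk3 : Nat.card k ≠ 3)
    (hσ : σ ∈ minimalQuadraticElements G) (hτ : τ ∈ minimalQuadraticElements G) :
    Opp σ τ ↔ ¬ IsNilpotent (zed (nil σ) (nil τ)) :=
  ⟨fun h => h.not_nilpotent hσ, opp_of_not_nilpotent hk2 hk3 hσ hτ⟩

theorem not_opp_word_zero (hk2 : (2 : k) ≠ 0) (hk3 : Nat.card k ≠ 3)
    (hσ : σ ∈ minimalQuadraticElements G) (hτ : τ ∈ minimalQuadraticElements G) (h : ¬ Opp σ τ) :
    nil σ * nil τ * nil σ = 0 ∧ nil τ * nil σ * nil τ = 0 :=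
  word_zero hk2 hσ hτ (by_contra fun hz => h (opp_of_not_nilpotent hk2 hk3 hσ hτ hz))

/-- The two scalar families generate `SL₂(L)` acting on two copies of a vector space over `L` and
trivially on the common fixed space. -/
structure SL2Model (σ τ : LinearMap.GeneralLinearGroup k M) {L : Type*} [Field L] [Algebra k L]
    (lam : L) (φ : SLR L →* LinearMap.GeneralLinearGroup k M) : Prop where
  lam_ne : lam ≠ 0
  adjoin : Algebra.adjoin k ({lam} : Set L) = ⊤
  finite : Module.Finite k L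
  inj : Function.Injective φ
  range : φ.range = Subgroup.closure (scalarFamily σ ∪ scalarFamily τ)
  ux_one : φ (ux 1) = σ
  ly_lam : φ (ly lam) = τ
  ux_spaces : ∀ r, LinearMap.range (nil (φ (ux r))) ≤ LinearMap.range (nil σ) ∧
    LinearMap.ker (nil σ) ≤ LinearMap.ker (nil (φ (ux r)))
  ly_spaces : ∀ r, LinearMap.range (nil (φ (ly r))) ≤ LinearMap.range (nil τ) ∧
    LinearMap.ker (nil τ) ≤ LinearMap.ker (nil (φ (ly r)))
  ux_smul : ∀ (c : k) r, nil (φ (ux (algebraMap k L c * r))) = c • nil (φ (ux r))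
  ly_smul : ∀ (c : k) r, nil (φ (ly (algebraMap k L c * r))) = c • nil (φ (ly r))
  ux_triple : ∀ r s t, nil (φ (ux r)) * nil (φ (ly s)) * nil (φ (ux t)) = nil (φ (ux (r * s * t)))
  ly_triple : ∀ r s t, nil (φ (ly r)) * nil (φ (ux s)) * nil (φ (ly t)) = nil (φ (ly (r * s * t)))

theorem Opp.exists_sl2 (h0 : Opp σ τ) (hk2 : (2 : k) ≠ 0) (hk3 : Nat.card k ≠ 3)
    (hσ : σ ∈ minimalQuadraticElements G) (hτ : τ ∈ minimalQuadraticElements G) :
    ∃ (L : Type v) (_ : Field L) (_ : Algebra k L) (lam : L)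
      (φ : SLR L →* LinearMap.GeneralLinearGroup k M), SL2Model σ τ lam φ := by
  obtain ⟨N, h⟩ := exists_fitting (sq_zero hσ) (sq_zero hτ)
  have hz := h0.not_nilpotent hσ
  have := nontrivial_ring h hz
  obtain ⟨hR, htop⟩ := field_and_top hk2 hk3 hσ hτ h hz
  have htop' := (field_and_top hk2 hk3 hτ hσ h.symm (by rwa [zed, add_comm])).2
  set a := nil σ with ha
  set b := nil τ with hb
  have ha0 : ∀ x ∈ part₀ a b N, a x = 0 := fun x hx =>
    Submodule.disjoint_def.1 h.compl.disjoint _ (h.map₀ hx).1 (h.top_le (htop ▸ ⟨x, rfl⟩))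
  have hb0 : ∀ x ∈ part₀ a b N, b x = 0 := by
    intro x hx
    refine Submodule.disjoint_def.1 h.compl.disjoint _ (h.map₀ hx).2 ?_
    have h1 : b x ∈ top₁ b a N := htop' ▸ ⟨x, rfl⟩
    obtain ⟨y, hy, e⟩ := h1
    rw [← e]
    simp only [part₁, zed, add_comm (b * a)] at hy
    exact (h.map₁ hy).2
  letI := IsField.toField (R := h.ring) hR
  have hux : ∀ c : k, nil (h.rep (ux (algebraMap k h.ring c))) = c • a := by
    intro c
    refine h.ext_coords (fun x hx => ?_) fun u v => ?_
    · rw [h.nil_part₀ _ hx, LinearMap.smul_apply, ha0 x hx, smul_zero]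
    · rw [h.nil_ux_iota, LinearMap.smul_apply, h.a_iota, h.iota_apply]
      simp
  have hly : ∀ c : k, nil (h.rep (ly (algebraMap k h.ring c * h.gen))) = c • b := by
    intro c
    refine h.ext_coords (fun x hx => ?_) fun u v => ?_
    · rw [h.nil_part₀ _ hx, LinearMap.smul_apply, hb0 x hx, smul_zero]
    · rw [h.nil_ly_iota, LinearMap.smul_apply, h.b_iota, h.iota_apply]
      simp [Module.algebraMap_end_apply]
  refine ⟨h.ring, _, inferInstance, h.gen, h.rep,
    { lam_ne := h.gen_unit.ne_zero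
      adjoin := h.gen_adjoin
      finite := inferInstanceAs (Module.Finite k h.ring)
      inj := h.rep_inj
      range := ?_
      ux_one := eq_of_nil_eq (by have := hux 1; rwa [map_one, one_smul] at this)
      ly_lam := eq_of_nil_eq (by have := hly 1; rwa [map_one, one_smul, one_mul] at this)
      ux_spaces := fun r => ⟨?_, ?_⟩
      ly_spaces := fun r => ⟨?_, ?_⟩
      ux_smul := fun c r => by rw [← Algebra.smul_def]; exact h.nil_ux_smul c r
      ly_smul := fun c r => by rw [← Algebra.smul_def]; exact h.nil_ly_smul c r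
      ux_triple := fun r s t => ?_
      ly_triple := fun r s t => ?_ }⟩
  · rw [MonoidHom.range_eq_map, ← full_field hk2 hk3 h.gen_adjoin h.gen_unit.ne_zero, SL2Ring.gen,
      MonoidHom.map_closure]
    congr 1
    ext g
    constructor
    · rintro ⟨_, ⟨c, rfl⟩ | ⟨c, rfl⟩, rfl⟩
      · exact Or.inl (mem_scalarFamily.2 ⟨c, hux c⟩)
      · exact Or.inr (mem_scalarFamily.2 ⟨c, hly c⟩)
    · rintro (hg | hg) <;> obtain ⟨c, hc⟩ := mem_scalarFamily.1 hg
      · exact ⟨_, Or.inl ⟨c, rfl⟩, eq_of_nil_eq ((hux c).trans hc.symm)⟩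
      · exact ⟨_, Or.inr ⟨c, rfl⟩, eq_of_nil_eq ((hly c).trans hc.symm)⟩
  · rw [h.nil_ux_range, ← htop]
    exact Submodule.map_subtype_le _ _
  · intro m hm
    obtain ⟨⟨x, u, v⟩, rfl⟩ := h.coords.surjective m
    rw [LinearMap.mem_ker, h.coords_apply, map_add, ha0 x x.2, zero_add, h.a_iota,
      h.iota_apply] at hm
    have hv : v = 0 := Subtype.ext (by simpa using hm)
    rw [LinearMap.mem_ker, h.coords_apply, map_add, h.nil_part₀ _ x.2, zero_add, h.nil_ux_iota, hv,
      map_zero]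
    rfl
  · rintro _ ⟨m, rfl⟩
    obtain ⟨⟨x, u, v⟩, rfl⟩ := h.coords.surjective m
    rw [h.coords_apply, map_add, h.nil_part₀ _ x.2, zero_add, h.nil_ly_iota]
    exact ⟨_, rfl⟩
  · intro m hm
    obtain ⟨⟨x, u, v⟩, rfl⟩ := h.coords.surjective m
    rw [LinearMap.mem_ker, h.coords_apply, map_add, hb0 x x.2, zero_add, h.b_iota] at hm
    have hu : h.lam u = 0 := (Prod.ext_iff.1 (h.iota_inj (hm.trans (map_zero _).symm))).2
    rw [LinearMap.mem_ker, h.coords_apply, map_add, h.nil_part₀ _ x.2, zero_add, h.nil_ly_iota,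
      h.lam_inj hu]
    simp
  · refine h.ext_coords (fun x hx => ?_) fun u v => ?_
    · simp [h.nil_part₀ _ hx]
    · have e1 : ∀ p : top₁ a b N, (p : M) = h.iota (p, 0) := fun p => by simp [h.iota_apply]
      have e2 : ∀ p : top₁ a b N, b (h.inv p : M) = h.iota (0, p) := fun p => by simp [h.iota_apply]
      rw [Module.End.mul_apply, Module.End.mul_apply, h.nil_ux_iota, e1, h.nil_ly_iota, e2,
        h.nil_ux_iota, h.nil_ux_iota]
      rfl
  · refine h.ext_coords (fun x hx => ?_) fun u v => ?_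
    · simp [h.nil_part₀ _ hx]
    · have e1 : ∀ p : top₁ a b N, (p : M) = h.iota (p, 0) := fun p => by simp [h.iota_apply]
      have e2 : ∀ p : top₁ a b N, b (h.inv p : M) = h.iota (0, p) := fun p => by simp [h.iota_apply]
      rw [Module.End.mul_apply, Module.End.mul_apply, h.nil_ly_iota, e2, h.nil_ux_iota, e1,
        h.nil_ly_iota, h.nil_ly_iota]
      rfl

end Cfsg.Agent.Lib.RootSubgroups.QuadPair
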