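import Mathlib
import Cfsg.Agent.Lib.RootSubgroups.QuadPairWords

/-!
Criteria for unipotent action.
-/

set_option autoImplicit false

namespace Cfsg.Agent.Lib.RootSubgroups.QuadPair

open Cfsg

variable {k : Type*} [Field k] {M : Type*} [AddCommGroup M] [Module k M] [FiniteDimensional k M]

/-- A pair of families with nilpotent anticommutator acts unipotently. -/
theorem isUnipotentOn_pair {σ τ : LinearMap.GeneralLinearGroup k M} (hσ : nil σ * nil σ = 0)
    (hτ : nil τ * nil τ = 0) (hz : IsNilpotent (nil σ * nil τ + nil τ * nil σ)) :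
    IsUnipotentOn (Subgroup.closure (scalarFamily σ ∪ scalarFamily τ)) := by
  obtain ⟨n, hn⟩ := hz
  have hF : Antitone (altF (nil σ) (nil τ) (⊤ : Submodule k M)) :=
    altF_antitone (fun _ _ => Submodule.mem_top) (fun _ _ => Submodule.mem_top)
  refine isUnipotentOn_of_filtration hF rfl (altF_eq_bot (i := n) hσ hτ (fun x _ => ?_) fun x _ => ?_) ?_
  · rw [hn, mul_zero]; rfl
  · rw [hn, mul_zero]; rfl
  · rw [Subgroup.closure_le]
    rintro x (hx | hx) <;> obtain ⟨c, hc⟩ := mem_scalarFamily.1 hx <;>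
      rw [SetLike.mem_coe, mem_filtSubgroup, hc]
    · exact Submodule.smul_mem _ _ left_mem_Deg
    · exact Submodule.smul_mem _ _ right_mem_Deg

/-- The increasing flag of a set of maps. -/
def flagUp (S : Set (LinearMap.GeneralLinearGroup k M)) : ℕ → Submodule k M
  | 0 => ⊥
  | n + 1 => ⨅ g ∈ S, (flagUp S n).comap (nil g)

omit [FiniteDimensional k M] in
theorem mem_flagUp_succ {S : Set (LinearMap.GeneralLinearGroup k M)} {n : ℕ} {x : M} :
    x ∈ flagUp S (n + 1) ↔ ∀ g ∈ S, nil g x ∈ flagUp S n := by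
  simp [flagUp, Submodule.mem_iInf]

omit [FiniteDimensional k M] in
theorem flagUp_mono (S : Set (LinearMap.GeneralLinearGroup k M)) : Monotone (flagUp S) := by
  refine monotone_nat_of_le_succ fun n => ?_
  induction n with
  | zero => exact bot_le
  | succ n ih => exact fun x hx => mem_flagUp_succ.2 fun g hg => ih (mem_flagUp_succ.1 hx g hg)

/-- If above every proper invariant subspace some vector is fixed modulo it, the generated group is
unipotent. -/
theorem isUnipotentOn_closure {S : Set (LinearMap.GeneralLinearGroup k M)}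
    (h : ∀ F : Submodule k M, F ≠ ⊤ → (∀ g ∈ S, ∀ x ∈ F, nil g x ∈ F) →
      ∃ x ∉ F, ∀ g ∈ S, nil g x ∈ F) : IsUnipotentOn (Subgroup.closure S) := by
  have hgrow : ∀ i, flagUp S i = ⊤ ∨ i ≤ Module.finrank k (flagUp S i) := by
    intro i
    induction i with
    | zero => exact Or.inr (Nat.zero_le _)
    | succ i ih =>
      rcases ih with h1 | h1
      · exact Or.inl (eq_top_iff.2 (h1 ▸ flagUp_mono S (Nat.le_succ i)))
      by_cases htop : flagUp S i = ⊤
      · exact Or.inl (eq_top_iff.2 (htop ▸ flagUp_mono S (Nat.le_succ i)))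
      obtain ⟨x, hx, hxS⟩ := h _ htop fun g hg y hy =>
        mem_flagUp_succ.1 (flagUp_mono S (Nat.le_succ i) hy) g hg
      have hlt : flagUp S i < flagUp S (i + 1) :=
        lt_of_le_of_ne (flagUp_mono S (Nat.le_succ i)) fun e => hx (e ▸ mem_flagUp_succ.2 hxS)
      have := Submodule.finrank_lt_finrank_of_lt hlt
      exact Or.inr (by omega)
  set N := Module.finrank k M
  have htop : flagUp S N = ⊤ := (hgrow N).elim id fun h1 =>
    Submodule.eq_top_of_finrank_eq (le_antisymm (Submodule.finrank_le _) h1)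
  have hF : Antitone fun j => flagUp S (N - j) :=
    fun i j hij => flagUp_mono S (Nat.sub_le_sub_left hij N)
  refine isUnipotentOn_of_filtration hF htop (N := N) (by simp [flagUp]) ?_
  rw [Subgroup.closure_le]
  intro g hg i x hx
  by_cases hi : i < N
  · have hx' : x ∈ flagUp S (N - (i + 1) + 1) := by
      rw [show N - (i + 1) + 1 = N - i by omega]
      exact hx
    exact mem_flagUp_succ.1 hx' g hg
  · simp only [show N - i = 0 by omega, flagUp, Submodule.mem_bot] at hx
    rw [hx, map_zero]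
    exact zero_mem _

/-- A minimal invariant subspace strictly above a proper invariant one. -/
theorem exists_minimal_over {S : Set (LinearMap.GeneralLinearGroup k M)} {F : Submodule k M}
    (hF : F ≠ ⊤) :
    ∃ W : Submodule k M, F < W ∧ (∀ g ∈ S, ∀ x ∈ W, nil g x ∈ W) ∧
      ∀ W' : Submodule k M, F ≤ W' → W' ≤ W → (∀ g ∈ S, ∀ x ∈ W', nil g x ∈ W') → W' = F ∨ W' = W := by
  obtain ⟨W, ⟨hW1, hW2⟩, hmin⟩ := wellFounded_lt.has_min
    {W : Submodule k M | F < W ∧ ∀ g ∈ S, ∀ x ∈ W, nil g x ∈ W}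
    ⟨⊤, lt_top_iff_ne_top.2 hF, fun _ _ _ _ => Submodule.mem_top⟩
  refine ⟨W, hW1, hW2, fun W' h1 h2 h3 => ?_⟩
  by_contra hne
  push Not at hne
  exact hmin W' ⟨lt_of_le_of_ne h1 (Ne.symm hne.1), h3⟩ (lt_of_le_of_ne h2 hne.2)

end Cfsg.Agent.Lib.RootSubgroups.QuadPair
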