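import Mathlib
import Cfsg.Agent.Lib.RootSubgroups.QuadPairDichotomy
import Cfsg.Agent.Lib.RootSubgroups.QuadPairUnipotent

/-!
Two members of `𝒬_d` which are not opposite: their families commute or have commutators in one
member of `Σ`.
-/

set_option autoImplicit false

namespace Cfsg.Agent.Lib.RootSubgroups.QuadPair

open Cfsg

variable {k : Type*} [Field k] {M : Type*} [AddCommGroup M] [Module k M]
  {G : Subgroup (LinearMap.GeneralLinearGroup k M)} {σ τ : LinearMap.GeneralLinearGroup k M}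

/-- `α β - β α`. -/
abbrev lamb (σ τ : LinearMap.GeneralLinearGroup k M) : Module.End k M :=
  nil σ * nil τ - nil τ * nil σ

/-- All products of three vanish. -/
abbrev WordZero (σ τ : LinearMap.GeneralLinearGroup k M) : Prop :=
  nil σ * nil τ * nil σ = 0 ∧ nil τ * nil σ * nil τ = 0

theorem lamb_mul_left (ha : nil σ * nil σ = 0) (w : WordZero σ τ) :
    lamb σ τ * nil σ = 0 ∧ nil σ * lamb σ τ = 0 := by
  constructor
  · rw [lamb, diff_mul_left ha, left_anti ha, w.1]
  · rw [lamb, mul_diff_left ha, left_anti ha, w.1, neg_zero]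

theorem lamb_mul_right (hb : nil τ * nil τ = 0) (w : WordZero σ τ) :
    lamb σ τ * nil τ = 0 ∧ nil τ * lamb σ τ = 0 := by
  have h := lamb_mul_left (σ := τ) (τ := σ) hb ⟨w.2, w.1⟩
  have e : lamb σ τ = -lamb τ σ := (neg_sub _ _).symm
  constructor
  · rw [e, neg_mul, h.1, neg_zero]
  · rw [e, mul_neg, h.2, neg_zero]

theorem lamb_sq (ha : nil σ * nil σ = 0) (hb : nil τ * nil τ = 0) (w : WordZero σ τ) :
    lamb σ τ * lamb σ τ = 0 := by
  conv_lhs => arg 1; rw [lamb]
  rw [sub_mul, mul_assoc, (lamb_mul_right hb w).2, mul_assoc, (lamb_mul_left ha w).2, mul_zero,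
    mul_zero, sub_zero]

theorem nil_comm_eq (ha : nil σ * nil σ = 0) (hb : nil τ * nil τ = 0) (w : WordZero σ τ)
    {g h : LinearMap.GeneralLinearGroup k M} {c e : k} (hg : nil g = c • nil σ)
    (hh : nil h = e • nil τ) : nil (g * h * g⁻¹ * h⁻¹) = (c * e) • lamb σ τ := by
  have hg2 : nil g * nil g = 0 := by rw [hg, smul_mul_assoc, mul_smul_comm, ha, smul_zero, smul_zero]
  have hh2 : nil h * nil h = 0 := by rw [hh, smul_mul_assoc, mul_smul_comm, hb, smul_zero, smul_zero]
  rw [nil_comm, coe_eq g⁻¹, coe_eq h⁻¹, nil_inv hg2, nil_inv hh2, hg, hh]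
  have e1 : c • nil σ * e • nil τ - e • nil τ * c • nil σ = (c * e) • lamb σ τ := by
    rw [smul_mul_smul_comm, smul_mul_smul_comm, mul_comm e c, ← smul_sub]
  rw [e1, mul_add ((c * e) • lamb σ τ) 1, mul_one, mul_neg, smul_mul_smul_comm, (lamb_mul_left ha w).1, smul_zero,
    neg_zero, add_zero, mul_add, mul_one, mul_neg, smul_mul_smul_comm, (lamb_mul_right hb w).1,
    smul_zero, neg_zero, add_zero]

theorem exists_lamb_family (hσ : σ ∈ minimalQuadraticElements G)
    (hτ : τ ∈ minimalQuadraticElements G) (w : WordZero σ τ) (c : k) :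
    ∃ g ∈ G, nil g = c • lamb σ τ := by
  obtain ⟨g, hg, hgc⟩ := exists_family hσ c
  refine ⟨g * τ * g⁻¹ * τ⁻¹, ?_, ?_⟩
  · exact mul_mem (mul_mem (mul_mem (scalarFamily_sub hσ hg) hτ.1.1)
      (inv_mem (scalarFamily_sub hσ hg))) (inv_mem hτ.1.1)
  · rw [nil_comm_eq (sq_zero hσ) (sq_zero hτ) w hgc (e := 1) (by rw [one_smul]), mul_one]

/-- The spaces of the bracket of two members. -/
structure Tight (σ τ : LinearMap.GeneralLinearGroup k M) : Prop where
  map_left : (LinearMap.range (nil τ)).map (nil σ) =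
    LinearMap.range (nil σ) ⊓ LinearMap.ker (nil τ)
  map_right : (LinearMap.range (nil σ)).map (nil τ) =
    LinearMap.range (nil τ) ⊓ LinearMap.ker (nil σ)
  disjoint : Disjoint (LinearMap.range (nil σ) ⊓ LinearMap.ker (nil τ))
    (LinearMap.range (nil τ) ⊓ LinearMap.ker (nil σ))
  range_eq : LinearMap.range (lamb σ τ) = (LinearMap.range (nil σ) ⊓ LinearMap.ker (nil τ)) ⊔
    (LinearMap.range (nil τ) ⊓ LinearMap.ker (nil σ))
  ker_eq : LinearMap.ker (lamb σ τ) = (LinearMap.range (nil τ) ⊔ LinearMap.ker (nil σ)) ⊓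
    (LinearMap.range (nil σ) ⊔ LinearMap.ker (nil τ))
  rank : Module.finrank k (LinearMap.range (lamb σ τ)) = Module.finrank k (LinearMap.range (nil σ))

variable [FiniteDimensional k M]

theorem tight (hσ : σ ∈ minimalQuadraticElements G) (hτ : τ ∈ minimalQuadraticElements G)
    (w : WordZero σ τ) (h0 : lamb σ τ ≠ 0) : Tight σ τ := by
  set a := nil σ with ha
  set b := nil τ with hb
  set R₁ := LinearMap.range a
  set R₂ := LinearMap.range b
  have hA : R₂.map a ≤ R₁ ⊓ LinearMap.ker b := by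
    rintro _ ⟨_, ⟨x, rfl⟩, rfl⟩
    exact ⟨⟨_, rfl⟩, congrArg (fun f : Module.End k M => f x) w.2⟩
  have hB : R₁.map b ≤ R₂ ⊓ LinearMap.ker a := by
    rintro _ ⟨_, ⟨x, rfl⟩, rfl⟩
    exact ⟨⟨_, rfl⟩, congrArg (fun f : Module.End k M => f x) w.1⟩
  have hle : LinearMap.range (lamb σ τ) ≤ R₂.map a ⊔ R₁.map b := by
    rintro _ ⟨x, rfl⟩
    exact sub_mem (Submodule.mem_sup_left ⟨_, ⟨x, rfl⟩, rfl⟩)
      (Submodule.mem_sup_right ⟨_, ⟨x, rfl⟩, rfl⟩)
  have hd : Module.finrank k R₁ ≤ Module.finrank k (LinearMap.range (lamb σ τ)) :=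
    rank_le_of_family hσ h0 (lamb_sq (sq_zero hσ) (sq_zero hτ) w)
    (exists_lamb_family hσ hτ w)
  have h1 : Module.finrank k (R₂.map a) + Module.finrank k ↥(R₂ ⊓ LinearMap.ker a) =
      Module.finrank k R₂ := finrank_map_add_inf_ker a R₂
  have h2 : Module.finrank k (R₁.map b) + Module.finrank k ↥(R₁ ⊓ LinearMap.ker b) =
      Module.finrank k R₁ := finrank_map_add_inf_ker b R₁
  have h3 : Module.finrank k R₂ = Module.finrank k R₁ := rank_eq hτ hσ
  have h4 := Submodule.finrank_mono hle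
  have h5 := Submodule.finrank_sup_add_finrank_inf_eq (R₂.map a) (R₁.map b)
  have h6 := Submodule.finrank_mono hA
  have h7 := Submodule.finrank_mono hB
  have eA := Submodule.eq_of_le_of_finrank_le hA (by omega)
  have eB := Submodule.eq_of_le_of_finrank_le hB (by omega)
  have eR := Submodule.eq_of_le_of_finrank_le hle (by omega)
  have hdis : R₂.map a ⊓ R₁.map b = ⊥ := Submodule.finrank_eq_zero.1 (by omega)
  refine ⟨eA, eB, ?_, ?_, ?_, ?_⟩
  · rw [disjoint_iff, ← eA, ← eB]; exact hdis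
  · rw [eR, eA, eB]
  · refine le_antisymm (fun x hx => ?_) ?_
    · rw [LinearMap.mem_ker, lamb, LinearMap.sub_apply, sub_eq_zero] at hx
      have h8 : a (b x) = 0 := by
        refine (Submodule.eq_bot_iff _).1 hdis _ ⟨⟨_, ⟨x, rfl⟩, rfl⟩, ?_⟩
        rw [← Module.End.mul_apply, hx]
        exact ⟨_, ⟨x, rfl⟩, rfl⟩
      have h9 : b (a x) = 0 := by rw [← Module.End.mul_apply, ← hx]; exact h8
      constructor
      · obtain ⟨_, ⟨y, rfl⟩, hy⟩ : a x ∈ R₂.map a := eA ▸ ⟨⟨x, rfl⟩, h9⟩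
        refine Submodule.mem_sup.2 ⟨b y, ⟨y, rfl⟩, x - b y, ?_, add_sub_cancel _ _⟩
        rw [LinearMap.mem_ker, map_sub, hy, sub_self]
      · obtain ⟨_, ⟨y, rfl⟩, hy⟩ : b x ∈ R₁.map b := eB ▸ ⟨⟨x, rfl⟩, h8⟩
        refine Submodule.mem_sup.2 ⟨a y, ⟨y, rfl⟩, x - a y, ?_, add_sub_cancel _ _⟩
        rw [LinearMap.mem_ker, map_sub, hy, sub_self]
    · rintro x ⟨hx1, hx2⟩
      obtain ⟨_, ⟨y, rfl⟩, u, hu, hxu⟩ := Submodule.mem_sup.1 hx1
      obtain ⟨_, ⟨y', rfl⟩, v, hv, hxv⟩ := Submodule.mem_sup.1 hx2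
      have e1 : b (a x) = 0 := by
        rw [← hxu, map_add, LinearMap.mem_ker.1 hu, add_zero]
        exact congrArg (fun f : Module.End k M => f y) w.2
      have e2 : a (b x) = 0 := by
        rw [← hxv, map_add, LinearMap.mem_ker.1 hv, add_zero]
        exact congrArg (fun f : Module.End k M => f y') w.1
      show a (b x) - b (a x) = 0
      rw [e1, e2, sub_zero]
  · show Module.finrank k (LinearMap.range (lamb σ τ)) = Module.finrank k R₁
    omega

omit [FiniteDimensional k M] in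
theorem map_eq_of_lamb_zero (h : lamb σ τ = 0) :
    (LinearMap.range (nil τ)).map (nil σ) = (LinearMap.range (nil σ)).map (nil τ) := by
  rw [← LinearMap.range_comp, ← LinearMap.range_comp, ← Module.End.mul_eq_comp,
    ← Module.End.mul_eq_comp, sub_eq_zero.1 h]

/-- Whether two members commute depends only on their spaces. -/
theorem not_lamb_zero_of_spaces {σ' τ' : LinearMap.GeneralLinearGroup k M}
    (hσ : σ ∈ minimalQuadraticElements G) (hτ : τ ∈ minimalQuadraticElements G)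
    (w : WordZero σ τ) (h : lamb σ τ = 0)
    (h1 : LinearMap.range (nil σ') = LinearMap.range (nil σ))
    (h2 : LinearMap.ker (nil σ') = LinearMap.ker (nil σ))
    (h3 : LinearMap.range (nil τ') = LinearMap.range (nil τ))
    (h4 : LinearMap.ker (nil τ') = LinearMap.ker (nil τ)) : ¬ Tight σ' τ' := by
  intro t
  have hW : (LinearMap.range (nil τ)).map (nil σ) = ⊥ := by
    refine eq_bot_iff.2 ((le_inf ?_ ?_).trans t.disjoint.le_bot)
    · rw [h1, h4]
      rintro _ ⟨_, ⟨x, rfl⟩, rfl⟩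
      exact ⟨⟨_, rfl⟩, congrArg (fun f : Module.End k M => f x) w.2⟩
    · rw [map_eq_of_lamb_zero h, h2, h3]
      rintro _ ⟨_, ⟨x, rfl⟩, rfl⟩
      exact ⟨⟨_, rfl⟩, congrArg (fun f : Module.End k M => f x) w.1⟩
  have hW' := hW
  rw [map_eq_of_lamb_zero h] at hW'
  rw [← LinearMap.le_ker_iff_map] at hW hW'
  have e1 : LinearMap.range (nil σ') ⊓ LinearMap.ker (nil τ') = LinearMap.range (nil σ) := by
    rw [h1, h4, inf_eq_left]; exact hW'
  have e2 : LinearMap.range (nil τ') ⊓ LinearMap.ker (nil σ') = LinearMap.range (nil τ) := by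
    rw [h3, h2, inf_eq_left]; exact hW
  have e5 := Submodule.finrank_sup_add_finrank_inf_eq (LinearMap.range (nil σ)) (LinearMap.range (nil τ))
  have e6 := t.disjoint
  rw [e1, e2, disjoint_iff] at e6
  have e7 := t.rank
  rw [t.range_eq, e1, e2, h1] at e7
  rw [e6, finrank_bot] at e5
  have := rank_eq hτ hσ
  have := rank_pos hτ
  omega

/-! ### The subgroups -/

theorem mem_cases {x : LinearMap.GeneralLinearGroup k M} (hσ : σ ∈ minimalQuadraticElements G)
    (hx : x ∈ sameActionSubgroup G σ) : x = 1 ∨ x ∈ sameActionClass G σ := by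
  rw [← SetLike.mem_coe, sameActionSubgroup_eq hσ] at hx
  exact hx.symm

variable (hk2 : (2 : k) ≠ 0) (hk3 : Nat.card k ≠ 3) (hσ : σ ∈ minimalQuadraticElements G)
  (hτ : τ ∈ minimalQuadraticElements G) (hno : ¬ Opp σ τ)

include hk2 hk3 hσ hτ hno

theorem wordZero_of_mem {x y : LinearMap.GeneralLinearGroup k M}
    (hx : x ∈ sameActionSubgroup G σ) (hy : y ∈ sameActionSubgroup G τ) : WordZero x y := by
  rcases mem_cases hσ hx with rfl | hx
  · constructor <;> simp [nil_one]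
  rcases mem_cases hτ hy with rfl | hy
  · constructor <;> simp [nil_one]
  exact not_opp_word_zero hk2 hk3 hx.1 hy.1 fun h => hno ((opp_congr hx hy).1 h)

theorem polar_left {x x' y : LinearMap.GeneralLinearGroup k M} (hx : x ∈ sameActionSubgroup G σ)
    (hx' : x' ∈ sameActionSubgroup G σ) (hy : y ∈ sameActionSubgroup G τ) :
    nil x * nil y * nil x' = -(nil x' * nil y * nil x) := by
  have h := (wordZero_of_mem hk2 hk3 hσ hτ hno (mul_mem hx hx') hy).1
  have h1 := (wordZero_of_mem hk2 hk3 hσ hτ hno hx hy).1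
  have h2 := (wordZero_of_mem hk2 hk3 hσ hτ hno hx' hy).1
  rw [nil_mul, sameActionSubgroup_comm hσ hx hx', add_zero, add_mul, add_mul, mul_add, mul_add,
    h1, h2, zero_add, add_zero] at h
  exact eq_neg_of_add_eq_zero_left h

theorem lamb_comm_left {x x' y : LinearMap.GeneralLinearGroup k M}
    (hx : x ∈ sameActionSubgroup G σ) (hx' : x' ∈ sameActionSubgroup G σ)
    (hy : y ∈ sameActionSubgroup G τ) : Commute (lamb x y) (nil x') := by
  show lamb x y * nil x' = nil x' * lamb x y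
  rw [lamb, sub_mul (nil x * nil y), mul_sub (nil x') (nil x * nil y), mul_assoc (nil y), sameActionSubgroup_comm hσ hx hx', mul_zero,
    sub_zero, ← mul_assoc (nil x'), sameActionSubgroup_comm hσ hx' hx, zero_mul, zero_sub,
    polar_left hk2 hk3 hσ hτ hno hx hx' hy, mul_assoc]

theorem lamb_comm_right {x y y' : LinearMap.GeneralLinearGroup k M}
    (hx : x ∈ sameActionSubgroup G σ) (hy : y ∈ sameActionSubgroup G τ)
    (hy' : y' ∈ sameActionSubgroup G τ) : Commute (lamb x y) (nil y') := by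
  have h := lamb_comm_left hk2 hk3 hτ hσ (fun h => hno h.symm) hy hy' hx
  rw [show lamb x y = -lamb y x from (neg_sub _ _).symm]
  exact h.neg_left

theorem nil_comm_mem {x y : LinearMap.GeneralLinearGroup k M} (hx : x ∈ sameActionSubgroup G σ)
    (hy : y ∈ sameActionSubgroup G τ) : nil (x * y * x⁻¹ * y⁻¹) = lamb x y := by
  rw [nil_comm_eq (sameActionSubgroup_comm hσ hx hx) (sameActionSubgroup_comm hτ hy hy)
    (wordZero_of_mem hk2 hk3 hσ hτ hno hx hy) (c := 1) (e := 1) (one_smul _ _).symm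
    (one_smul _ _).symm, one_mul, one_smul]

theorem commute_bracket {x y z : LinearMap.GeneralLinearGroup k M}
    (hx : x ∈ sameActionSubgroup G σ) (hy : y ∈ sameActionSubgroup G τ)
    (hz : z ∈ sameActionSubgroup G σ ∨ z ∈ sameActionSubgroup G τ) :
    Commute (x * y * x⁻¹ * y⁻¹) z := by
  have h : Commute (lamb x y) (nil z) := hz.elim (fun h => lamb_comm_left hk2 hk3 hσ hτ hno hx h hy)
    (fun h => lamb_comm_right hk2 hk3 hσ hτ hno hx hy h)
  refine Units.ext ?_
  rw [Units.val_mul (x * y * x⁻¹ * y⁻¹) z, Units.val_mul z, coe_eq (x * y * x⁻¹ * y⁻¹), coe_eq z,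
    nil_comm_mem hk2 hk3 hσ hτ hno hx hy]
  exact (((Commute.one_left _).add_left ((Commute.one_right _).add_right h))).eq

theorem lamb_eq_zero_iff {x y : LinearMap.GeneralLinearGroup k M} (hx : x ∈ sameActionClass G σ)
    (hy : y ∈ sameActionClass G τ) : lamb x y = 0 ↔ lamb σ τ = 0 := by
  have w : WordZero x y := wordZero_of_mem hk2 hk3 hσ hτ hno (Subgroup.subset_closure hx)
    (Subgroup.subset_closure hy)
  have w0 : WordZero σ τ := not_opp_word_zero hk2 hk3 hσ hτ hno
  constructor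
  · intro h
    by_contra h0
    exact not_lamb_zero_of_spaces hx.1 hy.1 w h hx.2.2.symm hx.2.1.symm hy.2.2.symm hy.2.1.symm
      (tight hσ hτ w0 h0)
  · intro h
    by_contra h0
    exact not_lamb_zero_of_spaces hσ hτ w0 h hx.2.2 hx.2.1 hy.2.2 hy.2.1 (tight hx.1 hy.1 w h0)

theorem bot_of_lamb_zero (h : lamb σ τ = 0) :
    ⁅sameActionSubgroup G σ, sameActionSubgroup G τ⁆ = ⊥ := by
  rw [eq_bot_iff, Subgroup.commutator_le]
  intro x hx y hy
  rw [Subgroup.mem_bot, commutatorElement_def]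
  apply eq_of_nil_eq
  rw [nil_comm_mem hk2 hk3 hσ hτ hno hx hy, nil_one]
  rcases mem_cases hσ hx with rfl | hx
  · simp [lamb, nil_one]
  rcases mem_cases hτ hy with rfl | hy
  · simp [lamb, nil_one]
  exact (lamb_eq_zero_iff hk2 hk3 hσ hτ hno hx hy).2 h

theorem exists_bracket_root (h : lamb σ τ ≠ 0) :
    ∃ γ ∈ minimalQuadraticElements G, nil γ = lamb σ τ ∧
      ∀ x ∈ sameActionSubgroup G σ, ∀ y ∈ sameActionSubgroup G τ,
        x * y * x⁻¹ * y⁻¹ ∈ sameActionSubgroup G γ ∧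
          (x ≠ 1 → y ≠ 1 → x * y * x⁻¹ * y⁻¹ ≠ 1) := by
  have w0 : WordZero σ τ := not_opp_word_zero hk2 hk3 hσ hτ hno
  have t0 := tight hσ hτ w0 h
  obtain ⟨γ, hγ, e⟩ := minimal_of_family hσ h (lamb_sq (sq_zero hσ) (sq_zero hτ) w0)
    (exists_lamb_family hσ hτ w0) t0.rank.le
  refine ⟨γ, hγ, e, fun x hx y hy => ?_⟩
  rcases mem_cases hσ hx with rfl | hx'
  · refine ⟨?_, fun h => absurd rfl h⟩
    simp
  rcases mem_cases hτ hy with rfl | hy'
  · refine ⟨?_, fun _ h => absurd rfl h⟩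
    simp
  have w : WordZero x y := wordZero_of_mem hk2 hk3 hσ hτ hno hx hy
  have hne : lamb x y ≠ 0 := fun h0 => h ((lamb_eq_zero_iff hk2 hk3 hσ hτ hno hx' hy').1 h0)
  have t := tight hx'.1 hy'.1 w hne
  obtain ⟨ρ, hρ, e'⟩ := minimal_of_family hx'.1 hne (lamb_sq (sq_zero hx'.1) (sq_zero hy'.1) w)
    (exists_lamb_family hx'.1 hy'.1 w) t.rank.le
  have er : x * y * x⁻¹ * y⁻¹ = ρ :=
    eq_of_nil_eq ((nil_comm_mem hk2 hk3 hσ hτ hno hx hy).trans e'.symm)
  have hr1 : LinearMap.range (nil x) = LinearMap.range (nil σ) := hx'.2.2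
  have hk1 : LinearMap.ker (nil x) = LinearMap.ker (nil σ) := hx'.2.1
  have hr2 : LinearMap.range (nil y) = LinearMap.range (nil τ) := hy'.2.2
  have hk2' : LinearMap.ker (nil y) = LinearMap.ker (nil τ) := hy'.2.1
  refine ⟨?_, fun _ _ h1 => hne ?_⟩
  · rw [er]
    refine Subgroup.subset_closure ⟨hρ, ?_, ?_⟩
    · show LinearMap.ker (nil ρ) = LinearMap.ker (nil γ)
      rw [e', e, t.ker_eq, t0.ker_eq, hr1, hr2, hk1, hk2']
    · show LinearMap.range (nil ρ) = LinearMap.range (nil γ)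
      rw [e', e, t.range_eq, t0.range_eq, hr1, hr2, hk1, hk2']
  · rw [← nil_comm_mem hk2 hk3 hσ hτ hno hx hy, h1, nil_one]

theorem commutator_le_root (h : lamb σ τ ≠ 0) :
    ∃ γ ∈ minimalQuadraticElements G, nil γ = lamb σ τ ∧
      ⁅sameActionSubgroup G σ, sameActionSubgroup G τ⁆ ≤ sameActionSubgroup G γ := by
  obtain ⟨γ, hγ, e, hall⟩ := exists_bracket_root hk2 hk3 hσ hτ hno h
  exact ⟨γ, hγ, e, Subgroup.commutator_le.2 fun x hx y hy => (hall x hx y hy).1⟩

theorem isUnipotentOn_sup :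
    IsUnipotentOn (sameActionSubgroup G σ ⊔ sameActionSubgroup G τ) := by
  rw [← Subgroup.closure_eq (sameActionSubgroup G σ), ← Subgroup.closure_eq (sameActionSubgroup G τ),
    ← Subgroup.closure_union]
  set S : Set (LinearMap.GeneralLinearGroup k M) :=
    ↑(sameActionSubgroup G σ) ∪ ↑(sameActionSubgroup G τ)
  refine isUnipotentOn_closure fun F hF hFi => ?_
  obtain ⟨W, hFW, hWi, hmin⟩ := exists_minimal_over (S := S) hF
  have hlam : ∀ x ∈ sameActionSubgroup G σ, ∀ y ∈ sameActionSubgroup G τ,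
      ∀ v ∈ W, lamb x y v ∈ F := by
    intro x hx y hy v hv
    set D := lamb x y
    have hD : D * D = 0 := lamb_sq (sameActionSubgroup_comm hσ hx hx)
      (sameActionSubgroup_comm hτ hy hy) (wordZero_of_mem hk2 hk3 hσ hτ hno hx hy)
    have hDle : ∀ u ∈ W, D u ∈ W := fun u hu =>
      sub_mem (hWi x (Or.inl hx) _ (hWi y (Or.inr hy) u hu))
        (hWi y (Or.inr hy) _ (hWi x (Or.inl hx) u hu))
    have hDF : ∀ u ∈ F, D u ∈ F := fun u hu =>
      sub_mem (hFi x (Or.inl hx) _ (hFi y (Or.inr hy) u hu))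
        (hFi y (Or.inr hy) _ (hFi x (Or.inl hx) u hu))
    rcases hmin (W.map D ⊔ F) le_sup_right
      (sup_le (Submodule.map_le_iff_le_comap.2 hDle) hFW.le) (fun g hg m hm => by
        obtain ⟨_, ⟨u, hu, rfl⟩, f, hf, rfl⟩ := Submodule.mem_sup.1 hm
        have hc : Commute D (nil g) := hg.elim (fun h => lamb_comm_left hk2 hk3 hσ hτ hno hx h hy)
          (fun h => lamb_comm_right hk2 hk3 hσ hτ hno hx hy h)
        rw [map_add]
        refine Submodule.add_mem_sup ⟨nil g u, hWi g hg u hu, ?_⟩ (hFi g hg f hf)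
        exact congrArg (fun q : Module.End k M => q u) hc.eq) with h1 | h1
    · exact h1 ▸ Submodule.mem_sup_left ⟨v, hv, rfl⟩
    · obtain ⟨_, ⟨u, -, rfl⟩, f, hf, rfl⟩ := Submodule.mem_sup.1 (h1.symm ▸ hv)
      rw [map_add, ← Module.End.mul_apply, hD]
      simpa using hDF f hf
  have hgen : ∀ g ∈ S, ∀ v ∈ W, nil g v ∈ F := by
    intro g hg v hv
    rcases hmin (W.map (nil g) ⊔ F) le_sup_right
      (sup_le (Submodule.map_le_iff_le_comap.2 (hWi g hg)) hFW.le) (fun g' hg' m hm => by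
        obtain ⟨_, ⟨u, hu, rfl⟩, f, hf, rfl⟩ := Submodule.mem_sup.1 hm
        rw [map_add]
        refine add_mem ?_ (Submodule.mem_sup_right (hFi g' hg' f hf))
        rcases hg with hg | hg <;> rcases hg' with hg' | hg'
        · rw [← Module.End.mul_apply, sameActionSubgroup_comm hσ hg' hg]
          exact zero_mem _
        · have e : nil g' (nil g u) = nil g (nil g' u) - lamb g g' u :=
            (sub_sub_cancel _ _).symm
          rw [e]
          exact sub_mem (Submodule.mem_sup_left ⟨_, hWi g' (Or.inr hg') u hu, rfl⟩)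
            (Submodule.mem_sup_right (hlam g hg g' hg' u hu))
        · have e : nil g' (nil g u) = nil g (nil g' u) + lamb g' g u := (add_sub_cancel _ _).symm
          rw [e]
          exact add_mem (Submodule.mem_sup_left ⟨_, hWi g' (Or.inl hg') u hu, rfl⟩)
            (Submodule.mem_sup_right (hlam g' hg' g hg u hu))
        · rw [← Module.End.mul_apply, sameActionSubgroup_comm hτ hg' hg]
          exact zero_mem _) with h1 | h1
    · exact h1 ▸ Submodule.mem_sup_left ⟨v, hv, rfl⟩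
    · obtain ⟨_, ⟨u, -, rfl⟩, f, hf, rfl⟩ := Submodule.mem_sup.1 (h1.symm ▸ hv)
      have h0 : nil g * nil g = 0 := hg.elim (fun h => sameActionSubgroup_comm hσ h h)
        (fun h => sameActionSubgroup_comm hτ h h)
      rw [map_add, ← Module.End.mul_apply, h0]
      simpa using hFi g hg f hf
  obtain ⟨x, hxW, hxF⟩ := SetLike.exists_of_lt hFW
  exact ⟨x, hxF, fun g hg => hgen g hg x hxW⟩

end Cfsg.Agent.Lib.RootSubgroups.QuadPair
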