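import Mathlib
import Cfsg.Agent.Lib.RootSubgroups.Conj
import Cfsg.Agent.Lib.RootSubgroups.QuadPairWords

/-!
Conjugation of `𝒬_d` and of the subgroups `E(σ)`.
-/

set_option autoImplicit false

namespace Cfsg.Agent.Lib.RootSubgroups.QuadPair

open Cfsg

variable {k : Type*} [Field k] {M : Type*} [AddCommGroup M] [Module k M]
  {G : Subgroup (LinearMap.GeneralLinearGroup k M)} {σ τ g : LinearMap.GeneralLinearGroup k M}

theorem nil_conj (g σ : LinearMap.GeneralLinearGroup k M) :
    nil (g * σ * g⁻¹) = (g : Module.End k M) * nil σ *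
      ((g⁻¹ : LinearMap.GeneralLinearGroup k M) : Module.End k M) := by
  simp only [nil, Units.val_mul, mul_sub, sub_mul, mul_one]
  rw [← Units.val_mul g g⁻¹, mul_inv_cancel, Units.val_one]

theorem val_inv_apply (g : LinearMap.GeneralLinearGroup k M) (x : M) :
    ((g⁻¹ : LinearMap.GeneralLinearGroup k M) : Module.End k M) ((g : Module.End k M) x) = x := by
  rw [← Module.End.mul_apply, ← Units.val_mul, inv_mul_cancel]; rfl

theorem apply_val_inv (g : LinearMap.GeneralLinearGroup k M) (x : M) :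
    (g : Module.End k M) (((g⁻¹ : LinearMap.GeneralLinearGroup k M) : Module.End k M) x) = x := by
  rw [← Module.End.mul_apply, ← Units.val_mul, mul_inv_cancel]; rfl

theorem val_injective (g : LinearMap.GeneralLinearGroup k M) :
    Function.Injective (g : Module.End k M) :=
  Function.LeftInverse.injective (val_inv_apply g)

theorem range_nil_conj (g σ : LinearMap.GeneralLinearGroup k M) :
    LinearMap.range (nil (g * σ * g⁻¹)) = (LinearMap.range (nil σ)).map (g : Module.End k M) := by
  rw [nil_conj]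
  refine le_antisymm ?_ ?_
  · rintro _ ⟨x, rfl⟩
    exact ⟨_, ⟨_, rfl⟩, rfl⟩
  · rintro _ ⟨_, ⟨x, rfl⟩, rfl⟩
    refine ⟨(g : Module.End k M) x, ?_⟩
    rw [Module.End.mul_apply, Module.End.mul_apply, val_inv_apply]

theorem ker_nil_conj (g σ : LinearMap.GeneralLinearGroup k M) :
    LinearMap.ker (nil (g * σ * g⁻¹)) = (LinearMap.ker (nil σ)).map (g : Module.End k M) := by
  rw [nil_conj]
  refine le_antisymm (fun x hx => ?_) ?_
  · refine ⟨((g⁻¹ : LinearMap.GeneralLinearGroup k M) : Module.End k M) x, ?_, apply_val_inv g x⟩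
    rw [SetLike.mem_coe, LinearMap.mem_ker]
    apply val_injective g
    rw [map_zero]
    exact hx
  · rintro _ ⟨x, hx, rfl⟩
    rw [LinearMap.mem_ker, Module.End.mul_apply, Module.End.mul_apply, val_inv_apply,
      LinearMap.mem_ker.1 hx, map_zero]

theorem rank_conj (g σ : LinearMap.GeneralLinearGroup k M) :
    commutatorRank (g * σ * g⁻¹) = commutatorRank σ := by
  show Module.finrank k (LinearMap.range (nil (g * σ * g⁻¹))) = _
  rw [range_nil_conj]
  exact (Submodule.equivMapOfInjective _ (val_injective g) _).finrank_eq.symm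

theorem quadratic_conj (hg : g ∈ G) (hσ : σ ∈ quadraticElements G) :
    g * σ * g⁻¹ ∈ quadraticElements G := by
  refine ⟨mul_mem (mul_mem hg hσ.1) (inv_mem hg), ⟨?_, ?_⟩, fun π hπ => ?_⟩
  · show nil _ * nil _ = 0
    have h0 : nil σ * nil σ = 0 := hσ.2.1.1
    have h1 : ((g⁻¹ : LinearMap.GeneralLinearGroup k M) : Module.End k M) * (g : Module.End k M) = 1 := by
      rw [← Units.val_mul, inv_mul_cancel, Units.val_one]
    rw [nil_conj]
    calc (g : Module.End k M) * nil σ * ((g⁻¹ : LinearMap.GeneralLinearGroup k M) : Module.End k M) *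
          ((g : Module.End k M) * nil σ * ((g⁻¹ : LinearMap.GeneralLinearGroup k M) : Module.End k M))
        = (g : Module.End k M) * nil σ * (((g⁻¹ : LinearMap.GeneralLinearGroup k M) : Module.End k M) *
          (g : Module.End k M)) * (nil σ * ((g⁻¹ : LinearMap.GeneralLinearGroup k M) : Module.End k M)) := by
          simp only [mul_assoc]
      _ = 0 := by rw [h1, mul_one, mul_assoc, ← mul_assoc (nil σ), h0, zero_mul, mul_zero]
  · show nil _ ≠ 0
    intro h
    refine hσ.2.1.2 (show nil σ = 0 from ?_)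
    have e : g⁻¹ * (g * σ * g⁻¹) * (g⁻¹)⁻¹ = σ := by group
    rw [← e, nil_conj, h, mul_zero, zero_mul]
  · obtain ⟨c, hc⟩ := mem_scalarFamily.1 hπ
    have e : π = g * (g⁻¹ * π * g) * g⁻¹ := by group
    rw [e]
    refine mul_mem (mul_mem hg (hσ.2.2 (mem_scalarFamily.2 ⟨c, ?_⟩))) (inv_mem hg)
    have e2 : g⁻¹ * π * g = g⁻¹ * π * (g⁻¹)⁻¹ := by group
    rw [e2, nil_conj, hc, nil_conj, inv_inv, mul_smul_comm, smul_mul_assoc]
    congr 1
    rw [← mul_assoc, ← mul_assoc, ← Units.val_mul, inv_mul_cancel, Units.val_one, one_mul, mul_assoc,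
      ← Units.val_mul, inv_mul_cancel, Units.val_one, mul_one]

theorem minimal_conj (hg : g ∈ G) (hσ : σ ∈ minimalQuadraticElements G) :
    g * σ * g⁻¹ ∈ minimalQuadraticElements G :=
  ⟨quadratic_conj hg hσ.1, fun π hπ => rank_conj g σ ▸ hσ.2 π hπ⟩

theorem conjBy_sameActionSubgroup (hg : g ∈ G) (σ : LinearMap.GeneralLinearGroup k M) :
    conjBy (sameActionSubgroup G σ) g = sameActionSubgroup G (g * σ * g⁻¹) := by
  rw [sameActionSubgroup, conjBy, MonoidHom.map_closure, sameActionSubgroup]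
  congr 1
  ext x
  constructor
  · rintro ⟨τ, ⟨hτ, hk, hr⟩, rfl⟩
    refine ⟨minimal_conj hg hτ, ?_, ?_⟩
    · show LinearMap.ker (nil (g * τ * g⁻¹)) = LinearMap.ker (nil (g * σ * g⁻¹))
      rw [ker_nil_conj, ker_nil_conj]; exact congrArg _ hk
    · show LinearMap.range (nil (g * τ * g⁻¹)) = LinearMap.range (nil (g * σ * g⁻¹))
      rw [range_nil_conj, range_nil_conj]; exact congrArg _ hr
  · rintro ⟨hx, hk, hr⟩
    refine ⟨g⁻¹ * x * g, ⟨?_, ?_, ?_⟩, by simp [mul_assoc]⟩
    · have h := minimal_conj (inv_mem hg) hx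
      rwa [inv_inv] at h
    · show LinearMap.ker (nil (g⁻¹ * x * g)) = LinearMap.ker (nil σ)
      apply Submodule.map_injective_of_injective (val_injective g)
      rw [← ker_nil_conj, ← ker_nil_conj, show g * (g⁻¹ * x * g) * g⁻¹ = x by group]
      exact hk
    · show LinearMap.range (nil (g⁻¹ * x * g)) = LinearMap.range (nil σ)
      apply Submodule.map_injective_of_injective (val_injective g)
      rw [← range_nil_conj, ← range_nil_conj, show g * (g⁻¹ * x * g) * g⁻¹ = x by group]
      exact hr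

theorem sameActionSubgroup_congr (hτ : τ ∈ sameActionClass G σ) :
    sameActionSubgroup G τ = sameActionSubgroup G σ := by
  rw [sameActionSubgroup, sameActionSubgroup]
  congr 1
  ext x
  exact ⟨fun h => ⟨h.1, h.2.1.trans hτ.2.1, h.2.2.trans hτ.2.2⟩,
    fun h => ⟨h.1, h.2.1.trans hτ.2.1.symm, h.2.2.trans hτ.2.2.symm⟩⟩

theorem sameActionSubgroup_le (G : Subgroup (LinearMap.GeneralLinearGroup k M))
    (σ : LinearMap.GeneralLinearGroup k M) : sameActionSubgroup G σ ≤ G :=
  (Subgroup.closure_le G).2 fun _ h => h.1.1.1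

theorem self_mem (hσ : σ ∈ minimalQuadraticElements G) : σ ∈ sameActionSubgroup G σ :=
  Subgroup.subset_closure ⟨hσ, rfl, rfl⟩

theorem ne_one (hσ : σ ∈ minimalQuadraticElements G) : σ ≠ 1 :=
  fun h => nil_ne_zero hσ (by rw [h, nil_one])

theorem sameActionSubgroup_ne_bot (hσ : σ ∈ minimalQuadraticElements G) :
    sameActionSubgroup G σ ≠ ⊥ :=
  fun h => ne_one hσ (Subgroup.mem_bot.1 (h ▸ self_mem hσ))

theorem commute_sameAction [FiniteDimensional k M] (hσ : σ ∈ minimalQuadraticElements G)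
    {x y : LinearMap.GeneralLinearGroup k M} (hx : x ∈ sameActionSubgroup G σ)
    (hy : y ∈ sameActionSubgroup G σ) : x * y = y * x := by
  apply eq_of_nil_eq
  rw [nil_mul, nil_mul, sameActionSubgroup_comm hσ hx hy, sameActionSubgroup_comm hσ hy hx,
    add_comm (nil x)]

theorem isMulCommutative_sameAction [FiniteDimensional k M]
    (hσ : σ ∈ minimalQuadraticElements G) : IsMulCommutative (sameActionSubgroup G σ) :=
  ⟨⟨fun x y => Subtype.ext (commute_sameAction hσ x.2 y.2)⟩⟩

end Cfsg.Agent.Lib.RootSubgroups.QuadPair
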