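import Mathlib
import Cfsg.Agent.Lib.RootSubgroups.QuadPairConj
import Cfsg.Agent.Lib.RootSubgroups.QuadPairClassTwo

/-!
When two members of `Σ` commute.
-/

set_option autoImplicit false

namespace Cfsg.Agent.Lib.RootSubgroups.QuadPair

open Cfsg

variable {k : Type*} [Field k] {M : Type*} [AddCommGroup M] [Module k M] [FiniteDimensional k M]
  {G : Subgroup (LinearMap.GeneralLinearGroup k M)} {σ τ : LinearMap.GeneralLinearGroup k M}

omit [FiniteDimensional k M] in
theorem commute_nil {x y : LinearMap.GeneralLinearGroup k M} (h : x * y = y * x) :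
    nil x * nil y = nil y * nil x := by
  have e := congrArg nil h
  rw [nil_mul, nil_mul, add_comm (nil y) (nil x)] at e
  exact add_left_cancel e

omit [FiniteDimensional k M] in
theorem not_opp_of_commute (hσ : σ ∈ minimalQuadraticElements G)
    (hτ : τ ∈ minimalQuadraticElements G) (h : σ * τ = τ * σ) : ¬ Opp σ τ := by
  intro h0
  refine h0.not_nilpotent hσ ⟨2, ?_⟩
  have e := commute_nil h
  have e2 : nil σ * nil τ * (nil σ * nil τ) = 0 := by
    conv_lhs => arg 2; rw [e]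
    rw [mul_assoc (nil σ), ← mul_assoc (nil τ) (nil τ), sq_zero hτ, zero_mul, mul_zero]
  rw [zed, ← e, pow_two, add_mul, mul_add, e2, add_zero, add_zero]

theorem bot_of_commute (hk2 : (2 : k) ≠ 0) (hk3 : Nat.card k ≠ 3)
    (hσ : σ ∈ minimalQuadraticElements G) (hτ : τ ∈ minimalQuadraticElements G)
    (h : σ * τ = τ * σ) : ⁅sameActionSubgroup G σ, sameActionSubgroup G τ⁆ = ⊥ :=
  bot_of_lamb_zero hk2 hk3 hσ hτ (not_opp_of_commute hσ hτ h) (sub_eq_zero.2 (commute_nil h))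

theorem bot_of_normalize (hk2 : (2 : k) ≠ 0) (hk3 : Nat.card k ≠ 3)
    (hσ : σ ∈ minimalQuadraticElements G) (hτ : τ ∈ minimalQuadraticElements G)
    (h : σ ∈ Subgroup.normalizer (sameActionSubgroup G τ : Set (LinearMap.GeneralLinearGroup k M))) :
    ⁅sameActionSubgroup G σ, sameActionSubgroup G τ⁆ = ⊥ := by
  have hmem : σ * τ * σ⁻¹ ∈ sameActionSubgroup G τ :=
    (Subgroup.mem_normalizer_iff.1 h τ).1 (self_mem hτ)
  have hne : σ * τ * σ⁻¹ ≠ 1 := fun e => ne_one hτ (conj_eq_one_iff.1 e)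
  have hcl : σ * τ * σ⁻¹ ∈ sameActionClass G τ := (mem_cases hτ hmem).resolve_left hne
  by_cases h0 : Opp σ τ
  · exfalso
    have hr : LinearMap.range (nil (σ * τ * σ⁻¹)) = LinearMap.range (nil τ) := hcl.2.2
    rw [range_nil_conj] at hr
    refine nil_ne_zero hτ (LinearMap.ext fun x => ?_)
    have h1 : (σ : Module.End k M) (nil τ x) ∈ LinearMap.range (nil τ) := hr ▸ ⟨_, ⟨x, rfl⟩, rfl⟩
    rw [coe_eq σ, LinearMap.add_apply, Module.End.one_apply] at h1
    have h2 : nil σ (nil τ x) = 0 := Submodule.disjoint_def.1 h0.1 _ ⟨_, rfl⟩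
      (range_le_ker (sq_zero hτ) (by simpa using sub_mem h1 (⟨x, rfl⟩ : nil τ x ∈ LinearMap.range (nil τ))))
    exact Submodule.disjoint_def.1 h0.2 _ ⟨x, rfl⟩ h2
  by_contra hne'
  have hlam : lamb σ τ ≠ 0 := fun e => hne' (bot_of_lamb_zero hk2 hk3 hσ hτ h0 e)
  have w := not_opp_word_zero hk2 hk3 hσ hτ h0
  have t := tight hσ hτ w hlam
  have hcm : σ * τ * σ⁻¹ * τ⁻¹ ∈ sameActionSubgroup G τ := mul_mem hmem (inv_mem (self_mem hτ))
  have hnil : nil (σ * τ * σ⁻¹ * τ⁻¹) = lamb σ τ :=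
    nil_comm_mem hk2 hk3 hσ hτ h0 (self_mem hσ) (self_mem hτ)
  have hne2 : σ * τ * σ⁻¹ * τ⁻¹ ≠ 1 := fun e => hlam (by rw [← hnil, e, nil_one])
  have hcl2 := (mem_cases hτ hcm).resolve_left hne2
  have hr : LinearMap.range (lamb σ τ) = LinearMap.range (nil τ) := hnil ▸ hcl2.2.2
  have hk : LinearMap.ker (lamb σ τ) = LinearMap.ker (nil τ) := hnil ▸ hcl2.2.1
  have hS : LinearMap.range (nil σ) ⊓ LinearMap.ker (nil τ) = ⊥ := by
    refine eq_bot_iff.2 ((le_inf le_rfl ?_).trans t.disjoint.le_bot)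
    refine le_inf ?_ (inf_le_left.trans (range_le_ker (sq_zero hσ)))
    rw [← hr, t.range_eq]
    exact le_sup_left
  have hT : LinearMap.range (nil τ) ⊓ LinearMap.ker (nil σ) = LinearMap.range (nil τ) := by
    rw [← hr, t.range_eq, hS, bot_sup_eq]
    exact inf_eq_left.2 inf_le_right
  have htop : LinearMap.range (nil σ) ⊔ LinearMap.ker (nil τ) = ⊤ := by
    refine Submodule.eq_top_of_disjoint _ _ ?_ (disjoint_iff.2 hS)
    have h1 := LinearMap.finrank_range_add_finrank_ker (nil τ)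
    have h2 := rank_eq hσ hτ
    omega
  rw [t.ker_eq, htop, inf_top_eq, sup_eq_right.2 (inf_eq_left.1 hT)] at hk
  refine nil_ne_zero hσ (LinearMap.range_eq_bot.1 (le_bot_iff.1 ?_))
  exact hS ▸ le_inf le_rfl (hk ▸ range_le_ker (sq_zero hσ))

end Cfsg.Agent.Lib.RootSubgroups.QuadPair
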