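import Mathlib
import Cfsg.Agent.Lib.RootSubgroups.QuadPairConj
import Cfsg.Agent.Lib.RootSubgroups.QuadPairClassTwo

/-!
A conjugation-closed set of quadratic elements, any two of which generate a unipotent group,
generates a unipotent group; hence every member of `𝒬_d` has an opposite conjugate.
-/

set_option autoImplicit false

namespace Cfsg.Agent.Lib.RootSubgroups.QuadPair

open Cfsg

variable {k : Type*} [Field k] {M : Type*} [AddCommGroup M] [Module k M] [FiniteDimensional k M]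

/-- The descending filtration of a group. -/
def groupF (H : Subgroup (LinearMap.GeneralLinearGroup k M)) : ℕ → Submodule k M
  | 0 => ⊤
  | n + 1 => ⨆ g ∈ H, (groupF H n).map (nil g)

omit [FiniteDimensional k M] in
theorem exists_filtration {H : Subgroup (LinearMap.GeneralLinearGroup k M)} (hu : IsUnipotentOn H) :
    ∃ (F : ℕ → Submodule k M) (N : ℕ), Antitone F ∧ F 0 = ⊤ ∧ F N = ⊥ ∧
      ∀ g ∈ H, nil g ∈ Deg F 1 := by
  obtain ⟨N, hN⟩ := hu
  have hmem : ∀ g ∈ H, nil g ∈ Deg (groupF H) 1 := fun g hg i x hx =>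
    (le_iSup₂ (f := fun g (_ : g ∈ H) => (groupF H i).map (nil g)) g hg) ⟨x, hx, rfl⟩
  have hcoe : ∀ l : List (LinearMap.GeneralLinearGroup k M),
      (l.map fun g => (g : M →ₗ[k] M) - 1) = l.map nil := by
    intro l
    induction l with
    | nil => rfl
    | cons a t ih => simpa [nil] using ih
  have key : ∀ j, ∀ l : List (LinearMap.GeneralLinearGroup k M), (∀ g ∈ l, g ∈ H) →
      l.length + j = N → ∀ x ∈ groupF H j, (l.map nil).prod x = 0 := by
    intro j
    induction j with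
    | zero =>
      intro l hl hlen x _
      rw [← hcoe, hN l hl (by omega)]
      rfl
    | succ j ih =>
      intro l hl hlen x hx
      have hle : groupF H (j + 1) ≤ LinearMap.ker (l.map nil).prod :=
        iSup₂_le fun g hg => by
          rintro _ ⟨y, hy, rfl⟩
          have h := ih (l ++ [g]) (by simp only [List.mem_append, List.mem_singleton]
                                      rintro a (ha | rfl)
                                      · exact hl a ha
                                      · exact hg)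
            (by rw [List.length_append, List.length_singleton]; omega) y hy
          simpa using h
      exact hle hx
  refine ⟨groupF H, N, antitone_nat_of_succ_le fun n => ?_, rfl, ?_, hmem⟩
  · induction n with
    | zero => exact le_top
    | succ n ih => exact iSup₂_mono fun g _ => Submodule.map_mono ih
  · rw [eq_bot_iff]
    intro x hx
    simpa using key N [] (by simp) (Nat.zero_add N) x hx

omit [FiniteDimensional k M] in
theorem exists_killed {H : Subgroup (LinearMap.GeneralLinearGroup k M)} (hu : IsUnipotentOn H)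
    {F X : Submodule k M} (hX : ∀ g ∈ H, ∀ x ∈ X, nil g x ∈ X) (hne : ¬ X ≤ F) :
    ∃ x ∈ X, x ∉ F ∧ ∀ g ∈ H, nil g x ∈ F := by
  obtain ⟨G, N, -, h0, hN, hmem⟩ := exists_filtration hu
  classical
  have hex : ∃ j, X ⊓ G j ≤ F := ⟨N, by rw [hN, inf_bot_eq]; exact bot_le⟩
  obtain ⟨j, hj⟩ : ∃ j, Nat.find hex = j + 1 := by
    refine ⟨Nat.find hex - 1, (Nat.sub_add_cancel (Nat.pos_of_ne_zero fun e => hne ?_)).symm⟩
    have h := Nat.find_spec hex
    rwa [e, h0, inf_top_eq] at h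
  obtain ⟨x, ⟨hxX, hxG⟩, hxF⟩ := SetLike.not_le_iff_exists.1
    (Nat.find_min hex (show j < Nat.find hex by omega))
  refine ⟨x, hxX, hxF, fun g hg => ?_⟩
  have h := Nat.find_spec hex
  rw [hj] at h
  exact h ⟨hX g hg x hxX, hmem g hg j x hxG⟩

/-- The span of the nilpotent parts. -/
abbrev nilSpan (T : Set (LinearMap.GeneralLinearGroup k M)) : Submodule k (Module.End k M) :=
  Submodule.span k (nil '' T)

variable {C : Set (LinearMap.GeneralLinearGroup k M)}

/-- The members with nilpotent part in `V`. -/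
abbrev satSet (C : Set (LinearMap.GeneralLinearGroup k M)) (V : Submodule k (Module.End k M)) :
    Set (LinearMap.GeneralLinearGroup k M) := {g | g ∈ C ∧ nil g ∈ V}

/-- A unipotent subset. -/
def UniSet (C T : Set (LinearMap.GeneralLinearGroup k M)) : Prop :=
  T ⊆ C ∧ IsUnipotentOn (Subgroup.closure T)

theorem UniSet.sat {T : Set (LinearMap.GeneralLinearGroup k M)} (h : UniSet C T) :
    UniSet C (satSet C (nilSpan T)) := by
  refine ⟨fun g hg => hg.1, isUnipotentOn_closure fun F hF hFi => ?_⟩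
  have hFT : ∀ g ∈ Subgroup.closure T, ∀ x ∈ (⊤ : Submodule k M), nil g x ∈ (⊤ : Submodule k M) :=
    fun _ _ _ _ => Submodule.mem_top
  obtain ⟨x, -, hxF, hx⟩ := exists_killed h.2 hFT (fun e => hF (top_le_iff.1 e))
  refine ⟨x, hxF, fun g hg => ?_⟩
  have hle : nilSpan T ≤ F.comap (LinearMap.applyₗ x : Module.End k M →ₗ[k] M) :=
    Submodule.span_le.2 (by rintro _ ⟨t, ht, rfl⟩; exact hx t (Subgroup.subset_closure ht))
  exact hle hg.2

theorem UniSet.exists_maximal {T₀ : Set (LinearMap.GeneralLinearGroup k M)} (h : UniSet C T₀) :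
    ∃ T, UniSet C T ∧ nilSpan T₀ ≤ nilSpan T ∧ ∀ T', UniSet C T' → nilSpan T ≤ nilSpan T' →
      nilSpan T' = nilSpan T := by
  obtain ⟨V, ⟨T, hT, hle, rfl⟩, hmax⟩ := wellFounded_gt.has_min
    {V : Submodule k (Module.End k M) | ∃ T, UniSet C T ∧ nilSpan T₀ ≤ nilSpan T ∧ nilSpan T = V}
    ⟨_, T₀, h, le_rfl, rfl⟩
  exact ⟨T, hT, hle, fun T' hT' h' => ((eq_or_lt_of_le h').resolve_right
    fun hlt => hmax _ ⟨T', hT', hle.trans hlt.le, rfl⟩ hlt).symm⟩

omit [FiniteDimensional k M] in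
theorem conj_nil {a t : LinearMap.GeneralLinearGroup k M} (ha : nil a * nil a = 0)
    (h : nil a * nil t * nil a = 0) :
    nil (a * t * a⁻¹) = nil t + (nil a * nil t - nil t * nil a) := by
  rw [nil_conj, coe_eq a, coe_eq a⁻¹, nil_inv ha,
    show (1 + nil a) * nil t * (1 + -nil a) =
      nil t + (nil a * nil t - nil t * nil a) - nil a * nil t * nil a by noncomm_ring, h, sub_zero]

/-- The generated group is unipotent. -/
theorem isUnipotentOn_of_pairs (hsq : ∀ a ∈ C, nil a * nil a = 0)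
    (hconj : ∀ a ∈ C, ∀ b ∈ C, a * b * a⁻¹ ∈ C) (hw : ∀ a ∈ C, ∀ b ∈ C, WordZero a b) :
    IsUnipotentOn (Subgroup.closure C) := by
  have hbr : ∀ a ∈ C, ∀ b ∈ C,
      nil (a * b * a⁻¹) = nil b + (nil a * nil b - nil b * nil a) :=
    fun a ha b hb => conj_nil (hsq a ha) (hw a ha b hb).1
  have hempty : UniSet C (∅ : Set (LinearMap.GeneralLinearGroup k M)) :=
    ⟨Set.empty_subset C, isUnipotentOn_closure fun F hF _ => by
      obtain ⟨x, -, hx⟩ := SetLike.exists_of_lt (lt_top_iff_ne_top.2 hF)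
      exact ⟨x, hx, fun g hg => absurd hg (Set.notMem_empty g)⟩⟩
  obtain ⟨T₁, hT₁, -, hmax₁⟩ := hempty.exists_maximal
  by_cases hall : ∀ c ∈ C, nil c ∈ nilSpan T₁
  · have e : satSet C (nilSpan T₁) = C :=
      Set.Subset.antisymm (fun g hg => hg.1) fun g hg => ⟨hg, hall g hg⟩
    exact e ▸ hT₁.sat.2
  exfalso
  push Not at hall
  obtain ⟨c, hc, hcV⟩ := hall
  have hsingle : UniSet C {c} := by
    refine ⟨Set.singleton_subset_iff.2 hc, isUnipotentOn_closure fun F hF _ => ?_⟩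
    obtain ⟨x, -, hx⟩ := SetLike.exists_of_lt (lt_top_iff_ne_top.2 hF)
    by_cases h : nil c x ∈ F
    · exact ⟨x, hx, fun g hg => by rwa [Set.mem_singleton_iff.1 hg]⟩
    · refine ⟨nil c x, h, fun g hg => ?_⟩
      rw [Set.mem_singleton_iff.1 hg, ← Module.End.mul_apply, hsq c hc]
      exact zero_mem F
  obtain ⟨T₂, hT₂, hle₂, hmax₂⟩ := hsingle.exists_maximal
  -- the maximal spans
  let IsMax : Submodule k (Module.End k M) → Prop := fun V => ∃ T, UniSet C T ∧ nilSpan T = V ∧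
    ∀ T', UniSet C T' → V ≤ nilSpan T' → nilSpan T' = V
  obtain ⟨W, ⟨V₁, V₂, hV₁, hV₂, hne, rfl⟩, hbig⟩ := wellFounded_gt.has_min
    {W : Submodule k (Module.End k M) | ∃ V₁ V₂, IsMax V₁ ∧ IsMax V₂ ∧ V₁ ≠ V₂ ∧
      nilSpan (satSet C V₁ ∩ satSet C V₂) = W}
    ⟨_, _, _, ⟨T₁, hT₁, rfl, hmax₁⟩, ⟨T₂, hT₂, rfl, hmax₂⟩,
      fun e => hcV (e ▸ hle₂ (Submodule.subset_span ⟨c, rfl, rfl⟩)), rfl⟩
  set D := satSet C V₁ ∩ satSet C V₂
  have hWle : nilSpan D ≤ V₁ ∧ nilSpan D ≤ V₂ :=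
    ⟨Submodule.span_le.2 (by rintro _ ⟨t, ht, rfl⟩; exact ht.1.2),
      Submodule.span_le.2 (by rintro _ ⟨t, ht, rfl⟩; exact ht.2.2)⟩
  have hclosed : ∀ V, IsMax V → ∀ a ∈ satSet C V, ∀ b ∈ satSet C V,
      nil (a * b * a⁻¹) ∈ V := by
    rintro V ⟨T, hT, rfl, hmax⟩ a ha b hb
    set T' : Set (LinearMap.GeneralLinearGroup k M) :=
      insert (a * b * a⁻¹) (satSet C (nilSpan T)) with hT'
    have hsub : T' ⊆ C := Set.insert_subset (hconj a ha.1 b hb.1) fun g hg => hg.1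
    have hcl : Subgroup.closure T' = Subgroup.closure (satSet C (nilSpan T)) := by
      refine le_antisymm ((Subgroup.closure_le _).2 (Set.insert_subset ?_ Subgroup.subset_closure))
        (Subgroup.closure_mono (Set.subset_insert _ _))
      exact mul_mem (mul_mem (Subgroup.subset_closure ha) (Subgroup.subset_closure hb))
        (inv_mem (Subgroup.subset_closure ha))
    have h := hmax T' ⟨hsub, hcl ▸ hT.sat.2⟩ (Submodule.span_le.2 (by
      rintro _ ⟨t, ht, rfl⟩
      exact Submodule.subset_span ⟨t, Set.mem_insert_of_mem _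
        ⟨hT.1 ht, Submodule.subset_span ⟨t, ht, rfl⟩⟩, rfl⟩))
    rw [← h]
    exact Submodule.subset_span ⟨_, Set.mem_insert _ _, rfl⟩
  have hLie : ∀ a ∈ C, ∀ V : Submodule k (Module.End k M), (∀ b ∈ satSet C V, nil (a * b * a⁻¹) ∈ V) →
      ∀ b ∈ satSet C V, nil a * nil b - nil b * nil a ∈ V := by
    intro a ha V h b hb
    have h1 := sub_mem (h b hb) hb.2
    rwa [hbr a ha b hb.1, add_sub_cancel_left] at h1
  -- in each of the two an element outside `W` normalises `W`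
  have hnorm : ∀ V, IsMax V → nilSpan D ≤ V → D ⊆ satSet C V → (∃ a ∈ satSet C V, nil a ∉ nilSpan D) →
      ∃ a ∈ satSet C V, nil a ∉ nilSpan D ∧
        ∀ t ∈ D, nil a * nil t - nil t * nil a ∈ nilSpan D := by
    intro V hV hDV hDsub hex
    obtain ⟨T, hT, hTV, hmaxV⟩ := hV
    obtain ⟨F, N, hF, h0, hN, hmem⟩ := exists_filtration hT.sat.2
    rw [hTV] at hmem
    classical
    have hD1 : ∀ f ∈ nilSpan D, f ∈ Deg F 1 := fun f hf => by
      refine (Submodule.span_le (p := Deg F 1)).2 ?_ hf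
      rintro _ ⟨t, ht, rfl⟩
      exact hmem t (Subgroup.subset_closure (hDsub ht))
    have hDD : ∀ t ∈ D, ∀ f ∈ nilSpan D, f * nil t - nil t * f ∈ nilSpan D := by
      intro t ht f hf
      induction hf using Submodule.span_induction with
      | mem f hf =>
        obtain ⟨s, hs, rfl⟩ := hf
        have h1 : nil (s * t * s⁻¹) ∈ nilSpan D := Submodule.subset_span
          ⟨_, ⟨⟨hconj s hs.1.1 t ht.1.1, hclosed V₁ hV₁ s hs.1 t ht.1⟩,
            ⟨hconj s hs.1.1 t ht.1.1, hclosed V₂ hV₂ s hs.2 t ht.2⟩⟩, rfl⟩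
        have h2 := sub_mem h1 (Submodule.subset_span ⟨t, ht, rfl⟩ : nil t ∈ nilSpan D)
        rwa [hbr s hs.1.1 t ht.1.1, add_sub_cancel_left] at h2
      | zero => simp
      | add f g _ _ hf hg =>
        rw [add_mul, mul_add, add_sub_add_comm]
        exact add_mem hf hg
      | smul c f _ hf =>
        rw [smul_mul_assoc, mul_smul_comm, ← smul_sub]
        exact Submodule.smul_mem _ c hf
    have hexj : ∃ j, ∀ a ∈ satSet C V, nil a ∈ nilSpan D ⊔ (V ⊓ Deg F j) → nil a ∈ nilSpan D := by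
      refine ⟨N, fun a _ ha => ?_⟩
      obtain ⟨w, hw, x, hx, e⟩ := Submodule.mem_sup.1 ha
      rw [Deg_eq_zero h0 hN hx.2, add_zero] at e
      exact e ▸ hw
    obtain ⟨a₀, ha₀, ha₀'⟩ := hex
    have hne0 : ¬ ∀ a ∈ satSet C V, nil a ∈ nilSpan D ⊔ (V ⊓ Deg F 1) → nil a ∈ nilSpan D :=
      fun h => ha₀' (h a₀ ha₀ (Submodule.mem_sup_right ⟨ha₀.2, hmem a₀ (Subgroup.subset_closure ha₀)⟩))
    have h2 : ∀ j, j ≤ 1 →
        ¬ ∀ a ∈ satSet C V, nil a ∈ nilSpan D ⊔ (V ⊓ Deg F j) → nil a ∈ nilSpan D :=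
      fun j hj h => hne0 fun a ha hm => h a ha
        (sup_le_sup_left (inf_le_inf_left V fun f hf => Deg_mono hF hj hf) _ hm)
    obtain ⟨j, hj⟩ : ∃ j, Nat.find hexj = j + 1 :=
      ⟨Nat.find hexj - 1, (Nat.sub_add_cancel (Nat.pos_of_ne_zero fun e =>
        h2 0 (Nat.zero_le 1) (e ▸ Nat.find_spec hexj))).symm⟩
    have hj1 : 1 ≤ j := by
      by_contra hc
      exact h2 1 le_rfl ((show j + 1 = 1 by omega) ▸ hj ▸ Nat.find_spec hexj)
    have hmin := Nat.find_min hexj (show j < Nat.find hexj by omega)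
    push Not at hmin
    obtain ⟨a, ha, ham, haW⟩ := hmin
    refine ⟨a, ha, haW, fun t ht => ?_⟩
    obtain ⟨w, hw, x, hx, e⟩ := Submodule.mem_sup.1 ham
    have hV' : ∀ b ∈ satSet C V, nil a * nil b - nil b * nil a ∈ V :=
      hLie a ha.1 V (hclosed V ⟨T, hT, hTV, hmaxV⟩ a ha)
    have hwt := hDD t ht w hw
    have hxt : x * nil t - nil t * x ∈ V ⊓ Deg F (j + 1) := by
      refine ⟨?_, sub_mem (Deg_mul (n := 1) (by omega) hx.2 (hD1 _ (Submodule.subset_span ⟨t, ht, rfl⟩)))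
        (Deg_mul (n := j) rfl (hD1 _ (Submodule.subset_span ⟨t, ht, rfl⟩)) hx.2)⟩
      have e' : x * nil t - nil t * x =
          (nil a * nil t - nil t * nil a) - (w * nil t - nil t * w) := by
        rw [← e]; noncomm_ring
      rw [e']
      exact sub_mem (hV' t (hDsub ht)) (hDV hwt)
    have hu : a * t * a⁻¹ ∈ satSet C V :=
      ⟨hconj a ha.1 t (hDsub ht).1, by
        rw [hbr a ha.1 t (hDsub ht).1]; exact add_mem (hDsub ht).2 (hV' t (hDsub ht))⟩
    have hut : nil (a * t * a⁻¹) ∈ nilSpan D := by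
      refine (hj ▸ Nat.find_spec hexj) _ hu ?_
      rw [hbr a ha.1 t (hDsub ht).1, ← e, show (w + x) * nil t - nil t * (w + x) =
        (w * nil t - nil t * w) + (x * nil t - nil t * x) by noncomm_ring, ← add_assoc]
      exact Submodule.add_mem_sup (add_mem (Submodule.subset_span ⟨t, ht, rfl⟩) hwt) hxt
    have h1 := sub_mem hut (Submodule.subset_span ⟨t, ht, rfl⟩ : nil t ∈ nilSpan D)
    rwa [hbr a ha.1 t (hDsub ht).1, add_sub_cancel_left] at h1
  have houtside : ∀ V V', IsMax V → IsMax V' → V ≠ V' → nilSpan D ≤ V' →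
      ∃ a ∈ satSet C V, nil a ∉ nilSpan D := by
    intro V V' hV hV' hne hle
    by_contra h
    push Not at h
    obtain ⟨T, hT, rfl, hmax⟩ := hV
    obtain ⟨T', hT', rfl, -⟩ := hV'
    refine hne (hmax T' hT' ?_).symm
    refine (Submodule.span_le.2 ?_).trans hle
    rintro _ ⟨t, ht, rfl⟩
    exact h t ⟨hT.1 ht, Submodule.subset_span ⟨t, ht, rfl⟩⟩
  obtain ⟨a₁, ha₁, ha₁W, hn₁⟩ := hnorm V₁ hV₁ hWle.1 Set.inter_subset_left
    (houtside V₁ V₂ hV₁ hV₂ hne hWle.2)
  obtain ⟨a₂, ha₂, ha₂W, hn₂⟩ := hnorm V₂ hV₂ hWle.2 Set.inter_subset_right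
    (houtside V₂ V₁ hV₂ hV₁ hne.symm hWle.1)
  have hT₃ : UniSet C (D ∪ {a₁, a₂}) := by
    refine ⟨Set.union_subset (fun g hg => hg.1.1) (Set.insert_subset ha₁.1
      (Set.singleton_subset_iff.2 ha₂.1)), isUnipotentOn_closure fun F hF hFi => ?_⟩
    obtain ⟨T, hT, hTV, -⟩ := hV₁
    have hDu : IsUnipotentOn (Subgroup.closure D) := by
      obtain ⟨n, hn⟩ := hT.sat.2
      exact ⟨n, fun l hl => hn l fun g hg => Subgroup.closure_mono
        (fun g hg => hTV.symm ▸ hg.1) (hl g hg)⟩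
    let X : Submodule k M := ⨅ f ∈ nilSpan D, F.comap f
    have hmemX : ∀ {x}, x ∈ X ↔ ∀ f ∈ nilSpan D, f x ∈ F := by
      intro x
      simp [X, Submodule.mem_iInf]
    obtain ⟨x₀, -, hx₀F, hx₀⟩ := exists_killed hDu (X := ⊤) (F := F)
      (fun _ _ _ _ => Submodule.mem_top) fun e => hF (top_le_iff.1 e)
    have hx₀X : x₀ ∈ X := hmemX.2 fun f hf =>
      (Submodule.span_le (p := F.comap (LinearMap.applyₗ x₀ : Module.End k M →ₗ[k] M))).2
        (by rintro _ ⟨t, ht, rfl⟩; exact hx₀ t (Subgroup.subset_closure ht)) hf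
    have hinv : ∀ a, a = a₁ ∨ a = a₂ → ∀ x ∈ X, nil a x ∈ X := by
      intro a ha x hx
      have hn : ∀ t ∈ D, nil a * nil t - nil t * nil a ∈ nilSpan D := by
        rcases ha with rfl | rfl
        · exact hn₁
        · exact hn₂
      have haT : a ∈ D ∪ {a₁, a₂} := Or.inr (by simpa using ha)
      refine hmemX.2 fun f hf => ?_
      induction hf using Submodule.span_induction with
      | mem f hf =>
        obtain ⟨t, ht, rfl⟩ := hf
        have h1 := hFi a haT _ (hmemX.1 hx (nil t) (Submodule.subset_span ⟨t, ht, rfl⟩))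
        have h2 := hmemX.1 hx _ (hn t ht)
        simpa using sub_mem h1 h2
      | zero => simp
      | add f g _ _ hf hg => exact add_mem hf hg
      | smul c f _ hf => exact Submodule.smul_mem _ c hf
    have w := hw a₁ ha₁.1 a₂ ha₂.1
    have done : ∀ y ∈ X, y ∉ F → nil a₁ y ∈ F → nil a₂ y ∈ F →
        ∃ z ∉ F, ∀ g ∈ D ∪ {a₁, a₂}, nil g z ∈ F := by
      intro y hy hyF h1 h2
      refine ⟨y, hyF, ?_⟩
      rintro g (hg | hg)
      · exact hmemX.1 hy _ (Submodule.subset_span ⟨g, hg, rfl⟩)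
      · rcases hg with rfl | hg
        · exact h1
        · rw [Set.mem_singleton_iff.1 hg]; exact h2
    have step : ∀ (a b : LinearMap.GeneralLinearGroup k M), (a = a₁ ∧ b = a₂ ∨ a = a₂ ∧ b = a₁) →
        ∀ y ∈ X, nil a y ∉ F → ∃ z ∉ F, ∀ g ∈ D ∪ {a₁, a₂}, nil g z ∈ F := by
      intro a b hab y hy hay
      have ha : a ∈ C ∧ b ∈ C := by rcases hab with ⟨rfl, rfl⟩ | ⟨rfl, rfl⟩ <;> simp [ha₁.1, ha₂.1]
      have haX : nil a y ∈ X := hinv a (by tauto) y hy
      have haa : nil a (nil a y) ∈ F := by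
        rw [← Module.End.mul_apply, hsq a ha.1]; exact zero_mem F
      by_cases hba : nil b (nil a y) ∈ F
      · rcases hab with ⟨rfl, rfl⟩ | ⟨rfl, rfl⟩
        · exact done _ haX hay haa hba
        · exact done _ haX hay hba haa
      · have hbb : nil b (nil b (nil a y)) ∈ F := by
          rw [← Module.End.mul_apply, hsq b ha.2]; exact zero_mem F
        have hab' : nil a (nil b (nil a y)) ∈ F := by
          rw [← Module.End.mul_apply, ← Module.End.mul_apply, (hw a ha.1 b ha.2).1]; exact zero_mem F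
        have hbX : nil b (nil a y) ∈ X := hinv b (by tauto) _ haX
        rcases hab with ⟨rfl, rfl⟩ | ⟨rfl, rfl⟩
        · exact done _ hbX hba hab' hbb
        · exact done _ hbX hba hbb hab'
    by_cases h1 : nil a₁ x₀ ∈ F
    · by_cases h2 : nil a₂ x₀ ∈ F
      · exact done _ hx₀X hx₀F h1 h2
      · exact step a₂ a₁ (Or.inr ⟨rfl, rfl⟩) _ hx₀X h2
    · exact step a₁ a₂ (Or.inl ⟨rfl, rfl⟩) _ hx₀X h1
  obtain ⟨T₃, hT₃', hle₃, hmax₃⟩ := hT₃.exists_maximal
  have hin : ∀ g ∈ D ∪ {a₁, a₂}, g ∈ satSet C (nilSpan T₃) := fun g hg =>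
    ⟨hT₃.1 hg, hle₃ (Submodule.subset_span ⟨g, hg, rfl⟩)⟩
  have hV₃ : IsMax (nilSpan T₃) := ⟨T₃, hT₃', rfl, hmax₃⟩
  by_cases hV13 : V₁ = nilSpan T₃
  · refine ha₂W (Submodule.subset_span ⟨a₂, ⟨?_, ha₂⟩, rfl⟩)
    rw [hV13]
    exact hin a₂ (Or.inr (Or.inr rfl))
  · refine hbig (nilSpan (satSet C V₁ ∩ satSet C (nilSpan T₃)))
      ⟨V₁, _, hV₁, hV₃, hV13, rfl⟩ (lt_of_le_of_ne ?_ ?_)
    · exact Submodule.span_mono (Set.image_mono fun g hg => ⟨hg.1, hin g (Or.inl hg)⟩)
    · intro e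
      refine ha₁W ?_
      show nil a₁ ∈ nilSpan D
      rw [e]
      exact Submodule.subset_span ⟨a₁, ⟨ha₁, hin a₁ (Or.inr (Or.inl rfl))⟩, rfl⟩

variable {G : Subgroup (LinearMap.GeneralLinearGroup k M)} {σ : LinearMap.GeneralLinearGroup k M}

omit [FiniteDimensional k M] in
theorem opp_conj (g : LinearMap.GeneralLinearGroup k M) {σ τ : LinearMap.GeneralLinearGroup k M} :
    Opp (g * σ * g⁻¹) (g * τ * g⁻¹) ↔ Opp σ τ := by
  unfold Opp
  rw [range_nil_conj, range_nil_conj, ker_nil_conj, ker_nil_conj]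
  simp only [disjoint_iff, ← Submodule.map_inf _ (val_injective g)]
  have e : ∀ W : Submodule k M, W.map (g : Module.End k M) = ⊥ ↔ W = ⊥ := fun W => by
    conv_lhs => rw [← Submodule.map_bot (g : Module.End k M)]
    exact (Submodule.map_injective_of_injective (val_injective g)).eq_iff
  rw [e, e]

theorem exists_opp_conj (hk2 : (2 : k) ≠ 0) (hk3 : Nat.card k ≠ 3) (hirr : IsIrreducibleFor G)
    (hσ : σ ∈ minimalQuadraticElements G) : ∃ g ∈ G, Opp σ (g * σ * g⁻¹) := by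
  by_contra hno
  push Not at hno
  set C : Set (LinearMap.GeneralLinearGroup k M) := {x | ∃ g ∈ G, g * σ * g⁻¹ = x}
  have hu : IsUnipotentOn (Subgroup.closure C) := by
    refine isUnipotentOn_of_pairs ?_ ?_ ?_
    · rintro _ ⟨g, hg, rfl⟩; exact sq_zero (minimal_conj hg hσ)
    · rintro _ ⟨g, hg, rfl⟩ _ ⟨h, hh, rfl⟩
      exact ⟨g * σ * g⁻¹ * h, mul_mem (mul_mem (mul_mem hg hσ.1.1) (inv_mem hg)) hh, by group⟩
    · rintro _ ⟨g, hg, rfl⟩ _ ⟨h, hh, rfl⟩
      refine not_opp_word_zero hk2 hk3 (minimal_conj hg hσ) (minimal_conj hh hσ) fun h0 => ?_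
      refine hno (g⁻¹ * h) (mul_mem (inv_mem hg) hh) ((opp_conj g).1 ?_)
      rwa [show g * ((g⁻¹ * h) * σ * (g⁻¹ * h)⁻¹) * g⁻¹ = h * σ * h⁻¹ by group]
  obtain ⟨x, -, hx0, hx⟩ := exists_killed hu (F := (⊥ : Submodule k M)) (X := ⊤)
    (fun _ _ _ _ => Submodule.mem_top) fun e => by
      obtain ⟨m, hm⟩ := hirr.1
      exact hm (Submodule.mem_bot k |>.1 (e Submodule.mem_top))
  let W : Submodule k M := ⨅ g ∈ G, LinearMap.ker (nil (g * σ * g⁻¹))
  have hxW : x ∈ W := by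
    simp only [W, Submodule.mem_iInf, LinearMap.mem_ker]
    exact fun g hg => (Submodule.mem_bot k).1 (hx _ (Subgroup.subset_closure ⟨g, hg, rfl⟩))
  rcases hirr.2 W (fun h hh w hw => by
    simp only [W, Submodule.mem_iInf] at hw ⊢
    intro g hg
    have e : g * σ * g⁻¹ = h * (h⁻¹ * g * σ * (h⁻¹ * g)⁻¹) * h⁻¹ := by group
    rw [e, ker_nil_conj]
    exact ⟨w, hw (h⁻¹ * g) (mul_mem (inv_mem hh) hg), rfl⟩) with h | h
  · rw [h] at hxW
    exact hx0 hxW
  · refine nil_ne_zero hσ (LinearMap.ext fun m => ?_)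
    have hm : m ∈ W := h ▸ Submodule.mem_top
    simp only [W, Submodule.mem_iInf, LinearMap.mem_ker] at hm
    simpa using hm 1 (one_mem G)

end Cfsg.Agent.Lib.RootSubgroups.QuadPair
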