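import Mathlib
import Cfsg.Agent.Lib.RootSubgroups.QuadPairConj
import Cfsg.Agent.Lib.RootSubgroups.QuadPairDichotomy

/-!
Opposite members of `𝒬_d` give special rank one pairs.
-/

set_option autoImplicit false

namespace Cfsg.Agent.Lib.RootSubgroups.QuadPair

open Cfsg SL2Ring
open scoped IsMulCommutative

universe w v

variable {k : Type w} [Field k] {M : Type v} [AddCommGroup M] [Module k M]
  {G : Subgroup (LinearMap.GeneralLinearGroup k M)} {σ τ x y : LinearMap.GeneralLinearGroup k M}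

/-- `y` is the partner of `x`. -/
structure IsPartner (x y : LinearMap.GeneralLinearGroup k M) : Prop where
  left : nil x * nil y * nil x = nil x
  right : nil y * nil x * nil y = nil y

theorem IsPartner.rel (h : IsPartner x y) (hx : nil x * nil x = 0) (hy : nil y * nil y = 0) :
    y⁻¹ * x * y = x⁻¹ * y⁻¹ * x := by
  refine Units.ext ?_
  simp only [Units.val_mul]
  rw [coe_eq x, coe_eq y, coe_eq x⁻¹, coe_eq y⁻¹, nil_inv hx, nil_inv hy]
  set a := nil x
  set b := nil y
  have e : (1 + -b) * (1 + a) * (1 + b) - (1 + -a) * (1 + -b) * (1 + a) =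
      (a - a * b * a) + (b - b * a * b) - b * b + a * a := by noncomm_ring
  have hl : a * b * a = a := h.left
  have hr : b * a * b = b := h.right
  rw [hl, hr, hx, hy] at e
  simpa [sub_eq_zero] using e

/-- The Weyl element. -/
abbrev weyl (x y : LinearMap.GeneralLinearGroup k M) : LinearMap.GeneralLinearGroup k M := x * y⁻¹

theorem weyl_val (hy : nil y * nil y = 0) :
    ((weyl x y : LinearMap.GeneralLinearGroup k M) : Module.End k M) =
      (1 + nil x) * (1 - nil y) := by
  rw [Units.val_mul, coe_eq x, coe_eq y⁻¹, nil_inv hy, ← sub_eq_add_neg]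

theorem IsPartner.weyl_range (h : IsPartner x y) (hx : nil x * nil x = 0) (hy : nil y * nil y = 0)
    (m : M) : (weyl x y : Module.End k M) (nil x m) = -(nil y (nil x m)) := by
  rw [weyl_val hy, ← Module.End.mul_apply, show (1 + nil x) * (1 - nil y) * nil x =
    nil x + nil x * nil x - nil y * nil x - nil x * nil y * nil x by noncomm_ring, h.left, hx]
  simp

theorem IsPartner.weyl_ker (h : IsPartner x y) (hy : nil y * nil y = 0)
    {m : M} (hm : nil x m = 0) : nil y ((weyl x y : Module.End k M) m) = 0 := by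
  rw [weyl_val hy, ← Module.End.mul_apply, show nil y * ((1 + nil x) * (1 - nil y)) =
    nil y + nil y * nil x - nil y * nil y - nil y * nil x * nil y by noncomm_ring, h.right, hy]
  simp [hm]

variable [FiniteDimensional k M]

theorem Opp.exists_partner (h0 : Opp σ τ) (hk2 : (2 : k) ≠ 0) (hk3 : Nat.card k ≠ 3)
    (hσ : σ ∈ minimalQuadraticElements G) (hτ : τ ∈ minimalQuadraticElements G) :
    ∃ y ∈ sameActionClass G τ, IsPartner σ y := by
  obtain ⟨L, hL, hA, lam, φ, m⟩ := h0.exists_sl2 hk2 hk3 hσ hτ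
  set y := φ (ly (1 : L))
  have hne : nil y ≠ 0 := fun h => one_ne_zero
    (ly_inj ((m.inj ((eq_of_nil_eq (h.trans nil_one.symm)).trans φ.map_one.symm)).trans ly_zero.symm))
  have hsq : nil y * nil y = 0 := mul_eq_zero_of_range_le_ker
    ((m.ly_spaces 1).1.trans ((range_le_ker (sq_zero hτ)).trans (m.ly_spaces 1).2))
  have hrank : Module.finrank k (LinearMap.range (nil y)) ≤
      Module.finrank k (LinearMap.range (nil σ)) :=
    (Submodule.finrank_mono (m.ly_spaces 1).1).trans (rank_eq hτ hσ).le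
  obtain ⟨ρ, hρ, e⟩ := minimal_of_family hσ hne hsq (fun c => ⟨φ (ly (algebraMap k L c * 1)),
    pair_le hσ hτ (m.range ▸ ⟨_, rfl⟩), m.ly_smul c 1⟩) hrank
  have e' : ρ = y := eq_of_nil_eq e
  subst e'
  have hr : LinearMap.range (nil y) = LinearMap.range (nil τ) :=
    Submodule.eq_of_le_of_finrank_le (m.ly_spaces 1).1 (rank_eq hτ hρ).le
  refine ⟨y, ⟨hρ, (Submodule.eq_of_le_of_finrank_le (m.ly_spaces 1).2 ?_).symm, hr⟩, ?_, ?_⟩
  · show Module.finrank k (LinearMap.ker (nil y)) ≤ Module.finrank k (LinearMap.ker (nil τ))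
    have h1 := LinearMap.finrank_range_add_finrank_ker (nil y)
    have h2 := LinearMap.finrank_range_add_finrank_ker (nil τ)
    rw [hr] at h1
    omega
  · have h1 := m.ux_triple 1 1 1
    rw [mul_one, mul_one, m.ux_one] at h1
    exact h1
  · have h1 := m.ly_triple 1 1 1
    rw [mul_one, mul_one, m.ux_one] at h1
    exact h1

theorem IsPartner.conjBy_weyl (h : IsPartner x y) (hx : x ∈ minimalQuadraticElements G)
    (hy : y ∈ minimalQuadraticElements G) :
    conjBy (sameActionSubgroup G x) (weyl x y) = sameActionSubgroup G y := by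
  have hwG : weyl x y ∈ G := mul_mem hx.1.1 (inv_mem hy.1.1)
  rw [conjBy_sameActionSubgroup hwG]
  have hd := rank_eq hy (minimal_conj hwG hx)
  refine sameActionSubgroup_congr ⟨minimal_conj hwG hx, ?_, ?_⟩
  · refine Submodule.eq_of_le_of_finrank_le ?_ ?_
    · show LinearMap.ker (nil _) ≤ _
      rw [ker_nil_conj]
      rintro _ ⟨m, hm, rfl⟩
      exact h.weyl_ker (sq_zero hy) hm
    · show Module.finrank k (LinearMap.ker (nil y)) ≤ Module.finrank k (LinearMap.ker (nil _))
      have h1 := LinearMap.finrank_range_add_finrank_ker (nil (weyl x y * x * (weyl x y)⁻¹))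
      have h2 := LinearMap.finrank_range_add_finrank_ker (nil y)
      omega
  · refine Submodule.eq_of_le_of_finrank_le ?_ hd.le
    show LinearMap.range (nil _) ≤ _
    rw [range_nil_conj]
    rintro _ ⟨_, ⟨m, rfl⟩, rfl⟩
    rw [h.weyl_range (sq_zero hx) (sq_zero hy)]
    exact neg_mem ⟨_, rfl⟩

variable (hk2 : (2 : k) ≠ 0) (hk3 : Nat.card k ≠ 3) (hσ : σ ∈ minimalQuadraticElements G)
  (hτ : τ ∈ minimalQuadraticElements G) (h0 : Opp σ τ)

include hk2 hk3 hσ hτ h0

theorem Opp.exists_weyl : ∃ w ∈ sameActionSubgroup G σ ⊔ sameActionSubgroup G τ,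
    conjBy (sameActionSubgroup G σ) w = sameActionSubgroup G τ := by
  obtain ⟨y, hy, hp⟩ := h0.exists_partner hk2 hk3 hσ hτ
  refine ⟨weyl σ y, mul_mem (Subgroup.mem_sup_left (self_mem hσ))
    (inv_mem (Subgroup.mem_sup_right (Subgroup.subset_closure hy))), ?_⟩
  rw [hp.conjBy_weyl hσ hy.1, sameActionSubgroup_congr hy]

omit hk2 hk3 in
theorem Opp.partner_unique {y z : LinearMap.GeneralLinearGroup k M} (hy : y ∈ sameActionClass G τ)
    (hp : IsPartner σ y) (hz : z ∈ sameActionClass G τ)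
    (hc : conjBy (sameActionSubgroup G σ) z⁻¹ = conjBy (sameActionSubgroup G τ) σ⁻¹) : z = y := by
  have hzy : nil z * nil z = 0 := sq_zero hz.1
  have hB : weyl σ z * σ * (weyl σ z)⁻¹ ∈ sameActionSubgroup G τ := by
    have h1 : conjBy (sameActionSubgroup G σ) (weyl σ z) = sameActionSubgroup G τ := by
      rw [conjBy_mul, hc, conjBy_conjBy_inv]
    rw [← h1]
    exact conj_mem_conjBy (self_mem hσ)
  have hne : weyl σ z * σ * (weyl σ z)⁻¹ ≠ 1 := fun h => ne_one hσ (conj_eq_one_iff.1 h)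
  rw [← SetLike.mem_coe, sameActionSubgroup_eq hτ] at hB
  have hr : LinearMap.range (nil (weyl σ z * σ * (weyl σ z)⁻¹)) = LinearMap.range (nil τ) :=
    (hB.resolve_right hne).2.2
  rw [range_nil_conj] at hr
  have key : ∀ m, nil σ m - (nil σ * nil z * nil σ) m = 0 := by
    intro m
    have h1 : (weyl σ z : Module.End k M) (nil σ m) ∈ LinearMap.range (nil τ) :=
      hr ▸ ⟨_, ⟨m, rfl⟩, rfl⟩
    rw [weyl_val hzy, ← Module.End.mul_apply, show (1 + nil σ) * (1 - nil z) * nil σ =
      nil σ - nil σ * nil z * nil σ + nil σ * nil σ - nil z * nil σ by noncomm_ring, sq_zero hσ,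
      add_zero, LinearMap.sub_apply, LinearMap.sub_apply] at h1
    have h2 : (nil z * nil σ) m ∈ LinearMap.range (nil τ) := hz.2.2 ▸ ⟨_, rfl⟩
    refine Submodule.disjoint_def.1 h0.1 _ (sub_mem ⟨m, rfl⟩ ⟨_, rfl⟩) ?_
    exact range_le_ker (sq_zero hτ) (by simpa using add_mem h1 h2)
  apply eq_of_nil_eq
  refine h0.ext_of hσ hτ (fun m _ hm => ?_) (fun m => ?_) fun m => ?_
  · rw [LinearMap.mem_ker.1 (hz.2.1.symm ▸ LinearMap.mem_ker.2 hm : m ∈ LinearMap.ker (nil z)),
      LinearMap.mem_ker.1 (hy.2.1.symm ▸ LinearMap.mem_ker.2 hm : m ∈ LinearMap.ker (nil y))]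
  · have h1 : nil z (nil σ m) - nil y (nil σ m) ∈ LinearMap.range (nil τ) :=
      sub_mem (hz.2.2 ▸ ⟨_, rfl⟩) (hy.2.2 ▸ ⟨_, rfl⟩)
    refine sub_eq_zero.1 (Submodule.disjoint_def.1 h0.2 _ h1 ?_)
    rw [LinearMap.mem_ker, map_sub]
    have e1 := congrArg (fun f : Module.End k M => f m) hp.left
    have e2 := key m
    simp only [Module.End.mul_apply] at e1 e2
    rw [e1, ← sub_eq_zero.1 e2, sub_self]
  · have e1 : nil z (nil τ m) = 0 := LinearMap.mem_ker.1
      (hz.2.1.symm ▸ range_le_ker (sq_zero hτ) ⟨m, rfl⟩ : nil τ m ∈ LinearMap.ker (nil z))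
    have e2 : nil y (nil τ m) = 0 := LinearMap.mem_ker.1
      (hy.2.1.symm ▸ range_le_ker (sq_zero hτ) ⟨m, rfl⟩ : nil τ m ∈ LinearMap.ker (nil y))
    rw [e1, e2]

theorem Opp.rankOne_conditions {x : LinearMap.GeneralLinearGroup k M}
    (hx : x ∈ sameActionSubgroup G σ) (hx1 : x ≠ 1) :
    ∃ y ∈ sameActionSubgroup G τ, y ≠ 1 ∧
      conjBy (sameActionSubgroup G σ) y⁻¹ = conjBy (sameActionSubgroup G τ) x⁻¹ ∧
      y⁻¹ * x * y = x⁻¹ * y⁻¹ * x ∧
      ∀ z ∈ sameActionSubgroup G τ, z ≠ 1 →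
        conjBy (sameActionSubgroup G σ) z⁻¹ = conjBy (sameActionSubgroup G τ) x⁻¹ → z = y := by
  rw [← SetLike.mem_coe, sameActionSubgroup_eq hσ] at hx
  have hx' := hx.resolve_right hx1
  have h0' : Opp x τ := (opp_congr hx' (self_mem_sameActionClass hτ)).2 h0
  obtain ⟨y, hy, hp⟩ := h0'.exists_partner hk2 hk3 hx'.1 hτ
  have hw := hp.conjBy_weyl hx'.1 hy.1
  rw [sameActionSubgroup_congr hx', sameActionSubgroup_congr hy] at hw
  refine ⟨y, Subgroup.subset_closure hy, ne_one hy.1, ?_, hp.rel (sq_zero hx'.1) (sq_zero hy.1),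
    fun z hz hz1 hc => ?_⟩
  · rw [← hw, ← conjBy_mul, weyl, inv_mul_cancel_left]
  · rw [← SetLike.mem_coe, sameActionSubgroup_eq hτ] at hz
    refine h0'.partner_unique hx'.1 hτ hy hp (hz.resolve_right hz1) ?_
    rwa [sameActionSubgroup_congr hx']

theorem Opp.isSpecialRankOnePair :
    IsSpecialRankOnePair (sameActionSubgroup G σ) (sameActionSubgroup G τ) := by
  refine ⟨⟨fun h => ?_, ?_, ?_, fun x hx hx1 => ?_, fun x hx hx1 => ?_⟩, fun x hx hx1 z hz hz1 hc => ?_⟩
  · have h1 : σ ∈ (sameActionSubgroup G τ : Set _) := h ▸ self_mem hσ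
    rw [sameActionSubgroup_eq hτ] at h1
    have h2 := (h1.resolve_right (ne_one hσ)).2.2
    refine nil_ne_zero hσ (LinearMap.range_eq_bot.1 (disjoint_self.1 (h0.1.mono_right ?_)))
    show LinearMap.range (nil σ) ≤ _
    rw [show LinearMap.range (nil σ) = LinearMap.range (nil τ) from h2]
    exact range_le_ker (sq_zero hτ)
  · have := isMulCommutative_sameAction hσ
    exact CommGroup.isNilpotent (G := sameActionSubgroup G σ)
  · have := isMulCommutative_sameAction hτ
    exact CommGroup.isNilpotent (G := sameActionSubgroup G τ)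
  · obtain ⟨y, hy, hy1, hc, -⟩ := h0.rankOne_conditions hk2 hk3 hσ hτ hx hx1
    exact ⟨y, hy, hy1, hc⟩
  · obtain ⟨y, hy, hy1, hc, -⟩ := h0.symm.rankOne_conditions hk2 hk3 hτ hσ hx hx1
    exact ⟨y, hy, hy1, hc⟩
  · obtain ⟨y, -, -, -, hrel, huniq⟩ := h0.rankOne_conditions hk2 hk3 hσ hτ hx hx1
    rw [huniq z hz hz1 hc]
    exact hrel

omit hk2 hk3 hσ hτ h0 in
/-- The elements trivial on the common fixed space and moving everything into `R₁ + R₂`. -/
theorem sup_spaces {g : LinearMap.GeneralLinearGroup k M}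
    (hg : g ∈ sameActionSubgroup G σ ⊔ sameActionSubgroup G τ) :
    (∀ m, nil σ m = 0 → nil τ m = 0 → nil g m = 0) ∧
      LinearMap.range (nil g) ≤ LinearMap.range (nil σ) ⊔ LinearMap.range (nil τ) := by
  rw [sameActionSubgroup, sameActionSubgroup, ← Subgroup.closure_union] at hg
  induction hg using Subgroup.closure_induction with
  | mem z hz =>
    rcases hz with hz | hz
    · exact ⟨fun m h1 _ => LinearMap.mem_ker.1
        (hz.2.1.symm ▸ LinearMap.mem_ker.2 h1 : m ∈ LinearMap.ker (nil z)),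
        le_sup_of_le_left hz.2.2.le⟩
    · exact ⟨fun m _ h1 => LinearMap.mem_ker.1
        (hz.2.1.symm ▸ LinearMap.mem_ker.2 h1 : m ∈ LinearMap.ker (nil z)),
        le_sup_of_le_right hz.2.2.le⟩
  | one =>
    rw [nil_one]
    exact ⟨fun _ _ _ => rfl, by simp⟩
  | mul g h _ _ hg hh =>
    refine ⟨fun m h1 h2 => ?_, ?_⟩
    · rw [nil_mul, LinearMap.add_apply, LinearMap.add_apply, Module.End.mul_apply, hh.1 m h1 h2,
        hg.1 m h1 h2, map_zero, add_zero, add_zero]
    · rintro _ ⟨m, rfl⟩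
      rw [nil_mul, LinearMap.add_apply, LinearMap.add_apply, Module.End.mul_apply]
      exact add_mem (add_mem (hg.2 ⟨m, rfl⟩) (hh.2 ⟨m, rfl⟩)) (hg.2 ⟨_, rfl⟩)
  | inv g _ hg =>
    refine ⟨fun m h1 h2 => ?_, ?_⟩
    · rw [nil_inv', LinearMap.neg_apply, Module.End.mul_apply, hg.1 m h1 h2, map_zero, neg_zero]
    · rintro _ ⟨m, rfl⟩
      rw [nil_inv', LinearMap.neg_apply, Module.End.mul_apply]
      refine neg_mem (map_eq_of_mapsTo g _ (fun z hz => ?_) _ (hg.2 ⟨m, rfl⟩))
      rw [coe_eq g, LinearMap.add_apply, Module.End.one_apply]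
      exact add_mem hz (hg.2 ⟨z, rfl⟩)

omit hk2 hk3 h0 in
theorem fixed_eq :
    fixedSubmodule (sameActionSubgroup G σ ⊔ sameActionSubgroup G τ) =
      LinearMap.ker (nil σ) ⊓ LinearMap.ker (nil τ) := by
  refine le_antisymm (fun m hm => ?_) fun m hm => ?_
  · simp only [fixedSubmodule, Submodule.mem_iInf] at hm
    exact ⟨hm σ (Subgroup.mem_sup_left (self_mem hσ)), hm τ (Subgroup.mem_sup_right (self_mem hτ))⟩
  · simp only [fixedSubmodule, Submodule.mem_iInf]
    exact fun g hg => (sup_spaces hg).1 m hm.1 hm.2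

omit hk2 hk3 h0 in
theorem commutator_eq :
    commutatorSubmodule (sameActionSubgroup G σ ⊔ sameActionSubgroup G τ) =
      LinearMap.range (nil σ) ⊔ LinearMap.range (nil τ) := by
  refine le_antisymm (iSup₂_le fun g hg => (sup_spaces hg).2) (sup_le ?_ ?_)
  · exact le_iSup₂ (f := fun (g : LinearMap.GeneralLinearGroup k M) (_ : g ∈ _) =>
      LinearMap.range (nil g)) σ (Subgroup.mem_sup_left (self_mem hσ))
  · exact le_iSup₂ (f := fun (g : LinearMap.GeneralLinearGroup k M) (_ : g ∈ _) =>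
      LinearMap.range (nil g)) τ (Subgroup.mem_sup_right (self_mem hτ))

/-- The central involution. -/
theorem Opp.exists_involution :
    ∃ i ∈ sameActionSubgroup G σ ⊔ sameActionSubgroup G τ,
      (∀ m ∈ LinearMap.ker (nil σ) ⊓ LinearMap.ker (nil τ), (i : Module.End k M) m = m) ∧
      ∀ m ∈ LinearMap.range (nil σ) ⊔ LinearMap.range (nil τ), (i : Module.End k M) m = -m := by
  obtain ⟨y, hy, hp⟩ := h0.exists_partner hk2 hk3 hσ hτ
  set v := weyl σ y * σ
  refine ⟨v * v, ?_, fun m hm => ?_, ?_⟩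
  · have hs : σ ∈ sameActionSubgroup G σ ⊔ sameActionSubgroup G τ :=
      Subgroup.mem_sup_left (self_mem hσ)
    have hy' : y ∈ sameActionSubgroup G σ ⊔ sameActionSubgroup G τ :=
      Subgroup.mem_sup_right (Subgroup.subset_closure hy)
    exact mul_mem (mul_mem (mul_mem hs (inv_mem hy')) hs) (mul_mem (mul_mem hs (inv_mem hy')) hs)
  · have h1 : nil σ m = 0 := hm.1
    have h2 : nil y m = 0 := by
      have : m ∈ LinearMap.ker (nil y) := hy.2.1.symm ▸ hm.2
      exact this
    have hA : (1 + nil σ) m = m := by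
      rw [LinearMap.add_apply, Module.End.one_apply, h1, add_zero]
    have hB : (1 - nil y) m = m := by
      rw [LinearMap.sub_apply, Module.End.one_apply, h2, sub_zero]
    have e : (v : Module.End k M) m = m := by
      rw [Units.val_mul, weyl_val (sq_zero hy.1), coe_eq σ, Module.End.mul_apply,
        Module.End.mul_apply, hA, hB, hA]
    rw [Units.val_mul, Module.End.mul_apply, e, e]
  · have hv : (v : Module.End k M) = (1 + nil σ) * (1 - nil y) * (1 + nil σ) := by
      rw [Units.val_mul, weyl_val (sq_zero hy.1), coe_eq σ]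
    have e1 : (v : Module.End k M) * nil σ = -(nil y * nil σ) := by
      rw [hv, show (1 + nil σ) * (1 - nil y) * (1 + nil σ) * nil σ =
        nil σ + nil σ * nil σ + (1 + nil σ) * (1 - nil y) * (nil σ * nil σ) - nil y * nil σ
          - nil σ * nil y * nil σ by noncomm_ring, hp.left, sq_zero hσ]
      simp
    have e2 : (v : Module.End k M) * nil y = nil σ * nil y := by
      rw [hv, show (1 + nil σ) * (1 - nil y) * (1 + nil σ) * nil y =
        nil y + nil σ * nil y + nil σ * nil y - nil y * nil y - nil σ * (nil y * nil y)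
          - nil y * nil σ * nil y - nil σ * (nil y * nil σ * nil y) + nil σ * nil σ * nil y by
          noncomm_ring, hp.right, sq_zero hσ, sq_zero hy.1]
      simp
      abel
    have f1 : (v : Module.End k M) * (v : Module.End k M) * nil σ = -nil σ := by
      rw [mul_assoc, e1, mul_neg, ← mul_assoc, e2, hp.left]
    have f2 : (v : Module.End k M) * (v : Module.End k M) * nil y = -nil y := by
      rw [mul_assoc, e2, ← mul_assoc, e1, neg_mul, hp.right]
    intro m hm
    rw [← (show LinearMap.range (nil y) = LinearMap.range (nil τ) from hy.2.2)] at hm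
    obtain ⟨_, ⟨p, rfl⟩, _, ⟨q, rfl⟩, rfl⟩ := Submodule.mem_sup.1 hm
    rw [Units.val_mul, map_add, neg_add, ← Module.End.mul_apply _ (nil σ),
      ← Module.End.mul_apply _ (nil y), f1, f2]
    rfl

end Cfsg.Agent.Lib.RootSubgroups.QuadPair
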