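import Mathlib
import Cfsg.Agent.Lib.RootSubgroups.QuadPairRankOne
import Cfsg.Agent.Lib.RootSubgroups.QuadPairKolchin
import Cfsg.Agent.Lib.RootSubgroups.QuadPairCommute

/-!
The bracket of two members of `Σ` which neither commute nor are opposite.
-/

set_option autoImplicit false

namespace Cfsg.Agent.Lib.RootSubgroups.QuadPair

open Cfsg
open scoped commutatorElement

variable {k : Type*} [Field k] {M : Type*} [AddCommGroup M] [Module k M] [FiniteDimensional k M]
  {G : Subgroup (LinearMap.GeneralLinearGroup k M)} {σ τ γ : LinearMap.GeneralLinearGroup k M}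

omit [FiniteDimensional k M] in
/-- The key identity: the linear term of the conjugated middle map does not vanish. -/
theorem bracket_linear_ne {a b p : Module.End k M} (h1 : a * b * a = 0) (_h2 : b * a * b = 0)
    (hD : (a * b - b * a) * p * (a * b - b * a) = a * b - b * a) (hne : a * b - b * a ≠ 0)
    (hdis : Disjoint (LinearMap.range (a * b)) (LinearMap.range (b * a))) :
    b * a * p * b ≠ b * p * a * b := by
  intro e
  have e1 : b * a * p * b * a = 0 := by
    rw [e, mul_assoc (b * p * a), show b * p * a * (b * a) = b * p * (a * b * a) by noncomm_ring,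
      h1, mul_zero]
  have e2 : a * b * p * (a * b) = 0 := by
    rw [show a * b * p * (a * b) = a * (b * p * a * b) by noncomm_ring, ← e,
      show a * (b * a * p * b) = a * b * a * (p * b) by noncomm_ring, h1, zero_mul]
  rw [show (a * b - b * a) * p * (a * b - b * a) =
    a * b * p * (a * b) - a * b * p * (b * a) - b * a * p * (a * b) + b * a * p * b * a by
    noncomm_ring, e1, e2] at hD
  have hsum : a * b + a * b * p * (b * a) = b * a - b * a * p * (a * b) := by
    have h := hD
    rw [← sub_eq_zero] at h ⊢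
    rw [← neg_eq_zero, ← h]
    abel
  have hzero : ∀ x, (a * b + a * b * p * (b * a)) x = 0 := by
    intro x
    refine Submodule.disjoint_def.1 hdis _ ?_ ?_
    · exact ⟨x + p ((b * a) x), by simp⟩
    · rw [hsum]
      exact ⟨x - p ((a * b) x), by simp⟩
  have f1 : a * b = -(a * b * p * (b * a)) := eq_neg_of_add_eq_zero_left (LinearMap.ext hzero)
  have f2 : b * a = b * a * p * (a * b) := by
    rw [← sub_eq_zero, ← hsum]
    exact LinearMap.ext hzero
  have f3 : b * a = 0 := by
    calc b * a = b * a * p * (a * b) := f2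
      _ = -(b * a * p * (a * b) * p * (b * a)) := by
          conv_lhs => rw [f1]
          noncomm_ring
      _ = -(b * a * p * b * a) := by rw [← f2]; noncomm_ring
      _ = 0 := by rw [e1, neg_zero]
  refine hne ?_
  rw [f1, f3]
  simp

variable (hk2 : (2 : k) ≠ 0) (hk3 : Nat.card k ≠ 3) (hirr : IsIrreducibleFor G)
  (hσ : σ ∈ minimalQuadraticElements G) (hτ : τ ∈ minimalQuadraticElements G) (hno : ¬ Opp σ τ)
  (hγ : γ ∈ minimalQuadraticElements G) (hnil : nil γ = lamb σ τ) (hne : lamb σ τ ≠ 0)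

include hk2 hk3 hirr hσ hτ hno hγ hnil hne

/-- The bracket and each member have a common opposite. -/
theorem exists_common_opp : ∃ π ∈ minimalQuadraticElements G, Opp γ π ∧ Opp π τ := by
  obtain ⟨g, hg, h0⟩ := exists_opp_conj hk2 hk3 hirr hγ
  obtain ⟨π, hπ, hp⟩ := h0.exists_partner hk2 hk3 hγ (minimal_conj hg hγ)
  have h0' : Opp γ π := (opp_congr (self_mem_sameActionClass hγ) hπ).2 h0
  by_cases h1 : Opp π τ
  · exact ⟨π, hπ.1, h0', h1⟩
  have w := not_opp_word_zero hk2 hk3 hσ hτ hno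
  have w' := not_opp_word_zero hk2 hk3 hπ.1 hτ h1
  have t := tight hσ hτ w hne
  have key : ∀ s ∈ G, nil s * nil s = 0 → Commute (lamb σ τ) (nil s) →
      nil τ * nil (s * π * s⁻¹) * nil τ ≠ 0 →
      ∃ π' ∈ minimalQuadraticElements G, Opp γ π' ∧ Opp π' τ := by
    intro s hs _ hc hne'
    refine ⟨s * π * s⁻¹, minimal_conj hs hπ.1, ?_, by_contra fun h => hne' ?_⟩
    · have e : s * γ * s⁻¹ = γ := by
        rw [mul_inv_eq_iff_eq_mul]
        apply eq_of_nil_eq
        rw [nil_mul, nil_mul, hnil, hc.eq, add_comm (nil s)]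
      rw [← e]
      exact (opp_conj s).2 h0'
    · exact (not_opp_word_zero hk2 hk3 (minimal_conj hs hπ.1) hτ h).2
  have hcomm : Commute (lamb σ τ) (nil σ) :=
    (lamb_mul_left (sq_zero hσ) w).1.trans (lamb_mul_left (sq_zero hσ) w).2.symm
  have hinv := nil_inv (sq_zero hσ)
  by_cases hA : nil τ * nil (σ * π * σ⁻¹) * nil τ = 0
  swap
  · exact key σ hσ.1.1 (sq_zero hσ) hcomm hA
  refine key σ⁻¹ (inv_mem hσ.1.1) (by rw [hinv, neg_mul_neg, sq_zero hσ])
    (by rw [hinv]; exact hcomm.neg_right) fun hB => ?_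
  rw [nil_conj, coe_eq σ, coe_eq σ⁻¹, hinv] at hA
  rw [nil_conj, coe_eq σ⁻¹, inv_inv, coe_eq σ, hinv] at hB
  set a := nil σ
  set b := nil τ
  set p := nil π
  have hbpb : b * p * b = 0 := w'.2
  have e : (2 : k) • (b * a * p * b - b * p * a * b) = 0 := by
    rw [two_smul, show (b * a * p * b - b * p * a * b) + (b * a * p * b - b * p * a * b) =
      b * ((1 + a) * p * (1 + -a)) * b - b * ((1 + -a) * p * (1 + a)) * b by noncomm_ring, hA, hB,
      sub_zero]
  refine bracket_linear_ne w.1 w.2 ?_ hne ?_ (sub_eq_zero.1 ((smul_eq_zero.1 e).resolve_left hk2))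
  · have h := hp.left
    rw [hnil] at h
    exact h
  · refine t.disjoint.mono ?_ ?_
    · rintro _ ⟨x, rfl⟩
      exact ⟨⟨_, rfl⟩, congrArg (fun f : Module.End k M => f x) w.2⟩
    · rintro _ ⟨x, rfl⟩
      exact ⟨⟨_, rfl⟩, congrArg (fun f : Module.End k M => f x) w.1⟩

theorem exists_conj_bracket : ∃ g ∈ G,
    conjBy (sameActionSubgroup G τ) g = sameActionSubgroup G γ := by
  obtain ⟨π, hπ, h1, h2⟩ := exists_common_opp hk2 hk3 hirr hσ hτ hno hγ hnil hne
  obtain ⟨v, hv, e1⟩ := h2.symm.exists_weyl hk2 hk3 hτ hπ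
  obtain ⟨w, hw, e2⟩ := h1.symm.exists_weyl hk2 hk3 hπ hγ
  refine ⟨w * v, mul_mem ?_ ?_, ?_⟩
  · exact sup_le (sameActionSubgroup_le G π) (sameActionSubgroup_le G γ) hw
  · exact sup_le (sameActionSubgroup_le G τ) (sameActionSubgroup_le G π) hv
  · rw [conjBy_mul, e1, e2]

omit hk2 hk3 hirr hσ hτ hno hγ hnil hne

theorem sameAction_smul (hσ : σ ∈ minimalQuadraticElements G)
    {x : LinearMap.GeneralLinearGroup k M} (hx : x ∈ sameActionSubgroup G σ) (c : k) :
    ∃ y ∈ sameActionSubgroup G σ, nil y = c • nil x := by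
  rcases eq_or_ne c 0 with rfl | hc
  · exact ⟨1, one_mem _, by rw [nil_one, zero_smul]⟩
  rcases mem_cases hσ hx with rfl | hx'
  · exact ⟨1, one_mem _, by rw [nil_one, smul_zero]⟩
  obtain ⟨y, hy, e⟩ := exists_family hx'.1 c
  refine ⟨y, Subgroup.subset_closure ⟨⟨⟨scalarFamily_sub hx'.1 hy, ⟨?_, ?_⟩, ?_⟩, fun π hπ => ?_⟩,
    ?_, ?_⟩, e⟩
  · show nil y * nil y = 0
    rw [e, smul_mul_assoc, mul_smul_comm, sq_zero hx'.1, smul_zero, smul_zero]
  · show nil y ≠ 0
    rw [e]
    exact smul_ne_zero hc (nil_ne_zero hx'.1)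
  · intro π hπ
    obtain ⟨d, hd⟩ := mem_scalarFamily.1 hπ
    exact scalarFamily_sub hx'.1 (mem_scalarFamily.2 ⟨d * c, by rw [hd, e, smul_smul]⟩)
  · refine le_trans (le_of_eq ?_) (hx'.1.2 π hπ)
    show Module.finrank k (LinearMap.range (nil y)) = Module.finrank k (LinearMap.range (nil x))
    rw [e, LinearMap.range_smul _ _ hc]
  · show LinearMap.ker (nil y) = LinearMap.ker (nil σ)
    rw [e, LinearMap.ker_smul _ _ hc]
    exact hx'.2.1
  · show LinearMap.range (nil y) = LinearMap.range (nil σ)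
    rw [e, LinearMap.range_smul _ _ hc]
    exact hx'.2.2

/-- The nilpotent parts of `E(σ)` as a subspace. -/
def nilSpace (hσ : σ ∈ minimalQuadraticElements G) : Submodule k (Module.End k M) where
  carrier := {f | ∃ x ∈ sameActionSubgroup G σ, nil x = f}
  zero_mem' := ⟨1, one_mem _, nil_one⟩
  add_mem' := by
    rintro _ _ ⟨x, hx, rfl⟩ ⟨y, hy, rfl⟩
    exact ⟨x * y, mul_mem hx hy, by rw [nil_mul, sameActionSubgroup_comm hσ hx hy, add_zero]⟩
  smul_mem' := by
    rintro c _ ⟨x, hx, rfl⟩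
    exact sameAction_smul hσ hx c

theorem finrank_nilSpace_conj {g : LinearMap.GeneralLinearGroup k M}
    (hσ : σ ∈ minimalQuadraticElements G) (hτ : τ ∈ minimalQuadraticElements G)
    (h : conjBy (sameActionSubgroup G σ) g = sameActionSubgroup G τ) :
    Module.finrank k (nilSpace hσ) = Module.finrank k (nilSpace hτ) := by
  let f : Module.End k M →ₗ[k] Module.End k M :=
    LinearMap.mulLeft k (g : Module.End k M) ∘ₗ
      LinearMap.mulRight k ((g⁻¹ : LinearMap.GeneralLinearGroup k M) : Module.End k M)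
  have hf : ∀ x, f (nil x) = nil (g * x * g⁻¹) := fun x => by
    rw [nil_conj, mul_assoc]; rfl
  have hinj : Function.Injective f := by
    intro u v huv
    exact g⁻¹.isUnit.mul_right_cancel (g.isUnit.mul_left_cancel huv)
  have e : (nilSpace hσ).map f = nilSpace hτ := by
    refine le_antisymm ?_ ?_
    · rintro _ ⟨_, ⟨x, hx, rfl⟩, rfl⟩
      exact ⟨g * x * g⁻¹, h ▸ conj_mem_conjBy hx, (hf x).symm⟩
    · rintro _ ⟨y, hy, rfl⟩
      obtain ⟨x, hx, rfl⟩ : y ∈ conjBy (sameActionSubgroup G σ) g := h.symm ▸ hy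
      exact ⟨nil x, ⟨x, hx, rfl⟩, hf x⟩
  rw [← e]
  exact (Submodule.equivMapOfInjective f hinj _).finrank_eq

include hk2 hk3 hirr hσ hτ hno hγ hnil hne

omit hirr hγ in
theorem bracket_subset {x y : LinearMap.GeneralLinearGroup k M}
    (hx : x ∈ sameActionSubgroup G σ) (hy : y ∈ sameActionSubgroup G τ) :
    x * y * x⁻¹ * y⁻¹ ∈ sameActionSubgroup G γ ∧ (x ≠ 1 → y ≠ 1 → x * y * x⁻¹ * y⁻¹ ≠ 1) := by
  obtain ⟨γ', -, e, h⟩ := exists_bracket_root hk2 hk3 hσ hτ hno hne
  rw [eq_of_nil_eq (e.trans hnil.symm)] at h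
  exact h x hx y hy

/-- Every member of the bracket is a single commutator with a given non-identity element. -/
theorem bracket_surj {x : LinearMap.GeneralLinearGroup k M} (hx : x ∈ sameActionSubgroup G σ)
    (hx1 : x ≠ 1) {z : LinearMap.GeneralLinearGroup k M} (hz : z ∈ sameActionSubgroup G γ) :
    ∃ y ∈ sameActionSubgroup G τ, x * y * x⁻¹ * y⁻¹ = z := by
  obtain ⟨g, hg, e⟩ := exists_conj_bracket hk2 hk3 hirr hσ hτ hno hγ hnil hne
  let f : Module.End k M →ₗ[k] Module.End k M :=
    LinearMap.mulLeft k (nil x) - LinearMap.mulRight k (nil x)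
  have hf : ∀ y ∈ sameActionSubgroup G τ, f (nil y) = nil (x * y * x⁻¹ * y⁻¹) := fun y hy => by
    rw [nil_comm_mem hk2 hk3 hσ hτ hno hx hy]; rfl
  have hle : (nilSpace hτ).map f ≤ nilSpace hγ := by
    rintro _ ⟨_, ⟨y, hy, rfl⟩, rfl⟩
    exact ⟨_, (bracket_subset hk2 hk3 hσ hτ hno hnil hne hx hy).1, (hf y hy).symm⟩
  have hker : nilSpace hτ ⊓ LinearMap.ker f = ⊥ := by
    rw [eq_bot_iff]
    rintro _ ⟨⟨y, hy, rfl⟩, hy0⟩
    by_contra hne'
    refine (bracket_subset hk2 hk3 hσ hτ hno hnil hne hx hy).2 hx1 (fun h => hne' ?_) ?_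
    · rw [h, nil_one]; exact zero_mem _
    · apply eq_of_nil_eq
      rw [← hf y hy, nil_one]
      exact hy0
  have h1 := LinearMap.finrank_range_add_finrank_ker (f.domRestrict (nilSpace hτ))
  rw [LinearMap.range_domRestrict, LinearMap.ker_domRestrict] at h1
  have h2 : ((LinearMap.ker f).comap (nilSpace hτ).subtype) = ⊥ := by
    apply Submodule.map_injective_of_injective (nilSpace hτ).injective_subtype
    rw [Submodule.map_comap_subtype, Submodule.map_bot, hker]
  rw [h2, finrank_bot, add_zero, finrank_nilSpace_conj hτ hγ e] at h1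
  have heq := Submodule.eq_of_le_of_finrank_eq hle h1
  obtain ⟨_, ⟨y, hy, rfl⟩, hyz⟩ : nil z ∈ (nilSpace hτ).map f := heq ▸ ⟨z, hz, rfl⟩
  exact ⟨y, hy, eq_of_nil_eq ((hf y hy).symm.trans hyz)⟩

theorem closure_commutators {x : LinearMap.GeneralLinearGroup k M}
    (hx : x ∈ sameActionSubgroup G σ) (hx1 : x ≠ 1) :
    Subgroup.closure ((fun y : LinearMap.GeneralLinearGroup k M => x * y * x⁻¹ * y⁻¹) ''
      (sameActionSubgroup G τ : Set (LinearMap.GeneralLinearGroup k M))) =
        sameActionSubgroup G γ := by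
  refine le_antisymm ((Subgroup.closure_le _).2 ?_) fun z hz => ?_
  · rintro _ ⟨y, hy, rfl⟩
    exact (bracket_subset hk2 hk3 hσ hτ hno hnil hne hx hy).1
  · obtain ⟨y, hy, e⟩ := bracket_surj hk2 hk3 hirr hσ hτ hno hγ hnil hne hx hx1 hz
    exact Subgroup.subset_closure ⟨y, hy, e⟩

theorem commutator_eq_bracket :
    ⁅sameActionSubgroup G σ, sameActionSubgroup G τ⁆ = sameActionSubgroup G γ := by
  refine le_antisymm (Subgroup.commutator_le.2 fun x hx y hy =>
    (bracket_subset hk2 hk3 hσ hτ hno hnil hne hx hy).1) fun z hz => ?_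
  obtain ⟨y, hy, rfl⟩ :=
    bracket_surj hk2 hk3 hirr hσ hτ hno hγ hnil hne (self_mem hσ) (ne_one hσ) hz
  exact Subgroup.commutator_mem_commutator (self_mem hσ) hy

theorem commute_root {z g : LinearMap.GeneralLinearGroup k M} (hz : z ∈ sameActionSubgroup G γ)
    (hg : g ∈ sameActionSubgroup G σ ⊔ sameActionSubgroup G τ) : z * g = g * z := by
  have h : sameActionSubgroup G σ ⊔ sameActionSubgroup G τ ≤ Subgroup.centralizer {z} := by
    obtain ⟨y, hy, e⟩ :=
      bracket_surj hk2 hk3 hirr hσ hτ hno hγ hnil hne (self_mem hσ) (ne_one hσ) hz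
    have hc : ∀ w, w ∈ sameActionSubgroup G σ ∨ w ∈ sameActionSubgroup G τ → Commute z w :=
      fun w hw => e ▸ commute_bracket hk2 hk3 hσ hτ hno (self_mem hσ) hy hw
    refine sup_le (fun w hw => ?_) fun w hw => ?_ <;> rw [Subgroup.mem_centralizer_singleton_iff]
    · exact (hc w (Or.inl hw)).eq.symm
    · exact (hc w (Or.inr hw)).eq.symm
  exact (Subgroup.mem_centralizer_singleton_iff.1 (h hg)).symm

theorem class_two :
    ⁅sameActionSubgroup G σ ⊔ sameActionSubgroup G τ,
      sameActionSubgroup G σ ⊔ sameActionSubgroup G τ⁆ = sameActionSubgroup G γ := by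
  set E := sameActionSubgroup G σ
  set F := sameActionSubgroup G τ
  have hEF := commutator_eq_bracket hk2 hk3 hirr hσ hτ hno hγ hnil hne
  refine le_antisymm ?_ (hEF ▸ Subgroup.commutator_mono le_sup_left le_sup_right)
  set L := sameActionSubgroup G γ
  have hc := fun {z g : LinearMap.GeneralLinearGroup k M} (hz : z ∈ L) (hg : g ∈ E ⊔ F) =>
    commute_root hk2 hk3 hirr hσ hτ hno hγ hnil hne hz hg
  -- for fixed `x` the `y` with `[x, y] ∈ L` form a subgroup, and conversely
  have right : ∀ x ∈ E ⊔ F, (∀ y, y ∈ E ∨ y ∈ F → ⁅x, y⁆ ∈ L) → ∀ y ∈ E ⊔ F, ⁅x, y⁆ ∈ L := by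
    intro x _ h y hy
    rw [← Subgroup.closure_eq E, ← Subgroup.closure_eq F, ← Subgroup.closure_union] at hy
    have hmem : ∀ z ∈ Subgroup.closure (↑E ∪ ↑F : Set (LinearMap.GeneralLinearGroup k M)), z ∈ E ⊔ F := by
      intro z hz
      rwa [Subgroup.closure_union, Subgroup.closure_eq, Subgroup.closure_eq] at hz
    induction hy using Subgroup.closure_induction with
    | mem z hz => exact h z hz
    | one => simp
    | mul y z hy _ hy' hz' =>
      have e : ⁅x, y * z⁆ = ⁅x, y⁆ * (y * ⁅x, z⁆ * y⁻¹) := by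
        simp only [commutatorElement_def]; group
      have e2 : y * ⁅x, z⁆ * y⁻¹ = ⁅x, z⁆ := by
        rw [← hc hz' (hmem y hy), mul_assoc, mul_inv_cancel, mul_one]
      rw [e, e2]
      exact mul_mem hy' hz'
    | inv y hy hy' =>
      have e : ⁅x, y⁻¹⁆ = y⁻¹ * ⁅x, y⁆⁻¹ * y := by
        simp only [commutatorElement_def]; group
      rw [e, mul_assoc, hc (inv_mem hy') (hmem y hy), ← mul_assoc, inv_mul_cancel, one_mul]
      exact inv_mem hy'
  rw [Subgroup.commutator_le]
  intro x hx y hy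
  refine right x hx (fun y' hy' => ?_) y hy
  rw [← commutatorElement_inv]
  refine inv_mem (right y' (hy'.elim (fun h => Subgroup.mem_sup_left h) fun h => Subgroup.mem_sup_right h) ?_ x hx)
  intro x' hx'
  rcases hy' with hy' | hy' <;> rcases hx' with hx' | hx'
  · rw [commutatorElement_eq_one_iff_mul_comm.2 (commute_sameAction hσ hy' hx')]; exact one_mem _
  · exact hEF ▸ Subgroup.commutator_mem_commutator hy' hx'
  · rw [← commutatorElement_inv]
    exact inv_mem (hEF ▸ Subgroup.commutator_mem_commutator hx' hy')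
  · rw [commutatorElement_eq_one_iff_mul_comm.2 (commute_sameAction hτ hy' hx')]; exact one_mem _

omit hk2 hk3 hirr hσ hτ hno hnil hne in
theorem fixed_root : fixedSubmodule (sameActionSubgroup G γ) = LinearMap.ker (nil γ) := by
  refine le_antisymm (fun m hm => ?_) fun m hm => ?_
  · simp only [fixedSubmodule, Submodule.mem_iInf] at hm
    exact hm γ (self_mem hγ)
  · simp only [fixedSubmodule, Submodule.mem_iInf]
    intro g hg
    rcases mem_cases hγ hg with rfl | hg
    · rw [LinearMap.mem_ker, show ((1 : LinearMap.GeneralLinearGroup k M) : Module.End k M) - 1 = 0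
        from nil_one]; rfl
    · exact hg.2.1.symm ▸ hm

omit hk2 hk3 hirr hσ hτ hno hnil hne in
theorem commutatorSubmodule_root :
    commutatorSubmodule (sameActionSubgroup G γ) = LinearMap.range (nil γ) := by
  refine le_antisymm (iSup₂_le fun g hg => ?_) (le_iSup₂ (f := fun (g : LinearMap.GeneralLinearGroup k M)
    (_ : g ∈ _) => LinearMap.range (nil g)) γ (self_mem hγ))
  rcases mem_cases hγ hg with rfl | hg
  · rintro _ ⟨m, rfl⟩
    rw [show ((1 : LinearMap.GeneralLinearGroup k M) : Module.End k M) - 1 = 0 from nil_one]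
    exact zero_mem _
  · exact hg.2.2.le

/-- `⟨E, F⟩ ⊆ U(L)`. -/
theorem sup_subset_core :
    ((sameActionSubgroup G σ ⊔ sameActionSubgroup G τ : Subgroup _) :
      Set (LinearMap.GeneralLinearGroup k M)) ⊆
        quadraticUnipotentCore G (sameActionSubgroup G γ) := by
  have w := not_opp_word_zero hk2 hk3 hσ hτ hno
  have t := tight hσ hτ w hne
  let F : ℕ → Submodule k M := fun i => match i with
    | 0 => ⊤
    | 1 => LinearMap.ker (nil γ)
    | 2 => LinearMap.range (nil γ)
    | _ + 3 => ⊥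
  have hF : Antitone F := antitone_nat_of_succ_le fun n => by
    rcases n with _ | _ | _ | n
    · exact le_top
    · exact range_le_ker (sq_zero hγ)
    · exact bot_le
    · exact le_rfl
  have hR : LinearMap.range (nil γ) = (LinearMap.range (nil σ) ⊓ LinearMap.ker (nil τ)) ⊔
      (LinearMap.range (nil τ) ⊓ LinearMap.ker (nil σ)) := by rw [hnil]; exact t.range_eq
  have hK : LinearMap.ker (nil γ) = (LinearMap.range (nil τ) ⊔ LinearMap.ker (nil σ)) ⊓
      (LinearMap.range (nil σ) ⊔ LinearMap.ker (nil τ)) := by rw [hnil]; exact t.ker_eq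
  have hdeg : ∀ {g : LinearMap.GeneralLinearGroup k M},
      (∀ m, nil g m ∈ LinearMap.ker (nil γ)) →
      (∀ m ∈ LinearMap.ker (nil γ), nil g m ∈ LinearMap.range (nil γ)) →
      (∀ m ∈ LinearMap.range (nil γ), nil g m = 0) → g ∈ filtSubgroup hF 1 := by
    intro g h1 h2 h3 i m hm
    rcases i with _ | _ | _ | i
    · exact h1 m
    · exact h2 m hm
    · exact (Submodule.mem_bot k).2 (h3 m hm)
    · obtain rfl : m = 0 := (Submodule.mem_bot k).1 hm
      rw [map_zero]
      exact zero_mem _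
  have hside : sameActionSubgroup G σ ≤ filtSubgroup hF 1 ∧
      sameActionSubgroup G τ ≤ filtSubgroup hF 1 := by
    constructor <;> intro g hg
    · rcases mem_cases hσ hg with rfl | hg'
      · exact one_mem _
      have hr : LinearMap.range (nil g) = LinearMap.range (nil σ) := hg'.2.2
      have hk : LinearMap.ker (nil g) = LinearMap.ker (nil σ) := hg'.2.1
      refine hdeg (fun m => ?_) (fun m hm => ?_) fun m hm => ?_
      · have h : nil g m ∈ LinearMap.range (nil σ) := hr ▸ ⟨m, rfl⟩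
        rw [hK]
        exact ⟨Submodule.mem_sup_right (range_le_ker (sq_zero hσ) h), Submodule.mem_sup_left h⟩
      · rw [hK] at hm
        obtain ⟨_, ⟨p, rfl⟩, q, hq, rfl⟩ := Submodule.mem_sup.1 hm.1
        rw [map_add, LinearMap.mem_ker.1 (hk.symm ▸ hq : q ∈ LinearMap.ker (nil g)), add_zero, hR]
        refine Submodule.mem_sup_left ⟨hr ▸ ⟨_, rfl⟩, ?_⟩
        exact congrArg (fun f : Module.End k M => f p)
          (wordZero_of_mem hk2 hk3 hσ hτ hno hg (self_mem hτ)).2
      · rw [hR] at hm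
        obtain ⟨p, hp, q, hq, rfl⟩ := Submodule.mem_sup.1 hm
        rw [← LinearMap.mem_ker, hk]
        exact add_mem (range_le_ker (sq_zero hσ) hp.1) hq.2
    · rcases mem_cases hτ hg with rfl | hg'
      · exact one_mem _
      have hr : LinearMap.range (nil g) = LinearMap.range (nil τ) := hg'.2.2
      have hk : LinearMap.ker (nil g) = LinearMap.ker (nil τ) := hg'.2.1
      refine hdeg (fun m => ?_) (fun m hm => ?_) fun m hm => ?_
      · have h : nil g m ∈ LinearMap.range (nil τ) := hr ▸ ⟨m, rfl⟩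
        rw [hK]
        exact ⟨Submodule.mem_sup_left h, Submodule.mem_sup_right (range_le_ker (sq_zero hτ) h)⟩
      · rw [hK] at hm
        obtain ⟨_, ⟨p, rfl⟩, q, hq, rfl⟩ := Submodule.mem_sup.1 hm.2
        rw [map_add, LinearMap.mem_ker.1 (hk.symm ▸ hq : q ∈ LinearMap.ker (nil g)), add_zero, hR]
        refine Submodule.mem_sup_right ⟨hr ▸ ⟨_, rfl⟩, ?_⟩
        exact congrArg (fun f : Module.End k M => f p)
          (wordZero_of_mem hk2 hk3 hσ hτ hno (self_mem hσ) hg).1
      · rw [hR] at hm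
        obtain ⟨p, hp, q, hq, rfl⟩ := Submodule.mem_sup.1 hm
        rw [← LinearMap.mem_ker, hk]
        exact add_mem hp.2 (range_le_ker (sq_zero hτ) hq.1)
  intro g hg
  have hgF : nil g ∈ Deg F 1 := sup_le hside.1 hside.2 hg
  refine ⟨sup_le (sameActionSubgroup_le G σ) (sameActionSubgroup_le G τ) hg, ?_, ?_, ?_, ?_⟩
  · rw [Subgroup.mem_normalizer_iff]
    intro z
    constructor
    · intro hz
      rwa [← commute_root hk2 hk3 hirr hσ hτ hno hγ hnil hne hz hg, mul_inv_cancel_right]
    · intro hz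
      have h := commute_root hk2 hk3 hirr hσ hτ hno hγ hnil hne hz (inv_mem hg)
      have e : z = g * z * g⁻¹ := by
        calc z = g⁻¹ * (g * z * g⁻¹) * g := by group
          _ = g * z * g⁻¹ := by rw [← h]; group
      exact e ▸ hz
  · intro m
    rw [fixed_root hγ]
    exact hgF 0 m Submodule.mem_top
  · intro m hm
    rw [fixed_root hγ] at hm
    rw [commutatorSubmodule_root hγ]
    exact hgF 1 m hm
  · intro m hm
    rw [commutatorSubmodule_root hγ] at hm
    exact sub_eq_zero.1 ((Submodule.mem_bot k).1 (hgF 2 m hm))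

end Cfsg.Agent.Lib.RootSubgroups.QuadPair
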