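import Mathlib
import Cfsg.Agent.Lib.RootSubgroups.QuadPairBracket

/-!
When a pair of members of `Σ` is opposite: unipotence and nilpotency criteria.
-/

set_option autoImplicit false

namespace Cfsg.Agent.Lib.RootSubgroups.QuadPair

open Cfsg SL2Ring
open scoped commutatorElement

variable {k : Type*} [Field k] {M : Type*} [AddCommGroup M] [Module k M] [FiniteDimensional k M]
  {G : Subgroup (LinearMap.GeneralLinearGroup k M)} {σ τ : LinearMap.GeneralLinearGroup k M}

omit [FiniteDimensional k M] in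
theorem not_opp_of_isUnipotentOn (hσ : σ ∈ minimalQuadraticElements G)
    {H : Subgroup (LinearMap.GeneralLinearGroup k M)} (hH : IsUnipotentOn H) (h1 : σ ∈ H)
    (h2 : τ ∈ H) : ¬ Opp σ τ := by
  intro h0
  obtain ⟨F, N, hF, hF0, hN, hmem⟩ := exists_filtration hH
  refine h0.not_nilpotent hσ ⟨N, Deg_eq_zero hF0 hN ?_⟩
  have hz : zed (nil σ) (nil τ) ∈ Deg F 1 :=
    add_mem (Deg_mul_le hF (by omega) (hmem σ h1) (hmem τ h2))
      (Deg_mul_le hF (by omega) (hmem τ h2) (hmem σ h1))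
  have hpow : ∀ n, zed (nil σ) (nil τ) ^ n ∈ Deg F n := by
    intro n
    induction n with
    | zero => intro i x hx; simpa using hx
    | succ n ih => rw [pow_succ]; exact Deg_mul_le hF le_rfl ih hz
  exact hpow N

theorem not_opp_of_class_two (hk2 : (2 : k) ≠ 0) (hk3 : Nat.card k ≠ 3)
    (hσ : σ ∈ minimalQuadraticElements G) (hτ : τ ∈ minimalQuadraticElements G)
    {X : Subgroup (LinearMap.GeneralLinearGroup k M)} (h1 : sameActionSubgroup G σ ≤ X)
    (h2 : sameActionSubgroup G τ ≤ X) (hX : ⁅⁅X, X⁆, X⁆ = ⊥) : ¬ Opp σ τ := by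
  intro h0
  obtain ⟨L, hL, hA, lam, φ, m⟩ := h0.exists_sl2 hk2 hk3 hσ hτ
  have hle : φ.range ≤ X := by
    rw [m.range, Subgroup.closure_le]
    rintro g (hg | hg) <;> obtain ⟨c, hc⟩ := mem_scalarFamily.1 hg
    · obtain ⟨y, hy, e⟩ := sameAction_smul hσ (self_mem hσ) c
      exact eq_of_nil_eq (e.trans hc.symm) ▸ h1 hy
    · obtain ⟨y, hy, e⟩ := sameAction_smul hτ (self_mem hτ) c
      exact eq_of_nil_eq (e.trans hc.symm) ▸ h2 hy
  have hperf : ⁅φ.range, φ.range⁆ = φ.range := by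
    rw [MonoidHom.range_eq_map, ← Subgroup.map_commutator]
    congr 1
    exact dIter_top_field (L := L) hk2 hk3 1
  have h := Subgroup.commutator_mono (Subgroup.commutator_mono hle hle) hle
  rw [hperf, hperf, hX, le_bot_iff] at h
  have hs : σ ∈ φ.range := ⟨_, m.ux_one⟩
  rw [h, Subgroup.mem_bot] at hs
  exact ne_one hσ hs

/-- The conclusion for a pair which is neither commuting nor opposite. -/
theorem bracket_conclusion (hk2 : (2 : k) ≠ 0) (hk3 : Nat.card k ≠ 3) (hirr : IsIrreducibleFor G)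
    (hσ : σ ∈ minimalQuadraticElements G) (hτ : τ ∈ minimalQuadraticElements G) (hno : ¬ Opp σ τ)
    (hne : lamb σ τ ≠ 0) :
    ⁅sameActionSubgroup G σ, sameActionSubgroup G τ⁆ ∈ quadraticRootSubgroups G ∧
      (∀ e ∈ sameActionSubgroup G σ, e ≠ 1 → Subgroup.closure
        ((fun f : LinearMap.GeneralLinearGroup k M => e * f * e⁻¹ * f⁻¹) ''
          (sameActionSubgroup G τ : Set (LinearMap.GeneralLinearGroup k M))) =
            ⁅sameActionSubgroup G σ, sameActionSubgroup G τ⁆) ∧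
      (∀ f ∈ sameActionSubgroup G τ, f ≠ 1 → Subgroup.closure
        ((fun e : LinearMap.GeneralLinearGroup k M => e * f * e⁻¹ * f⁻¹) ''
          (sameActionSubgroup G σ : Set (LinearMap.GeneralLinearGroup k M))) =
            ⁅sameActionSubgroup G σ, sameActionSubgroup G τ⁆) ∧
      ⁅sameActionSubgroup G σ ⊔ sameActionSubgroup G τ,
        sameActionSubgroup G σ ⊔ sameActionSubgroup G τ⁆ ≠ ⊥ ∧
      ⁅⁅sameActionSubgroup G σ ⊔ sameActionSubgroup G τ,
        sameActionSubgroup G σ ⊔ sameActionSubgroup G τ⁆,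
          sameActionSubgroup G σ ⊔ sameActionSubgroup G τ⁆ = ⊥ ∧
      ((sameActionSubgroup G σ ⊔ sameActionSubgroup G τ : Subgroup _) :
        Set (LinearMap.GeneralLinearGroup k M)) ⊆
          quadraticUnipotentCore G ⁅sameActionSubgroup G σ, sameActionSubgroup G τ⁆ := by
  obtain ⟨γ, hγ, hnil, hsub⟩ := commutator_le_root hk2 hk3 hσ hτ hno hne
  have hEF := commutator_eq_bracket hk2 hk3 hirr hσ hτ hno hγ hnil hne
  have hXX := class_two hk2 hk3 hirr hσ hτ hno hγ hnil hne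
  have hno' : ¬ Opp τ σ := fun h => hno h.symm
  have hnil' : nil γ⁻¹ = lamb τ σ := by
    rw [nil_inv (sq_zero hγ), hnil]; exact neg_sub _ _
  have hne' : lamb τ σ ≠ 0 := fun h => hne ((neg_sub _ _).symm.trans (neg_eq_zero.2 h))
  have hcl : γ⁻¹ ∈ sameActionClass G γ := inv_mem_sameActionClass hγ (self_mem_sameActionClass hγ)
  rw [hXX, hEF]
  refine ⟨⟨γ, hγ, rfl⟩, fun e he he1 => closure_commutators hk2 hk3 hirr hσ hτ hno hγ hnil hne he he1,
    fun f hf hf1 => ?_, sameActionSubgroup_ne_bot hγ, ?_,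
    sup_subset_core hk2 hk3 hirr hσ hτ hno hγ hnil hne⟩
  · rw [← sameActionSubgroup_congr hcl,
      ← closure_commutators hk2 hk3 hirr hτ hσ hno' hcl.1 hnil' hne' hf hf1]
    refine le_antisymm ((Subgroup.closure_le _).2 ?_) ((Subgroup.closure_le _).2 ?_)
    · rintro _ ⟨e, he, rfl⟩
      show e * f * e⁻¹ * f⁻¹ ∈ _
      rw [← inv_inv (e * f * e⁻¹ * f⁻¹)]
      exact inv_mem (Subgroup.subset_closure ⟨e, he, by group⟩)
    · rintro _ ⟨e, he, rfl⟩
      show f * e * f⁻¹ * e⁻¹ ∈ _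
      rw [← inv_inv (f * e * f⁻¹ * e⁻¹)]
      exact inv_mem (Subgroup.subset_closure ⟨e, he, by group⟩)
  · rw [eq_bot_iff, Subgroup.commutator_le]
    intro z hz g hg
    rw [Subgroup.mem_bot, commutatorElement_eq_one_iff_mul_comm]
    exact commute_root hk2 hk3 hirr hσ hτ hno hγ hnil hne hz hg

end Cfsg.Agent.Lib.RootSubgroups.QuadPair
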