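import Mathlib
import Cfsg.Agent.Lib.RootSubgroups.SL2RingDerived

/-!
A normal subgroup of `SL₂(L)` with a non-scalar member is everything, `L` a field over `k`.
-/

set_option autoImplicit false

namespace Cfsg.Agent.Lib.RootSubgroups.SL2Ring

variable {k L : Type*} [Field k] [Field L] [Algebra k L]

theorem two_ne (hk2 : (2 : k) ≠ 0) : (2 : L) ≠ 0 := by
  rw [← map_ofNat (algebraMap k L) 2]
  exact (map_ne_zero _).2 hk2

theorem exists_not_square (hk2 : (2 : k) ≠ 0) (hk3 : Nat.card k ≠ 3) (u : L) :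
    ∃ t : L, t ≠ 0 ∧ t * t ≠ u := by
  obtain ⟨r, hr0, hr1⟩ := exists_scalar hk2 hk3
  by_cases hu : u = 1
  · refine ⟨algebraMap k _ r, (map_ne_zero _).2 hr0, ?_⟩
    rw [hu, ← map_mul, ← map_one (algebraMap k L)]
    exact fun e => hr1 ((algebraMap k L).injective e)
  · exact ⟨1, one_ne_zero, by rw [one_mul]; exact Ne.symm hu⟩

theorem normal_eq_top_of_ly (hk2 : (2 : k) ≠ 0) {N : Subgroup (SLR L)} (hN : N.Normal) {t : L}
    (ht : t ≠ 0) (htN : ly t ∈ N) : N = ⊤ := by
  have h2 := two_ne (L := L) hk2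
  have hsq : ∀ r : L, ly (r * r * t) ∈ N := by
    intro r
    rcases eq_or_ne r 0 with rfl | hr
    · rw [zero_mul, zero_mul, ly_zero]; exact one_mem _
    have h := hN.conj_mem _ htN (mk r⁻¹ 0 0 r (by rw [mul_zero, sub_zero, inv_mul_cancel₀ hr]))
    convert h using 1
    apply ext2 <;> simp [ly, mul_00, mul_01, mul_10, mul_11, inv_00, inv_01, inv_10, inv_11, hr]
    ring
  have hly : ∀ u : L, ly u ∈ N := by
    intro u
    set w := u / t
    have e : u = (w + 1) / 2 * ((w + 1) / 2) * t + -((w - 1) / 2 * ((w - 1) / 2) * t) := by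
      have e1 : u = w * t := (div_mul_cancel₀ u ht).symm
      rw [e1]
      field_simp
      ring
    rw [e, ly_add, ly_neg]
    exact mul_mem (hsq _) (inv_mem (hsq _))
  have hux : ∀ u : L, ux u ∈ N := by
    intro u
    have h := hN.conj_mem _ (hly (-u)) (mk 0 1 (-1) 0 (by ring))
    convert h using 1
    apply ext2 <;> simp [ux, ly, mul_00, mul_01, mul_10, mul_11, inv_00, inv_01, inv_10, inv_11]
  exact (Subgroup.eq_top_iff' N).2 (mem_of_all hux hly)

theorem normal_eq_top (hk2 : (2 : k) ≠ 0) (hk3 : Nat.card k ≠ 3) {N : Subgroup (SLR L)}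
    (hN : N.Normal) {g : SLR L} (hg : g ∈ N) (hne : g 1 0 ≠ 0 ∨ g 0 1 ≠ 0) : N = ⊤ := by
  by_contra htop
  obtain ⟨e1, e2, -⟩ := normal_scalar hN (two_ne hk2) (exists_not_square hk2 hk3)
    (fun t ht => by_contra fun h0 => htop (normal_eq_top_of_ly hk2 hN h0 ht)) hg
  exact hne.elim (fun h => h e1) fun h => h e2

theorem three_lt_card (hk2 : (2 : k) ≠ 0) (hk3 : Nat.card k ≠ 3) : 3 < ENat.card L := by
  obtain ⟨r, hr0, hr1⟩ := exists_scalar hk2 hk3
  have h2 := two_ne (L := L) hk2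
  set s := algebraMap k L r
  have hs0 : s ≠ 0 := (map_ne_zero _).2 hr0
  have hs1 : s * s ≠ 1 := fun e => hr1 ((algebraMap k L).injective (by rw [map_mul, map_one]; exact e))
  have hinj : Function.Injective ![0, 1, -1, s] := by
    have h1 : s ≠ 1 := fun e => hs1 (by rw [e, mul_one])
    have h3 : s ≠ -1 := fun e => hs1 (by rw [e]; ring)
    have h4 : (1 : L) ≠ -1 := fun e => h2 (by linear_combination e)
    intro i j hij
    fin_cases i <;> fin_cases j <;> simp_all [eq_comm]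
  have h := ENat.card_le_card_of_injective hinj
  rw [ENat.card_eq_coe_fintype_card, Fintype.card_fin] at h
  exact lt_of_lt_of_le (by norm_num) h

theorem upper_eq : Cfsg.upperUnipotentSL2 L = Subgroup.closure (Set.range (ux (R := L))) := by
  rw [Cfsg.upperUnipotentSL2]
  congr 1
  ext g
  constructor
  · rintro ⟨h10, h00, h11⟩
    exact ⟨g 0 1, by apply ext2 <;> simp [ux, h10, h00, h11]⟩
  · rintro ⟨t, rfl⟩
    exact ⟨rfl, rfl, rfl⟩

theorem lower_eq : Cfsg.lowerUnipotentSL2 L = Subgroup.closure (Set.range (ly (R := L))) := by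
  rw [Cfsg.lowerUnipotentSL2]
  congr 1
  ext g
  constructor
  · rintro ⟨h01, h00, h11⟩
    exact ⟨g 1 0, by apply ext2 <;> simp [ly, h01, h00, h11]⟩
  · rintro ⟨t, rfl⟩
    exact ⟨rfl, rfl, rfl⟩

theorem upper_sup_lower : Cfsg.upperUnipotentSL2 L ⊔ Cfsg.lowerUnipotentSL2 L = ⊤ := by
  rw [upper_eq, lower_eq]
  exact (Subgroup.eq_top_iff' _).2 (mem_of_all
    (fun t => Subgroup.mem_sup_left (Subgroup.subset_closure ⟨t, rfl⟩))
    fun t => Subgroup.mem_sup_right (Subgroup.subset_closure ⟨t, rfl⟩))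

end Cfsg.Agent.Lib.RootSubgroups.SL2Ring
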