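import Mathlib
import Cfsg.Agent.Lib.RootSubgroups.QuadPairClassify
import Cfsg.Agent.Lib.RootSubgroups.RankOne
import Cfsg.Agent.Lib.RootSubgroups.SL2RingNormal

/-!
The trichotomy for `Σ`, and `SL₂` inside opposite pairs.
-/

set_option autoImplicit false

namespace Cfsg.Agent.Lib.RootSubgroups.QuadPair

open Cfsg SL2Ring
open scoped commutatorElement

universe w v

variable {k : Type w} [Field k] {M : Type v} [AddCommGroup M] [Module k M] [FiniteDimensional k M]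
  {G : Subgroup (LinearMap.GeneralLinearGroup k M)} {σ τ : LinearMap.GeneralLinearGroup k M}

omit [FiniteDimensional k M] in
theorem conj_root_mem {A : Subgroup (LinearMap.GeneralLinearGroup k M)}
    (hA : A ∈ quadraticRootSubgroups G) {g : LinearMap.GeneralLinearGroup k M} (hg : g ∈ G) :
    conjBy A g ∈ quadraticRootSubgroups G := by
  obtain ⟨σ, hσ, rfl⟩ := hA
  exact ⟨_, minimal_conj hg hσ, conjBy_sameActionSubgroup hg σ⟩

omit [FiniteDimensional k M] in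
theorem root_le {A : Subgroup (LinearMap.GeneralLinearGroup k M)}
    (hA : A ∈ quadraticRootSubgroups G) : A ≤ G := by
  obtain ⟨σ, -, rfl⟩ := hA
  exact sameActionSubgroup_le G σ

omit [FiniteDimensional k M] in
theorem root_ne_bot {A : Subgroup (LinearMap.GeneralLinearGroup k M)}
    (hA : A ∈ quadraticRootSubgroups G) : A ≠ ⊥ := by
  obtain ⟨σ, hσ, rfl⟩ := hA
  exact sameActionSubgroup_ne_bot hσ

theorem root_comm {A : Subgroup (LinearMap.GeneralLinearGroup k M)}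
    (hA : A ∈ quadraticRootSubgroups G) : IsMulCommutative A := by
  obtain ⟨σ, hσ, rfl⟩ := hA
  exact isMulCommutative_sameAction hσ

variable (hk2 : (2 : k) ≠ 0) (hk3 : Nat.card k ≠ 3) (hirr : IsIrreducibleFor G)
  (hσ : σ ∈ minimalQuadraticElements G) (hτ : τ ∈ minimalQuadraticElements G)

include hk2 hk3 hirr hσ hτ

/-- The trichotomy. -/
theorem root_trichotomy : ⁅sameActionSubgroup G σ, sameActionSubgroup G τ⁆ = ⊥ ∨ Opp σ τ ∨
    (¬ Opp σ τ ∧ lamb σ τ ≠ 0 ∧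
      RootCommutatorCase (quadraticRootSubgroups G) (sameActionSubgroup G σ) (sameActionSubgroup G τ)) := by
  by_cases h0 : Opp σ τ
  · exact Or.inr (Or.inl h0)
  by_cases hne : lamb σ τ = 0
  · exact Or.inl (bot_of_lamb_zero hk2 hk3 hσ hτ h0 hne)
  refine Or.inr (Or.inr ⟨h0, hne, ?_⟩)
  obtain ⟨h1, h2, h3, -, h5, -⟩ := bracket_conclusion hk2 hk3 hirr hσ hτ h0 hne
  refine ⟨h1, fun c hc x hx => ?_, h2, h3⟩
  set X := sameActionSubgroup G σ ⊔ sameActionSubgroup G τ with hX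
  have h7 : ⁅sameActionSubgroup G σ, sameActionSubgroup G τ⁆ ≤ ⁅X, X⁆ :=
    Subgroup.commutator_mono (hX ▸ le_sup_left) (hX ▸ le_sup_right)
  have h6 : ⁅c, x⁆ ∈ ⁅⁅X, X⁆, X⁆ := Subgroup.commutator_mem_commutator (h7 hc) hx
  rw [h5, Subgroup.mem_bot, commutatorElement_eq_one_iff_mul_comm] at h6
  exact h6

theorem rankOne_iff_opp :
    IsRankOnePair (sameActionSubgroup G σ) (sameActionSubgroup G τ) ↔ Opp σ τ := by
  refine ⟨fun h => ?_, fun h => (h.isSpecialRankOnePair hk2 hk3 hσ hτ).1⟩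
  rcases root_trichotomy hk2 hk3 hirr hσ hτ with h1 | h1 | ⟨hno, hne, hcase⟩
  · exact absurd h1 (RankOne.commutator_ne_bot h)
  · exact h1
  exfalso
  set A := sameActionSubgroup G σ
  set B := sameActionSubgroup G τ
  obtain ⟨y, hy, hy1, hc⟩ := h.cond_left σ (self_mem hσ) (ne_one hσ)
  obtain ⟨y', hy', e⟩ : y⁻¹ * σ * y ∈ conjBy B σ⁻¹ := by
    rw [← hc]
    exact mem_conjBy.2 (by simpa [mul_assoc] using self_mem hσ)
  simp only [MulEquiv.coe_toMonoidHom, MulAut.conj_apply, inv_inv] at e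
  -- both sides are central translates
  have hL : ∀ z ∈ ⁅A, B⁆, ∀ x ∈ A ⊔ B, z * x = x * z := hcase.2.1
  have h1 : y⁻¹ * σ * y = σ * ⁅σ⁻¹, y⁻¹⁆ := by rw [commutatorElement_def]; group
  have h2 : σ⁻¹ * y' * σ = ⁅σ⁻¹, y'⁆ * y' := by rw [commutatorElement_def]; group
  rw [h1, h2] at e
  set z1 := ⁅σ⁻¹, y⁻¹⁆
  set z2 := ⁅σ⁻¹, y'⁆
  have hz1 : z1 ∈ ⁅A, B⁆ := Subgroup.commutator_mem_commutator (inv_mem (self_mem hσ)) (inv_mem hy)
  have hz2 : z2 ∈ ⁅A, B⁆ := Subgroup.commutator_mem_commutator (inv_mem (self_mem hσ)) hy'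
  have hcomm : ∀ x ∈ B, σ * x = x * σ := by
    intro x hx
    have hx' : x ∈ A ⊔ B := Subgroup.mem_sup_right hx
    have e1 : σ = z2 * y' * z1⁻¹ := by rw [e]; group
    have c1 : z2 * x = x * z2 := hL z2 hz2 x hx'
    have c2 : z1⁻¹ * x = x * z1⁻¹ := hL _ (inv_mem hz1) x hx'
    have c3 : y' * x = x * y' := commute_sameAction hτ hy' hx
    rw [e1, mul_assoc, c2, ← mul_assoc, mul_assoc z2, c3, ← mul_assoc, c1]
    group
  exact RankOne.commutator_ne_bot h (bot_of_commute hk2 hk3 hσ hτ (hcomm τ (self_mem hτ)))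

omit hirr

omit hk2 hk3 hτ in
theorem mem_of_spaces {g : LinearMap.GeneralLinearGroup k M}
    (hr : LinearMap.range (nil g) ≤ LinearMap.range (nil σ))
    (hk : LinearMap.ker (nil σ) ≤ LinearMap.ker (nil g))
    (hfam : ∀ c : k, ∃ h ∈ G, nil h = c • nil g) : g ∈ sameActionSubgroup G σ := by
  by_cases h0 : nil g = 0
  · rw [eq_of_nil_eq (h0.trans nil_one.symm)]
    exact one_mem _
  have hsq : nil g * nil g = 0 := mul_eq_zero_of_range_le_ker
    (hr.trans ((range_le_ker (sq_zero hσ)).trans hk))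
  obtain ⟨ρ, hρ, e⟩ := minimal_of_family hσ h0 hsq hfam (Submodule.finrank_mono hr)
  rw [← eq_of_nil_eq e]
  have er : LinearMap.range (nil ρ) = LinearMap.range (nil σ) :=
    Submodule.eq_of_le_of_finrank_le (by rw [e]; exact hr) (rank_eq hσ hρ).le
  refine Subgroup.subset_closure ⟨hρ, (Submodule.eq_of_le_of_finrank_le (show LinearMap.ker (nil σ) ≤ LinearMap.ker (nil ρ) by rw [e]; exact hk) ?_).symm, er⟩
  show Module.finrank k (LinearMap.ker (nil ρ)) ≤ Module.finrank k (LinearMap.ker (nil σ))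
  have h1 := LinearMap.finrank_range_add_finrank_ker (nil ρ)
  have h2 := LinearMap.finrank_range_add_finrank_ker (nil σ)
  rw [er] at h1
  omega

omit hk2 hk3 in
theorem sl2_mem {L : Type*} [Field L] [Algebra k L] {lam : L}
    {φ : SLR L →* LinearMap.GeneralLinearGroup k M} (m : SL2Model σ τ lam φ) :
    (∀ r, φ (ux r) ∈ sameActionSubgroup G σ) ∧ (∀ r, φ (ly r) ∈ sameActionSubgroup G τ) ∧
      φ.range ≤ sameActionSubgroup G σ ⊔ sameActionSubgroup G τ := by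
  have hG : φ.range ≤ G := m.range ▸ pair_le hσ hτ
  refine ⟨fun r => mem_of_spaces hσ (m.ux_spaces r).1 (m.ux_spaces r).2
      fun c => ⟨_, hG ⟨_, rfl⟩, m.ux_smul c r⟩,
    fun r => mem_of_spaces hτ (m.ly_spaces r).1 (m.ly_spaces r).2
      fun c => ⟨_, hG ⟨_, rfl⟩, m.ly_smul c r⟩, ?_⟩
  rw [m.range, Subgroup.closure_le]
  rintro g (hg | hg) <;> obtain ⟨c, hc⟩ := mem_scalarFamily.1 hg
  · obtain ⟨y, hy, e⟩ := sameAction_smul hσ (self_mem hσ) c
    exact eq_of_nil_eq (e.trans hc.symm) ▸ Subgroup.mem_sup_left hy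
  · obtain ⟨y, hy, e⟩ := sameAction_smul hτ (self_mem hτ) c
    exact eq_of_nil_eq (e.trans hc.symm) ▸ Subgroup.mem_sup_right hy

theorem Opp.psl_pair (h0 : Opp σ τ) :
    ∃ A₀ B₀ : Subgroup (LinearMap.GeneralLinearGroup k M), A₀ ≤ sameActionSubgroup G σ ∧
      B₀ ≤ sameActionSubgroup G τ ∧
        ∃ (k₁ : Type v) (_ : Field k₁), 3 < ENat.card k₁ ∧ IsPSL2PairOver k₁ A₀ B₀ := by
  obtain ⟨L, hL, hA, lam, φ, m⟩ := h0.exists_sl2 hk2 hk3 hσ hτ
  obtain ⟨h1, h2, -⟩ := sl2_mem hσ hτ m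
  refine ⟨(upperUnipotentSL2 L).map φ, (lowerUnipotentSL2 L).map φ, ?_, ?_, L, hL,
    three_lt_card hk2 hk3, φ, ?_, ?_, rfl, rfl⟩
  · rw [upper_eq, MonoidHom.map_closure, Subgroup.closure_le]
    rintro _ ⟨_, ⟨r, rfl⟩, rfl⟩
    exact h1 r
  · rw [lower_eq, MonoidHom.map_closure, Subgroup.closure_le]
    rintro _ ⟨_, ⟨r, rfl⟩, rfl⟩
    exact h2 r
  · rw [← Subgroup.map_sup, upper_sup_lower, MonoidHom.range_eq_map]
  · rw [(MonoidHom.ker_eq_bot_iff φ).2 m.inj]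
    exact bot_le

theorem Opp.mem_commutator (h0 : Opp σ τ) {X : Subgroup (LinearMap.GeneralLinearGroup k M)}
    (h1 : sameActionSubgroup G σ ≤ X) (h2 : sameActionSubgroup G τ ≤ X) : σ ∈ ⁅X, X⁆ := by
  obtain ⟨L, hL, hA, lam, φ, m⟩ := h0.exists_sl2 hk2 hk3 hσ hτ
  have hle : φ.range ≤ X := (sl2_mem hσ hτ m).2.2.trans (sup_le h1 h2)
  refine Subgroup.commutator_mono hle hle ?_
  rw [MonoidHom.range_eq_map, ← Subgroup.map_commutator,
    show ⁅(⊤ : Subgroup (SLR L)), (⊤ : Subgroup (SLR L))⁆ = ⊤ from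
      dIter_top_field (L := L) hk2 hk3 1]
  exact ⟨_, trivial, m.ux_one⟩

/-- A subgroup invariant under the pair meeting the generated `SL₂` outside its centre contains
both. -/
theorem Opp.mem_of_normal (h0 : Opp σ τ) {N : Subgroup (LinearMap.GeneralLinearGroup k M)}
    (hN : ∀ g ∈ sameActionSubgroup G σ ⊔ sameActionSubgroup G τ, ∀ x ∈ N, g * x * g⁻¹ ∈ N)
    (hmem : σ ∈ N ∨ τ * σ⁻¹ ∈ N) : σ ∈ N ∧ τ ∈ N := by
  obtain ⟨L, hL, hA, lam, φ, m⟩ := h0.exists_sl2 hk2 hk3 hσ hτ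
  have hle := (sl2_mem hσ hτ m).2.2
  have hn : (N.comap φ).Normal := ⟨fun x hx g => by
    rw [Subgroup.mem_comap, map_mul, map_mul, map_inv]
    exact hN _ (hle ⟨g, rfl⟩) _ hx⟩
  have htop : N.comap φ = ⊤ := by
    rcases hmem with h | h
    · refine normal_eq_top hk2 hk3 hn (g := ux 1) (by rw [Subgroup.mem_comap, m.ux_one]; exact h)
        (Or.inr ?_)
      simp [ux]
    · refine normal_eq_top hk2 hk3 hn (g := ly lam * (ux 1)⁻¹)
        (by rw [Subgroup.mem_comap, map_mul, map_inv, m.ux_one, m.ly_lam]; exact h) (Or.inl ?_)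
      simp [ly, ux, mul_10, inv_00, inv_10, m.lam_ne]
  have hall := fun g : SLR L => Subgroup.mem_comap.1 (htop ▸ Subgroup.mem_top g : g ∈ N.comap φ)
  exact ⟨m.ux_one ▸ hall (ux 1), m.ly_lam ▸ hall (ly lam)⟩

end Cfsg.Agent.Lib.RootSubgroups.QuadPair
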