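import Mathlib
import Cfsg.Agent.Lib.RootSubgroups.QuadPairRootSet

/-!
The components of `Σ` for the rank one graph.
-/

set_option autoImplicit false

namespace Cfsg.Agent.Lib.RootSubgroups.QuadPair

open Cfsg
open scoped commutatorElement

variable {k : Type*} [Field k] {M : Type*} [AddCommGroup M] [Module k M]

section defs

variable (G : Subgroup (LinearMap.GeneralLinearGroup k M))
  (A : Subgroup (LinearMap.GeneralLinearGroup k M))

/-- The component of `A`. -/
abbrev part : Set (Subgroup (LinearMap.GeneralLinearGroup k M)) :=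
  componentOf (FAdj (quadraticRootSubgroups G)) (quadraticRootSubgroups G) A

/-- The group generated by the component of `A`. -/
abbrev partGroup : Subgroup (LinearMap.GeneralLinearGroup k M) := ⨆ B ∈ part G A, B

/-- The elements mapping the component to itself in both directions. -/
def partStab : Subgroup (LinearMap.GeneralLinearGroup k M) where
  carrier := {g | ∀ B ∈ part G A, conjBy B g ∈ part G A ∧ conjBy B g⁻¹ ∈ part G A}
  one_mem' B hB := by simp only [inv_one, conjBy_one]; exact ⟨hB, hB⟩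
  mul_mem' {g h} hg hh B hB := by
    refine ⟨?_, ?_⟩
    · rw [conjBy_mul]; exact (hg _ (hh B hB).1).1
    · rw [mul_inv_rev, conjBy_mul]; exact (hh _ (hg B hB).2).2
  inv_mem' {g} hg B hB := by rw [inv_inv]; exact (hg B hB).symm

end defs

variable {G : Subgroup (LinearMap.GeneralLinearGroup k M)}
  {A B C D : Subgroup (LinearMap.GeneralLinearGroup k M)}

theorem self_mem_part (hA : A ∈ quadraticRootSubgroups G) : A ∈ part G A :=
  ⟨hA, Relation.ReflTransGen.refl⟩

theorem le_partGroup (hB : B ∈ part G A) : B ≤ partGroup G A :=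
  le_iSup₂ (f := fun B (_ : B ∈ part G A) => B) B hB

theorem part_eq (hB : B ∈ part G A) : part G B = part G A := by
  have hsymm : ∀ C D, Relation.ReflTransGen (FAdj (quadraticRootSubgroups G)) C D →
      Relation.ReflTransGen (FAdj (quadraticRootSubgroups G)) D C := fun C D h => by
    induction h with
    | refl => exact Relation.ReflTransGen.refl
    | tail _ h ih => exact Relation.ReflTransGen.head ⟨h.2.1, h.1, RankOnePair_symm h.2.2⟩ ih
  ext C
  exact ⟨fun h => ⟨h.1, hB.2.trans h.2⟩, fun h => ⟨h.1, (hsymm _ _ hB.2).trans h.2⟩⟩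

variable [FiniteDimensional k M] (hk2 : (2 : k) ≠ 0) (hk3 : Nat.card k ≠ 3)
  (hirr : IsIrreducibleFor G)

include hk2 hk3 hirr

theorem exists_partner_root (hA : A ∈ quadraticRootSubgroups G) :
    ∃ B ∈ quadraticRootSubgroups G, IsRankOnePair A B := by
  obtain ⟨σ, hσ, rfl⟩ := hA
  obtain ⟨g, hg, h0⟩ := exists_opp_conj hk2 hk3 hirr hσ
  exact ⟨_, ⟨_, minimal_conj hg hσ, rfl⟩,
    (h0.isSpecialRankOnePair hk2 hk3 hσ (minimal_conj hg hσ)).1⟩

theorem mem_part_of_bracket (hA : A ∈ quadraticRootSubgroups G)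
    (hB : B ∈ quadraticRootSubgroups G) (hne : ⁅A, B⁆ ≠ ⊥) :
    B ∈ part G A ∧ (¬ IsRankOnePair A B → ⁅A, B⁆ ∈ part G A) := by
  obtain ⟨σ, hσ, rfl⟩ := hA
  obtain ⟨τ, hτ, rfl⟩ := hB
  rcases root_trichotomy hk2 hk3 hirr hσ hτ with h | h | ⟨hno, hlam, -⟩
  · exact absurd h hne
  · have hp := (h.isSpecialRankOnePair hk2 hk3 hσ hτ).1
    exact ⟨⟨⟨τ, hτ, rfl⟩, Relation.ReflTransGen.single ⟨⟨σ, hσ, rfl⟩, ⟨τ, hτ, rfl⟩, hp⟩⟩,
      fun h' => absurd hp h'⟩
  have hno' : ¬ Opp τ σ := fun h => hno h.symm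
  obtain ⟨γ, hγ, hnil, -⟩ := commutator_le_root hk2 hk3 hσ hτ hno hlam
  have hnil' : nil γ⁻¹ = lamb τ σ := by rw [nil_inv (sq_zero hγ), hnil]; exact neg_sub _ _
  have hlam' : lamb τ σ ≠ 0 := fun h => hlam ((neg_sub _ _).symm.trans (neg_eq_zero.2 h))
  have hcl : γ⁻¹ ∈ sameActionClass G γ := inv_mem_sameActionClass hγ (self_mem_sameActionClass hγ)
  obtain ⟨π, hπ, h1, h2⟩ := exists_common_opp hk2 hk3 hirr hσ hτ hno hγ hnil hlam
  obtain ⟨ρ, hρ, h3, h4⟩ := exists_common_opp hk2 hk3 hirr hτ hσ hno' hcl.1 hnil' hlam'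
  have adj : ∀ {x y : LinearMap.GeneralLinearGroup k M}, x ∈ minimalQuadraticElements G →
      y ∈ minimalQuadraticElements G → Opp x y →
      FAdj (quadraticRootSubgroups G) (sameActionSubgroup G x) (sameActionSubgroup G y) :=
    fun hx hy h => ⟨⟨_, hx, rfl⟩, ⟨_, hy, rfl⟩, (h.isSpecialRankOnePair hk2 hk3 hx hy).1⟩
  have h3' : Opp γ ρ := (opp_congr hcl (self_mem_sameActionClass hρ)).1 h3
  have r1 : Relation.ReflTransGen (FAdj (quadraticRootSubgroups G)) (sameActionSubgroup G σ)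
      (sameActionSubgroup G γ) :=
    (Relation.ReflTransGen.single (adj hσ hρ h4.symm)).tail (adj hρ hγ h3'.symm)
  refine ⟨⟨⟨τ, hτ, rfl⟩, (r1.tail (adj hγ hπ h1)).tail (adj hπ hτ h2)⟩, fun _ => ?_⟩
  rw [commutator_eq_bracket hk2 hk3 hirr hσ hτ hno hγ hnil hlam]
  exact ⟨⟨γ, hγ, rfl⟩, r1⟩

theorem commute_of_not_mem_part (hA : A ∈ quadraticRootSubgroups G)
    (hB : B ∈ quadraticRootSubgroups G) (h : B ∉ part G A) : ⁅A, B⁆ = ⊥ :=
  by_contra fun hne => h (mem_part_of_bracket hk2 hk3 hirr hA hB hne).1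

theorem partGroup_commute (h : part G A ≠ part G B) : ⁅partGroup G A, partGroup G B⁆ = ⊥ := by
  rw [Subgroup.commutator_eq_bot_iff_le_centralizer]
  refine iSup₂_le fun C hC => Subgroup.le_centralizer_iff.1 (iSup₂_le fun D hD => ?_)
  rw [Subgroup.le_centralizer_iff, ← Subgroup.commutator_eq_bot_iff_le_centralizer]
  refine commute_of_not_mem_part hk2 hk3 hirr hC.1 hD.1 fun hm => h ?_
  rw [← part_eq hC, ← part_eq hD, ← part_eq hm]

omit [FiniteDimensional k M] hk2 hk3 hirr in
theorem exists_conj_adj (hp : IsRankOnePair A B) :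
    ∃ g ∈ A ⊔ B, conjBy A g = B := by
  obtain ⟨a, ha, ha1⟩ := (Subgroup.bot_or_exists_ne_one A).resolve_left (RankOne.left_ne_bot hp)
  obtain ⟨b, hb, -, e⟩ := hp.cond_left a ha ha1
  exact ⟨a * b⁻¹, mul_mem (Subgroup.mem_sup_left ha) (inv_mem (Subgroup.mem_sup_right hb)),
    by rw [conjBy_mul, e, conjBy_conjBy_inv]⟩

omit [FiniteDimensional k M] hk2 hk3 hirr in
theorem exists_conj_part (hB : B ∈ part G A) :
    ∃ g ∈ partGroup G A, conjBy A g = B := by
  obtain ⟨-, hr⟩ := hB
  induction hr with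
  | refl => exact ⟨1, one_mem _, conjBy_one A⟩
  | @tail X Y hX hXY ih =>
    obtain ⟨g, hg, e⟩ := ih
    obtain ⟨v, hv, e'⟩ := exists_conj_adj hXY.2.2
    refine ⟨v * g, mul_mem (sup_le (le_partGroup ⟨hXY.1, hX⟩) (le_partGroup ⟨hXY.2.1, hX.tail hXY⟩) hv) hg, ?_⟩
    rw [conjBy_mul, e, e']

omit [FiniteDimensional k M] hk2 hk3 hirr in
theorem partGroup_le : partGroup G A ≤ G := iSup₂_le fun _ hB => root_le hB.1

theorem partGroup_le_stab :
    partGroup G A ≤ partStab G A := by
  refine iSup₂_le fun C hC x hx B hB => ?_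
  have main : ∀ y ∈ C, conjBy B y ∈ part G A := by
    intro y hy
    have hB' := conj_root_mem hB.1 (root_le hC.1 hy)
    by_cases hc : ⁅C, B⁆ = ⊥
    · have e : conjBy B y = B := conjBy_self_of_mem_normalizer
        (Subgroup.centralizer_le_normalizer _ (Subgroup.commutator_eq_bot_iff_le_centralizer.1 hc hy))
      rw [e]; exact hB
    · have hne : ⁅C, conjBy B y⁆ ≠ ⊥ := fun h => hc (by
        rw [← conjBy_self_of_mem hy, ← conjBy_commutator] at h
        rwa [← conjBy_bot y, conjBy_inj] at h)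
      exact part_eq hC ▸ (mem_part_of_bracket hk2 hk3 hirr hC.1 hB' hne).1
  exact ⟨main x hx, main x⁻¹ (inv_mem hx)⟩

omit [FiniteDimensional k M] hk2 hk3 hirr in
theorem conjBy_partGroup {g : LinearMap.GeneralLinearGroup k M}
    (hg : g ∈ partStab G A) : conjBy (partGroup G A) g = partGroup G A := by
  have h1 : ∀ h ∈ partStab G A, conjBy (partGroup G A) h ≤ partGroup G A := fun h hh => by
    rw [partGroup, conjBy, Subgroup.map_iSup]
    refine iSup_le fun B => ?_
    rw [Subgroup.map_iSup]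
    exact iSup_le fun hB => le_partGroup (hh B hB).1
  refine le_antisymm (h1 g hg) ?_
  have h2 := conjBy_mono g (h1 g⁻¹ (inv_mem hg))
  rwa [conjBy_conjBy_inv] at h2

omit [FiniteDimensional k M] hk2 hk3 hirr in
theorem conj_part_mem {g : LinearMap.GeneralLinearGroup k M} (hg : g ∈ G) (hB : B ∈ part G A) :
    conjBy B g ∈ part G (conjBy A g) := by
  obtain ⟨hBm, hr⟩ := hB
  refine ⟨conj_root_mem hBm hg, ?_⟩
  induction hr with
  | refl => exact Relation.ReflTransGen.refl
  | tail _ h ih =>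
    exact (ih h.1).tail ⟨conj_root_mem h.1 hg, conj_root_mem h.2.1 hg, RankOne.conj h.2.2 g⟩

omit [FiniteDimensional k M] hk2 hk3 hirr in
theorem conjBy_partGroup_eq
    {g : LinearMap.GeneralLinearGroup k M} (hg : g ∈ G) :
    conjBy (partGroup G A) g = partGroup G (conjBy A g) := by
  have h1 : ∀ h ∈ G, ∀ X, conjBy (partGroup G X) h ≤ partGroup G (conjBy X h) := fun h hh X => by
    rw [partGroup, conjBy, Subgroup.map_iSup]
    refine iSup_le fun B => ?_
    rw [Subgroup.map_iSup]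
    exact iSup_le fun hB => le_partGroup (conj_part_mem hh hB)
  refine le_antisymm (h1 g hg A) ?_
  have h2 := conjBy_mono g (h1 g⁻¹ (inv_mem hg) (conjBy A g))
  rwa [conjBy_conjBy_inv, conjBy_inv_conjBy] at h2

theorem mem_commutator_part (hB : B ∈ part G A) :
    B ≤ ⁅partGroup G A, partGroup G A⁆ := by
  obtain ⟨σ, hσ, rfl⟩ := hB.1
  intro x hx
  rcases mem_cases hσ hx with rfl | hx'
  · exact one_mem _
  obtain ⟨g, hg, h0⟩ := exists_opp_conj hk2 hk3 hirr hx'.1
  have hτ := minimal_conj hg hx'.1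
  have hm : sameActionSubgroup G (g * x * g⁻¹) ∈ part G A := by
    refine ⟨⟨_, hτ, rfl⟩, hB.2.tail ⟨⟨σ, hσ, rfl⟩, ⟨_, hτ, rfl⟩, ?_⟩⟩
    rw [← sameActionSubgroup_congr hx']
    exact (h0.isSpecialRankOnePair hk2 hk3 hx'.1 hτ).1
  refine h0.mem_commutator hk2 hk3 hx'.1 hτ ?_ (le_partGroup hm)
  rw [sameActionSubgroup_congr hx']
  exact le_partGroup hB

theorem partGroup_perfect : ⁅partGroup G A, partGroup G A⁆ = partGroup G A :=
  le_antisymm (Subgroup.commutator_le_self _)
    (iSup₂_le fun _ hB => mem_commutator_part hk2 hk3 hirr hB)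

theorem finite_parts : ((part G) '' quadraticRootSubgroups G).Finite := by
  set P := (part G) '' quadraticRootSubgroups G
  have hrep : ∀ p : P, ∃ σ, σ ∈ minimalQuadraticElements G ∧
      part G (sameActionSubgroup G σ) = p.1 := by
    rintro ⟨_, _, ⟨σ, hσ, rfl⟩, rfl⟩
    exact ⟨σ, hσ, rfl⟩
  choose s hs hp using hrep
  have hli : LinearIndependent k fun p : P => nil (s p) := by
    rw [linearIndependent_iff']
    intro t c hsum i hi
    obtain ⟨g, hg, h0⟩ := exists_opp_conj hk2 hk3 hirr (hs i)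
    set π := g * s i * g⁻¹
    have hπ : π ∈ minimalQuadraticElements G := minimal_conj hg (hs i)
    have hother : ∀ j, j ≠ i → nil (s j) * nil π = nil π * nil (s j) := by
      intro j hj
      refine commute_nil ?_
      have hmem : sameActionSubgroup G π ∈ part G (sameActionSubgroup G (s i)) :=
        ⟨⟨_, hπ, rfl⟩, Relation.ReflTransGen.single
          ⟨⟨_, hs i, rfl⟩, ⟨_, hπ, rfl⟩, (h0.isSpecialRankOnePair hk2 hk3 (hs i) hπ).1⟩⟩
      have hc : ⁅sameActionSubgroup G (s j), sameActionSubgroup G π⁆ = ⊥ :=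
        commute_of_not_mem_part hk2 hk3 hirr ⟨_, hs j, rfl⟩ ⟨_, hπ, rfl⟩ fun hm => hj
          (Subtype.ext (by rw [← hp j, ← hp i, ← part_eq hm, part_eq hmem]))
      exact commutatorElement_eq_one_iff_mul_comm.1 (Subgroup.mem_bot.1
        (hc ▸ Subgroup.commutator_mem_commutator (self_mem (hs j)) (self_mem hπ)))
    have h1 := congrArg (fun f => f * nil π - nil π * f) hsum
    simp only [Finset.sum_mul, Finset.mul_sum, ← Finset.sum_sub_distrib, smul_mul_assoc,
      mul_smul_comm, ← smul_sub, zero_mul, mul_zero, sub_zero] at h1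
    rw [Finset.sum_eq_single i (fun j _ hj => by rw [hother j hj, sub_self, smul_zero])
      (fun h => absurd hi h)] at h1
    refine (smul_eq_zero.1 h1).resolve_right fun hz => not_opp_of_commute (hs i) hπ ?_ h0
    refine eq_of_nil_eq ?_
    rw [nil_mul (s i) π, nil_mul π (s i), sub_eq_zero.1 hz, add_comm (nil π)]
  have : Finite P := hli.finite
  exact Set.toFinite P

end Cfsg.Agent.Lib.RootSubgroups.QuadPair
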