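import Mathlib
import Cfsg.Agent.Lib.RootSubgroups.QuadPairParts
import Cfsg.Prelude.Def_CaseTheorems

/-!
The group generated by a component of `Σ` is quasisimple.
-/

set_option autoImplicit false

namespace Cfsg.Agent.Lib.RootSubgroups.QuadPair

open Cfsg
open scoped commutatorElement

variable {k : Type*} [Field k] {M : Type*} [AddCommGroup M] [Module k M] [FiniteDimensional k M]

omit [FiniteDimensional k M] in
theorem IsUnipotentOn.mono {H K : Subgroup (LinearMap.GeneralLinearGroup k M)} (h : H ≤ K)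
    (hK : IsUnipotentOn K) : IsUnipotentOn H := by
  obtain ⟨n, hn⟩ := hK
  exact ⟨n, fun l hl => hn l fun g hg => h (hl g hg)⟩

omit [FiniteDimensional k M] in
theorem IsUnipotentOn.conjBy {H : Subgroup (LinearMap.GeneralLinearGroup k M)}
    (hH : IsUnipotentOn H) (g : LinearMap.GeneralLinearGroup k M) :
    IsUnipotentOn (Cfsg.conjBy H g) := by
  obtain ⟨n, hn⟩ := hH
  refine ⟨n, fun l hl hlen => ?_⟩
  have key : ∀ l : List (LinearMap.GeneralLinearGroup k M),
      (l.map fun x => (x : M →ₗ[k] M) - 1).prod = (g : Module.End k M) *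
        ((l.map fun x => g⁻¹ * x * g).map fun x => (x : M →ₗ[k] M) - 1).prod *
          ((g⁻¹ : LinearMap.GeneralLinearGroup k M) : Module.End k M) := by
    intro l
    induction l with
    | nil => simp [← Units.val_mul]
    | cons x t ih =>
      simp only [List.map_cons, List.prod_cons, List.pure_def, List.bind_eq_flatMap,
        List.flatMap_cons, List.cons_append, List.nil_append] at ih ⊢
      rw [ih]
      have e : nil x = (g : Module.End k M) * nil (g⁻¹ * x * g) *
          ((g⁻¹ : LinearMap.GeneralLinearGroup k M) : Module.End k M) := by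
        rw [← nil_conj]; congr 1; group
      have h1 : ((g⁻¹ : LinearMap.GeneralLinearGroup k M) : Module.End k M) *
          (g : Module.End k M) = 1 := by rw [← Units.val_mul, inv_mul_cancel, Units.val_one]
      show nil x * _ = (g : Module.End k M) * (nil (g⁻¹ * x * g) * _) * _
      rw [e]
      simp only [← mul_assoc]
      rw [mul_assoc ((g : Module.End k M) * nil (g⁻¹ * x * g)), h1, mul_one]
  rw [key, hn (l.map fun x => g⁻¹ * x * g) ?_ (by rw [List.length_map, hlen]), mul_zero, zero_mul]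
  intro y hy
  obtain ⟨x, hx, rfl⟩ := List.mem_map.1 hy
  exact mem_conjBy.1 (hl x hx)

omit [FiniteDimensional k M] in
theorem le_iSup_set {Q : Set (Subgroup (LinearMap.GeneralLinearGroup k M))}
    {P : Subgroup (LinearMap.GeneralLinearGroup k M)} (h : P ∈ Q) : P ≤ ⨆ R ∈ Q, R :=
  le_iSup₂ (f := fun R (_ : R ∈ Q) => R) P h

/-- Unipotent subgroups normalising each other generate a unipotent subgroup. -/
theorem isUnipotentOn_iSup {Q : Set (Subgroup (LinearMap.GeneralLinearGroup k M))}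
    (hu : ∀ P ∈ Q, IsUnipotentOn P)
    (hn : ∀ P ∈ Q, ∀ R ∈ Q, ∀ g ∈ P, ∀ x ∈ R, g * x * g⁻¹ ∈ R) :
    IsUnipotentOn (⨆ P ∈ Q, P) := by
  set S : Set (LinearMap.GeneralLinearGroup k M) := {g | ∃ P ∈ Q, g ∈ P}
  refine IsUnipotentOn.mono
    (iSup₂_le fun P hP g hg => Subgroup.subset_closure (k := S) ⟨P, hP, hg⟩) ?_
  refine isUnipotentOn_closure fun F hF hFi => ?_
  obtain ⟨X, ⟨hXF, hXinv⟩, hmin⟩ := wellFounded_lt.has_min
    {X : Submodule k M | ¬ X ≤ F ∧ ∀ g ∈ S, ∀ x ∈ X, nil g x ∈ X}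
    ⟨⊤, fun h => hF (top_le_iff.1 h), fun _ _ _ _ => Submodule.mem_top⟩
  obtain ⟨x, hxX, hxF⟩ := SetLike.not_le_iff_exists.1 hXF
  refine ⟨x, hxF, fun g ⟨P, hP, hg⟩ => ?_⟩
  let X' : Submodule k M := X ⊓ ⨅ q ∈ P, F.comap (nil q)
  have hmem : ∀ {y}, y ∈ X' ↔ y ∈ X ∧ ∀ q ∈ P, nil q y ∈ F := by
    intro y
    simp [X', Submodule.mem_iInf]
  obtain ⟨y, hyX, hyF, hy⟩ := exists_killed (hu P hP)
    (fun q hq z hz => hXinv q ⟨P, hP, hq⟩ z hz) hXF
  have heq : X' = X := by
    by_contra hne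
    refine hmin X' ⟨fun hle => hyF (hle (hmem.2 ⟨hyX, hy⟩)), ?_⟩ (lt_of_le_of_ne inf_le_left hne)
    rintro h ⟨R, hR, hh⟩ z hz
    obtain ⟨hzX, hz'⟩ := hmem.1 hz
    refine hmem.2 ⟨hXinv h ⟨R, hR, hh⟩ z hzX, fun q hq => ?_⟩
    have hq' : h⁻¹ * q * h ∈ P := by
      have := hn R hR P hP h⁻¹ (inv_mem hh) q hq
      rwa [inv_inv] at this
    have e : q = h * (h⁻¹ * q * h) * h⁻¹ := by group
    have e1 : nil h z = (h : Module.End k M) z - z := by
      rw [nil, LinearMap.sub_apply, Module.End.one_apply]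
    have e2 : nil q ((h : Module.End k M) z) = (h : Module.End k M) (nil (h⁻¹ * q * h) z) := by
      conv_lhs => rw [e, nil_conj, Module.End.mul_apply, Module.End.mul_apply, val_inv_apply]
    rw [e1, map_sub, e2]
    refine sub_mem ?_ (hz' q hq)
    rw [coe_eq h, LinearMap.add_apply, Module.End.one_apply]
    exact add_mem (hz' _ hq') (hFi h ⟨R, hR, hh⟩ _ (hz' _ hq'))
  exact (hmem.1 (heq.symm ▸ hxX)).2 g hg

variable {G : Subgroup (LinearMap.GeneralLinearGroup k M)}

theorem isUnipotentOn_root {A : Subgroup (LinearMap.GeneralLinearGroup k M)}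
    (hA : A ∈ quadraticRootSubgroups G) : IsUnipotentOn A := by
  obtain ⟨σ, hσ, rfl⟩ := hA
  refine ⟨2, fun l hl hlen => ?_⟩
  match l, hlen with
  | [x, y], _ => simpa [nil] using sameActionSubgroup_comm hσ (hl x (by simp)) (hl y (by simp))

variable (hk2 : (2 : k) ≠ 0) (hk3 : Nat.card k ≠ 3) (hirr : IsIrreducibleFor G)

include hk2 hk3 hirr

theorem normal_meets_member {A : Subgroup (LinearMap.GeneralLinearGroup k M)}
    {N : Subgroup (LinearMap.GeneralLinearGroup k M)} (hNP : N ≤ partGroup G A)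
    (hN : ∀ g ∈ partGroup G A, ∀ x ∈ N, g * x * g⁻¹ ∈ N)
    {B : Subgroup (LinearMap.GeneralLinearGroup k M)} (hB : B ∈ part G A) (hBN : N ⊓ B ≠ ⊥) :
    N = partGroup G A := by
  have step : ∀ C D, C ∈ part G A → D ∈ part G A → IsRankOnePair C D → N ⊓ C ≠ ⊥ → D ≤ N := by
    rintro C D hC hD hp hne y hy
    obtain ⟨σ, hσ, rfl⟩ := hC.1
    obtain ⟨τ, hτ, rfl⟩ := hD.1
    by_cases hy1 : y = 1
    · rw [hy1]; exact one_mem _
    obtain ⟨x, ⟨hxN, hx⟩, hx1⟩ := (Subgroup.bot_or_exists_ne_one _).resolve_left hne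
    have hxc := (mem_cases hσ hx).resolve_left hx1
    have hyc := (mem_cases hτ hy).resolve_left hy1
    have h0 : Opp x y := (opp_congr hxc hyc).2 ((rankOne_iff_opp hk2 hk3 hirr hσ hτ).1 hp)
    refine (h0.mem_of_normal hk2 hk3 hxc.1 hyc.1 (fun g hg => hN g ?_) (Or.inl hxN)).2
    rw [sameActionSubgroup_congr hxc, sameActionSubgroup_congr hyc] at hg
    exact sup_le (le_partGroup hC) (le_partGroup hD) hg
  have hne : ∀ {C D}, C ∈ part G A → D ∈ part G A → IsRankOnePair C D → N ⊓ C ≠ ⊥ → N ⊓ D ≠ ⊥ :=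
    fun hC hD hp h => by
      rw [inf_eq_right.2 (step _ _ hC hD hp h)]
      exact root_ne_bot hD.1
  have hall : ∀ C ∈ part G A, N ⊓ C ≠ ⊥ := by
    intro C hC
    rw [← part_eq hB] at hC
    obtain ⟨-, hr⟩ := hC
    induction hr with
    | refl => exact hBN
    | @tail X Y hX hXY ih =>
      exact hne (part_eq hB ▸ ⟨hXY.1, hX⟩) (part_eq hB ▸ ⟨hXY.2.1, hX.tail hXY⟩) hXY.2.2 ih
  refine le_antisymm hNP (iSup₂_le fun C hC => ?_)
  obtain ⟨D, hD, hp⟩ := exists_partner_root hk2 hk3 hirr hC.1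
  have hDm : D ∈ part G A := ⟨hD, hC.2.tail ⟨hC.1, hD, hp⟩⟩
  exact step D C hDm hC (RankOnePair_symm hp) (hall D hDm)

theorem normal_cases {A : Subgroup (LinearMap.GeneralLinearGroup k M)}
    {N : Subgroup (LinearMap.GeneralLinearGroup k M)} (hNP : N ≤ partGroup G A)
    (hN : ∀ g ∈ partGroup G A, ∀ x ∈ N, g * x * g⁻¹ ∈ N) :
    N = partGroup G A ∨ ∀ x ∈ N, ∀ g ∈ partGroup G A, x * g = g * x := by
  by_cases hmeet : ∃ B ∈ part G A, N ⊓ B ≠ ⊥
  · obtain ⟨B, hB, hne⟩ := hmeet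
    exact Or.inl (normal_meets_member hk2 hk3 hirr hNP hN hB hne)
  right
  push Not at hmeet
  -- the conjugates under `N` of a member commute with it
  have hcomm : ∀ B ∈ part G A, ∀ n ∈ N, ⁅B, conjBy B n⁆ = ⊥ := by
    intro B hB n hn
    have hnP := hNP hn
    have hB' : conjBy B n ∈ part G A := (partGroup_le_stab hk2 hk3 hirr hnP B hB).1
    obtain ⟨σ, hσ, rfl⟩ := hB.1
    have hnG := partGroup_le hnP
    have hτ := minimal_conj hnG hσ
    set τ := n * σ * n⁻¹ with hτdef
    rw [conjBy_sameActionSubgroup hnG] at hB' ⊢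
    have hmemN : τ * σ⁻¹ ∈ N := by
      have h := N.mul_mem hn (hN σ (le_partGroup hB (self_mem hσ)) n⁻¹ (N.inv_mem hn))
      simpa [hτdef, mul_assoc] using h
    rcases root_trichotomy hk2 hk3 hirr hσ hτ with h | h | ⟨hno, hlam, -⟩
    · exact h
    · exfalso
      have h1 := (h.mem_of_normal hk2 hk3 hσ hτ (fun g hg => hN g
        (sup_le (le_partGroup hB) (le_partGroup hB') hg)) (Or.inr hmemN)).1
      exact ne_one hσ (Subgroup.mem_bot.1 (hmeet _ hB ▸ ⟨h1, self_mem hσ⟩))
    · exfalso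
      obtain ⟨γ, hγ, hnil, -⟩ := commutator_le_root hk2 hk3 hσ hτ hno hlam
      obtain ⟨hz, hz1⟩ := bracket_subset hk2 hk3 hσ hτ hno hnil hlam (self_mem hσ) (self_mem hτ)
      have hγm : sameActionSubgroup G γ ∈ part G A := by
        rw [← commutator_eq_bracket hk2 hk3 hirr hσ hτ hno hγ hnil hlam, ← part_eq hB]
        refine (mem_part_of_bracket hk2 hk3 hirr hB.1 hB'.1 fun e => ?_).2 fun hp =>
          hno ((rankOne_iff_opp hk2 hk3 hirr hσ hτ).1 hp)
        rw [commutator_eq_bracket hk2 hk3 hirr hσ hτ hno hγ hnil hlam] at e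
        exact sameActionSubgroup_ne_bot hγ e
      have hzN : σ * τ * σ⁻¹ * τ⁻¹ ∈ N := by
        have h := N.mul_mem (hN σ (le_partGroup hB (self_mem hσ)) _ hmemN) (N.inv_mem hmemN)
        simpa [mul_assoc] using h
      exact hz1 (ne_one hσ) (ne_one hτ) (Subgroup.mem_bot.1 (hmeet _ hγm ▸ ⟨hzN, hz⟩))
  -- the subgroups `[N, B]`
  let Qof : Subgroup (LinearMap.GeneralLinearGroup k M) → Subgroup (LinearMap.GeneralLinearGroup k M) :=
    fun B => Subgroup.closure {z | ∃ n ∈ N, ∃ a ∈ B, z = n * a * n⁻¹ * a⁻¹}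
  have hQN : ∀ B ∈ part G A, Qof B ≤ N := fun B hB => by
    rw [Subgroup.closure_le]
    rintro _ ⟨n, hn, a, ha, rfl⟩
    have h := N.mul_mem hn (hN a (le_partGroup hB ha) n⁻¹ (N.inv_mem hn))
    simpa [mul_assoc] using h
  have hQconj : ∀ g ∈ partGroup G A, ∀ B, ∀ x ∈ Qof B, g * x * g⁻¹ ∈ Qof (conjBy B g) := by
    intro g hg B x hx
    have hle : Qof B ≤ (Qof (conjBy B g)).comap (MulAut.conj g).toMonoidHom := by
      rw [Subgroup.closure_le]
      rintro _ ⟨n, hn, a, ha, rfl⟩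
      refine Subgroup.subset_closure ⟨g * n * g⁻¹, hN g hg n hn, g * a * g⁻¹, conj_mem_conjBy ha, ?_⟩
      simp [mul_assoc]
    exact hle hx
  have hQnorm : ∀ m ∈ N, ∀ B, ∀ x ∈ Qof B, m * x * m⁻¹ ∈ Qof B := by
    intro m hm B x hx
    have hle : Qof B ≤ (Qof B).comap (MulAut.conj m).toMonoidHom := by
      rw [Subgroup.closure_le]
      rintro _ ⟨n, hn, a, ha, rfl⟩
      have e : m * (n * a * n⁻¹ * a⁻¹) * m⁻¹ =
          ((m * n) * a * (m * n)⁻¹ * a⁻¹) * (m * a * m⁻¹ * a⁻¹)⁻¹ := by group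
      show m * (n * a * n⁻¹ * a⁻¹) * m⁻¹ ∈ Qof B
      rw [e]
      exact mul_mem (Subgroup.subset_closure ⟨_, mul_mem hm hn, a, ha, rfl⟩)
        (inv_mem (Subgroup.subset_closure ⟨m, hm, a, ha, rfl⟩))
    exact hle hx
  have hQu : ∀ B ∈ part G A, IsUnipotentOn (Qof B) := by
    intro B hB
    refine IsUnipotentOn.mono (K := ⨆ P ∈ (fun n => conjBy B n) '' (N : Set (LinearMap.GeneralLinearGroup k M)), P) ?_
      (isUnipotentOn_iSup ?_ ?_)
    · rw [Subgroup.closure_le]
      rintro _ ⟨n, hn, a, ha, rfl⟩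
      refine mul_mem ?_ (inv_mem ?_)
      · exact le_iSup_set (Q := (fun n => conjBy B n) '' (N : Set (LinearMap.GeneralLinearGroup k M)))
          (P := conjBy B n) ⟨n, hn, rfl⟩ (conj_mem_conjBy ha)
      · exact le_iSup_set (Q := (fun n => conjBy B n) '' (N : Set (LinearMap.GeneralLinearGroup k M)))
          (P := B) ⟨1, one_mem N, conjBy_one B⟩ ha
    · rintro _ ⟨n, hn, rfl⟩
      exact isUnipotentOn_root (conj_root_mem hB.1 (partGroup_le (hNP hn)))
    · rintro _ ⟨n, hn, rfl⟩ _ ⟨m, hm, rfl⟩ g hg x hx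
      have h1 : ⁅conjBy B n, conjBy B m⁆ = ⊥ := by
        have h := congrArg (fun C => conjBy C n) (hcomm B hB (n⁻¹ * m) (mul_mem (inv_mem hn) hm))
        simp only [conjBy_commutator, conjBy_bot, ← conjBy_mul, mul_inv_cancel_left] at h
        exact h
      have h2 := Subgroup.commutator_mem_commutator hg hx
      rw [h1, Subgroup.mem_bot, commutatorElement_eq_one_iff_mul_comm] at h2
      rwa [h2, mul_inv_cancel_right]
  let Q : Subgroup (LinearMap.GeneralLinearGroup k M) := ⨆ B ∈ part G A, Qof B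
  have hQu' : IsUnipotentOn Q := by
    have h := isUnipotentOn_iSup (Q := Qof '' part G A) (by rintro _ ⟨B, hB, rfl⟩; exact hQu B hB)
      (by
        rintro _ ⟨B, hB, rfl⟩ _ ⟨C, -, rfl⟩ g hg x hx
        exact hQnorm g (hQN B hB hg) C x hx)
    rwa [iSup_image] at h
  have hQP : Q ≤ partGroup G A := iSup₂_le fun B hB => (hQN B hB).trans hNP
  have hQn : ∀ g ∈ partGroup G A, ∀ x ∈ Q, g * x * g⁻¹ ∈ Q := by
    intro g hg x hx
    have hle : Q ≤ Q.comap (MulAut.conj g).toMonoidHom := iSup₂_le fun B hB y hy =>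
      (le_iSup₂ (f := fun B (_ : B ∈ part G A) => Qof B) _
        (partGroup_le_stab hk2 hk3 hirr hg B hB).1) (hQconj g hg B y hy)
    exact hle hx
  set U : Subgroup (LinearMap.GeneralLinearGroup k M) :=
    ⨆ P ∈ (fun g => conjBy Q g) '' (G : Set (LinearMap.GeneralLinearGroup k M)), P with hU
  have hUu : IsUnipotentOn U := by
    refine isUnipotentOn_iSup (by rintro _ ⟨g, -, rfl⟩; exact IsUnipotentOn.conjBy hQu' g) ?_
    rintro _ ⟨g, hg, rfl⟩ _ ⟨h, hh, rfl⟩ y hy x hx
    have hyP : y ∈ partGroup G (conjBy A g) := by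
      rw [← conjBy_partGroup_eq hg]
      exact conjBy_mono g hQP hy
    by_cases hpart : part G (conjBy A g) = part G (conjBy A h)
    · have hyP' : y ∈ conjBy (partGroup G A) h := by
        rw [conjBy_partGroup_eq hh]
        simpa only [partGroup, hpart] using hyP
      rw [mem_conjBy] at hx hyP' ⊢
      have := hQn _ hyP' _ hx
      simpa [mul_assoc] using this
    · have hxP : x ∈ partGroup G (conjBy A h) := by
        rw [← conjBy_partGroup_eq hh]
        exact conjBy_mono h hQP hx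
      have h2 := Subgroup.commutator_mem_commutator hyP hxP
      rw [partGroup_commute hk2 hk3 hirr hpart, Subgroup.mem_bot,
        commutatorElement_eq_one_iff_mul_comm] at h2
      rwa [h2, mul_inv_cancel_right]
  obtain ⟨x, -, hx0, hx⟩ := exists_killed hUu (F := (⊥ : Submodule k M)) (X := ⊤)
    (fun _ _ _ _ => Submodule.mem_top) fun e => by
      obtain ⟨m, hm⟩ := hirr.1
      exact hm ((Submodule.mem_bot k).1 (e Submodule.mem_top))
  let W : Submodule k M := fixedSubmodule U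
  have hmemW : ∀ {m}, m ∈ W ↔ ∀ u ∈ U, nil u m = 0 := by
    intro m
    simp [W, fixedSubmodule, Submodule.mem_iInf, nil]
  have hxW : x ∈ W := hmemW.2 fun u hu => (Submodule.mem_bot k).1 (hx u hu)
  have hinv : ∀ h ∈ G, ∀ u ∈ U, h * u * h⁻¹ ∈ U := by
    intro h hh u hu
    have hle : U ≤ U.comap (MulAut.conj h).toMonoidHom := by
      refine iSup₂_le ?_
      rintro _ ⟨g, hg, rfl⟩ y hy
      refine le_iSup_set (Q := (fun g => conjBy Q g) '' (G : Set (LinearMap.GeneralLinearGroup k M)))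
        (P := conjBy Q (h * g)) ⟨h * g, mul_mem hh hg, rfl⟩ ?_
      rw [conjBy_mul]
      exact conj_mem_conjBy hy
    exact hle hu
  have htop : W = ⊤ := by
    refine ((hirr.2 W fun h hh w hw => hmemW.2 fun u hu => ?_).resolve_left fun e => hx0 (e ▸ hxW))
    have hu' := hinv h⁻¹ (inv_mem hh) u hu
    have e : u = h * (h⁻¹ * u * (h⁻¹)⁻¹) * h⁻¹ := by group
    rw [e, nil_conj, Module.End.mul_apply, Module.End.mul_apply, val_inv_apply,
      hmemW.1 hw _ hu', map_zero]
  have hQ : ∀ y ∈ Q, y = 1 := fun y hy => eq_of_nil_eq (LinearMap.ext fun m => by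
    rw [hmemW.1 (htop ▸ Submodule.mem_top) y
      (le_iSup_set (Q := (fun g => conjBy Q g) '' (G : Set (LinearMap.GeneralLinearGroup k M)))
        (P := Q) ⟨1, one_mem G, conjBy_one Q⟩ hy), nil_one]
    rfl)
  intro n hn
  have hle : partGroup G A ≤ Subgroup.centralizer {n} := iSup₂_le fun B hB a ha => by
    rw [Subgroup.mem_centralizer_singleton_iff]
    exact (mul_inv_eq_iff_eq_mul.1 (mul_inv_eq_one.1 (hQ _ ((le_iSup₂
      (f := fun B (_ : B ∈ part G A) => Qof B) B hB)
        (Subgroup.subset_closure ⟨n, hn, a, ha, rfl⟩))))).symm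
  exact fun g hg => (Subgroup.mem_centralizer_singleton_iff.1 (hle hg)).symm

theorem partGroup_quasisimple {A : Subgroup (LinearMap.GeneralLinearGroup k M)}
    (hA : A ∈ quadraticRootSubgroups G) : IsQuasisimple ↥(partGroup G A) := by
  have hperf := partGroup_perfect hk2 hk3 hirr (A := A)
  have hP : Group.IsPerfect ↥(partGroup G A) := Subgroup.isPerfect_iff.2 hperf
  have hne : Subgroup.center ↥(partGroup G A) ≠ ⊤ := by
    intro htop
    refine root_ne_bot hA (le_bot_iff.1 ((le_partGroup (self_mem_part hA)).trans ?_))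
    rw [← hperf, Subgroup.commutator_le]
    intro x hx y hy
    rw [Subgroup.mem_bot, commutatorElement_eq_one_iff_mul_comm]
    exact congrArg Subtype.val
      ((Subgroup.mem_center_iff.1 (htop ▸ Subgroup.mem_top (⟨y, hy⟩ : partGroup G A))) ⟨x, hx⟩)
  refine ⟨hP, { toNontrivial := ?_, eq_bot_or_eq_top_of_normal := ?_ }⟩
  · exact QuotientGroup.nontrivial_iff.2 hne
  · intro K hK
    set π := QuotientGroup.mk' (Subgroup.center ↥(partGroup G A))
    set K' := K.comap π
    have hK' : K'.Normal := hK.comap π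
    have hK'c : K'.map π = K := Subgroup.map_comap_eq_self_of_surjective (QuotientGroup.mk'_surjective _) K
    rcases normal_cases hk2 hk3 hirr (Subgroup.map_subtype_le K') (fun g hg x hx => by
      obtain ⟨x, hx, rfl⟩ := hx
      exact ⟨_, hK'.conj_mem x hx ⟨g, hg⟩, rfl⟩) with h | h
    · right
      have e : K' = ⊤ := Subgroup.map_injective (partGroup G A).subtype_injective
        (by rw [h, ← MonoidHom.range_eq_map, Subgroup.range_subtype])
      rw [← hK'c, e, Subgroup.map_top_of_surjective _ (QuotientGroup.mk'_surjective _)]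
    · left
      rw [← hK'c, Subgroup.map_eq_bot_iff, QuotientGroup.ker_mk']
      intro x hx
      exact Subgroup.mem_center_iff.2 fun g =>
        Subtype.ext (h _ ⟨x, hx, rfl⟩ g g.2).symm

end Cfsg.Agent.Lib.RootSubgroups.QuadPair
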