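import Mathlib
import Cfsg.Agent.Lib.RootSubgroups.QuadPairBracket

/-!
A quadratic element which does not commute with some member of `𝒬_d` has a member of `𝒬_d` whose
spaces lie inside its own.
-/

set_option autoImplicit false
set_option linter.style.haveILetI false

namespace Cfsg.Agent.Lib.RootSubgroups.QuadPair

open Cfsg SL2Ring
open scoped IsMulCommutative

universe w v

variable {k : Type w} [Field k] {M : Type v} [AddCommGroup M] [Module k M] [FiniteDimensional k M]
  {G : Subgroup (LinearMap.GeneralLinearGroup k M)} {σ τ q : LinearMap.GeneralLinearGroup k M}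

theorem pair_le_of_sub (hσ : scalarFamily σ ⊆ (G : Set (LinearMap.GeneralLinearGroup k M)))
    (hτ : scalarFamily τ ⊆ (G : Set (LinearMap.GeneralLinearGroup k M))) :
    Subgroup.closure (scalarFamily σ ∪ scalarFamily τ) ≤ G :=
  (Subgroup.closure_le G).2 (Set.union_subset hσ hτ)

/-- The top word of a pair with nilpotent anticommutator has its scalar family in the group. -/
theorem exists_top_family (hk2 : (2 : k) ≠ 0) (ha : nil σ * nil σ = 0) (hb : nil τ * nil τ = 0)
    (hσ : scalarFamily σ ⊆ (G : Set (LinearMap.GeneralLinearGroup k M)))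
    (hτ : scalarFamily τ ⊆ (G : Set (LinearMap.GeneralLinearGroup k M))) {r : ℕ} (hr : 1 ≤ r)
    (h1 : nil σ * (nil σ * nil τ + nil τ * nil σ) ^ (r + 1) = 0)
    (h2 : nil τ * (nil σ * nil τ + nil τ * nil σ) ^ (r + 1) = 0) (c : k) :
    ∃ g ∈ G, nil g = c • (nil σ * (nil σ * nil τ + nil τ * nil σ) ^ r) := by
  have hG := pair_le_of_sub hσ hτ
  set a := nil σ with haeq
  set b := nil τ with hbeq
  set z := a * b + b * a with hzdef
  set D := a * b - b * a with hDdef
  have hF : Antitone (altF a b (⊤ : Submodule k M)) :=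
    altF_antitone (fun _ _ => Submodule.mem_top) (fun _ _ => Submodule.mem_top)
  have hbot : altF a b ⊤ (2 * r + 3) = ⊥ :=
    altF_eq_bot (i := r + 1) ha hb (fun x _ => by rw [h1]; rfl) (fun x _ => by rw [h2]; rfl)
  have hzero : ∀ {f : Module.End k M} {m}, 2 * r + 3 ≤ m → f ∈ Deg (altF a b ⊤) m → f = 0 :=
    fun hm hf => Deg_eq_zero (F := altF a b ⊤) rfl hbot (Deg_mono hF hm hf)
  have hu : a * z ^ (r + r + 1) = 0 := by
    rw [show r + r + 1 = r + 1 + r by omega, pow_add, ← mul_assoc, h1, zero_mul]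
  have h2r : (2 : k) ^ r ≠ 0 := pow_ne_zero _ hk2
  have hDfam : ∀ e : k, ∃ g ∈ G, nil g = e • (D * z ^ r) := by
    intro e
    obtain ⟨g, hg, u, v, hy⟩ := inv'_of_inv ha hb (inv_all ha hb r (e / 2 ^ r))
    refine ⟨g, hG hg, ?_⟩
    rw [← haeq, ← hbeq, ← hzdef, ← hDdef, mul_div_cancel₀ _ h2r, hu, h2, smul_zero, smul_zero,
      add_zero, sub_zero] at hy
    exact sub_eq_zero.1 (hzero (Nat.le_succ _) hy)
  obtain ⟨g, hg, y, hy⟩ := inv_all ha hb r (c / 2 ^ r)
  rw [← haeq, ← hbeq, ← hzdef, ← hDdef, mul_div_cancel₀ _ h2r, sub_sub] at hy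
  have hg' : nil g = c • (a * z ^ r) + y • (D * z ^ r) := sub_eq_zero.1 (hzero le_rfl hy)
  obtain ⟨g', hg'G, hg''⟩ := hDfam (-y)
  refine ⟨g' * g, mul_mem hg'G (hG hg), ?_⟩
  have e1 : D * z ^ r * (a * z ^ r) = 0 := by
    rw [mul_assoc, ← mul_assoc (z ^ r), ← ((commute_anti (b := b) ha).pow_right r).eq, mul_assoc a,
      ← pow_add, ← mul_assoc, show D * a = a * z from diff_mul_left ha, mul_assoc, ← pow_succ', hu]
  have e2 : D * z ^ r * (D * z ^ r) = 0 := by
    rw [((commute_anti_ab ha hb).pow_right r).symm.mul_mul_mul_comm, diff_sq ha hb, ← hzdef,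
      ← pow_two, ← pow_add, ← pow_add, show 2 + (r + r) = r + 1 + (r + 1) by omega]
    have hz : z ^ (r + 1 + 1) = 0 := by
      rw [pow_succ', hzdef, add_mul, mul_assoc, mul_assoc, ← hzdef, h2, h1, mul_zero, mul_zero,
        add_zero]
    exact pow_eq_zero_of_le (by omega) hz
  rw [nil_mul, hg'', hg', mul_add, smul_mul_smul_comm, smul_mul_smul_comm, e1, e2, smul_zero,
    smul_zero, add_zero, add_zero, neg_smul, neg_add_eq_sub, add_sub_cancel_right]

theorem mul_pow_rank_lt {a z : Module.End k M} (hz : IsNilpotent z) (hc : Commute a z) {r : ℕ}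
    (hr : 1 ≤ r) (hne : a ≠ 0) :
    Module.finrank k (LinearMap.range (a * z ^ r)) < Module.finrank k (LinearMap.range a) := by
  rw [(hc.pow_right r).eq, Module.End.mul_eq_comp, LinearMap.range_comp]
  refine finrank_map_lt (hz.pow_of_pos (by omega)) ?_ ?_
  · rintro _ ⟨x, rfl⟩
    exact ⟨(z ^ r) x, congrArg (fun f : Module.End k M => f x) (hc.pow_right r).eq⟩
  · rwa [Ne, LinearMap.range_eq_bot]

/-- The top word at a member of `𝒬_d` vanishes. -/
theorem top_word_member_zero (hk2 : (2 : k) ≠ 0) (hσ : σ ∈ minimalQuadraticElements G)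
    (hq : q ∈ quadraticElements G) (hz : IsNilpotent (nil σ * nil q + nil q * nil σ)) {r : ℕ}
    (hr : 1 ≤ r) (h1 : nil σ * (nil σ * nil q + nil q * nil σ) ^ (r + 1) = 0)
    (h2 : nil q * (nil σ * nil q + nil q * nil σ) ^ (r + 1) = 0) :
    nil σ * (nil σ * nil q + nil q * nil σ) ^ r = 0 := by
  by_contra hne
  have ha := sq_zero hσ
  refine absurd (rank_le_of_family hσ hne ?_
    (exists_top_family hk2 ha hq.2.1.1 (scalarFamily_sub hσ) hq.2.2 hr h1 h2))
    (not_le.2 (mul_pow_rank_lt hz (commute_anti ha) hr (nil_ne_zero hσ)))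
  rw [mul_assoc, ← mul_assoc (_ ^ r), ← ((commute_anti ha).pow_right r).eq, ← mul_assoc,
    ← mul_assoc, ha, zero_mul, zero_mul]

variable (hk2 : (2 : k) ≠ 0) (hk3 : Nat.card k ≠ 3) (hirr : IsIrreducibleFor G)
  (hσ : σ ∈ minimalQuadraticElements G) (hq : q ∈ quadraticElements G)

include hk2 hσ hq

/-- If `κ a κ = 0` then also `a κ a = 0`. -/
theorem word_zero_of_right (h : nil q * nil σ * nil q = 0) : WordZero σ q := by
  have ha := sq_zero hσ
  have hb : nil q * nil q = 0 := hq.2.1.1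
  set a := nil σ
  set b := nil q
  set z := a * b + b * a with hzdef
  have hbz : b * z = 0 := by
    rw [hzdef, mul_add, ← mul_assoc b b, hb, zero_mul, add_zero, ← mul_assoc, h]
  have hzz : z * z = 0 := by
    conv_lhs => arg 1; rw [hzdef]
    rw [add_mul, mul_assoc, hbz, mul_zero, zero_add, mul_assoc, left_anti ha, ← mul_assoc,
      ← mul_assoc, h, zero_mul]
  refine ⟨?_, h⟩
  rw [← left_anti ha, ← hzdef, ← pow_one z]
  exact top_word_member_zero hk2 hσ hq ⟨2, by rw [pow_two]; exact hzz⟩ le_rfl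
    (by rw [pow_two]; show a * (z * z) = 0; rw [hzz, mul_zero])
    (by rw [pow_two]; show b * (z * z) = 0; rw [hzz, mul_zero])

include hk3 hirr

/-- Some member gives a non-zero product `κ a κ`. -/
theorem exists_sandwich (hne : σ * q ≠ q * σ) :
    ∃ π ∈ minimalQuadraticElements G, nil q * nil π * nil q ≠ 0 := by
  by_cases h : nil q * nil σ * nil q = 0
  swap
  · exact ⟨σ, hσ, h⟩
  have ha := sq_zero hσ
  have hb : nil q * nil q = 0 := hq.2.1.1
  have w := word_zero_of_right hk2 hσ hq h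
  set a := nil σ with haeq
  set b := nil q with hbeq
  have hne' : lamb σ q ≠ 0 := fun e => hne (eq_of_nil_eq (by
    rw [nil_mul, nil_mul, sub_eq_zero.1 e, add_comm (nil σ) (nil q)]))
  have hfam : ∀ c : k, ∃ g ∈ G, nil g = c • lamb σ q := by
    intro c
    obtain ⟨g, hg, hgc⟩ := exists_family hσ c
    refine ⟨g * q * g⁻¹ * q⁻¹, mul_mem (mul_mem (mul_mem (scalarFamily_sub hσ hg) hq.1)
      (inv_mem (scalarFamily_sub hσ hg))) (inv_mem hq.1), ?_⟩
    rw [nil_comm_eq ha hb w hgc (e := 1) (by rw [one_smul]), mul_one]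
  set X := (LinearMap.range b).map a with hX
  set Y := (LinearMap.range a).map b with hY
  have hle : LinearMap.range (lamb σ q) ≤ X ⊔ Y := by
    rintro _ ⟨x, rfl⟩
    exact sub_mem (Submodule.mem_sup_left ⟨_, ⟨x, rfl⟩, rfl⟩)
      (Submodule.mem_sup_right ⟨_, ⟨x, rfl⟩, rfl⟩)
  have hXle : X ≤ LinearMap.range a ⊓ LinearMap.ker b := by
    rintro _ ⟨_, ⟨x, rfl⟩, rfl⟩
    exact ⟨⟨_, rfl⟩, congrArg (fun f : Module.End k M => f x) h⟩
  have h1 : Module.finrank k Y + Module.finrank k ↥(LinearMap.range a ⊓ LinearMap.ker b) =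
      Module.finrank k (LinearMap.range a) := finrank_map_add_inf_ker b _
  have h2 := Submodule.finrank_mono hle
  have h3 := Submodule.finrank_mono hXle
  have h4 := Submodule.finrank_sup_add_finrank_inf_eq X Y
  have h5 : Module.finrank k (LinearMap.range a) ≤ Module.finrank k (LinearMap.range (lamb σ q)) :=
    rank_le_of_family hσ hne' (lamb_sq ha hb w) hfam
  have hdis : X ⊓ Y = ⊥ := Submodule.finrank_eq_zero.1 (by omega)
  obtain ⟨ρ, hρ, e⟩ := minimal_of_family hσ hne' (lamb_sq ha hb w) hfam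
    (show Module.finrank k (LinearMap.range (lamb σ q)) ≤ Module.finrank k (LinearMap.range a) by omega)
  obtain ⟨g, hg, h0⟩ := exists_opp_conj hk2 hk3 hirr hρ
  obtain ⟨π, hπ, hp⟩ := h0.exists_partner hk2 hk3 hρ (minimal_conj hg hρ)
  by_contra hall
  push Not at hall
  have hA := hall _ (minimal_conj hσ.1.1 hπ.1)
  have hB := hall _ (minimal_conj (inv_mem hσ.1.1) hπ.1)
  rw [nil_conj, coe_eq σ, coe_eq σ⁻¹, nil_inv ha, ← haeq] at hA
  rw [nil_conj, coe_eq σ⁻¹, inv_inv, coe_eq σ, nil_inv ha, ← haeq] at hB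
  set p := nil π
  have e2 : (2 : k) • (b * a * p * b - b * p * a * b) = 0 := by
    rw [two_smul, show (b * a * p * b - b * p * a * b) + (b * a * p * b - b * p * a * b) =
      b * ((1 + a) * p * (1 + -a)) * b - b * ((1 + -a) * p * (1 + a)) * b by noncomm_ring, hA, hB,
      sub_zero]
  refine bracket_linear_ne w.1 w.2 ?_ hne' ?_ (sub_eq_zero.1 ((smul_eq_zero.1 e2).resolve_left hk2))
  · have h6 := hp.left
    rw [e] at h6
    exact h6
  · refine (disjoint_iff.2 hdis).mono ?_ ?_
    · rintro _ ⟨x, rfl⟩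
      exact ⟨_, ⟨x, rfl⟩, rfl⟩
    · rintro _ ⟨x, rfl⟩
      exact ⟨_, ⟨x, rfl⟩, rfl⟩

omit hk2 hk3 hirr hσ hq

/-- A member of a late derived subgroup over `SL₂(k[λ])`. -/
theorem exists_derived_member (hk2 : (2 : k) ≠ 0) (hk3 : Nat.card k ≠ 3) {a b : Module.End k M}
    {N : ℕ} (h : Fitting a b N) [Nontrivial h.ring] (n : ℕ) :
    ∃ r : h.ring, r ≠ 0 ∧ ux r ∈ dIter (SL2Ring.gen k h.gen) n := by
  by_cases hR : IsField h.ring
  · refine ⟨1, one_ne_zero, ?_⟩
    letI := IsField.toField (R := h.ring) hR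
    rw [full_field hk2 hk3 h.gen_adjoin (h.gen_unit.ne_zero), dIter_top_field hk2 hk3]
    exact Subgroup.mem_top _
  · obtain ⟨r, hr0, -, hr⟩ :=
      exists_derived_ux (R := h.ring) hk2 hk3 h.gen_adjoin h.gen_unit hR n
    exact ⟨r, hr0, hr⟩

include hk2 hk3 hσ hq

/-- The member inside, given a non-zero sandwich. -/
theorem exists_inside_of_sandwich (hne : nil q * nil σ * nil q ≠ 0) :
    ∃ ρ ∈ minimalQuadraticElements G, LinearMap.range (nil ρ) ≤ LinearMap.range (nil q) ∧
      LinearMap.ker (nil q) ≤ LinearMap.ker (nil ρ) := by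
  have hb : nil q * nil q = 0 := hq.2.1.1
  have ha := sq_zero hσ
  suffices hs : ∃ γ : Module.End k M, γ ≠ 0 ∧ γ * γ = 0 ∧ (∀ c : k, ∃ g ∈ G, nil g = c • γ) ∧
      Module.finrank k (LinearMap.range γ) ≤ Module.finrank k (LinearMap.range (nil σ)) ∧
      LinearMap.range γ ≤ LinearMap.range (nil q) ∧ LinearMap.ker (nil q) ≤ LinearMap.ker γ by
    obtain ⟨γ, h1, h2, h3, h4, h5, h6⟩ := hs
    obtain ⟨ρ, hρ, e⟩ := minimal_of_family hσ h1 h2 h3 h4
    exact ⟨ρ, hρ, e ▸ h5, e ▸ h6⟩
  by_cases hz : IsNilpotent (nil σ * nil q + nil q * nil σ)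
  · set a := nil σ with haeq
    set b := nil q with hbeq
    set z := a * b + b * a with hzdef
    have hbz : b * z = b * a * b := by
      rw [hzdef, mul_add, ← mul_assoc b b, hb, zero_mul, add_zero, ← mul_assoc]
    obtain ⟨n, hn⟩ := hz
    classical
    have hex : ∃ r, a * z ^ (r + 1) = 0 ∧ b * z ^ (r + 1) = 0 :=
      ⟨n, by rw [pow_succ, hn, zero_mul, mul_zero], by rw [pow_succ, hn, zero_mul, mul_zero]⟩
    obtain ⟨h1, h2⟩ := Nat.find_spec hex
    set r := Nat.find hex with hr
    have hr1 : 1 ≤ r := by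
      by_contra hc
      rw [show r = 0 by omega, zero_add, pow_one, hbz] at h2
      exact hne h2
    have haz : a * z ^ r = 0 := top_word_member_zero hk2 hσ hq ⟨n, hn⟩ hr1 h1 h2
    have hc : Commute b (z ^ r) := (commute_anti' hb).pow_right r
    refine ⟨b * z ^ r, fun h0 => ?_, ?_, ?_, ?_, ?_, ?_⟩
    · refine Nat.find_min hex (show r - 1 < r by omega) ?_
      rw [show r - 1 + 1 = r by omega]
      exact ⟨haz, h0⟩
    · rw [mul_assoc, ← mul_assoc (z ^ r), ← hc.eq, ← mul_assoc, ← mul_assoc, hb, zero_mul, zero_mul]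
    · have hsymm : z = b * a + a * b := add_comm _ _
      rw [hsymm] at h1 h2 ⊢
      exact exists_top_family hk2 hb ha hq.2.2 (scalarFamily_sub hσ) hr1 h2 h1
    · rw [show r = 1 + (r - 1) by omega, pow_add, pow_one, ← mul_assoc, hbz, mul_assoc, mul_assoc]
      have e : ∀ f : Module.End k M, Module.finrank k (LinearMap.range (b * (a * f))) ≤
          Module.finrank k (LinearMap.range a) := fun f => by
        rw [Module.End.mul_eq_comp, LinearMap.range_comp]
        exact (Submodule.finrank_map_le b _).trans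
          (Submodule.finrank_mono (LinearMap.range_comp_le_range f a))
      exact e _
    · exact LinearMap.range_comp_le_range _ _
    · rw [hc.eq]
      exact LinearMap.ker_le_ker_comp _ _
  · have hz' : ¬ IsNilpotent (zed (nil q) (nil σ)) := by rwa [zed, add_comm]
    obtain ⟨N, h⟩ := exists_fitting hb ha
    have := nontrivial_ring h hz'
    obtain ⟨r, hr0, hr⟩ := exists_derived_member hk2 hk3 h (2 * N + 1)
    refine ⟨nil (h.rep (ux r)), fun h0 => ?_, nil_ux_sq h r, fun c => ?_, ?_, ?_, ?_⟩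
    · apply hr0
      refine Subtype.ext (LinearMap.ext fun v => Subtype.ext ?_)
      rw [← h.nil_ux_iota r 0 v, h0]
      rfl
    · refine ⟨h.rep (ux (c • r)), pair_le_of_sub hq.2.2 (scalarFamily_sub hσ) (exists_rep_mem h ?_),
        h.nil_ux_smul c r⟩
      rcases eq_or_ne c 0 with rfl | hc
      · rw [zero_smul, ux_zero]; exact one_mem _
      · have h3 := scale_mem_dIter hr (Units.mk0 c hc)
        rw [scale_ux] at h3
        rw [Algebra.smul_def]
        exact h3
    · rw [h.nil_ux_range]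
      refine (Submodule.finrank_mono (Submodule.map_subtype_le _ _)).trans ?_
      have hinj : Function.Injective ((nil σ).domRestrict (top₁ (nil q) (nil σ) N)) := by
        rw [← LinearMap.ker_eq_bot, LinearMap.ker_eq_bot']
        intro x hx
        refine Subtype.ext (h.eq_zero (h.top_le x.2) ?_)
        rw [h.zed_top x.2, Module.End.mul_apply,
          show nil σ (x : M) = 0 from hx, map_zero]
      rw [← LinearMap.finrank_range_of_inj hinj, LinearMap.range_domRestrict]
      exact Submodule.finrank_mono LinearMap.map_le_range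
    · rw [h.nil_ux_range]
      refine (Submodule.map_subtype_le _ _).trans ?_
      rintro _ ⟨x, -, rfl⟩
      exact ⟨x, rfl⟩
    · intro m hm
      obtain ⟨⟨x, u, v⟩, rfl⟩ := h.coords.surjective m
      rw [LinearMap.mem_ker, h.coords_apply, map_add, h.a_iota, h.iota_apply] at hm
      rw [LinearMap.mem_ker, h.coords_apply, map_add, h.nil_part₀ _ x.2, zero_add, h.nil_ux_iota]
      simp only [map_zero, ZeroMemClass.coe_zero, add_zero] at hm
      have hv : v = 0 := Subtype.ext (Submodule.disjoint_def.1 h.compl.disjoint _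
        (by rw [eq_neg_of_add_eq_zero_right hm]; exact neg_mem (h.map₀ x.2).1) (h.top_le v.2))
      rw [hv, map_zero]
      rfl

include hirr

/-- **Inside lemma.** -/
theorem exists_inside (hne : σ * q ≠ q * σ) :
    ∃ ρ ∈ minimalQuadraticElements G, LinearMap.range (nil ρ) ≤ LinearMap.range (nil q) ∧
      LinearMap.ker (nil q) ≤ LinearMap.ker (nil ρ) := by
  obtain ⟨π, hπ, h⟩ := exists_sandwich hk2 hk3 hirr hσ hq hne
  exact exists_inside_of_sandwich hk2 hk3 hπ hq h

end Cfsg.Agent.Lib.RootSubgroups.QuadPair
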