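import Mathlib
import Cfsg.Agent.Lib.RootSubgroups.QuadPairInside
import Cfsg.Agent.Lib.RootSubgroups.QuadPairParts

/-!
Every quadratic element lies in the group of one component of `Σ` or centralises all of them.
-/

set_option autoImplicit false

namespace Cfsg.Agent.Lib.RootSubgroups.QuadPair

open Cfsg
open scoped commutatorElement

section algebra

variable {k : Type*} [Field k] {A : Type*} [Ring A] [Algebra k A] {a b q : A}

/-- The product of three root elements. -/
theorem weyl_eq (ha : a * a = 0) (hl : a * b * a = a) (t t' : k) (ht : t * t' = 1) :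
    (1 + t • a) * (1 - t' • b) * (1 + t • a) = 1 - a * b - b * a + t • a - t' • b := by
  have ht' : t' * t = 1 := by rw [mul_comm, ht]
  simp only [mul_add, add_mul, sub_mul, mul_sub, one_mul, mul_one, smul_mul_assoc, mul_smul_comm,
    smul_smul, ha, hl, smul_zero, smul_sub, ht, ht', one_smul, smul_add]
  abel

theorem diag_eq (ha : a * a = 0) (hb : b * b = 0) (hl : a * b * a = a) (hr : b * a * b = b)
    (r r' : k) :
    (1 - a * b - b * a + r • a - r' • b) * (1 - a * b - b * a + (-1 : k) • a - (-1 : k) • b) =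
      1 + (r - 1) • (a * b) + (r' - 1) • (b * a) := by
  have f1 : a * (b * a) = a := by rw [← mul_assoc, hl]
  have f2 : b * (a * b) = b := by rw [← mul_assoc, hr]
  have f3 : a * (a * b) = 0 := by rw [← mul_assoc, ha, zero_mul]
  have f4 : b * (b * a) = 0 := by rw [← mul_assoc, hb, zero_mul]
  have f5 : a * b * (a * b) = a * b := by rw [mul_assoc, f2]
  have f6 : b * a * (b * a) = b * a := by rw [mul_assoc, f1]
  have f7 : a * b * (b * a) = 0 := by rw [mul_assoc, f4, mul_zero]
  have f8 : b * a * (a * b) = 0 := by rw [mul_assoc, f3, mul_zero]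
  have f9 : a * b * b = 0 := by rw [mul_assoc, hb, mul_zero]
  have f10 : b * a * a = 0 := by rw [mul_assoc, ha, mul_zero]
  simp only [mul_add, add_mul, sub_mul, mul_sub, one_mul, mul_one, smul_mul_assoc, mul_smul_comm,
    ha, hb, hl, hr, f1, f2, f3, f4, f5, f6, f7, f8, f9, f10, smul_zero]
  module

/-- The part of `q` seen by the pair. -/
abbrev seen (a b q : A) : A := a * b * q + q * (b * a) - a * b * q * (b * a)

/-- The corner of `q`. -/
abbrev corner (a b q : A) : A := a * b * q * (b * a)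

theorem conj_eq (hqa : q * a = 0) (haq : a * q = 0) (r r' : k) :
    (1 + (r - 1) • (a * b) + (r' - 1) • (b * a)) * q *
        (1 + (r' - 1) • (a * b) + (r - 1) • (b * a)) =
      q + ((r - 1) • seen a b q + ((r - 1) * r) • corner a b q) := by
  have f1 : q * (a * b) = 0 := by rw [← mul_assoc, hqa, zero_mul]
  have f2 : b * a * q = 0 := by rw [mul_assoc, haq, mul_zero]
  have f3 : a * b * q * (a * b) = 0 := by rw [mul_assoc _ q, f1, mul_zero]
  simp only [seen, corner, mul_add, add_mul, one_mul, mul_one, smul_mul_assoc, mul_smul_comm, f1,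
    f2, f3, smul_zero, zero_mul, mul_zero, smul_smul]
  module

theorem seen_mul (hqa : q * a = 0) (haq : a * q = 0) (hqq : q * q = 0) (ha : a * a = 0) :
    q * seen a b q = 0 ∧ seen a b q * q = 0 ∧ seen a b q * seen a b q = 0 ∧
      seen a b q * corner a b q = 0 ∧ corner a b q * seen a b q = 0 ∧
        corner a b q * corner a b q = 0 ∧ q * corner a b q = 0 ∧ corner a b q * q = 0 := by
  have g1 : ∀ x, q * (q * x) = 0 := fun x => by rw [← mul_assoc, hqq, zero_mul]
  have g2 : ∀ x, q * (a * x) = 0 := fun x => by rw [← mul_assoc, hqa, zero_mul]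
  have g3 : ∀ x, a * (q * x) = 0 := fun x => by rw [← mul_assoc, haq, zero_mul]
  have g4 : ∀ x, a * (a * x) = 0 := fun x => by rw [← mul_assoc, ha, zero_mul]
  simp only [seen, corner, mul_add, add_mul, sub_mul, mul_sub, mul_assoc, g1, g2, g3, g4, hqq,
    hqa, haq, mul_zero, add_zero, sub_self, and_self]

end algebra

variable {k : Type*} [Field k] {M : Type*} [AddCommGroup M] [Module k M] [FiniteDimensional k M]
  {G : Subgroup (LinearMap.GeneralLinearGroup k M)} {ρ q : LinearMap.GeneralLinearGroup k M}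

/-- The diagonal element of a partner pair. -/
theorem exists_diag {y : LinearMap.GeneralLinearGroup k M} (hρ : ρ ∈ minimalQuadraticElements G)
    (hy : y ∈ minimalQuadraticElements G) (hp : IsPartner ρ y) {r : k} (hr : r ≠ 0) :
    ∃ h ∈ sameActionSubgroup G ρ ⊔ sameActionSubgroup G y,
      (h : Module.End k M) = 1 + (r - 1) • (nil ρ * nil y) + (r⁻¹ - 1) • (nil y * nil ρ) ∧
      ((h⁻¹ : LinearMap.GeneralLinearGroup k M) : Module.End k M) =
        1 + (r⁻¹ - 1) • (nil ρ * nil y) + (r - 1) • (nil y * nil ρ) := by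
  have hw : ∀ t : k, t ≠ 0 → ∃ w ∈ sameActionSubgroup G ρ ⊔ sameActionSubgroup G y,
      (w : Module.End k M) = 1 - nil ρ * nil y - nil y * nil ρ + t • nil ρ - t⁻¹ • nil y := by
    intro t ht
    obtain ⟨x, hx, ex⟩ := sameAction_smul hρ (self_mem hρ) t
    obtain ⟨v, hv, ev⟩ := sameAction_smul hy (self_mem hy) (-t⁻¹)
    refine ⟨x * v * x, mul_mem (mul_mem (Subgroup.mem_sup_left hx) (Subgroup.mem_sup_right hv))
      (Subgroup.mem_sup_left hx), ?_⟩
    rw [Units.val_mul, Units.val_mul, coe_eq x, coe_eq v, ex, ev, neg_smul, ← sub_eq_add_neg,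
      weyl_eq (sq_zero hρ) hp.left t t⁻¹ (mul_inv_cancel₀ ht)]
  have main : ∀ t : k, t ≠ 0 → ∃ h ∈ sameActionSubgroup G ρ ⊔ sameActionSubgroup G y,
      (h : Module.End k M) = 1 + (t - 1) • (nil ρ * nil y) + (t⁻¹ - 1) • (nil y * nil ρ) := by
    intro t ht
    obtain ⟨w, hw1, ew⟩ := hw t ht
    obtain ⟨w', hw2, ew'⟩ := hw (-1) (neg_ne_zero.2 one_ne_zero)
    refine ⟨w * w', mul_mem hw1 hw2, ?_⟩
    rw [Units.val_mul, ew, ew', show ((-1 : k))⁻¹ = -1 by norm_num,
      diag_eq (sq_zero hρ) (sq_zero hy) hp.left hp.right]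
  obtain ⟨h, hh, eh⟩ := main r hr
  obtain ⟨h', -, eh'⟩ := main r⁻¹ (inv_ne_zero hr)
  rw [inv_inv] at eh'
  refine ⟨h, hh, eh, ?_⟩
  rw [← eh']
  apply Units.inv_eq_of_mul_eq_one_right
  rw [eh, eh']
  have f5 : nil ρ * nil y * (nil ρ * nil y) = nil ρ * nil y := by rw [← mul_assoc, hp.left]
  have f6 : nil y * nil ρ * (nil y * nil ρ) = nil y * nil ρ := by rw [← mul_assoc, hp.right]
  have f7 : nil ρ * nil y * (nil y * nil ρ) = 0 := by
    rw [mul_assoc, ← mul_assoc (nil y), sq_zero hy, zero_mul, mul_zero]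
  have f8 : nil y * nil ρ * (nil ρ * nil y) = 0 := by
    rw [mul_assoc, ← mul_assoc (nil ρ), sq_zero hρ, zero_mul, mul_zero]
  simp only [mul_add, add_mul, one_mul, mul_one, smul_mul_assoc, mul_smul_comm, f5, f6, f7, f8,
    smul_zero, smul_smul]
  match_scalars <;> field_simp <;> ring

theorem exists_family_add {P : Subgroup (LinearMap.GeneralLinearGroup k M)} {u v : Module.End k M}
    (huv : u * v = 0) (hu : ∀ c : k, ∃ g ∈ P, nil g = c • u) (hv : ∀ c : k, ∃ g ∈ P, nil g = c • v)
    (c : k) : ∃ g ∈ P, nil g = c • (u + v) := by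
  obtain ⟨g, hg, eg⟩ := hu c
  obtain ⟨g', hg', eg'⟩ := hv c
  exact ⟨g * g', mul_mem hg hg', by
    rw [nil_mul, eg, eg', smul_mul_smul_comm, huv, smul_zero, add_zero, smul_add]⟩

theorem exists_family_smul {P : Subgroup (LinearMap.GeneralLinearGroup k M)} {u : Module.End k M}
    (hu : ∀ c : k, ∃ g ∈ P, nil g = c • u) (e c : k) : ∃ g ∈ P, nil g = c • (e • u) := by
  obtain ⟨g, hg, eg⟩ := hu (c * e)
  exact ⟨g, hg, by rw [eg, smul_smul]⟩

variable (hk2 : (2 : k) ≠ 0) (hk3 : Nat.card k ≠ 3) (hirr : IsIrreducibleFor G)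

include hk2 hk3 hirr

/-- **Splitting along a member inside.** -/
theorem exists_split (hρ : ρ ∈ minimalQuadraticElements G) (hq : q ∈ quadraticElements G)
    (hr : LinearMap.range (nil ρ) ≤ LinearMap.range (nil q))
    (hk : LinearMap.ker (nil q) ≤ LinearMap.ker (nil ρ))
    {P : Subgroup (LinearMap.GeneralLinearGroup k M)} (hPG : P ≤ G)
    (hP : ∀ B ∈ part G (sameActionSubgroup G ρ), B ≤ P)
    (hN : ∀ g ∈ G, ∀ x ∈ P, g * x * g⁻¹ ∈ P) :
    ∃ n ∈ P, ∃ o ∈ G, n * o = q ∧ nil n * nil o = 0 ∧ nil o * nil n = 0 ∧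
      (o = 1 ∨ (o ∈ quadraticElements G ∧
        Module.finrank k (LinearMap.range (nil o)) < Module.finrank k (LinearMap.range (nil q)))) := by
  obtain ⟨g, hg, h0⟩ := exists_opp_conj hk2 hk3 hirr hρ
  obtain ⟨y, hy, hp⟩ := h0.exists_partner hk2 hk3 hρ (minimal_conj hg hρ)
  have h0' : Opp ρ y := (opp_congr (self_mem_sameActionClass hρ) hy).2 h0
  have hX : sameActionSubgroup G ρ ⊔ sameActionSubgroup G y ≤ P :=
    sup_le (hP _ (self_mem_part ⟨_, hρ, rfl⟩)) (hP _ ⟨⟨_, hy.1, rfl⟩, Relation.ReflTransGen.single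
      ⟨⟨_, hρ, rfl⟩, ⟨_, hy.1, rfl⟩, (h0'.isSpecialRankOnePair hk2 hk3 hρ hy.1).1⟩⟩)
  have hκ : nil q * nil q = 0 := hq.2.1.1
  have hqa : nil q * nil ρ = 0 :=
    mul_eq_zero_of_range_le_ker (hr.trans (range_le_ker hκ))
  have haq : nil ρ * nil q = 0 :=
    mul_eq_zero_of_range_le_ker ((range_le_ker hκ).trans hk)
  obtain ⟨hqn, hnq, hnn, hnz, hzn, hzz, hqz, hzq⟩ := seen_mul (b := nil y) hqa haq hκ (sq_zero hρ)
  set κ := nil q with hκdef
  set n := seen (nil ρ) (nil y) κ with hndef
  set z := corner (nil ρ) (nil y) κ with hzdef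
  clear_value κ n z
  have hratio : ∀ r : k, r ≠ 0 → ∀ c : k, ∃ x ∈ P,
      nil x = c • ((r - 1) • n + ((r - 1) * r) • z) := by
    intro r hr0 c
    obtain ⟨h, hh, eh, eh'⟩ := exists_diag hρ hy.1 hp hr0
    obtain ⟨qc, hqc, eqc⟩ := exists_family' (σ := q) hq.2.1.1 c
    have hqcG : qc ∈ G := hq.2.2 hqc
    refine ⟨h * (qc * h⁻¹ * qc⁻¹), mul_mem (hX hh) (hN qc hqcG _ (inv_mem (hX hh))), ?_⟩
    have hqc2 : nil qc * nil qc = 0 := by
      rw [eqc, ← hκdef, smul_mul_smul_comm, hκ, smul_zero]
    rw [show h * (qc * h⁻¹ * qc⁻¹) = (h * qc * h⁻¹) * qc⁻¹ by group, nil_mul, nil_conj,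
      nil_inv hqc2, eqc, eh, eh', ← hκdef, mul_smul_comm, smul_mul_assoc,
      conj_eq hqa haq, ← hndef, ← hzdef, mul_neg, smul_mul_smul_comm, add_mul, add_mul,
      smul_mul_assoc, smul_mul_assoc, hnq, hzq, hκ, smul_zero, smul_zero, add_zero, add_zero,
      smul_zero, neg_zero, add_zero, smul_add]
    abel
  have hN1 : ∀ c : k, ∃ x ∈ P, nil x = c • (n - z) := by
    intro c
    obtain ⟨x, hx, e⟩ := hratio (-1) (neg_ne_zero.2 one_ne_zero) (-c / 2)
    refine ⟨x, hx, e.trans ?_⟩
    match_scalars <;> field_simp <;> ring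
  obtain ⟨r, hr0, hr1⟩ := SL2Ring.exists_scalar hk2 hk3
  have hr2 : r * r - 1 ≠ 0 := sub_ne_zero.2 hr1
  have hz : ∀ c : k, ∃ x ∈ P, nil x = c • z := by
    intro c
    have h1 := exists_family_add (u := (r - 1) • n + ((r - 1) * r) • z) (v := (1 - r) • (n - z))
      ?_ (hratio r hr0) (exists_family_smul hN1 (1 - r)) (c / (r * r - 1))
    · obtain ⟨x, hx, e⟩ := h1
      refine ⟨x, hx, e.trans ?_⟩
      rw [show (r - 1) • n + ((r - 1) * r) • z + (1 - r) • (n - z) = (r * r - 1) • z by module,
        smul_smul, div_mul_cancel₀ _ hr2]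
    · simp only [add_mul, mul_sub, smul_mul_assoc, mul_smul_comm, hnn, hnz, hzn, hzz, smul_zero,
        sub_self, add_zero]
  have hn : ∀ c : k, ∃ x ∈ P, nil x = c • n := by
    intro c
    obtain ⟨x, hx, e⟩ := exists_family_add (u := n - z) (v := z) (by
      rw [sub_mul, hnz, hzz, sub_self]) hN1 hz c
    exact ⟨x, hx, by rw [e, sub_add_cancel]⟩
  have ho : ∀ c : k, ∃ x ∈ G, nil x = c • (κ - n) := by
    intro c
    obtain ⟨qc, hqc, eqc⟩ := exists_family' (σ := q) hq.2.1.1 c
    obtain ⟨x, hx, ex⟩ := hn (-c)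
    refine ⟨qc * x, mul_mem (hq.2.2 hqc) (hPG hx), ?_⟩
    rw [nil_mul, eqc, ex, ← hκdef, smul_mul_smul_comm, hqn, smul_zero, add_zero, neg_smul, smul_sub,
      sub_eq_add_neg]
  have hoo : (κ - n) * (κ - n) = 0 := by
    rw [sub_mul, mul_sub, mul_sub, hκ, hqn, hnq, hnn]; simp
  obtain ⟨x, hx, ex⟩ := hn 1
  obtain ⟨o, hoG, eo⟩ := ho 1
  rw [one_smul] at ex eo
  have hno : n * (κ - n) = 0 := by rw [mul_sub, hnq, hnn, sub_self]
  have hon : (κ - n) * n = 0 := by rw [sub_mul, hqn, hnn, sub_self]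
  refine ⟨x, hx, o, hoG, eq_of_nil_eq ?_, by rw [ex, eo, hno], by rw [ex, eo, hon], ?_⟩
  · rw [nil_mul, ex, eo, hno, add_zero, add_sub_cancel, hκdef]
  by_cases h : κ - n = 0
  · exact Or.inl (eq_of_nil_eq (eo.trans (h.trans nil_one.symm)))
  refine Or.inr ⟨?_, ?_⟩
  · obtain ⟨o', ho', e⟩ := quad_of_family h hoo ho
    rw [eq_of_nil_eq (eo.trans e.symm)]
    exact ho'
  rw [eo]
  have hle : LinearMap.range (κ - n) ≤ (LinearMap.range κ).map (1 - nil ρ * nil y) := by
    rintro _ ⟨m, rfl⟩
    refine ⟨κ (m - (nil y * nil ρ) m), ⟨_, rfl⟩, ?_⟩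
    have e : (1 - nil ρ * nil y) * κ * (1 - nil y * nil ρ) = κ - n := by
      rw [hndef, seen]
      noncomm_ring
    rw [← e]
    simp only [Module.End.mul_apply, LinearMap.sub_apply, Module.End.one_apply]
  refine lt_of_le_of_lt (Submodule.finrank_mono hle) ?_
  have h4 := finrank_map_add_inf_ker (1 - nil ρ * nil y) (LinearMap.range κ)
  have h5 : LinearMap.range (nil ρ) ≤ LinearMap.range κ ⊓ LinearMap.ker (1 - nil ρ * nil y) := by
    refine le_inf hr ?_
    rintro _ ⟨m, rfl⟩
    rw [LinearMap.mem_ker, LinearMap.sub_apply, Module.End.one_apply, sub_eq_zero]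
    exact (congrArg (fun f : Module.End k M => f m) hp.left).symm
  have h6 := Submodule.finrank_mono h5
  have h7 := rank_pos hρ
  omega

omit hk2 hk3 hirr

/-- The group generated by `Σ`. -/
abbrev rootGroup (G : Subgroup (LinearMap.GeneralLinearGroup k M)) :
    Subgroup (LinearMap.GeneralLinearGroup k M) := ⨆ A ∈ quadraticRootSubgroups G, A

theorem rootGroup_le : rootGroup G ≤ G := iSup₂_le fun _ hA => root_le hA

theorem rootGroup_conj {g x : LinearMap.GeneralLinearGroup k M} (hg : g ∈ G)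
    (hx : x ∈ rootGroup G) : g * x * g⁻¹ ∈ rootGroup G := by
  have hle : rootGroup G ≤ (rootGroup G).comap (MulAut.conj g).toMonoidHom :=
    iSup₂_le fun A hA y hy => le_iSup₂ (f := fun A (_ : A ∈ quadraticRootSubgroups G) => A) _
      (conj_root_mem hA hg) (conj_mem_conjBy hy)
  exact hle hx

theorem le_rootGroup {A : Subgroup (LinearMap.GeneralLinearGroup k M)}
    (hA : A ∈ quadraticRootSubgroups G) : A ≤ rootGroup G :=
  le_iSup₂ (f := fun A (_ : A ∈ quadraticRootSubgroups G) => A) A hA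

theorem commute_members (h : ∀ σ ∈ minimalQuadraticElements G, σ * q = q * σ) :
    q ∈ Subgroup.centralizer (rootGroup G : Set (LinearMap.GeneralLinearGroup k M)) := by
  have hle : rootGroup G ≤ Subgroup.centralizer {q} := iSup₂_le fun A hA => by
    obtain ⟨σ, -, rfl⟩ := hA
    refine (Subgroup.closure_le _).2 fun x hx => ?_
    exact Subgroup.mem_centralizer_singleton_iff.2 (h x hx.1)
  exact Subgroup.mem_centralizer_iff.2 fun x hx => Subgroup.mem_centralizer_singleton_iff.1 (hle hx)

include hk2 hk3 hirr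

/-- Every quadratic element lies in `G₀ C_G(G₀)`. -/
theorem quadratic_mem_sup (hq : q ∈ quadraticElements G) :
    q ∈ rootGroup G ⊔
      (G ⊓ Subgroup.centralizer (rootGroup G : Set (LinearMap.GeneralLinearGroup k M))) := by
  induction hn : Module.finrank k (LinearMap.range (nil q)) using Nat.strong_induction_on
    generalizing q with
  | _ d ih =>
    by_cases hall : ∀ σ ∈ minimalQuadraticElements G, σ * q = q * σ
    · exact Subgroup.mem_sup_right ⟨hq.1, commute_members hall⟩
    push Not at hall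
    obtain ⟨σ, hσ, hne⟩ := hall
    obtain ⟨ρ, hρ, hr, hk⟩ := exists_inside hk2 hk3 hirr hσ hq hne
    obtain ⟨n, hn', o, -, hmul, -, -, ho⟩ := exists_split hk2 hk3 hirr hρ hq hr hk rootGroup_le
      (fun B hB => le_rootGroup hB.1) fun g hg x hx => rootGroup_conj hg hx
    rw [← hmul]
    refine mul_mem (Subgroup.mem_sup_left hn') ?_
    rcases ho with rfl | ⟨ho, hlt⟩
    · exact one_mem _
    · exact ih _ (hn ▸ hlt) ho rfl

theorem eq_rootGroup_sup (hgen : Subgroup.closure (quadraticElements G) = G) :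
    rootGroup G ⊔
      (G ⊓ Subgroup.centralizer (rootGroup G : Set (LinearMap.GeneralLinearGroup k M))) = G := by
  refine le_antisymm (sup_le rootGroup_le inf_le_left) ?_
  conv_lhs => rw [← hgen]
  exact (Subgroup.closure_le _).2 fun q hq => quadratic_mem_sup hk2 hk3 hirr hq

variable (hgen : Subgroup.closure (quadraticElements G) = G)
  {A : Subgroup (LinearMap.GeneralLinearGroup k M)}

include hgen

theorem le_part_sup_centralizer :
    G ≤ partGroup G A ⊔
      (G ⊓ Subgroup.centralizer (partGroup G A : Set (LinearMap.GeneralLinearGroup k M))) := by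
  conv_lhs => rw [← eq_rootGroup_sup hk2 hk3 hirr hgen]
  refine sup_le (iSup₂_le fun B hB => ?_) (le_sup_of_le_right (inf_le_inf_left G
    (Subgroup.centralizer_le (iSup₂_le fun C hC => le_rootGroup hC.1 : partGroup G A ≤ rootGroup G))))
  by_cases hm : B ∈ part G A
  · exact le_sup_of_le_left (le_partGroup hm)
  refine le_sup_of_le_right (le_inf (root_le hB) (Subgroup.le_centralizer_iff.1 (iSup₂_le fun C hC => ?_)))
  rw [← Subgroup.commutator_eq_bot_iff_le_centralizer]
  exact commute_of_not_mem_part hk2 hk3 hirr hC.1 hB fun h => hm (part_eq hC ▸ h)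

theorem part_conj_mem {g x : LinearMap.GeneralLinearGroup k M} (hg : g ∈ G)
    (hx : x ∈ partGroup G A) : g * x * g⁻¹ ∈ partGroup G A := by
  have hle : G ≤ Subgroup.normalizer (partGroup G A : Set (LinearMap.GeneralLinearGroup k M)) :=
    (le_part_sup_centralizer hk2 hk3 hirr hgen).trans
      (sup_le Subgroup.le_normalizer (inf_le_right.trans (Subgroup.centralizer_le_normalizer _)))
  exact (Subgroup.mem_normalizer_iff.1 (hle hg) x).1 hx

/-- Annihilating members of the two factors are not both non-trivial. -/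
theorem eq_one_of_annihilate {x y : LinearMap.GeneralLinearGroup k M} (hx : x ∈ partGroup G A)
    (hy : y ∈ Subgroup.centralizer (partGroup G A : Set (LinearMap.GeneralLinearGroup k M)))
    (h : nil y * nil x = 0) : x = 1 ∨ y = 1 := by
  by_cases hx1 : x = 1
  · exact Or.inl hx1
  right
  let W : Submodule k M := ⨆ p ∈ partGroup G A, LinearMap.range ((p : Module.End k M) * nil x)
  have hmem : ∀ p ∈ partGroup G A, ∀ m, (p : Module.End k M) (nil x m) ∈ W := fun p hp m =>
    Submodule.mem_iSup_of_mem p (Submodule.mem_iSup_of_mem hp ⟨m, rfl⟩)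
  have hcomm : ∀ p ∈ partGroup G A, ∀ s ∈ Subgroup.centralizer
      (partGroup G A : Set (LinearMap.GeneralLinearGroup k M)),
      (s : Module.End k M) * (p : Module.End k M) = (p : Module.End k M) * s := fun p hp s hs => by
    rw [← Units.val_mul, ← Units.val_mul, (Subgroup.mem_centralizer_iff.1 hs p hp)]
  let K : Subgroup (LinearMap.GeneralLinearGroup k M) :=
    { carrier := {g | ∀ w ∈ W, (g : Module.End k M) w ∈ W}
      one_mem' := fun w hw => by simpa using hw
      mul_mem' := fun {g g'} hg hg' w hw => by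
        rw [Units.val_mul, Module.End.mul_apply]; exact hg _ (hg' w hw)
      inv_mem' := fun {g} hg => map_eq_of_mapsTo g W hg }
  have hsub : ∀ g : LinearMap.GeneralLinearGroup k M, (∀ p ∈ partGroup G A, ∀ m,
      (g : Module.End k M) ((p : Module.End k M) (nil x m)) ∈ W) → g ∈ K := by
    intro g hg w hw
    have hle : W ≤ W.comap (g : Module.End k M) :=
      iSup₂_le fun p hp => by rintro _ ⟨m, rfl⟩; exact hg p hp m
    exact hle hw
  have hG : G ≤ K := by
    refine (le_part_sup_centralizer hk2 hk3 hirr hgen (A := A)).trans (sup_le (fun g hg => ?_) fun s hs => ?_)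
    · refine hsub g fun p hp m => ?_
      rw [← Module.End.mul_apply, ← Units.val_mul]
      exact hmem _ (mul_mem hg hp) m
    · refine hsub s fun p hp m => ?_
      have e : (s : Module.End k M) * nil x = nil x * s := by
        rw [nil, mul_sub, sub_mul, hcomm x hx s hs.2, mul_one, one_mul]
      rw [← Module.End.mul_apply, hcomm p hp s hs.2, Module.End.mul_apply, ← Module.End.mul_apply (s : Module.End k M), e]
      exact hmem p hp _
  have htop : W = ⊤ := (hirr.2 W fun g hg => hG hg).resolve_left fun e => hx1 <| eq_of_nil_eq <| by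
    rw [nil_one]
    refine LinearMap.ext fun m => ?_
    have := hmem 1 (one_mem _) m
    rw [e, Submodule.mem_bot] at this
    simpa using this
  have hker : W ≤ LinearMap.ker (nil y) := iSup₂_le fun p hp => by
    rintro _ ⟨m, rfl⟩
    have e : nil y * (p : Module.End k M) = (p : Module.End k M) * nil y := by
      rw [nil, sub_mul, mul_sub, hcomm p hp y hy, one_mul, mul_one]
    rw [LinearMap.mem_ker, ← Module.End.mul_apply, ← mul_assoc, e, mul_assoc, h, mul_zero]
    rfl
  rw [htop] at hker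
  exact eq_of_nil_eq (by rw [nil_one]; exact LinearMap.ext fun m => hker Submodule.mem_top)

/-- A quadratic element lies in the group of a component or centralises it. -/
theorem quadratic_mem_or (hq : q ∈ quadraticElements G) :
    q ∈ partGroup G A ∨
      q ∈ Subgroup.centralizer (partGroup G A : Set (LinearMap.GeneralLinearGroup k M)) := by
  induction hn : Module.finrank k (LinearMap.range (nil q)) using Nat.strong_induction_on
    generalizing q with
  | _ d ih =>
    set Z := Subgroup.centralizer (partGroup G A : Set (LinearMap.GeneralLinearGroup k M))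
    by_cases hall : ∀ σ ∈ minimalQuadraticElements G, σ * q = q * σ
    · exact Or.inr (Subgroup.centralizer_le
        (iSup₂_le fun C hC => le_rootGroup hC.1 : partGroup G A ≤ rootGroup G) (commute_members hall))
    push Not at hall
    obtain ⟨σ, hσ, hne⟩ := hall
    obtain ⟨ρ, hρ, hr, hk⟩ := exists_inside hk2 hk3 hirr hσ hq hne
    obtain ⟨n, hn', o, -, hmul, hno, hon, ho⟩ := exists_split hk2 hk3 hirr hρ hq hr hk
      (P := partGroup G (sameActionSubgroup G ρ)) partGroup_le
      (fun B hB => le_partGroup hB) fun g hg x hx => part_conj_mem hk2 hk3 hirr hgen hg hx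
    have hside : n ∈ partGroup G A ∨ n ∈ Z := by
      by_cases hpart : part G (sameActionSubgroup G ρ) = part G A
      · left
        simpa only [partGroup, hpart] using hn'
      · exact Or.inr (Subgroup.le_centralizer_iff.1 (Subgroup.commutator_eq_bot_iff_le_centralizer.1
          (partGroup_commute hk2 hk3 hirr (Ne.symm hpart))) hn')
    have hside' : o ∈ partGroup G A ∨ o ∈ Z := by
      rcases ho with rfl | ⟨ho, hlt⟩
      · exact Or.inl (one_mem _)
      · exact ih _ (hn ▸ hlt) ho rfl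
    rw [← hmul]
    rcases hside with h1 | h1 <;> rcases hside' with h2 | h2
    · exact Or.inl (mul_mem h1 h2)
    · rcases eq_one_of_annihilate hk2 hk3 hirr hgen h1 h2 hon with rfl | rfl
      · rw [one_mul]; exact Or.inr h2
      · rw [mul_one]; exact Or.inl h1
    · rcases eq_one_of_annihilate hk2 hk3 hirr hgen h2 h1 hno with rfl | rfl
      · rw [mul_one]; exact Or.inr h1
      · rw [one_mul]; exact Or.inl h2
    · exact Or.inr (mul_mem h1 h2)

end Cfsg.Agent.Lib.RootSubgroups.QuadPair
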