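import Mathlib
import Cfsg.Agent.Lib.RootSubgroups.QuadPairSplit
import Cfsg.Agent.Lib.RootSubgroups.QuadPairQuasisimple
import Cfsg.Agent.Lib.Components.Quasisimple

/-!
A quadratic pair is a central product of quasisimple groups.
-/

set_option autoImplicit false

namespace Cfsg.Agent.Lib.RootSubgroups.QuadPair

open Cfsg
open scoped commutatorElement

universe w v

variable {k : Type w} [Field k]

/-- The conclusion for a family of subgroups. -/
def Decomposes {M : Type v} [AddCommGroup M] [Module k M] {ι : Type*}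
    (G : Subgroup (LinearMap.GeneralLinearGroup k M))
    (Gi : ι → Subgroup (LinearMap.GeneralLinearGroup k M)) : Prop :=
  (∀ i, Gi i ≤ G ∧ ∀ g ∈ G, conjBy (Gi i) g = Gi i) ∧ (∀ i j, i ≠ j → ⁅Gi i, Gi j⁆ = ⊥) ∧
    (⨆ i, Gi i) = G ∧
    (∀ i, IsQuasisimple ↥(Gi i) ∧ Subgroup.closure
      (quadraticElements G ∩ (Gi i : Set (LinearMap.GeneralLinearGroup k M))) = Gi i) ∧
    quadraticElements G ⊆ ⋃ i, (Gi i : Set (LinearMap.GeneralLinearGroup k M))

section

variable {M : Type v} [AddCommGroup M] [Module k M]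
  {G : Subgroup (LinearMap.GeneralLinearGroup k M)}

theorem Decomposes.reindex {ι κ : Type*} {Gi : ι → Subgroup (LinearMap.GeneralLinearGroup k M)}
    (h : Decomposes G Gi) (e : κ ≃ ι) : Decomposes G (Gi ∘ e) := by
  obtain ⟨h1, h2, h3, h4, h5⟩ := h
  refine ⟨fun i => h1 _, fun i j hij => h2 _ _ fun he => hij (e.injective he), ?_, fun i => h4 _, ?_⟩
  · exact (e.iSup_comp (g := Gi)).trans h3
  · intro q hq
    obtain ⟨i, hi⟩ := Set.mem_iUnion.1 (h5 hq)
    exact Set.mem_iUnion.2 ⟨e.symm i, by simpa using hi⟩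

theorem Decomposes.exists_fin {ι : Type*} [Finite ι]
    {Gi : ι → Subgroup (LinearMap.GeneralLinearGroup k M)} (h : Decomposes G Gi) :
    ∃ (s : ℕ) (Hi : Fin s → Subgroup (LinearMap.GeneralLinearGroup k M)), Decomposes G Hi :=
  ⟨_, _, h.reindex (Finite.equivFin ι).symm⟩

theorem conjBy_eq_of_forall {K : Subgroup (LinearMap.GeneralLinearGroup k M)}
    (h : ∀ g ∈ G, ∀ x ∈ K, g * x * g⁻¹ ∈ K) {g : LinearMap.GeneralLinearGroup k M} (hg : g ∈ G) :
    conjBy K g = K := by
  refine conjBy_self_of_mem_normalizer (Subgroup.mem_normalizer_iff.2 fun x => ⟨h g hg x, fun hx => ?_⟩)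
  have := h g⁻¹ (inv_mem hg) _ hx
  simpa [mul_assoc] using this

/-- The restriction to an invariant subspace. -/
def restrictHom (C : Subgroup (LinearMap.GeneralLinearGroup k M)) (W : Submodule k M)
    (hW : ∀ c ∈ C, ∀ x ∈ W, (c : Module.End k M) x ∈ W) :
    C →* LinearMap.GeneralLinearGroup k W :=
  MonoidHom.toHomUnits
    { toFun := fun c => ((c : LinearMap.GeneralLinearGroup k M) : Module.End k M).restrict (hW c c.2)
      map_one' := LinearMap.ext fun x => Subtype.ext (by simp)
      map_mul' := fun c d => LinearMap.ext fun x => Subtype.ext (by simp) }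

theorem nil_restrictHom {C : Subgroup (LinearMap.GeneralLinearGroup k M)} {W : Submodule k M}
    (hW : ∀ c ∈ C, ∀ x ∈ W, (c : Module.End k M) x ∈ W) (c : C) (x : W) :
    (nil (restrictHom C W hW c) x : M) = nil (c : LinearMap.GeneralLinearGroup k M) x := by
  simp [nil, restrictHom]

end

variable (hk2 : (2 : k) ≠ 0) (hk3 : Nat.card k ≠ 3)

include hk2 hk3

theorem exists_factors_aux (d : ℕ) : ∀ (M : Type v) [AddCommGroup M] [Module k M]
    [FiniteDimensional k M] (G : Subgroup (LinearMap.GeneralLinearGroup k M)),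
    Module.finrank k M = d → IsQuadraticPair G →
      ∃ (s : ℕ) (Gi : Fin s → Subgroup (LinearMap.GeneralLinearGroup k M)), Decomposes G Gi := by
  induction d using Nat.strong_induction_on with
  | _ d ih =>
    intro M _ _ _ G hd hG
    obtain ⟨hirr, hgen⟩ := hG
    by_cases hne : quadraticElements G = ∅
    · have hbot : G = ⊥ := by rw [← hgen, hne, Subgroup.closure_empty]
      refine ⟨0, fun i => i.elim0, fun i => i.elim0, fun i => i.elim0, ?_, fun i => i.elim0, ?_⟩
      · rw [hbot]; exact iSup_of_empty _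
      · rw [hne]; exact Set.empty_subset _
    obtain ⟨σ, hσ⟩ : ∃ σ, σ ∈ minimalQuadraticElements G :=
      have hne' := Set.nonempty_iff_ne_empty.2 hne
      ⟨Function.argminOn commutatorRank _ hne', Function.argminOn_mem _ _ _,
        fun τ hτ => Function.argminOn_le commutatorRank _ hτ⟩
    set Z := Subgroup.centralizer (rootGroup G : Set (LinearMap.GeneralLinearGroup k M))
    set C := Subgroup.closure (quadraticElements G ∩ (Z : Set (LinearMap.GeneralLinearGroup k M)))
    have hCG : C ≤ G := (Subgroup.closure_le _).2 fun x hx => hx.1.1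
    have hCZ : C ≤ Z := (Subgroup.closure_le _).2 fun x hx => hx.2
    have hcomm : ∀ c ∈ C, ∀ g ∈ rootGroup G,
        (g : Module.End k M) * (c : Module.End k M) = (c : Module.End k M) * g := fun c hc g hg => by
      rw [← Units.val_mul, ← Units.val_mul, Subgroup.mem_centralizer_iff.1 (hCZ hc) g hg]
    have hQ : ∀ q ∈ quadraticElements G, (∃ A ∈ quadraticRootSubgroups G, q ∈ partGroup G A) ∨
        q ∈ C := by
      intro q hq
      by_cases hall : ∀ τ ∈ minimalQuadraticElements G, τ * q = q * τ
      · exact Or.inr (Subgroup.subset_closure ⟨hq, commute_members hall⟩)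
      push Not at hall
      obtain ⟨τ, hτ, hne⟩ := hall
      refine Or.inl ⟨_, ⟨τ, hτ, rfl⟩, (quadratic_mem_or hk2 hk3 hirr hgen hq).resolve_right fun h => hne ?_⟩
      exact Subgroup.mem_centralizer_iff.1 h τ (le_partGroup (self_mem_part ⟨τ, hτ, rfl⟩) (self_mem hτ))
    have hGle : ∀ K : Subgroup (LinearMap.GeneralLinearGroup k M),
        (∀ A ∈ quadraticRootSubgroups G, partGroup G A ≤ K) → C ≤ K → G ≤ K := by
      intro K h1 h2
      conv_lhs => rw [← hgen]
      refine (Subgroup.closure_le _).2 fun q hq => ?_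
      rcases hQ q hq with ⟨A, hA, h⟩ | h
      · exact h1 A hA h
      · exact h2 h
    have hC0 : ∀ A ∈ quadraticRootSubgroups G, partGroup G A ≤ rootGroup G := fun A _ =>
      iSup₂_le fun B hB => le_rootGroup hB.1
    -- a minimal subspace for `C`
    obtain ⟨W, ⟨hW0, hW⟩, hWmin⟩ := wellFounded_lt.has_min
      {W : Submodule k M | W ≠ ⊥ ∧ ∀ c ∈ C, ∀ x ∈ W, (c : Module.End k M) x ∈ W}
      ⟨⊤, fun e => by
        obtain ⟨m, hm⟩ := hirr.1
        exact hm ((Submodule.mem_bot k).1 (e ▸ Submodule.mem_top)), fun _ _ _ _ => Submodule.mem_top⟩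
    have hfaith : ∀ f : Module.End k M, (∀ g ∈ rootGroup G, (g : Module.End k M) * f = f * g) →
        (∀ x ∈ W, f x = 0) → f = 0 := by
      intro f hf hfW
      let U : Submodule k M := ⨆ g ∈ rootGroup G, W.map (g : Module.End k M)
      let K : Subgroup (LinearMap.GeneralLinearGroup k M) :=
        { carrier := {g | ∀ u ∈ U, (g : Module.End k M) u ∈ U}
          one_mem' := fun u hu => by simpa using hu
          mul_mem' := fun {g g'} hg hg' u hu => by
            rw [Units.val_mul, Module.End.mul_apply]; exact hg _ (hg' u hu)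
          inv_mem' := fun {g} hg => map_eq_of_mapsTo g U hg }
      have hsub : ∀ g : LinearMap.GeneralLinearGroup k M, (∀ p ∈ rootGroup G, ∀ x ∈ W,
          (g : Module.End k M) ((p : Module.End k M) x) ∈ U) → g ∈ K := by
        intro g hg u hu
        have hle : U ≤ U.comap (g : Module.End k M) :=
          iSup₂_le fun p hp => by rintro _ ⟨x, hx, rfl⟩; exact hg p hp x hx
        exact hle hu
      have hmem : ∀ p ∈ rootGroup G, ∀ x ∈ W, (p : Module.End k M) x ∈ U := fun p hp x hx =>
        Submodule.mem_iSup_of_mem p (Submodule.mem_iSup_of_mem hp ⟨x, hx, rfl⟩)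
      have hGK : G ≤ K := by
        refine hGle K (fun A hA g hg => hsub g fun p hp x hx => ?_) fun c hc => hsub c fun p hp x hx => ?_
        · rw [← Module.End.mul_apply, ← Units.val_mul]
          exact hmem _ (mul_mem (hC0 A hA hg) hp) x hx
        · rw [← Module.End.mul_apply, ← hcomm c hc p hp]
          exact hmem p hp _ (hW c hc x hx)
      have htop : U = ⊤ := (hirr.2 U fun g hg => hGK hg).resolve_left fun e => hW0 <|
        eq_bot_iff.2 fun x hx => by
          have := hmem 1 (one_mem _) x hx
          rw [e] at this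
          simpa using this
      have hker : U ≤ LinearMap.ker f := iSup₂_le fun p hp => by
        rintro _ ⟨x, hx, rfl⟩
        rw [LinearMap.mem_ker, ← Module.End.mul_apply, ← hf p hp, Module.End.mul_apply, hfW x hx,
          map_zero]
      exact LinearMap.ext fun x => hker (htop ▸ Submodule.mem_top)
    have hcomm' : ∀ c ∈ C, ∀ g ∈ rootGroup G,
        (g : Module.End k M) * nil c = nil c * (g : Module.End k M) := fun c hc g hg => by
      rw [nil, mul_sub, sub_mul, hcomm c hc g hg, mul_one, one_mul]
    have hWtop : W ≠ ⊤ := by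
      intro e
      have hσc : ∀ c ∈ C, (c : Module.End k M) * nil σ = nil σ * c := fun c hc => by
        rw [nil, mul_sub, sub_mul, hcomm c hc σ (le_rootGroup ⟨σ, hσ, rfl⟩ (self_mem hσ)), mul_one,
          one_mul]
      by_cases hk0 : LinearMap.ker (nil σ) = ⊥
      · exact nil_ne_zero hσ (LinearMap.range_eq_bot.1
          (le_bot_iff.1 (hk0 ▸ range_le_ker (sq_zero hσ))))
      · refine hWmin (LinearMap.ker (nil σ)) ⟨hk0, fun c hc x hx => ?_⟩ ?_
        · rw [LinearMap.mem_ker, ← Module.End.mul_apply, ← hσc c hc, Module.End.mul_apply,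
            LinearMap.mem_ker.1 hx, map_zero]
        · rw [e, lt_top_iff_ne_top]
          exact fun h => nil_ne_zero hσ (LinearMap.ker_eq_top.1 h)
    set φ := restrictHom C W hW
    have hφ : Function.Injective φ := by
      rw [injective_iff_map_eq_one]
      intro c hc
      refine Subtype.ext (eq_of_nil_eq (Eq.trans (hfaith _ (hcomm' c c.2) fun x hx => ?_) nil_one.symm))
      have h1 := nil_restrictHom hW c ⟨x, hx⟩
      rw [show restrictHom C W hW c = 1 from hc, nil_one] at h1
      exact h1.symm
    -- the quadratic elements correspond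
    have hup : ∀ q : C, (q : LinearMap.GeneralLinearGroup k M) ∈ quadraticElements G →
        φ q ∈ quadraticElements φ.range := by
      intro q hq
      refine ⟨⟨q, rfl⟩, ⟨?_, fun h0 => hq.2.1.2 (hfaith _ (hcomm' q q.2) fun x hx => ?_)⟩, fun π hπ => ?_⟩
      · show nil (φ q) * nil (φ q) = 0
        refine LinearMap.ext fun x => Subtype.ext ?_
        rw [Module.End.mul_apply, nil_restrictHom, nil_restrictHom]
        exact congrArg (fun f : Module.End k M => f x) hq.2.1.1
      · have h1 := nil_restrictHom hW q ⟨x, hx⟩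
        rw [show nil (restrictHom C W hW q) = 0 from h0] at h1
        exact h1.symm
      · obtain ⟨e, he⟩ := mem_scalarFamily.1 hπ
        obtain ⟨g, hg, hge⟩ := exists_family' (σ := (q : LinearMap.GeneralLinearGroup k M)) hq.2.1.1 e
        have hgC : g ∈ C := by
          rcases eq_or_ne (nil g) 0 with h0 | h0
          · rw [eq_of_nil_eq (h0.trans nil_one.symm)]
            exact one_mem _
          obtain ⟨ρ, hρ, hρe⟩ := quad_of_family (G := G) (γ := nil g) h0 (by
            rw [hge, smul_mul_smul_comm, show nil (q : LinearMap.GeneralLinearGroup k M) * nil _ = 0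
              from hq.2.1.1, smul_zero]) fun a => by
            obtain ⟨g', hg', hge'⟩ := exists_family' (σ := (q : LinearMap.GeneralLinearGroup k M))
              hq.2.1.1 (a * e)
            exact ⟨g', hq.2.2 hg', by rw [hge', hge, smul_smul]⟩
          refine Subgroup.subset_closure ⟨eq_of_nil_eq hρe ▸ hρ,
            Subgroup.mem_centralizer_iff.2 fun x hx => Units.ext ?_⟩
          rw [Units.val_mul, Units.val_mul, coe_eq g, hge, mul_add, add_mul, mul_one, one_mul,
            mul_smul_comm, smul_mul_assoc, hcomm' q q.2 x hx]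
        refine ⟨⟨g, hgC⟩, eq_of_nil_eq (LinearMap.ext fun x => Subtype.ext ?_)⟩
        rw [nil_restrictHom, he, LinearMap.smul_apply, Submodule.coe_smul, nil_restrictHom, hge]
        rfl
    have hdown : ∀ q : C, φ q ∈ quadraticElements φ.range →
        (q : LinearMap.GeneralLinearGroup k M) ∈ quadraticElements G := by
      intro q hq
      refine ⟨hCG q.2, ⟨hfaith _ (fun g hg => ?_) fun x hx => ?_, fun h0 => hq.2.1.2 ?_⟩, fun π hπ => ?_⟩
      · show (g : Module.End k M) * (nil (q : LinearMap.GeneralLinearGroup k M) * nil _) = _ * nil _ * _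
        rw [← mul_assoc, hcomm' q q.2 g hg, mul_assoc, hcomm' q q.2 g hg, ← mul_assoc]
      · have h1 := congrArg (fun f : Module.End k W => ((f ⟨x, hx⟩ : W) : M)) hq.2.1.1
        simp only [Module.End.mul_apply] at h1
        rw [nil_restrictHom hW, nil_restrictHom hW] at h1
        exact h1
      · refine LinearMap.ext fun x => Subtype.ext ?_
        rw [nil_restrictHom hW, show nil (q : LinearMap.GeneralLinearGroup k M) = 0 from h0]
        rfl
      · obtain ⟨e, he⟩ := mem_scalarFamily.1 hπ
        obtain ⟨g, hg, hge⟩ := exists_family' (σ := φ q) hq.2.1.1 e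
        obtain ⟨y, hy⟩ := hq.2.2 hg
        have h1 : nil (y : LinearMap.GeneralLinearGroup k M) - e • nil (q : LinearMap.GeneralLinearGroup k M) = 0 := by
          refine hfaith _ (fun g hg => ?_) fun x hx => ?_
          · rw [mul_sub, sub_mul, mul_smul_comm, smul_mul_assoc, hcomm' y y.2 g hg, hcomm' q q.2 g hg]
          · have h2 := congrArg (fun f : Module.End k W => ((f ⟨x, hx⟩ : W) : M)) hge
            simp only [LinearMap.smul_apply, Submodule.coe_smul] at h2
            rw [← hy, nil_restrictHom hW, nil_restrictHom hW] at h2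
            rw [LinearMap.sub_apply, LinearMap.smul_apply, sub_eq_zero]
            exact h2
        rw [eq_of_nil_eq (he.trans (sub_eq_zero.1 h1).symm)]
        exact hCG y.2
    have hH : IsQuadraticPair φ.range := by
      refine ⟨⟨?_, fun V hV => ?_⟩, le_antisymm ((Subgroup.closure_le _).2 fun x hx => hx.1) ?_⟩
      · obtain ⟨m, hm, hm0⟩ := (Submodule.ne_bot_iff W).1 hW0
        exact ⟨⟨m, hm⟩, fun h => hm0 (congrArg Subtype.val h)⟩
      · by_cases hV0 : V = ⊥
        · exact Or.inl hV0
        refine Or.inr (Submodule.map_injective_of_injective W.injective_subtype ?_)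
        rw [Submodule.map_top, Submodule.range_subtype]
        refine (eq_or_lt_of_le (Submodule.map_subtype_le W V)).resolve_right fun hlt =>
          hWmin _ ⟨fun h => hV0 ?_, ?_⟩ hlt
        · exact Submodule.map_injective_of_injective W.injective_subtype (h.trans (Submodule.map_bot _).symm)
        · rintro c hc _ ⟨x, hx, rfl⟩
          exact ⟨_, hV (φ ⟨c, hc⟩) ⟨_, rfl⟩ x hx, rfl⟩
      · rintro _ ⟨⟨c, hc⟩, rfl⟩
        induction hc using Subgroup.closure_induction with
        | mem x hx => exact Subgroup.subset_closure (hup ⟨x, Subgroup.subset_closure hx⟩ hx.1)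
        | one =>
          show φ 1 ∈ _
          rw [map_one]; exact one_mem _
        | mul x y hx hy h h' =>
          show φ (⟨x, hx⟩ * ⟨y, hy⟩) ∈ _
          rw [map_mul]; exact mul_mem h h'
        | inv x hx h =>
          show φ (⟨x, hx⟩⁻¹) ∈ _
          rw [map_inv]; exact inv_mem h
    obtain ⟨s, Hi, hH1, hH2, hH3, hH4, hH5⟩ := ih (Module.finrank k W)
      (hd ▸ Submodule.finrank_lt hWtop) W φ.range rfl hH
    -- back to `M`
    let Ki : Fin s → Subgroup (LinearMap.GeneralLinearGroup k M) := fun i =>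
      ((Hi i).comap φ).map C.subtype
    have hKC : ∀ i, Ki i ≤ C := fun i => Subgroup.map_subtype_le _
    have hKmem : ∀ {i} {c : C}, (c : LinearMap.GeneralLinearGroup k M) ∈ Ki i ↔ φ c ∈ Hi i := by
      intro i c
      exact ⟨fun ⟨d, hd, e⟩ => Subtype.ext (show (d : LinearMap.GeneralLinearGroup k M) = c from e) ▸ hd,
        fun h => ⟨c, h, rfl⟩⟩
    have : Finite ↥(part G '' quadraticRootSubgroups G) := finite_parts hk2 hk3 hirr
    let F : ↥(part G '' quadraticRootSubgroups G) ⊕ Fin s →
        Subgroup (LinearMap.GeneralLinearGroup k M) :=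
      Sum.elim (fun p => ⨆ B ∈ p.1, B) Ki
    have hFpart : ∀ A, ∀ hA : A ∈ quadraticRootSubgroups G,
        partGroup G A = F (Sum.inl ⟨_, A, hA, rfl⟩) := fun A hA => rfl
    have hKnorm : ∀ i, ∀ g ∈ G, ∀ x ∈ Ki i, g * x * g⁻¹ ∈ Ki i := by
      intro i
      have hle : G ≤ Subgroup.normalizer (Ki i : Set (LinearMap.GeneralLinearGroup k M)) := by
        refine hGle _ (fun A hA => ?_) ?_
        · refine le_trans ?_ (Subgroup.centralizer_le_normalizer _)
          exact (hC0 A hA).trans (Subgroup.le_centralizer_iff.1 ((hKC i).trans hCZ))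
        · have key : ∀ a ∈ C, ∀ x ∈ Ki i, a * x * a⁻¹ ∈ Ki i := by
            rintro a ha _ ⟨y, hy, rfl⟩
            refine ⟨⟨a, ha⟩ * y * (⟨a, ha⟩)⁻¹, ?_, rfl⟩
            show φ _ ∈ Hi i
            rw [map_mul, map_mul, map_inv]
            have h := (hH1 i).2 (φ ⟨a, ha⟩) ⟨_, rfl⟩
            exact h ▸ conj_mem_conjBy hy
          intro a ha
          refine Subgroup.mem_normalizer_iff.2 fun x => ⟨key a ha x, fun hx => ?_⟩
          have := key a⁻¹ (inv_mem ha) _ hx
          simpa [mul_assoc] using this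
      exact fun g hg x hx => (Subgroup.mem_normalizer_iff.1 (hle hg) x).1 hx
    refine Decomposes.exists_fin (Gi := F) ⟨?_, ?_, ?_, ?_, ?_⟩
    · rintro (⟨_, A, hA, rfl⟩ | i)
      · exact ⟨partGroup_le, fun g hg => conjBy_eq_of_forall
          (fun g hg x hx => part_conj_mem hk2 hk3 hirr hgen hg hx) hg⟩
      · exact ⟨(hKC i).trans hCG, fun g hg => conjBy_eq_of_forall (hKnorm i) hg⟩
    · rintro (⟨_, A, hA, rfl⟩ | i) (⟨_, B, hB, rfl⟩ | j) hij
      · exact partGroup_commute hk2 hk3 hirr fun h => hij (congrArg Sum.inl (Subtype.ext h))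
      · exact Subgroup.commutator_eq_bot_iff_le_centralizer.2
          ((hC0 A hA).trans (Subgroup.le_centralizer_iff.1 ((hKC j).trans hCZ)))
      · rw [Subgroup.commutator_comm]
        exact Subgroup.commutator_eq_bot_iff_le_centralizer.2
          ((hC0 B hB).trans (Subgroup.le_centralizer_iff.1 ((hKC i).trans hCZ)))
      · rw [eq_bot_iff, Subgroup.commutator_le]
        rintro _ ⟨x, hx, rfl⟩ _ ⟨y, hy, rfl⟩
        have h := Subgroup.commutator_mem_commutator (show φ x ∈ Hi i from hx) (show φ y ∈ Hi j from hy)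
        rw [hH2 i j fun e => hij (congrArg Sum.inr e), Subgroup.mem_bot, ← map_commutatorElement] at h
        rw [Subgroup.mem_bot, ← map_commutatorElement]
        rw [hφ (h.trans (map_one φ).symm), map_one]
    · refine le_antisymm (iSup_le ?_) (hGle _ (fun A hA => ?_) ?_)
      · rintro (⟨_, A, hA, rfl⟩ | i)
        · exact partGroup_le
        · exact (hKC i).trans hCG
      · exact hFpart A hA ▸ le_iSup F _
      · refine (Subgroup.closure_le _).2 fun q hq => ?_
        obtain ⟨i, hi⟩ := Set.mem_iUnion.1 (hH5 (hup ⟨q, Subgroup.subset_closure hq⟩ hq.1))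
        exact le_iSup F (Sum.inr i) (hKmem.2 hi)
    · rintro (⟨_, A, hA, rfl⟩ | i)
      · refine ⟨partGroup_quasisimple hk2 hk3 hirr hA,
          le_antisymm ((Subgroup.closure_le _).2 Set.inter_subset_right) ?_⟩
        refine iSup₂_le fun B hB => ?_
        obtain ⟨τ, -, rfl⟩ := hB.1
        refine Subgroup.closure_mono fun x hx => ⟨hx.1.1, ?_⟩
        exact le_partGroup hB (Subgroup.subset_closure hx)
      · refine ⟨?_, le_antisymm ((Subgroup.closure_le _).2 Set.inter_subset_right) ?_⟩
        · refine (Components.quasisimple_map_iff _ C.subtype_injective).2 ?_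
          rw [← Components.quasisimple_map_iff _ hφ, Subgroup.map_comap_eq_self (hH1 i).1]
          exact (hH4 i).1
        · rintro _ ⟨x, hx, rfl⟩
          have h : φ x ∈ ((Subgroup.closure (quadraticElements G ∩
              (Ki i : Set (LinearMap.GeneralLinearGroup k M)))).comap C.subtype).map φ := by
            have hx' : φ x ∈ Hi i := hx
            rw [← (hH4 i).2] at hx'
            refine (Subgroup.closure_le _).2 ?_ hx'
            rintro _ ⟨hz, hzi⟩
            obtain ⟨y, rfl⟩ := hz.1
            exact ⟨y, Subgroup.subset_closure ⟨hdown y hz, hKmem.2 hzi⟩, rfl⟩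
          obtain ⟨y, hy, e⟩ := h
          exact hφ e ▸ hy
    · intro q hq
      rcases hQ q hq with ⟨A, hA, h⟩ | h
      · exact Set.mem_iUnion.2 ⟨Sum.inl ⟨_, A, hA, rfl⟩, h⟩
      · obtain ⟨i, hi⟩ := Set.mem_iUnion.1 (hH5 (hup ⟨q, h⟩ hq))
        exact Set.mem_iUnion.2 ⟨Sum.inr i, hKmem.2 hi⟩

theorem exists_factors {M : Type v} [AddCommGroup M] [Module k M] [FiniteDimensional k M]
    {G : Subgroup (LinearMap.GeneralLinearGroup k M)} (hG : IsQuadraticPair G) :
    ∃ (s : ℕ) (Gi : Fin s → Subgroup (LinearMap.GeneralLinearGroup k M)), Decomposes G Gi :=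
  exists_factors_aux hk2 hk3 _ M G rfl hG

end Cfsg.Agent.Lib.RootSubgroups.QuadPair
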