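import Mathlib
import Cfsg.Prelude.Def_RootSubgroups
import Cfsg.Agent.Lib.RootSubgroups.RankOneNormal
import Cfsg.Agent.Lib.RootSubgroups.Special

/-!
Special rank one groups with abelian unipotent subgroups of order at least four are perfect.
-/

set_option autoImplicit false

namespace Cfsg.Agent.Lib.RootSubgroups.RankOne

open Cfsg Cfsg.Agent.Lib.RootSubgroups
open scoped commutatorElement IsMulCommutative

variable {G : Type*} [Group G] {A B : Subgroup G}

theorem mu_mem_sup {a b : G} (hp : Partner A B a b) : mu a b ∈ A ⊔ B :=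
  mul_mem (mul_mem (Subgroup.mem_sup_left hp.1) (Subgroup.mem_sup_right (inv_mem hp.2.2.1)))
    (Subgroup.mem_sup_left hp.1)

theorem mu_mul_mu_inv_mem_diagonal (hs : IsSpecialRankOnePair A B) {a b c d : G}
    (hp : Partner A B a b) (hq : Partner A B c d) :
    mu a b * (mu c d)⁻¹ ∈ rankOneDiagonal A B := by
  refine ⟨⟨(A ⊔ B).mul_mem (mu_mem_sup hp) ((A ⊔ B).inv_mem (mu_mem_sup hq)), ?_⟩, ?_⟩
  · refine conjBy_eq_self_iff.1 ?_
    rw [conjBy_mul, show conjBy A (mu c d)⁻¹ = B from by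
      rw [conjBy_eq_iff, inv_inv, hq.conjBy_mu_right hs], hp.conjBy_mu_right hs]
  · refine conjBy_eq_self_iff.1 ?_
    rw [conjBy_mul, show conjBy B (mu c d)⁻¹ = A from by
      rw [conjBy_eq_iff, inv_inv, hq.conjBy_mu_left], hp.conjBy_mu_left]

theorem commutator_diagonal_le (A B : Subgroup G) : ⁅A, rankOneDiagonal A B⁆ ≤ A := by
  refine Subgroup.commutator_le.2 fun a ha h hh => ?_
  rw [commutatorElement_def, mul_assoc, mul_assoc]
  refine mul_mem ha ?_
  rw [← mul_assoc]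
  exact (Subgroup.mem_normalizer_iff.1 hh.1.2 a⁻¹).1 (A.inv_mem ha)

/-- Modulo `⁅A, H⁆` the Hua identity becomes `a d d = 1`. -/
theorem hua_mod (hs : IsSpecialRankOnePair A B) (hA : IsMulCommutative A) {a d : G} (ha : a ∈ A)
    (ha1 : a ≠ 1) (hd : d ∈ A) (hd1 : d ≠ 1) (had : a * d ≠ 1) :
    a * d * d ∈ ⁅A, rankOneDiagonal A B⁆ := by
  set U := ⁅A, rankOneDiagonal A B⁆ with hU
  obtain ⟨b, hp⟩ := exists_partner hs.1 ha ha1
  set m := mu a b with hm
  have key : ∀ {x y : G}, Partner A B x y → x * (m * y * m⁻¹) ∈ U := by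
    intro x y hq
    set k := m * (mu x y)⁻¹ with hk
    have hkH : k ∈ rankOneDiagonal A B := mu_mul_mu_inv_mem_diagonal hs hp hq
    have h1 : m * y * m⁻¹ = k * x⁻¹ * k⁻¹ := by
      rw [hk, ← hq.conj_mu_partner hs]
      simp [mul_assoc]
    have h2 : ⁅x, k⁆ ∈ U := Subgroup.commutator_mem_commutator hq.1 hkH
    rw [h1]
    simpa [commutatorElement_def, mul_assoc] using h2
  obtain ⟨d', hd'⟩ := exists_partner hs.1 hd hd1
  set c₀ := m * d' * m⁻¹ with hc₀
  have hc₀A : c₀ ∈ A := (hp.map_mu hs hd').1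
  obtain ⟨e', he'⟩ := exists_partner hs.1 (mul_mem ha hd) had
  set e := m * e' * m⁻¹ with he
  have heA : e ∈ A := (hp.map_mu hs he').1
  have hc1 : a⁻¹ * c₀ ≠ 1 := by
    intro h
    rw [inv_mul_eq_one] at h
    have h2 : m * d' * m⁻¹ = m * b⁻¹ * m⁻¹ := by
      rw [← hc₀, ← h]
      have := hp.conj_mu_partner hs
      rw [← hm] at this
      calc a = (m * b * m⁻¹)⁻¹ := by rw [this, inv_inv]
        _ = m * b⁻¹ * m⁻¹ := by simp [mul_assoc]
    have h3 : d' = b⁻¹ := mul_left_cancel (mul_right_cancel h2)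
    have h4 := hd'.left_unique hs.1 (h3 ▸ hp.inv hs)
    exact had (by rw [h4, mul_inv_cancel])
  obtain ⟨c', hc'⟩ := exists_partner hs.1 (mul_mem (inv_mem ha) hc₀A) hc1
  have hhua := hp.hua hs hd' he' hc' (e := e) rfl
  have k1 : d * c₀ ∈ U := key hd'
  have k2 : a * d * e ∈ U := key he'
  have k3 : a⁻¹ * c₀ * (a * e) ∈ U := by
    have := key hc'
    rwa [hhua] at this
  have hprod : (a * d * e) * (a⁻¹ * c₀ * (a * e))⁻¹ * (d * c₀) ∈ U :=
    mul_mem (mul_mem k2 (inv_mem k3)) k1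
  have e0 : a * d * d = (a * d * e) * (a⁻¹ * c₀ * (a * e))⁻¹ * (d * c₀) := by
    haveI := hA
    exact congrArg Subtype.val (show ((⟨a, ha⟩ : A) * ⟨d, hd⟩ * ⟨d, hd⟩) =
      (⟨a, ha⟩ * ⟨d, hd⟩ * ⟨e, heA⟩) * (⟨a, ha⟩⁻¹ * ⟨c₀, hc₀A⟩ * (⟨a, ha⟩ * ⟨e, heA⟩))⁻¹ *
        (⟨d, hd⟩ * ⟨c₀, hc₀A⟩) by
      apply Additive.ofMul.injective; simp only [ofMul_mul, ofMul_inv]; abel)
  rw [e0]
  exact hprod

/-- If `|A| > 3` then `A = ⁅A, H⁆`. -/
theorem commutator_diagonal_eq (hs : IsSpecialRankOnePair A B) (hA : IsMulCommutative A)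
    (hcard : 3 < ENat.card A) : ⁅A, rankOneDiagonal A B⁆ = A := by
  refine le_antisymm (commutator_diagonal_le A B) fun x hx => ?_
  rcases eq_or_ne x 1 with rfl | hx1
  · exact one_mem _
  have hexists : ∀ p q r : A, ∃ a : A, a ≠ p ∧ a ≠ q ∧ a ≠ r := by
    intro p q r
    by_contra hc
    push Not at hc
    have hle : (Set.univ : Set A) ⊆ {p, q, r} := fun a _ => by
      by_cases h1 : a = p
      · exact Or.inl h1
      by_cases h2 : a = q
      · exact Or.inr (Or.inl h2)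
      exact Or.inr (Or.inr (hc a h1 h2))
    have h3 : ENat.card A ≤ 3 := by
      rw [← Set.encard_univ]
      refine (Set.encard_le_encard hle).trans ?_
      refine (Set.encard_insert_le _ _).trans ?_
      have h2 : Set.encard ({q, r} : Set A) ≤ 2 := by
        refine (Set.encard_insert_le _ _).trans ?_
        rw [Set.encard_singleton]; norm_num
      calc Set.encard ({q, r} : Set A) + 1 ≤ 2 + 1 := add_le_add h2 le_rfl
        _ = 3 := by norm_num
    exact absurd hcard (not_lt.2 h3)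
  haveI := hA
  by_cases h2 : ∀ y ∈ A, y * y = 1
  · obtain ⟨d, hd1, hdx, -⟩ := hexists 1 ⟨x, hx⟩⁻¹ 1
    have h1 : x * d.1 ≠ 1 := fun h => hdx (Subtype.ext (eq_inv_of_mul_eq_one_right h))
    have := hua_mod hs hA hx hx1 d.2 (fun h => hd1 (Subtype.ext h)) h1
    rwa [mul_assoc, h2 _ d.2, mul_one] at this
  · push Not at h2
    obtain ⟨y₀, hy₀, hy₀1⟩ := h2
    have hsqinj : ∀ y z : A, y * y = z * z → y = z := by
      intro y z h
      have h1 : (y * z⁻¹) * (y * z⁻¹) = 1 := by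
        rw [mul_mul_mul_comm, h]
        group
      rcases elementaryAbelian_or_torsionFree hs hA with ⟨p, hp, hap⟩ | htf
      · by_cases hp2 : p = 2
        · exact absurd (by rw [← sq]; exact hp2 ▸ hap y₀ hy₀) hy₀1
        · have h3 : (y * z⁻¹ : A) ^ p = 1 := Subtype.ext (hap _ (y * z⁻¹ : A).2)
          obtain ⟨k, hk⟩ := hp.odd_of_ne_two hp2
          rw [hk, pow_succ, pow_mul, sq, h1, one_pow, one_mul] at h3
          exact mul_inv_eq_one.1 h3
      · by_contra hne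
        refine htf _ (y * z⁻¹ : A).2 (fun h => hne (mul_inv_eq_one.1 (Subtype.ext h))) ?_
        refine isOfFinOrder_iff_pow_eq_one.2 ⟨2, two_pos, ?_⟩
        rw [sq]
        exact congrArg Subtype.val h1
    obtain ⟨r, hr⟩ : ∃ r : A, ∀ a : A, a * a = (⟨x, hx⟩ : A)⁻¹ → a = r := by
      by_cases h : ∃ a : A, a * a = (⟨x, hx⟩ : A)⁻¹
      · obtain ⟨r, hr⟩ := h
        exact ⟨r, fun a ha => hsqinj a r (ha.trans hr.symm)⟩
      · exact ⟨1, fun a ha => absurd ⟨a, ha⟩ h⟩
    obtain ⟨a, ha1, hax, har⟩ := hexists 1 ⟨x, hx⟩⁻¹ r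
    set d : A := ⟨x, hx⟩ * a with hd
    have hd1 : d ≠ 1 := fun h => hax (eq_inv_of_mul_eq_one_right h)
    have had : a * d ≠ 1 := by
      intro h
      refine har (hr a (eq_inv_of_mul_eq_one_right ?_))
      rw [← h, hd]
      simp [mul_left_comm]
    have hne : ∀ {z : A}, z ≠ 1 → (z : G) ≠ 1 := fun hz h => hz (Subtype.ext h)
    have h3 := hua_mod hs hA a.2 (hne ha1) d.2 (hne hd1) (fun h => had (Subtype.ext h))
    have h4 := hua_mod hs hA d.2 (hne hd1) a.2 (hne ha1) (fun h => had (by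
      rw [mul_comm]; exact Subtype.ext h))
    have e0 : x = (a.1 * d.1 * d.1) * (d.1 * a.1 * a.1)⁻¹ :=
      congrArg Subtype.val (show (⟨x, hx⟩ : A) = (a * d * d) * (d * a * a)⁻¹ by
        rw [hd]; apply Additive.ofMul.injective; simp only [ofMul_mul, ofMul_inv]; abel)
    rw [e0]
    exact mul_mem h3 (inv_mem h4)

theorem rankOneDiagonal_symm (A B : Subgroup G) : rankOneDiagonal B A = rankOneDiagonal A B := by
  unfold rankOneDiagonal
  rw [sup_comm B A, inf_right_comm]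

theorem exists_swap (hs : IsSpecialRankOnePair A B) :
    ∃ m ∈ A ⊔ B, conjBy A m = B ∧ conjBy B m = A := by
  obtain ⟨a, ha, ha1⟩ := exists_mem_ne_one_of_ne_bot (left_ne_bot hs.1)
  obtain ⟨b, hp⟩ := exists_partner hs.1 ha ha1
  exact ⟨mu a b, mu_mem_sup hp, hp.conjBy_mu_left, hp.conjBy_mu_right hs⟩

/-- A special rank one group with `|A| > 3` is perfect. -/
theorem commutator_sup_eq (hs : IsSpecialRankOnePair A B) (hA : IsMulCommutative A)
    (hcard : 3 < ENat.card A) : ⁅A ⊔ B, A ⊔ B⁆ = A ⊔ B := by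
  have hAle : A ≤ ⁅A ⊔ B, A ⊔ B⁆ := by
    conv_lhs => rw [← commutator_diagonal_eq hs hA hcard]
    exact Subgroup.commutator_mono le_sup_left (inf_le_left.trans inf_le_left)
  obtain ⟨m, hm, hmA, hmB⟩ := exists_swap hs
  refine le_antisymm ?_ (sup_le hAle ?_)
  · exact Subgroup.commutator_le.2 fun x hx y hy => by
      rw [commutatorElement_def]
      exact mul_mem (mul_mem (mul_mem hx hy) (inv_mem hx)) (inv_mem hy)
  · refine (le_of_eq hmA.symm).trans ((conjBy_mono m hAle).trans (le_of_eq ?_))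
    rw [conjBy_commutator, conjBy_self_of_mem hm]

end Cfsg.Agent.Lib.RootSubgroups.RankOne
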