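import Mathlib
import Cfsg.Prelude.Def_RootSubgroups
import Cfsg.Agent.Lib.RootSubgroups.Inclusion
import Cfsg.Agent.Lib.RootSubgroups.SpecialPerfect

/-!
The quasisimplicity criterion for groups generated by abstract root subgroups.
-/

set_option autoImplicit false

namespace Cfsg.Agent.Lib.RootSubgroups.RootSet

open Cfsg Cfsg.Agent.Lib.RootSubgroups
open scoped commutatorElement

variable {G : Type*} [Group G] {S : Set (Subgroup G)} {A B C D E : Subgroup G}

/-- The hypotheses of the criterion, after passing to a class. -/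
structure Criterion (S : Set (Subgroup G)) : Prop where
  cls : IsRootSubgroupClass S
  nonisolated : ∀ A ∈ S, ¬ IsIsolatedIn (FAdj S) S A
  separated : ∀ A ∈ S, ∀ C ∈ S, A ≠ C → centralizingMembers S A ≠ centralizingMembers S C
  large : IsDegenerateRootSet S → ∀ A ∈ S, 3 < ENat.card A
  special : ∀ A ∈ S, ∀ B ∈ rankOnePartners S A, IsSpecialRankOnePair A B

theorem Criterion.of_connected (hS : IsRootSubgroupSet S) (h2 : ∃ A ∈ S, ∃ B ∈ S, A ≠ B)
    (h1 : IsConnectedFamily (FAdj S) S)
    (h2' : ∀ A ∈ S, ∀ C ∈ S, A ≠ C → centralizingMembers S A ≠ centralizingMembers S C)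
    (h3 : IsDegenerateRootSet S → ∀ A ∈ S, 3 < ENat.card A)
    (h4 : ∀ A ∈ S, ∀ B ∈ rankOnePartners S A, IsSpecialRankOnePair A B) : Criterion S := by
  refine ⟨⟨hS, connected_class h1 ?_⟩, fun A hA => connected_not_isolated h1 h2 hA, h2', h3, h4⟩
  obtain ⟨A, hA, -⟩ := h2
  exact ⟨A, hA⟩

/-- A normal subgroup containing one member is everything. -/
theorem eq_top_of_member_le (hS : IsRootSubgroupClass S) {N : Subgroup G} (hN : N.Normal)
    (hA : A ∈ S) (hle : A ≤ N) : N = ⊤ := by
  rw [eq_top_iff, ← hS.1.generates]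
  refine iSup₂_le fun E hE => ?_
  obtain ⟨g, rfl⟩ := hS.2.2 A hA E hE
  intro x hx
  rw [mem_conjBy] at hx
  have h1 := hN.conj_mem _ (hle hx) g
  simpa [mul_assoc] using h1

theorem Criterion.perfect_pair (h : Criterion S) (hd : IsDegenerateRootSet S) (hA : A ∈ S)
    (hB : B ∈ S) (hp : IsRankOnePair A B) : ⁅A ⊔ B, A ⊔ B⁆ = A ⊔ B :=
  RankOne.commutator_sup_eq (h.special A hA B ⟨hB, hp⟩) (h.cls.1.commutative A hA) (h.large hd A hA)

theorem Criterion.commutator_top (h : Criterion S) : commutator G = ⊤ := by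
  obtain ⟨A, hA⟩ := h.cls.2.1
  by_cases hd : IsDegenerateRootSet S
  · obtain ⟨B, hB, hp⟩ := exists_partner_of_not_isolated (h.nonisolated A hA) hA
    refine eq_top_of_member_le h.cls inferInstance hA ?_
    refine le_trans le_sup_left ((h.perfect_pair hd hA hB hp).symm.le.trans ?_)
    rw [commutator_def]
    exact Subgroup.commutator_mono le_top le_top
  · simp only [IsDegenerateRootSet, not_forall, not_not] at hd
    obtain ⟨X, hX, Y, hY, hc⟩ := hd
    refine eq_top_of_member_le h.cls inferInstance hc.1 ?_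
    rw [commutator_def]
    exact Subgroup.commutator_mono le_top le_top

theorem Criterion.le_normal_of_noncomm (h : Criterion S) {N : Subgroup G} (hN : N.Normal)
    (hA : A ∈ S) (hE : E ∈ S) (hne : ⁅A, E⁆ ≠ ⊥) (hle : E ≤ N ⊔ A) : N = ⊤ := by
  set π := QuotientGroup.mk' N
  have hker : π.ker = N := QuotientGroup.ker_mk' N
  have hEA : E.map π ≤ A.map π := by
    rw [Subgroup.map_le_iff_le_comap, Subgroup.comap_map_eq, hker, sup_comm]
    exact hle
  have hA0 : ⁅A.map π, A.map π⁆ = ⊥ := by
    rw [← Subgroup.map_commutator, commutator_self_eq_bot h.cls.1 hA, Subgroup.map_bot]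
  have hAE : ⁅A.map π, E.map π⁆ = ⊥ := eq_bot_iff.2 ((Subgroup.commutator_mono le_rfl hEA).trans hA0.le)
  rcases h.cls.1.pair A hA E hE with h1 | h1 | h1
  · exact absurd h1 hne
  · by_cases hd : IsDegenerateRootSet S
    · refine eq_top_of_member_le h.cls hN hA ?_
      have h2 := congrArg (Subgroup.map π) (h.perfect_pair hd hA hE h1)
      rw [Subgroup.map_commutator, Subgroup.map_sup, sup_eq_left.2 hEA, hA0] at h2
      rw [← hker]
      exact (Subgroup.map_eq_bot_iff _).1 h2.symm
    · simp only [IsDegenerateRootSet, not_forall, not_not] at hd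
      obtain ⟨X, hX, Y, hY, hc⟩ := hd
      have hl := commutator_mem_linePartners h.cls.1 hX (h.nonisolated X hX) hc
      obtain ⟨g, rfl⟩ := h.cls.2.2 X hX A hA
      obtain ⟨M, hM, hMl, hcy⟩ := exists_cycle h.cls.1 h.nonisolated hA hE h1
        (linePartners_conj h.cls.1 hl g)
      refine eq_top_of_member_le h.cls hN hcy.memC ?_
      rw [← hker, ← Subgroup.map_eq_bot_iff, eq_bot_iff, Subgroup.map_commutator]
      refine (Subgroup.commutator_mono le_rfl hEA).trans (le_of_eq ?_)
      rw [← Subgroup.map_commutator, commutator_eq_bot_comm.1 hMl.1.2.2, Subgroup.map_bot]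
  · refine eq_top_of_member_le h.cls hN h1.1 ?_
    rw [← hker, ← Subgroup.map_eq_bot_iff, Subgroup.map_commutator]
    exact hAE

theorem Criterion.normal (h : Criterion S) {N : Subgroup G} (hN : N.Normal) :
    N = ⊤ ∨ N ≤ Subgroup.center G := by
  have hS := h.cls.1
  by_cases hfix : ∀ n ∈ N, ∀ A ∈ S, conjBy A n = A
  · right
    have hAc : ∀ A ∈ S, A ≤ Subgroup.centralizer (N : Set G) := by
      intro A hA a ha
      obtain ⟨B, hB, hp⟩ := exists_partner_of_not_isolated (h.nonisolated A hA) hA
      refine Subgroup.mem_centralizer_iff.2 fun n hn => ?_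
      have h1 : n * a * n⁻¹ * a⁻¹ ∈ A := mul_mem (hfix n hn A hA ▸ conj_mem_conjBy ha) (inv_mem ha)
      have h2 : n * a * n⁻¹ * a⁻¹ ∈ N := by
        have := N.mul_mem hn (hN.conj_mem _ (N.inv_mem hn) a)
        simpa [mul_assoc] using this
      have h3 := RankOne.eq_one_of_conjBy_eq hp h1 (hfix _ h2 B hB)
      exact mul_inv_eq_iff_eq_mul.1 (mul_inv_eq_one.1 h3)
    intro n hn
    have htop : Subgroup.centralizer (N : Set G) = ⊤ := by
      rw [eq_top_iff, ← hS.generates]; exact iSup₂_le hAc
    exact Subgroup.mem_center_iff.2 fun g =>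
      (Subgroup.mem_centralizer_iff.1 (htop ▸ Subgroup.mem_top g) n hn).symm
  · left
    push Not at hfix
    obtain ⟨n, hn, A, hA, hne⟩ := hfix
    set E := conjBy A n with hE
    have hES : E ∈ S := hS.conj_mem A hA n
    by_cases hc : ⁅A, E⁆ = ⊥
    swap
    · refine h.le_normal_of_noncomm hN hA hES hc ?_
      exact conjBy_le_of_mem le_sup_right (Subgroup.mem_sup_left hn)
    have hnot : ¬ rankOnePartners S A ⊆ rankOnePartners S E := fun hsub => by
      obtain ⟨-, h1⟩ := pairSub_comm hS h.nonisolated hA hES hsub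
      exact h.separated A hA E hES hne.symm (Set.Subset.antisymm
        (commSub_iff.1 (h1.antisymm hS h.nonisolated hES hA)) (commSub_iff.1 h1))
    obtain ⟨D, ⟨hD, hp⟩, hDE⟩ := Set.not_subset.1 hnot
    obtain ⟨a, ha, ha1⟩ := exists_mem_ne_one_of_ne_bot (hS.ne_bot A hA)
    set e := n * a * n⁻¹ with he
    have heE : e ∈ E := conj_mem_conjBy ha
    have hea : e * a⁻¹ ∈ N := by
      have := N.mul_mem hn (hN.conj_mem _ (N.inv_mem hn) a)
      simpa [he, mul_assoc] using this
    have hce : e * a⁻¹ = a⁻¹ * e := (commute_of_commutator_eq_bot hc (inv_mem ha) heE).symm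
    set D' := conjBy D (e * a⁻¹) with hD'
    have hD'S : D' ∈ S := hS.conj_mem D hD _
    refine h.le_normal_of_noncomm hN hD hD'S (fun hcD => ?_)
      (conjBy_le_of_mem le_sup_right (Subgroup.mem_sup_left hea))
    have hXD : IsRankOnePair D (conjBy D a⁻¹) ∧ D ⊔ conjBy D a⁻¹ = A ⊔ D := RankOne.pair_of_mem hp
      (RankOne.mem_unipotentSubgroups_right hp) (RankOne.conjBy_mem_unipotentSubgroups
        (RankOne.mem_unipotentSubgroups_right hp) (Subgroup.mem_sup_left (inv_mem ha)))
      fun h' => ha1 (inv_eq_one.1 (RankOne.eq_one_of_conjBy_eq hp (inv_mem ha) h'.symm))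
    rcases hS.pair D hD E hES with h1 | h1 | h1
    · have hfix : conjBy D e = D := conjBy_self_of_mem_normalizer
        (Subgroup.centralizer_le_normalizer _
          (Subgroup.commutator_eq_bot_iff_le_centralizer.1 (commutator_eq_bot_comm.1 h1) heE))
      rw [hD', hce, conjBy_mul, hfix] at hcD
      exact rankOne_not_commute hXD.1 hcD
    · exact hDE ⟨hD, RankOne.symm h1⟩
    · set De := conjBy D e
      have hDe1 : ⁅De, D⁆ = ⊥ := conjBy_commute hS hD (commCase_symm h1) heE
      rw [hD', hce, conjBy_mul] at hcD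
      have hDe2 : ⁅De, conjBy D a⁆ = ⊥ := by
        rw [← commutator_conjBy_eq_bot (g := a⁻¹), conjBy_inv_conjBy, commutator_eq_bot_comm]
        exact hcD
      have hXa : IsRankOnePair D (conjBy D a) ∧ D ⊔ conjBy D a = A ⊔ D := RankOne.pair_of_mem hp
        (RankOne.mem_unipotentSubgroups_right hp) (RankOne.conjBy_mem_unipotentSubgroups
          (RankOne.mem_unipotentSubgroups_right hp) (Subgroup.mem_sup_left ha))
        fun h' => ha1 (RankOne.eq_one_of_conjBy_eq hp ha h'.symm)
      have hle : A ⊔ D ≤ Subgroup.centralizer (De : Set G) := by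
        rw [← hXa.2]
        exact sup_le (Subgroup.commutator_eq_bot_iff_le_centralizer.1 (commutator_eq_bot_comm.1 hDe1))
          (Subgroup.commutator_eq_bot_iff_le_centralizer.1 (commutator_eq_bot_comm.1 hDe2))
      have hAe : conjBy A e = A := conjBy_self_of_mem_normalizer
        (Subgroup.centralizer_le_normalizer _
          (Subgroup.commutator_eq_bot_iff_le_centralizer.1 (commutator_eq_bot_comm.1 hc) heE))
      have h2 : ⁅A, De⁆ = ⊥ :=
        Subgroup.commutator_eq_bot_iff_le_centralizer.2 (le_sup_left.trans hle)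
      rw [← hAe, commutator_conjBy_eq_bot] at h2
      exact rankOne_not_commute hp h2

end Cfsg.Agent.Lib.RootSubgroups.RootSet
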