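import Mathlib
import Cfsg.Agent.Lib.SL2.Basic
import Cfsg.Agent.Lib.LinGroup.Generation

/-!
The Steinberg presentation of `SL(2, F)`, `F` a finite field: two additive one-parameter families
`u`, `v` satisfying `w t * u s * (w t)⁻¹ = v (-(s / t ^ 2))` for `w t = u t * v (-t⁻¹) * u t`
extend to a homomorphism of `SL(2, F)`.
-/

set_option autoImplicit false

namespace Cfsg.Agent.Lib.RootSubgroups.SL2Lift

open Cfsg.Agent.Lib.SL2

variable {F : Type*} [Field F] {G : Type*} [Group G]

/-- The relations of the two one-parameter families. -/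
structure SteinbergPair (u v : F → G) : Prop where
  u_add : ∀ s t, u (s + t) = u s * u t
  v_add : ∀ s t, v (s + t) = v s * v t
  weyl_rel : ∀ t, t ≠ 0 → ∀ s,
    (u t * v (-t⁻¹) * u t) * u s * (u t * v (-t⁻¹) * u t)⁻¹ = v (-(s / t ^ 2))

/-- The element `w t`. -/
def w (u v : F → G) (t : F) : G := u t * v (-t⁻¹) * u t

/-- The element `h t`. -/
def hh (u v : F → G) (t : F) : G := w u v t * w u v (-1)

variable {u v : F → G}

theorem SteinbergPair.u_zero (P : SteinbergPair u v) : u 0 = 1 := by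
  have := P.u_add 0 0
  rw [add_zero] at this
  exact mul_eq_left.1 this.symm

theorem SteinbergPair.v_zero (P : SteinbergPair u v) : v 0 = 1 := by
  have := P.v_add 0 0
  rw [add_zero] at this
  exact mul_eq_left.1 this.symm

theorem SteinbergPair.u_neg (P : SteinbergPair u v) (s : F) : u (-s) = (u s)⁻¹ := by
  rw [eq_inv_iff_mul_eq_one, ← P.u_add, neg_add_cancel, P.u_zero]

theorem SteinbergPair.v_neg (P : SteinbergPair u v) (s : F) : v (-s) = (v s)⁻¹ := by
  rw [eq_inv_iff_mul_eq_one, ← P.v_add, neg_add_cancel, P.v_zero]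

theorem SteinbergPair.w_neg (P : SteinbergPair u v) (t : F) : w u v (-t) = (w u v t)⁻¹ := by
  simp [w, inv_neg, P.u_neg, P.v_neg, mul_assoc]

theorem SteinbergPair.w_mul_u (P : SteinbergPair u v) {t : F} (ht : t ≠ 0) (s : F) :
    w u v t * u s = v (-(s / t ^ 2)) * w u v t := by
  rw [← mul_inv_eq_iff_eq_mul]; exact P.weyl_rel t ht s

theorem SteinbergPair.w_mul_v (P : SteinbergPair u v) {t : F} (ht : t ≠ 0) (s : F) :
    w u v t * v s = u (-(t ^ 2 * s)) * w u v t := by
  have h := P.w_mul_u (neg_ne_zero.2 ht) (-(t ^ 2 * s))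
  rw [P.w_neg, show -(-(t ^ 2 * s) / (-t) ^ 2) = s by field_simp] at h
  rw [eq_mul_inv_iff_mul_eq] at h
  calc w u v t * v s = w u v t * ((w u v t)⁻¹ * u (-(t ^ 2 * s)) * w u v t) := by rw [h]
    _ = u (-(t ^ 2 * s)) * w u v t := by simp [mul_assoc]

theorem SteinbergPair.w_eq' (P : SteinbergPair u v) {t : F} (ht : t ≠ 0) :
    w u v t = v (-t⁻¹) * u t * v (-t⁻¹) := by
  have h1 : w u v t * (u t * v (-t⁻¹) * u t) = v (-t⁻¹) * u t * v (-t⁻¹) * w u v t := by
    rw [← mul_assoc, ← mul_assoc, P.w_mul_u ht, mul_assoc (v _) _ (v _), P.w_mul_v ht]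
    rw [show -(t / t ^ 2) = -t⁻¹ by field_simp, show -(t ^ 2 * -t⁻¹) = t by field_simp]
    simp only [mul_assoc]
    rw [P.w_mul_u ht, show -(t / t ^ 2) = -t⁻¹ by field_simp]
  exact mul_right_cancel h1

theorem SteinbergPair.u_eq (P : SteinbergPair u v) {t : F} (ht : t ≠ 0) :
    u t = v t⁻¹ * w u v t * v t⁻¹ := by
  rw [P.w_eq' ht, P.v_neg]; simp [mul_assoc]

theorem SteinbergPair.v_eq (P : SteinbergPair u v) {z : F} (hz : z ≠ 0) :
    v z = u z⁻¹ * w u v (-z⁻¹) * u z⁻¹ := by
  simp [w, P.u_neg, inv_neg, mul_assoc]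

theorem SteinbergPair.hh_one (P : SteinbergPair u v) : hh u v 1 = 1 := by
  rw [hh, P.w_neg, mul_inv_cancel]

theorem SteinbergPair.w_eq_hh (P : SteinbergPair u v) (t : F) :
    w u v t = hh u v t * w u v 1 := by
  rw [hh, P.w_neg, inv_mul_cancel_right]

theorem SteinbergPair.hh_mul_u (P : SteinbergPair u v) {t : F} (ht : t ≠ 0) (s : F) :
    hh u v t * u s = u (t ^ 2 * s) * hh u v t := by
  rw [hh, mul_assoc, P.w_mul_u (neg_ne_zero.2 one_ne_zero), ← mul_assoc, P.w_mul_v ht, mul_assoc]
  congr 2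
  field_simp

theorem SteinbergPair.hh_mul_v (P : SteinbergPair u v) {t : F} (ht : t ≠ 0) (s : F) :
    hh u v t * v s = v (s / t ^ 2) * hh u v t := by
  rw [hh, mul_assoc, P.w_mul_v (neg_ne_zero.2 one_ne_zero), ← mul_assoc, P.w_mul_u ht, mul_assoc]
  congr 2
  field_simp

theorem SteinbergPair.hh_mul_w (P : SteinbergPair u v) {t x : F} (ht : t ≠ 0) :
    hh u v t * w u v x = w u v (t ^ 2 * x) * hh u v t := by
  have e : -(t ^ 2 * x)⁻¹ = -x⁻¹ / t ^ 2 := by field_simp
  simp only [w, e]
  rw [← mul_assoc, ← mul_assoc, P.hh_mul_u ht, mul_assoc (u _) (hh u v t), P.hh_mul_v ht,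
    ← mul_assoc, mul_assoc, P.hh_mul_u ht, ← mul_assoc]

theorem SteinbergPair.w_one_mul_w (P : SteinbergPair u v) {x : F} (hx : x ≠ 0) :
    w u v 1 * w u v x = w u v x⁻¹ * w u v 1 := by
  rw [P.w_eq' (inv_ne_zero hx)]
  show w u v 1 * (u x * v (-x⁻¹) * u x) = _
  rw [← mul_assoc, ← mul_assoc, P.w_mul_u one_ne_zero, mul_assoc (v _) (w u v 1),
    P.w_mul_v one_ne_zero, ← mul_assoc, mul_assoc, P.w_mul_u one_ne_zero, ← mul_assoc]
  norm_num

theorem SteinbergPair.w_one_mul_hh (P : SteinbergPair u v) {x : F} (hx : x ≠ 0) :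
    w u v 1 * hh u v x = hh u v x⁻¹ * w u v 1 := by
  rw [hh, ← mul_assoc, P.w_one_mul_w hx, P.w_eq_hh x⁻¹, P.w_neg, mul_inv_cancel_right]

theorem SteinbergPair.hh_inv (P : SteinbergPair u v) {x : F} (hx : x ≠ 0) :
    (hh u v x)⁻¹ = hh u v (-x⁻¹) * (w u v 1 * w u v 1) := by
  rw [hh, mul_inv_rev, P.w_neg, inv_inv, ← P.w_neg, P.w_one_mul_w (neg_ne_zero.2 hx),
    P.w_eq_hh (-x)⁻¹, inv_neg, mul_assoc]

/-- The Steinberg symbol `{t, 1 - t}` is trivial. -/
theorem SteinbergPair.hh_symbol (P : SteinbergPair u v) {t s : F} (ht : t ≠ 0) (hs : s ≠ 0)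
    (hts : t + s = 1) : hh u v s * hh u v t = hh u v (t * s) := by
  have hts0 : t * s ≠ 0 := mul_ne_zero ht hs
  have key : w u v t * w u v (-(t * s)) * w u v s = w u v 1 := by
    have hu : u 1 = v 1 * (w u v t * w u v (-(t * s)) * w u v s) * v 1 := by
      have h1 : u 1 = v t⁻¹ * (w u v t * u (t * s)) * w u v (-(t * s)) *
          (u (t * s) * w u v s) * v s⁻¹ := by
        rw [← hts, P.u_add, P.u_eq ht, P.u_eq hs]
        simp only [mul_assoc]
        rw [← mul_assoc (v t⁻¹) (v s⁻¹), ← P.v_add,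
          show t⁻¹ + s⁻¹ = (t * s)⁻¹ by field_simp; linear_combination hts,
          P.v_eq (inv_ne_zero hts0), inv_inv]
        simp only [mul_assoc]
      have h2 : u (t * s) * w u v s = w u v s * v (-(t / s)) := by
        rw [P.w_mul_v hs]; congr 2; field_simp
      rw [h1, P.w_mul_u ht, h2]
      simp only [← mul_assoc, ← P.v_add]
      rw [show t⁻¹ + -(t * s / t ^ 2) = 1 by field_simp; linear_combination (-1 : F) * hts]
      simp only [mul_assoc, ← P.v_add]
      rw [show -(t / s) + s⁻¹ = 1 by field_simp; linear_combination (-1 : F) * hts]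
    have hu' : u 1 = v 1 * w u v 1 * v 1 := by simpa using P.u_eq (one_ne_zero (α := F))
    exact mul_left_cancel (mul_right_cancel (hu.symm.trans hu'))
  have h3 : hh u v t * (hh u v (t * s))⁻¹ * hh u v s = 1 := by
    rw [P.w_eq_hh t, P.w_eq_hh (-(t * s)), P.w_eq_hh s] at key
    have e : hh u v t * w u v 1 * (hh u v (-(t * s)) * w u v 1) * (hh u v s * w u v 1)
        = hh u v t * hh u v (-(t * s))⁻¹ * (w u v 1 * w u v 1) * hh u v s * w u v 1 := by
      have h0 := P.w_one_mul_hh (neg_ne_zero.2 hts0)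
      calc _ = hh u v t * (w u v 1 * hh u v (-(t * s))) * w u v 1 * hh u v s * w u v 1 := by
            simp only [mul_assoc]
        _ = _ := by rw [h0]; simp only [mul_assoc]
    rw [e, mul_eq_right] at key
    rw [P.hh_inv hts0, ← key, inv_neg]
    simp only [mul_assoc]
  have h4 : (hh u v (t * s))⁻¹ * (hh u v s * hh u v t) = 1 := by
    rw [mul_assoc, mul_eq_one_comm, mul_assoc] at h3
    exact h3
  exact (inv_mul_eq_one.1 h4).symm

/-- `h s * h t` and `h (s t)` differ by a central element of `⟨u, v⟩`; hence the `h`'s commute when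
the multiplicative group is cyclic. -/
theorem SteinbergPair.hh_comm [Finite F] (P : SteinbergPair u v) {s t : F} (hs : s ≠ 0)
    (ht : t ≠ 0) : Commute (hh u v s) (hh u v t) := by
  obtain ⟨g, hg⟩ := IsCyclic.exists_generator (α := Fˣ)
  set Z : Subgroup G := Subgroup.centralizer (Set.range u ∪ Set.range v)
  have hcentral : ∀ z ∈ Z, ∀ x : F, Commute z (hh u v x) := by
    intro z hz x
    have hu : ∀ y, Commute z (u y) := fun y =>
      ((Subgroup.mem_centralizer_iff.1 hz) _ (Or.inl ⟨y, rfl⟩)).symm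
    have hv : ∀ y, Commute z (v y) := fun y =>
      ((Subgroup.mem_centralizer_iff.1 hz) _ (Or.inr ⟨y, rfl⟩)).symm
    unfold hh w
    exact (((hu _).mul_right (hv _)).mul_right (hu _)).mul_right
      (((hu _).mul_right (hv _)).mul_right (hu _))
  have hstep : ∀ {x : F}, x ≠ 0 → (hh u v (g * x))⁻¹ * (hh u v g * hh u v x) ∈ Z := by
    intro x hx
    have hgx : (g : F) * x ≠ 0 := mul_ne_zero g.ne_zero hx
    refine Subgroup.mem_centralizer_iff.2 ?_
    rintro _ (⟨y, rfl⟩ | ⟨y, rfl⟩)
    · have e : hh u v g * hh u v x * u y = u (((g : F) * x) ^ 2 * y) * (hh u v g * hh u v x) := by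
        rw [mul_assoc, P.hh_mul_u hx, ← mul_assoc, P.hh_mul_u g.ne_zero, mul_assoc]
        congr 2; ring
      calc u y * ((hh u v (g * x))⁻¹ * (hh u v g * hh u v x))
          = (hh u v (g * x))⁻¹ * (hh u v (g * x) * u y) * (hh u v (g * x))⁻¹ *
              (hh u v g * hh u v x) := by simp [mul_assoc]
        _ = (hh u v (g * x))⁻¹ * (hh u v g * hh u v x * u y) := by
              rw [P.hh_mul_u hgx, e]; simp [mul_assoc]
        _ = _ := by simp [mul_assoc]
    · have e : hh u v g * hh u v x * v y = v (y / ((g : F) * x) ^ 2) * (hh u v g * hh u v x) := by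
        rw [mul_assoc, P.hh_mul_v hx, ← mul_assoc, P.hh_mul_v g.ne_zero, mul_assoc]
        congr 2; field_simp
      calc v y * ((hh u v (g * x))⁻¹ * (hh u v g * hh u v x))
          = (hh u v (g * x))⁻¹ * (hh u v (g * x) * v y) * (hh u v (g * x))⁻¹ *
              (hh u v g * hh u v x) := by simp [mul_assoc]
        _ = (hh u v (g * x))⁻¹ * (hh u v g * hh u v x * v y) := by
              rw [P.hh_mul_v hgx, e]; simp [mul_assoc]
        _ = _ := by simp [mul_assoc]
  have hgen : ∀ n : ℕ, ∃ z ∈ Z, hh u v ((g : F) ^ n) = hh u v g ^ n * z := by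
    intro n
    induction n with
    | zero => exact ⟨1, one_mem _, by simp [P.hh_one]⟩
    | succ n ih =>
      obtain ⟨z, hz, he⟩ := ih
      set z' := (hh u v (g * (g : F) ^ n))⁻¹ * (hh u v g * hh u v ((g : F) ^ n)) with hz'
      have hz'Z : z' ∈ Z := hstep (pow_ne_zero n g.ne_zero)
      refine ⟨z * z'⁻¹, mul_mem hz (inv_mem hz'Z), ?_⟩
      rw [pow_succ' (g : F), pow_succ' (hh u v g), mul_assoc, ← mul_assoc _ z, ← he, ← mul_assoc,
        hz']
      simp [mul_assoc]
  have hpow : ∀ {x : F}, x ≠ 0 → ∃ n : ℕ, ∃ z ∈ Z, hh u v x = hh u v g ^ n * z := by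
    intro x hx
    obtain ⟨n, hn⟩ := (mem_powers_iff_mem_zpowers).2 (hg (Units.mk0 x hx))
    obtain ⟨z, hz, he⟩ := hgen n
    refine ⟨n, z, hz, ?_⟩
    rw [← he]
    have hn' : g ^ n = Units.mk0 x hx := hn
    rw [← Units.val_pow_eq_pow_val, hn', Units.val_mk0]
  obtain ⟨n, z, hz, hes⟩ := hpow hs
  obtain ⟨m, z', hz', het⟩ := hpow ht
  rw [hes, het]
  have h1 : Commute z (hh u v g) := hcentral z hz g
  have h2 : Commute z' (hh u v g) := hcentral z' hz' g
  have h3 : Commute z z' := by
    have := hcentral z hz t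
    rw [het] at this
    have h4 : Commute z ((hh u v g ^ m)⁻¹ * (hh u v g ^ m * z')) :=
      (h1.pow_right m).inv_right.mul_right this
    rwa [inv_mul_cancel_left] at h4
  exact (((Commute.refl _).pow_pow n m).mul_right (h2.pow_right n).symm).mul_left
    ((h1.pow_right m).mul_right h3)

theorem SteinbergPair.hh_mul [Finite F] (P : SteinbergPair u v) {x y : F} (hx : x ≠ 0)
    (hy : y ≠ 0) : hh u v (x * y) = hh u v x * hh u v y := by
  have hsq : ∀ {t x : F}, t ≠ 0 → x ≠ 0 → hh u v (t ^ 2 * x) = hh u v (t ^ 2) * hh u v x := by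
    intro t x ht hx
    have h1 : hh u v t * hh u v x = hh u v (t ^ 2 * x) * (hh u v (t ^ 2))⁻¹ * hh u v t := by
      conv_lhs => rw [show hh u v x = w u v x * w u v (-1) from rfl, ← mul_assoc, P.hh_mul_w ht,
        mul_assoc, P.hh_mul_w ht, mul_neg_one, P.w_neg (t ^ 2), P.w_eq_hh (t ^ 2 * x),
        P.w_eq_hh (t ^ 2)]
      simp [mul_assoc]
    rw [(P.hh_comm ht hx).eq, mul_left_inj, eq_mul_inv_iff_mul_eq,
      (P.hh_comm hx (pow_ne_zero 2 ht)).eq] at h1
    exact h1.symm
  have hany : ∀ {x y : F}, IsSquare x → x ≠ 0 → y ≠ 0 → hh u v (x * y) = hh u v x * hh u v y := by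
    rintro x y ⟨r, rfl⟩ hx hy
    rw [← sq]
    exact hsq (fun h => hx (by simp [h])) hy
  by_cases hxs : IsSquare x
  · exact hany hxs hx hy
  by_cases hys : IsSquare y
  · rw [mul_comm, hany hys hy hx, (P.hh_comm hy hx).eq]
  have hchar : ringChar F ≠ 2 := fun h => hxs (FiniteField.isSquare_of_char_two h x)
  haveI := Fintype.ofFinite F
  have hprod : ∀ {a b : F}, ¬ IsSquare a → ¬ IsSquare b → IsSquare (a * b) := by
    classical
    intro a b ha hb
    have ha0 : a ≠ 0 := fun h => ha (by simp [h])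
    have hb0 : b ≠ 0 := fun h => hb (by simp [h])
    rw [← quadraticChar_one_iff_isSquare (mul_ne_zero ha0 hb0), map_mul,
      quadraticChar_neg_one_iff_not_isSquare.2 ha, quadraticChar_neg_one_iff_not_isSquare.2 hb]
    norm_num
  -- two non-squares with sum one
  obtain ⟨t, hts, hss⟩ : ∃ t : F, ¬ IsSquare t ∧ ¬ IsSquare (1 - t) := by
    classical
    by_contra hc
    push Not at hc
    set N := Finset.univ.filter (fun t : F => ¬ IsSquare t) with hN
    set S := Finset.univ.filter (fun t : F => IsSquare t ∧ t ≠ 0) with hS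
    have hmap : (N.image (fun t => x⁻¹ * t)) ⊆ S := by
      intro z hz
      obtain ⟨t, ht, rfl⟩ := Finset.mem_image.1 hz
      have ht' := (Finset.mem_filter.1 ht).2
      refine Finset.mem_filter.2 ⟨Finset.mem_univ _, hprod ?_ ht', mul_ne_zero (inv_ne_zero hx)
        fun h => ht' (by simp [h])⟩
      rwa [isSquare_inv]
    have hmap' : (S.image (fun t => x * t)) ⊆ N := by
      intro z hz
      obtain ⟨t, ht, rfl⟩ := Finset.mem_image.1 hz
      obtain ⟨-, ⟨r, rfl⟩, hr⟩ := Finset.mem_filter.1 ht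
      refine Finset.mem_filter.2 ⟨Finset.mem_univ _, fun ⟨q, hq⟩ => hxs ⟨q / r, ?_⟩⟩
      have : r ≠ 0 := fun h => hr (by simp [h])
      field_simp
      linear_combination hq
    have hinj : ∀ (c : F), c ≠ 0 → Function.Injective (fun t => c * t) := fun c hc a b h =>
      mul_left_cancel₀ hc h
    have hle1 := Finset.card_le_card hmap
    rw [Finset.card_image_of_injective _ (hinj _ (inv_ne_zero hx))] at hle1
    have hle2 := Finset.card_le_card hmap'
    rw [Finset.card_image_of_injective _ (hinj _ hx)] at hle2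
    have hlt : (N.image (fun t => 1 - t)) ⊂ S := by
      refine Finset.ssubset_iff_subset_ne.2 ⟨?_, ?_⟩
      · intro z hz
        obtain ⟨t, ht, rfl⟩ := Finset.mem_image.1 hz
        have ht' := (Finset.mem_filter.1 ht).2
        exact Finset.mem_filter.2 ⟨Finset.mem_univ _, hc t ht',
          fun h => ht' (by rw [sub_eq_zero] at h; simp [← h])⟩
      · intro he
        have h1 : (1 : F) ∈ S := Finset.mem_filter.2 ⟨Finset.mem_univ _, IsSquare.one, one_ne_zero⟩
        rw [← he] at h1
        obtain ⟨t, ht, h1⟩ := Finset.mem_image.1 h1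
        exact (Finset.mem_filter.1 ht).2 (by simp at h1; simp [h1])
    have h3 := Finset.card_lt_card hlt
    rw [Finset.card_image_of_injective _ (fun a b h => sub_right_injective h)] at h3
    omega
  have ht0 : t ≠ 0 := fun h => hts (by simp [h])
  have hs0 : 1 - t ≠ 0 := fun h => hss (by simp [h])
  have hxt : IsSquare (x * t⁻¹) := hprod hxs (by rwa [isSquare_inv])
  have hys' : IsSquare (y * (1 - t)⁻¹) := hprod hys (by rwa [isSquare_inv])
  have hxt0 : x * t⁻¹ ≠ 0 := mul_ne_zero hx (inv_ne_zero ht0)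
  have hys0 : y * (1 - t)⁻¹ ≠ 0 := mul_ne_zero hy (inv_ne_zero hs0)
  have e1 : hh u v x = hh u v (x * t⁻¹) * hh u v t := by
    rw [← hany hxt hxt0 ht0, mul_assoc, inv_mul_cancel₀ ht0, mul_one]
  have e2 : hh u v y = hh u v (y * (1 - t)⁻¹) * hh u v (1 - t) := by
    rw [← hany hys' hys0 hs0, mul_assoc, inv_mul_cancel₀ hs0, mul_one]
  have e3 : hh u v (x * y)
      = hh u v (x * t⁻¹) * (hh u v (y * (1 - t)⁻¹) * (hh u v t * hh u v (1 - t))) := by
    rw [(P.hh_comm ht0 hs0).eq, P.hh_symbol ht0 hs0 (by ring),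
      ← hany hys' hys0 (mul_ne_zero ht0 hs0),
      ← hany hxt hxt0 (mul_ne_zero hys0 (mul_ne_zero ht0 hs0))]
    congr 1
    field_simp
  rw [e1, e2, e3]
  simp only [← mul_assoc]
  rw [mul_assoc (hh u v (x * t⁻¹)) _ (hh u v t), ← (P.hh_comm ht0 hys0).eq]
  simp only [mul_assoc]

open Classical in
/-- Bruhat normal form. -/
noncomputable def liftFun (u v : F → G) (g : SLtwo F) : G :=
  if g 1 0 = 0 then hh u v (g 0 0) * u (g 0 1 / g 0 0)
  else u (g 0 0 / g 1 0) * w u v (-(g 1 0)⁻¹) * u (g 1 1 / g 1 0)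

theorem SteinbergPair.liftFun_mul_upper (P : SteinbergPair u v) (g : SLtwo F) (s : F) :
    liftFun u v (g * upper s) = liftFun u v g * u s := by
  have hd := det_entries g
  by_cases hc : g 1 0 = 0
  · have ha : g 0 0 ≠ 0 := fun h => by simp [h, hc] at hd
    rw [liftFun, liftFun, if_pos (by simp [mul_10, hc]), if_pos hc, mul_assoc, ← P.u_add]
    simp only [mul_00, mul_01, upper_00, upper_01, upper_10, upper_11, mul_one, mul_zero, add_zero]
    congr 2
    field_simp
    ring
  · rw [liftFun, liftFun, if_neg (by simpa [mul_10] using hc), if_neg hc, mul_assoc (_ * _),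
      ← P.u_add]
    simp only [mul_00, mul_10, mul_11, upper_00, upper_01, upper_10, upper_11, mul_one, mul_zero,
      add_zero]
    congr 2
    field_simp
    ring

theorem SteinbergPair.liftFun_mul_weyl [Finite F] (P : SteinbergPair u v) (g : SLtwo F) :
    liftFun u v (g * weyl) = liftFun u v g * w u v 1 := by
  have hd := det_entries g
  have e00 : (g * (weyl : SLtwo F) : SLtwo F) 0 0 = -g 0 1 := by simp [mul_00]
  have e01 : (g * (weyl : SLtwo F) : SLtwo F) 0 1 = g 0 0 := by simp [mul_01]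
  have e10 : (g * (weyl : SLtwo F) : SLtwo F) 1 0 = -g 1 1 := by simp [mul_10]
  have e11 : (g * (weyl : SLtwo F) : SLtwo F) 1 1 = g 1 0 := by simp [mul_11]
  have hw : w u v 1 * w u v 1 = hh u v (-1) := by
    have h1 : hh u v (-1 * -1) = hh u v (-1) * hh u v (-1) :=
      P.hh_mul (neg_ne_zero.2 one_ne_zero) (neg_ne_zero.2 one_ne_zero)
    rw [neg_one_mul, neg_neg, P.hh_one] at h1
    rw [← inv_eq_of_mul_eq_one_left h1.symm, hh, mul_inv_rev, P.w_neg, inv_inv]
  rw [liftFun, liftFun, e00, e01, e10, e11]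
  by_cases hc : g 1 0 = 0
  · have ha : g 0 0 ≠ 0 := fun h => by simp [h, hc] at hd
    rw [hc, mul_zero, sub_zero] at hd
    have hd' : g 1 1 = (g 0 0)⁻¹ := eq_inv_of_mul_eq_one_right hd
    rw [if_neg (by simp [hd', ha]), if_pos hc, hc, zero_div, P.u_zero, mul_one, P.hh_mul_u ha,
      mul_assoc, ← P.w_eq_hh, hd']
    congr 2 <;> field_simp
  · by_cases hd0 : g 1 1 = 0
    · rw [hd0, mul_zero, zero_sub] at hd
      have hb : g 0 1 = -(g 1 0)⁻¹ := by field_simp; linear_combination (-1 : F) * hd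
      rw [if_pos (by simp [hd0]), if_neg hc, hd0, zero_div, P.u_zero, mul_one, hb, neg_neg,
        mul_assoc, P.w_eq_hh (-(g 1 0)⁻¹), mul_assoc, hw,
        ← P.hh_mul (by simp [hc]) (by simp), mul_neg_one, neg_neg, P.hh_mul_u (inv_ne_zero hc)]
      congr 2
      field_simp
    · rw [if_neg (by simp [hd0]), if_neg hc]
      set a := g 0 0
      set b := g 0 1
      set c := g 1 0
      set d := g 1 1
      have hy : d / c ≠ 0 := div_ne_zero hd0 hc
      have hv : v (-(d / c)) = u (-(c / d)) * w u v (c / d) * u (-(c / d)) := by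
        rw [P.v_eq (neg_ne_zero.2 hy), inv_neg, inv_div, neg_neg]
      have e : u (d / c) * w u v 1 = w u v 1 * v (-(d / c)) := by
        rw [P.w_mul_v one_ne_zero]; congr 2; ring
      calc u (-b / -d) * w u v (-(-d)⁻¹) * u (c / -d)
          = u (a / c + (c⁻¹) ^ 2 * -(c / d)) * w u v d⁻¹ * u (-(c / d)) := by
            congr 2
            · congr 1
              field_simp
              linear_combination (-1 : F) * hd
            · rw [inv_neg, neg_neg]
            · rw [div_neg]
        _ = u (a / c) * (hh u v c⁻¹ * u (-(c / d))) * hh u v (c / d) * w u v 1 *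
              u (-(c / d)) := by
            rw [P.hh_mul_u (inv_ne_zero hc), P.u_add, P.w_eq_hh d⁻¹,
              show (d⁻¹ : F) = c⁻¹ * (c / d) by field_simp,
              P.hh_mul (inv_ne_zero hc) (div_ne_zero hc hd0)]
            simp only [mul_assoc]
        _ = u (a / c) * hh u v c⁻¹ * v (-(d / c)) := by
            rw [hv, P.w_eq_hh (c / d)]; simp only [mul_assoc]
        _ = u (a / c) * (w u v (-c⁻¹) * w u v 1) * v (-(d / c)) := by
            rw [P.w_eq_hh (-c⁻¹), mul_assoc (hh u v _), hw,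
              ← P.hh_mul (by simp [hc]) (by simp), mul_neg_one, neg_neg]
        _ = _ := by rw [mul_assoc _ (u (d / c)), e]; simp only [mul_assoc]

/-- The homomorphism `SL(2, F) →* G`. -/
theorem exists_hom [Finite F] (P : SteinbergPair u v) :
    ∃ φ : SLtwo F →* G, (∀ t, φ (upper t) = u t) ∧ (∀ t, φ (lower t) = v t) := by
  have h1 : liftFun u v (1 : SLtwo F) = 1 := by
    simp [liftFun, P.hh_one, P.u_zero]
  let K : Subgroup (SLtwo F) :=
    { carrier := {x | ∀ g, liftFun u v (g * x) = liftFun u v g * liftFun u v x}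
      one_mem' := fun g => by simp [h1]
      mul_mem' := fun {x y} hx hy g => by rw [← mul_assoc, hy, hx, hy, mul_assoc]
      inv_mem' := fun {x} hx g => by
        have e1 := hx (g * x⁻¹)
        have e2 := hx x⁻¹
        rw [inv_mul_cancel_right] at e1
        rw [inv_mul_cancel, h1] at e2
        rw [e1, mul_assoc, mul_eq_one_comm.1 e2.symm, mul_one] }
  have hup : ∀ t, liftFun u v (upper t : SLtwo F) = u t := fun t => by
    have := P.liftFun_mul_upper 1 t
    rwa [h1, one_mul, one_mul] at this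
  have hwe : liftFun u v (weyl : SLtwo F) = w u v 1 := by
    have := P.liftFun_mul_weyl 1
    rwa [h1, one_mul, one_mul] at this
  have hKu : ∀ t, (upper t : SLtwo F) ∈ K := fun t g => by rw [P.liftFun_mul_upper, hup]
  have hKw : (weyl : SLtwo F) ∈ K := fun g => by rw [P.liftFun_mul_weyl, hwe]
  have hlow : ∀ t, (lower t : SLtwo F) = weyl * upper (-t) * weyl⁻¹ := fun t => by
    rw [weyl_conj_upper, neg_neg]
  have htop : K = ⊤ := by
    refine Cfsg.Agent.Lib.LinGroup.eq_top_of_transvection_mem K fun i j hij c => ?_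
    fin_cases i <;> fin_cases j
    · exact absurd rfl hij
    · have e : Matrix.SpecialLinearGroup.transvection hij c = upper c := by
        refine ext_entries ?_ ?_ ?_ ?_ <;>
          simp [Matrix.SpecialLinearGroup.transvection, Matrix.transvection]
      rw [e]; exact hKu c
    · have e : Matrix.SpecialLinearGroup.transvection hij c = lower c := by
        refine ext_entries ?_ ?_ ?_ ?_ <;>
          simp [Matrix.SpecialLinearGroup.transvection, Matrix.transvection]
      rw [e, hlow]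
      exact mul_mem (mul_mem hKw (hKu _)) (inv_mem hKw)
    · exact absurd rfl hij
  have hall : ∀ x : SLtwo F, x ∈ K := fun x => htop ▸ Subgroup.mem_top x
  let φ : SLtwo F →* G :=
    { toFun := liftFun u v, map_one' := h1, map_mul' := fun g x => hall x g }
  refine ⟨φ, hup, fun t => ?_⟩
  rw [hlow, map_mul, map_mul, map_inv]
  show liftFun u v weyl * liftFun u v (upper (-t)) * (liftFun u v weyl)⁻¹ = v t
  rw [hwe, hup, P.w_mul_u one_ne_zero, mul_inv_cancel_right]
  simp

end Cfsg.Agent.Lib.RootSubgroups.SL2Lift
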