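import Mathlib
import Cfsg.Prelude.Def_RootSubgroups
import Cfsg.Agent.Lib.RootSubgroups.TransvectionPairs
import Cfsg.Agent.Lib.SLTransv.Conj
import Cfsg.Agent.Lib.LinGroup.Generation

/-!
The transvections of `SL(n + 3, k)`.
-/

set_option autoImplicit false

namespace Cfsg.Agent.Lib.RootSubgroups.SLClass

open Cfsg Cfsg.Agent.Lib.RootSubgroups Matrix

variable {k : Type*} [Field k] {n : ℕ}

local notation "SL" => Matrix.SpecialLinearGroup (Fin (n + 3)) k
local notation "Mat" => Matrix (Fin (n + 3)) (Fin (n + 3)) k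

/-- The coercion to matrices. -/
def coeHom : SL →* Mat where
  toFun g := g.1
  map_one' := rfl
  map_mul' _ _ := rfl

theorem coeHom_injective : Function.Injective (coeHom : SL →* Mat) := fun _ _ h => Subtype.ext h

theorem transvection_eq_tv (i j : Fin (n + 3)) (c : k) :
    Matrix.transvection i j c = Transv.tv (Pi.single i 1) (Pi.single j 1) c := by
  ext a b
  simp only [Matrix.transvection, Transv.tv, Matrix.add_apply, Matrix.smul_apply, vecMulVec_apply,
    Matrix.single_apply, Pi.single_apply, smul_eq_mul]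
  by_cases h1 : i = a <;> by_cases h2 : j = b <;> simp [h1, h2, Ne.symm]

theorem dot_single {i j : Fin (n + 3)} (h : i ≠ j) :
    (Pi.single j (1 : k) : Fin (n + 3) → k) ⬝ᵥ Pi.single i 1 = 0 := by
  simp [h.symm]

theorem single_ne_zero' (i : Fin (n + 3)) : (Pi.single i (1 : k) : Fin (n + 3) → k) ≠ 0 := fun h => by
  simpa using congrFun h i

theorem det_tv {p φ : Fin (n + 3) → k} (h : φ ⬝ᵥ p = 0) (c : k) : (Transv.tv p φ c).det = 1 := by
  have e : c • vecMulVec p φ = replicateCol Unit p * replicateRow Unit (c • φ) := by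
    rw [← vecMulVec_eq, vecMulVec_smul]
  rw [Transv.tv, e, det_one_add_replicateCol_mul_replicateRow, smul_dotProduct, h, smul_zero, add_zero]

/-- The transvection as an element of `SL`. -/
def elem {p φ : Fin (n + 3) → k} (h : φ ⬝ᵥ p = 0) (c : k) : SL := ⟨Transv.tv p φ c, det_tv h c⟩

theorem isTransvection_tv {p φ : Fin (n + 3) → k} (h : φ ⬝ᵥ p = 0) (hp : p ≠ 0) (hφ : φ ≠ 0) :
    Cfsg.IsTransvection (Transv.tv p φ 1) := by
  have e : Transv.tv p φ 1 - 1 = vecMulVec p φ := by simp [Transv.tv]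
  rw [Cfsg.IsTransvection, e]
  refine ⟨le_antisymm (rank_vecMulVec_le p φ) (Nat.one_le_iff_ne_zero.2 fun h0 => ?_), Transv.vmv_sq h⟩
  rw [Matrix.rank, Submodule.finrank_eq_zero, LinearMap.range_eq_bot] at h0
  exact Transv.vmv_ne_zero hp hφ
    (Matrix.toLin'.map_eq_zero_iff.1 (by rwa [Matrix.toLin'_apply']))

/-- All transvections are conjugate. -/
theorem exists_conj {p φ q ψ : Fin (n + 3) → k} (h : φ ⬝ᵥ p = 0) (hp : p ≠ 0) (hφ : φ ≠ 0)
    (h' : ψ ⬝ᵥ q = 0) (hq : q ≠ 0) (hψ : ψ ≠ 0) :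
    ∃ g : SL, ∀ c, coeHom g * Transv.tv q ψ c * coeHom g⁻¹ = Transv.tv p φ c := by
  obtain ⟨g, a, ha, hg⟩ := SLTransv.exists_conj_normal (n + 1) (Transv.tv p φ 1)
    (isTransvection_tv h hp hφ)
  obtain ⟨g', a', ha', hg'⟩ := SLTransv.exists_conj_normal (n + 1) (Transv.tv q ψ 1)
    (isTransvection_tv h' hq hψ)
  rw [ha (by omega)] at hg
  rw [ha' (by omega)] at hg'
  refine ⟨g * g'⁻¹, fun c => ?_⟩
  have hinv : ∀ x : SL, coeHom x * coeHom x⁻¹ = 1 := fun x => by
    rw [← map_mul, mul_inv_cancel, map_one]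
  have hinv' : ∀ x : SL, coeHom x⁻¹ * coeHom x = 1 := fun x => by
    rw [← map_mul, inv_mul_cancel, map_one]
  have e1 : Transv.tv p φ 1 = coeHom g * (1 + Matrix.single 1 0 1) * coeHom g⁻¹ := by
    change Transv.tv p φ 1 * coeHom g = coeHom g * _ at hg
    rw [← hg, Matrix.mul_assoc, hinv, Matrix.mul_one]
  have e2 : coeHom g'⁻¹ * Transv.tv q ψ 1 * coeHom g' = (1 + Matrix.single 1 0 1) := by
    change Transv.tv q ψ 1 * coeHom g' = coeHom g' * _ at hg'
    rw [Matrix.mul_assoc, hg', ← Matrix.mul_assoc, hinv', Matrix.one_mul]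
  have e3 : coeHom (g * g'⁻¹) * Transv.tv q ψ 1 * coeHom (g * g'⁻¹)⁻¹ = Transv.tv p φ 1 := by
    rw [e1, ← e2, _root_.mul_inv_rev, inv_inv, map_mul, map_mul]
    simp only [Matrix.mul_assoc]
  have e4 : coeHom (g * g'⁻¹) * vecMulVec q ψ * coeHom (g * g'⁻¹)⁻¹ = vecMulVec p φ := by
    rw [Transv.tv, Transv.tv, one_smul, one_smul, Matrix.mul_add, Matrix.add_mul, Matrix.mul_one,
      hinv] at e3
    exact add_left_cancel e3
  simp only [Transv.tv, Matrix.mul_add, Matrix.add_mul, Matrix.mul_one, hinv, Matrix.mul_smul,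
    Matrix.smul_mul, e4]

/-- The base root subgroup. -/
def base : Subgroup SL :=
  Subgroup.closure {t : SL | ∃ c : k, (t : Mat) = Matrix.transvection 0 1 c}

theorem zero_ne_one' : (0 : Fin (n + 3)) ≠ 1 := by simp [Fin.ext_iff]

theorem data_base : Transv.Data (coeHom (n := n) (k := k)) base (Pi.single 0 1) (Pi.single 1 1) :=
  Transv.data_closure coeHom_injective (dot_single zero_ne_one') (single_ne_zero' _) (single_ne_zero' _)
    (fun _ ⟨c, hc⟩ => ⟨c, hc.trans (transvection_eq_tv 0 1 c)⟩)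
    fun c => ⟨elem (dot_single zero_ne_one') c, ⟨c, (transvection_eq_tv 0 1 c).symm⟩, rfl⟩

theorem exists_data {p φ : Fin (n + 3) → k} (h : φ ⬝ᵥ p = 0) (hp : p ≠ 0) (hφ : φ ≠ 0) :
    ∃ g : SL, Transv.Data coeHom (conjBy base g) p φ := by
  obtain ⟨g, hg⟩ := exists_conj h hp hφ (dot_single (zero_ne_one' (n := n))) (single_ne_zero' _)
    (single_ne_zero' _)
  refine ⟨g, (data_base.conj coeHom_injective g).of_tv_eq h hp hφ fun c => ?_⟩
  rw [← hg c, Transv.tv_conj (show coeHom g⁻¹ * coeHom g = 1 by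
    rw [← map_mul, inv_mul_cancel, map_one])]

/-- The class of root subgroups. -/
def cls : Set (Subgroup SL) := {A | ∃ g : SL, A = conjBy base g}

theorem mem_cls_of_data {p φ : Fin (n + 3) → k} {A : Subgroup SL} (hA : Transv.Data coeHom A p φ) :
    A ∈ cls := by
  obtain ⟨g, hg⟩ := exists_data hA.dot hA.ne_p hA.ne_φ
  refine ⟨g, ?_⟩
  ext x
  constructor <;> intro hx
  · obtain ⟨c, hc⟩ := hA.mem x hx
    obtain ⟨y, hy, hyc⟩ := hg.surj c
    rwa [coeHom_injective (hc.trans hyc.symm)]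
  · obtain ⟨c, hc⟩ := hg.mem x hx
    obtain ⟨y, hy, hyc⟩ := hA.surj c
    rwa [coeHom_injective (hc.trans hyc.symm)]

theorem data_cls {A : Subgroup SL} (hA : A ∈ cls) :
    ∃ p φ, Transv.Data (coeHom (n := n) (k := k)) A p φ := by
  obtain ⟨g, rfl⟩ := hA
  exact ⟨_, _, data_base.conj coeHom_injective g⟩

theorem kRootSet : IsKRootSubgroupSet k (cls (n := n) (k := k)) := by
  refine Transv.rootSet coeHom_injective (fun A hA => data_cls hA) ?_ ?_ ?_
  · intro A _ B _ p φ q ψ hA hB _ h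
    obtain ⟨g, hg⟩ := exists_data h hA.ne_p hB.ne_φ
    exact ⟨_, ⟨g, rfl⟩, hg⟩
  · refine Cfsg.Agent.Lib.LinGroup.eq_top_of_transvection_mem _ fun i j hij c => ?_
    obtain ⟨g, hg⟩ := exists_data (dot_single (k := k) hij) (single_ne_zero' i) (single_ne_zero' j)
    obtain ⟨x, hx, hxc⟩ := hg.surj c
    refine le_biSup (f := fun A : Subgroup SL => A) (show conjBy base g ∈ cls from ⟨g, rfl⟩) ?_
    rwa [show Matrix.SpecialLinearGroup.transvection hij c = x from
      coeHom_injective ((transvection_eq_tv i j c).trans hxc.symm)]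
  · rintro A ⟨g, rfl⟩ h
    exact ⟨h * g, (conjBy_mul base h g).symm⟩

theorem rootClass : IsRootSubgroupClass (cls (n := n) (k := k)) := by
  refine ⟨kRootSet.1, ⟨base, 1, (conjBy_one base).symm⟩, ?_⟩
  rintro A ⟨g, rfl⟩ B ⟨h, rfl⟩
  exact ⟨h * g⁻¹, by rw [conjBy_mul, conjBy_inv_conjBy]⟩

theorem nondegenerate : IsNondegenerateRootSet (cls (n := n) (k := k)) := by
  have h01 : (0 : Fin (n + 3)) ≠ 1 := zero_ne_one'
  have h02 : (0 : Fin (n + 3)) ≠ 2 := fun h => by
    have := congrArg Fin.val h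
    simp [Nat.mod_eq_of_lt (show 2 < n + 3 by omega)] at this
  have h12 : (1 : Fin (n + 3)) ≠ 2 := fun h => by
    have := congrArg Fin.val h
    simp [Nat.mod_eq_of_lt (show 2 < n + 3 by omega)] at this
  obtain ⟨g1, d01⟩ := exists_data (dot_single (k := k) h01) (single_ne_zero' 0) (single_ne_zero' 1)
  obtain ⟨g2, d02⟩ := exists_data (dot_single (k := k) h02) (single_ne_zero' 0) (single_ne_zero' 2)
  obtain ⟨g3, d10⟩ := exists_data (dot_single (k := k) h01.symm) (single_ne_zero' 1) (single_ne_zero' 0)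
  obtain ⟨g4, d12⟩ := exists_data (dot_single (k := k) h12) (single_ne_zero' 1) (single_ne_zero' 2)
  refine ⟨⟨_, ⟨g1, rfl⟩, _, ⟨g2, rfl⟩, fun he => ?_, d01.comm coeHom_injective d02
    (dot_single h01) (dot_single h02)⟩, ⟨_, ⟨g1, rfl⟩, _, ⟨g3, rfl⟩,
      (d01.pair coeHom_injective d10 (by simp) (by simp)).2⟩, ⟨_, ⟨g1, rfl⟩, _, ⟨g4, rfl⟩,
      d01.commCase coeHom_injective d12 d02 ⟨g2, rfl⟩ (by simp)⟩⟩
  obtain ⟨x, hx, hxc⟩ := d01.surj 1
  rw [he] at hx
  obtain ⟨c, hc⟩ := d02.mem x hx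
  have := congrFun (congrFun (hxc.symm.trans hc) 0) 1
  simp [Transv.tv, vecMulVec_apply, h01, h12] at this

theorem connected : IsConnectedFamily (FAdj (cls (n := n) (k := k))) cls := by
  obtain ⟨-, ⟨A, hA, B, hB, hp⟩, -⟩ := nondegenerate (n := n) (k := k)
  exact RootSet.class_connected rootClass.1 rootClass.2 hA (RootSet.not_isolated_of_pair hA hB hp)

end Cfsg.Agent.Lib.RootSubgroups.SLClass
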