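import Mathlib
import Cfsg.Prelude.Def_RootSubgroups
import Cfsg.Agent.Lib.RootSubgroups.SLClass

/-!
The transvections of `SL(n + 3, F)`, `F` finite of characteristic two, as root involutions.
-/

set_option autoImplicit false

namespace Cfsg.Agent.Lib.RootSubgroups.SLInvolutions

open Cfsg Cfsg.Agent.Lib.RootSubgroups Matrix Cfsg.Agent.Lib.SL2

variable {F : Type*} [Field F] [CharP F 2] {n : ℕ}

local notation "SL" => Matrix.SpecialLinearGroup (Fin (n + 3)) F
local notation "Mat" => Matrix (Fin (n + 3)) (Fin (n + 3)) F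

theorem odd_order_of_trace [Finite F] {y : SLtwo F} (h : y 0 0 + y 1 1 ≠ 0) : Odd (orderOf y) := by
  by_contra hne
  obtain ⟨r, hr⟩ := even_iff_two_dvd.1 (Nat.not_odd_iff_even.1 hne)
  have hpos : 0 < orderOf y := orderOf_pos y
  set z := y ^ r with hz
  have hzz : z⁻¹ = z := by
    rw [inv_eq_iff_mul_eq_one, hz, ← pow_add, ← two_mul, ← hr, pow_orderOf_eq_one]
  have hz1 : z ≠ 1 := fun h1 => by
    have := Nat.le_of_dvd (by omega) (orderOf_dvd_of_pow_eq_one h1)
    omega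
  have hzy : z * y = y * z := by rw [hz, ← pow_succ, ← pow_succ']
  have e00 : z 1 1 = z 0 0 := by rw [← inv_00, hzz]
  have h01 := congrArg (fun g : SLtwo F => g 0 1) hzy
  have h10 := congrArg (fun g : SLtwo F => g 1 0) hzy
  simp only [mul_01, mul_10, e00] at h01 h10
  have hne' : y 1 1 - y 0 0 ≠ 0 := fun h0 => h (by
    rw [sub_eq_zero.1 h0, CharTwo.add_self_eq_zero])
  have z01 : z 0 1 = 0 := by
    have : z 0 1 * (y 1 1 - y 0 0) = 0 := by linear_combination h01
    exact (mul_eq_zero.1 this).resolve_right hne'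
  have z10 : z 1 0 = 0 := by
    have : z 1 0 * (y 1 1 - y 0 0) = 0 := by linear_combination -h10
    exact (mul_eq_zero.1 this).resolve_right hne'
  have hd := det_entries z
  rw [e00, z01, z10, mul_zero, sub_zero] at hd
  have z00 : z 0 0 = 1 := by
    rcases mul_self_eq_one_iff.1 hd with h0 | h0
    · exact h0
    · rw [h0, CharTwo.neg_eq]
  refine hz1 (ext_entries ?_ ?_ ?_ ?_) <;> simp [z00, z01, z10, e00]

theorem cube_of_card_two (h2 : ∀ x : F, x ≠ 0 → x = 1) {a b : F} (ha : a ≠ 0) (hb : b ≠ 0) :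
    ((upper a : SLtwo F) * lower b) ^ 3 = 1 := by
  rw [h2 a ha, h2 b hb]
  have hh : (1 : F) + 1 = 0 := CharTwo.add_self_eq_zero 1
  refine ext_entries ?_ ?_ ?_ ?_ <;>
    simp [pow_succ, mul_00, mul_01, mul_10, mul_11, hh]

/-- The set of transvections. -/
def invs : Set SL := {t | ∃ c : F, c ≠ 0 ∧ ∃ g : SL, ((g⁻¹ * t * g : SL) : Mat) = Matrix.transvection 0 1 c}

theorem mem_invs_iff {t : SL} :
    t ∈ invs ↔ ∃ p φ : Fin (n + 3) → F, φ ⬝ᵥ p = 0 ∧ p ≠ 0 ∧ φ ≠ 0 ∧
      SLClass.coeHom t = Transv.tv p φ 1 := by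
  constructor
  · rintro ⟨c, hc, g, hg⟩
    have hd := (SLClass.data_base (n := n) (k := F)).conj SLClass.coeHom_injective g
    have h : SLClass.coeHom g⁻¹ * SLClass.coeHom g = 1 := by
      rw [← map_mul, inv_mul_cancel, map_one]
    have e : SLClass.coeHom t =
        Transv.tv (SLClass.coeHom g *ᵥ Pi.single 0 1) (Pi.single 1 1 ᵥ* SLClass.coeHom g⁻¹) c := by
      have h1 : t = g * (g⁻¹ * t * g) * g⁻¹ := by simp [mul_assoc]
      rw [h1, map_mul, map_mul, show SLClass.coeHom (g⁻¹ * t * g) = Matrix.transvection 0 1 c from hg,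
        SLClass.transvection_eq_tv, Transv.tv_conj h]
    refine ⟨_, c • (Pi.single 1 1 ᵥ* SLClass.coeHom g⁻¹), ?_, hd.ne_p, smul_ne_zero hc hd.ne_φ, ?_⟩
    · rw [smul_dotProduct, hd.dot, smul_zero]
    · rw [e, Transv.tv, Transv.tv, one_smul, vecMulVec_smul]
  · rintro ⟨p, φ, h, hp, hφ, ht⟩
    obtain ⟨g, hg⟩ := SLClass.exists_conj h hp hφ (SLClass.dot_single (SLClass.zero_ne_one' (n := n)))
      (SLClass.single_ne_zero' _) (SLClass.single_ne_zero' _)
    refine ⟨1, one_ne_zero, g, ?_⟩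
    show SLClass.coeHom (g⁻¹ * t * g) = _
    have h' : SLClass.coeHom g⁻¹ * SLClass.coeHom g = 1 := by
      rw [← map_mul, inv_mul_cancel, map_one]
    rw [map_mul, map_mul, ht, ← hg 1, SLClass.transvection_eq_tv]
    simp only [Matrix.mul_assoc, h', Matrix.mul_one]
    rw [← Matrix.mul_assoc, h', Matrix.one_mul]

theorem mem_invs_of_tv {t : SL} {p φ : Fin (n + 3) → F} {c : F} (h : φ ⬝ᵥ p = 0) (hp : p ≠ 0)
    (hφ : φ ≠ 0) (hc : c ≠ 0) (ht : SLClass.coeHom t = Transv.tv p φ c) : t ∈ invs :=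
  mem_invs_iff.2 ⟨p, c • φ, by rw [smul_dotProduct, h, smul_zero], hp, smul_ne_zero hc hφ,
    by rw [ht, Transv.tv, Transv.tv, one_smul, vecMulVec_smul]⟩

theorem orderOf_eq_two {t : SL} (ht : t ∈ invs) : orderOf t = 2 := by
  obtain ⟨p, φ, h, hp, hφ, ht⟩ := mem_invs_iff.1 ht
  refine orderOf_eq_prime (SLClass.coeHom_injective ?_) fun h1 => ?_
  · rw [map_pow, ht, pow_two, Transv.tv_mul h, CharTwo.add_self_eq_zero, Transv.tv_zero, map_one]
  · rw [h1, map_one, ← Transv.tv_zero p φ] at ht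
    exact zero_ne_one (Transv.tv_inj hp hφ ht)

theorem mixed {a b : SL} {p φ q ψ : Fin (n + 3) → F} (ha : SLClass.coeHom a = Transv.tv p φ 1)
    (hb : SLClass.coeHom b = Transv.tv q ψ 1) (ha2 : a⁻¹ = a) (hb2 : b⁻¹ = b) (hp : φ ⬝ᵥ p = 0)
    (hq : ψ ⬝ᵥ q = 0) (hp0 : p ≠ 0) (hψ0 : ψ ≠ 0) (h1 : φ ⬝ᵥ q ≠ 0) (h2 : ψ ⬝ᵥ p = 0) :
    orderOf (a * b) = 4 ∧ (a * b) ^ 2 ∈ invs := by
  have e : SLClass.coeHom ((a * b) ^ 2) = Transv.tv p ψ (φ ⬝ᵥ q) := by
    have h3 := Transv.tv_commutator hp hq h2 (1 : F) 1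
    rw [one_mul, one_mul, CharTwo.neg_eq, ← ha, ← hb, ← map_mul, ← map_mul, ← map_mul] at h3
    rw [← h3, pow_two, mul_assoc (a * b) a b]
  refine ⟨?_, mem_invs_of_tv h2 hp0 hψ0 h1 e⟩
  have h4 : (a * b) ^ 2 ^ (1 + 1) = 1 := by
    apply SLClass.coeHom_injective
    rw [pow_succ, pow_one, pow_mul, map_pow, e, pow_two, Transv.tv_mul h2,
      CharTwo.add_self_eq_zero, Transv.tv_zero, map_one]
  have h5 : ¬ (a * b) ^ 2 ^ 1 = 1 := fun h0 => h1 (by
    rw [pow_one] at h0
    rw [h0, map_one, ← Transv.tv_zero p ψ] at e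
    exact (Transv.tv_inj hp0 hψ0 e).symm)
  exact (orderOf_eq_prime_pow h5 h4).trans (by norm_num)

variable [Finite F]

theorem pairs {a b : SL} (ha : a ∈ invs) (hb : b ∈ invs) :
    a * b = b * a ∨
      (Odd (orderOf (a * b)) ∧ ((∀ x : F, x ≠ 0 → x = 1) → orderOf (a * b) ∣ 3)) ∨
      (orderOf (a * b) = 4 ∧ (a * b) ^ 2 ∈ invs) := by
  obtain ⟨p, φ, hp, hp0, hφ0, hat⟩ := mem_invs_iff.1 ha
  obtain ⟨q, ψ, hq, hq0, hψ0, hbt⟩ := mem_invs_iff.1 hb
  have ha2 : a⁻¹ = a := inv_eq_of_mul_eq_one_right (by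
    rw [← pow_two, ← orderOf_eq_two ha, pow_orderOf_eq_one])
  have hb2 : b⁻¹ = b := inv_eq_of_mul_eq_one_right (by
    rw [← pow_two, ← orderOf_eq_two hb, pow_orderOf_eq_one])
  by_cases h1 : φ ⬝ᵥ q = 0
  · by_cases h2 : ψ ⬝ᵥ p = 0
    · refine Or.inl (SLClass.coeHom_injective ?_)
      rw [map_mul, map_mul, hat, hbt, Transv.tv_comm h1 h2]
    · obtain ⟨h4, h5⟩ := mixed hbt hat hb2 ha2 hq hp hq0 hφ0 h2 h1
      refine Or.inr (Or.inr ?_)
      have e : a * b = (b * a)⁻¹ := by rw [_root_.mul_inv_rev, ha2, hb2]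
      rw [e, orderOf_inv]
      refine ⟨h4, ?_⟩
      have h6 : ((b * a) ^ 2)⁻¹ = (b * a) ^ 2 := inv_eq_of_mul_eq_one_right (by
        rw [← pow_add, show 2 + 2 = orderOf (b * a) from h4.symm, pow_orderOf_eq_one])
      rw [inv_pow, h6]
      exact h5
  · by_cases h2 : ψ ⬝ᵥ p = 0
    · exact Or.inr (Or.inr (mixed hat hbt ha2 hb2 hp hq hp0 hψ0 h1 h2))
    · refine Or.inr (Or.inl ?_)
      obtain ⟨g, hA⟩ := SLClass.exists_data hp hp0 hφ0
      obtain ⟨g', hB⟩ := SLClass.exists_data hq hq0 hψ0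
      obtain ⟨χ, -, -, hU, hL⟩ := (hA.pair SLClass.coeHom_injective hB h1 h2).1
      have ham : a ∈ conjBy SLClass.base g := by
        obtain ⟨x, hx, hxc⟩ := hA.surj 1
        rwa [SLClass.coeHom_injective (hat.trans hxc.symm)]
      have hbm : b ∈ conjBy SLClass.base g' := by
        obtain ⟨x, hx, hxc⟩ := hB.surj 1
        rwa [SLClass.coeHom_injective (hbt.trans hxc.symm)]
      rw [← hU] at ham
      rw [← hL] at hbm
      obtain ⟨u, hu, hua⟩ := ham
      obtain ⟨l, hl, hlb⟩ := hbm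
      obtain ⟨s, rfl⟩ := SL2Pair.mem_upper.1 hu
      obtain ⟨t, rfl⟩ := SL2Pair.mem_lower.1 hl
      have hs : s ≠ 0 := fun h0 => by
        rw [h0, upper_zero, map_one] at hua
        have h3 := orderOf_eq_two ha
        rw [← hua, orderOf_one] at h3
        omega
      have ht : t ≠ 0 := fun h0 => by
        rw [h0, lower_zero, map_one] at hlb
        have h3 := orderOf_eq_two hb
        rw [← hlb, orderOf_one] at h3
        omega
      have hdvd : orderOf (a * b) ∣ orderOf ((upper s : SLtwo F) * lower t) := by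
        rw [← hua, ← hlb, ← map_mul]
        exact orderOf_map_dvd χ _
      have htr : ((upper s : SLtwo F) * lower t) 0 0 + ((upper s : SLtwo F) * lower t) 1 1 ≠ 0 := by
        have e : ((upper s : SLtwo F) * lower t) 0 0 + ((upper s : SLtwo F) * lower t) 1 1 =
            s * t + (1 + 1) := by simp [mul_00, mul_11]; ring
        rw [e, CharTwo.add_self_eq_zero, add_zero]
        exact mul_ne_zero hs ht
      exact ⟨(odd_order_of_trace htr).of_dvd_nat hdvd, fun h3 =>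
        hdvd.trans (orderOf_dvd_of_pow_eq_one (cube_of_card_two h3 hs ht))⟩

theorem rootInvolutions : IsRootInvolutionSet (invs (n := n) (F := F)) where
  orderOf_eq _ hd := orderOf_eq_two hd
  generates := by
    refine Cfsg.Agent.Lib.LinGroup.eq_top_of_transvection_mem _ fun i j hij c => ?_
    by_cases hc : c = 0
    · have : Matrix.SpecialLinearGroup.transvection hij c = (1 : SL) := by
        apply SLClass.coeHom_injective
        show Matrix.transvection i j c = _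
        rw [hc, Matrix.transvection_zero, map_one]
      rw [this]
      exact one_mem _
    · exact Subgroup.subset_closure (mem_invs_of_tv (SLClass.dot_single hij)
        (SLClass.single_ne_zero' i) (SLClass.single_ne_zero' j) hc (SLClass.transvection_eq_tv i j c))
  conj_mem := by
    rintro d ⟨c, hc, g, hg⟩ h
    exact ⟨c, hc, h * g, by rw [show (h * g)⁻¹ * (h * d * h⁻¹) * (h * g) = g⁻¹ * d * g by simp [_root_.mul_inv_rev, mul_assoc]]; exact hg⟩
  pair a ha b hb := (pairs ha hb).imp id (Or.imp And.left id)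

theorem rootClass : IsRootInvolutionClass (invs (n := n) (F := F)) := by
  refine ⟨rootInvolutions, ?_, fun a ha b hb => ?_⟩
  · have h := SLClass.dot_single (k := F) (SLClass.zero_ne_one' (n := n))
    exact ⟨SLClass.elem h 1, mem_invs_of_tv h (SLClass.single_ne_zero' _) (SLClass.single_ne_zero' _)
      one_ne_zero rfl⟩
  · obtain ⟨p, φ, hp, hp0, hφ0, hat⟩ := mem_invs_iff.1 ha
    obtain ⟨q, ψ, hq, hq0, hψ0, hbt⟩ := mem_invs_iff.1 hb
    obtain ⟨g, hg⟩ := SLClass.exists_conj hq hq0 hψ0 hp hp0 hφ0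
    exact ⟨g, SLClass.coeHom_injective (by rw [map_mul, map_mul, hbt, hat, hg])⟩

theorem threeFour [Fintype F] (h : Fintype.card F = 2) :
    IsThreeFourPlusTranspositionSet (invs (n := n) (F := F)) := by
  have h2 : ∀ x : F, x ≠ 0 → x = 1 := fun x hx => by
    have h3 := FiniteField.pow_card_sub_one_eq_one x hx
    rwa [h, pow_one] at h3
  refine ⟨rootInvolutions, fun a ha b hb hodd => ?_⟩
  rcases pairs ha hb with h' | ⟨-, h'⟩ | ⟨h', -⟩
  · have hsq : (a * b) ^ 2 = 1 := by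
      rw [(show Commute a b from h').mul_pow, ← orderOf_eq_two ha, pow_orderOf_eq_one,
        orderOf_eq_two ha, ← orderOf_eq_two hb, pow_orderOf_eq_one, one_mul]
    rcases (Nat.dvd_prime Nat.prime_two).1 (orderOf_dvd_of_pow_eq_one hsq) with h1 | h1
    · exact Or.inl h1
    · rw [h1] at hodd; exact absurd hodd (by decide)
  · exact (Nat.dvd_prime Nat.prime_three).1 (h' h2)
  · rw [h'] at hodd; exact absurd hodd (by decide)

end Cfsg.Agent.Lib.RootSubgroups.SLInvolutions
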