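import Mathlib
import Cfsg.Prelude.Def_RootSubgroups
import Cfsg.Agent.Lib.RootSubgroups.TransvectionSub
import Cfsg.Agent.Lib.Forms.Unitary
import Cfsg.Agent.Lib.Forms.UnitaryFrames
import Cfsg.Agent.Lib.MinDegree.UnitaryBase

/-!
The unitary transvection groups as a degenerate class of root subgroups.
-/

set_option autoImplicit false

namespace Cfsg.Agent.Lib.RootSubgroups.SUClass

open Cfsg Cfsg.Agent.Lib.RootSubgroups Cfsg.Agent.Lib.Forms Matrix

variable {F : Type*} [Field F] {n q : ℕ}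

/-- The matrix of a member. -/
abbrev mat (n : ℕ) (F : Type*) [Field F] (q : ℕ) : Cfsg.SU n F q →* Matrix (Fin n) (Fin n) F :=
  (Cfsg.slToMat n F).comp (Cfsg.SU n F q).subtype

theorem mat_injective : Function.Injective (mat n F q) := fun _ _ h => Subtype.ext (Subtype.ext h)

/-- The defining set of `T(p)`. -/
def tset (p : Fin n → F) : Set ↥(Cfsg.SU n F q) :=
  {g : ↥(Cfsg.SU n F q) |
    (∀ v : Fin n → F, ∃ c : F, ((g : Matrix.SpecialLinearGroup (Fin n) F) : Matrix (Fin n) (Fin n) F) *ᵥ v = v + c • p) ∧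
    ∀ v : Fin n → F, Cfsg.hermForm n F q v p = 0 →
      ((g : Matrix.SpecialLinearGroup (Fin n) F) : Matrix (Fin n) (Fin n) F) *ᵥ v = v}

/-- `T(p)`. -/
abbrev group (p : Fin n → F) : Subgroup ↥(Cfsg.SU n F q) := Subgroup.closure (tset p)

/-- All `T(p)`. -/
def cls : Set (Subgroup ↥(Cfsg.SU n F q)) :=
  {A | ∃ p : Fin n → F, p ≠ 0 ∧ Cfsg.hermForm n F q p p = 0 ∧ A = group p}

theorem tv_mulVec (p : Fin n → F) (δ c : F) (x : Fin n → F) :
    Transv.tv p (δ • conjVec q p) c *ᵥ x = x + (c * δ * Cfsg.hermForm n F q x p) • p := by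
  rw [Transv.tv, add_mulVec, one_mulVec, smul_mulVec, vecMulVec_mulVec, op_smul_eq_smul,
    smul_dotProduct, conjVec_dotProduct, smul_smul, smul_eq_mul, mul_assoc]

theorem mem_tset_conj {p : Fin n → F} {g x : ↥(Cfsg.SU n F q)} (hx : x ∈ tset p) :
    g * x * g⁻¹ ∈ tset (mat n F q g *ᵥ p) := by
  have hinv : ∀ v, mat n F q g *ᵥ (mat n F q g⁻¹ *ᵥ v) = v := fun v => by
    rw [mulVec_mulVec, ← map_mul, mul_inv_cancel, map_one, one_mulVec]
  have hval : ∀ v, mat n F q (g * x * g⁻¹) *ᵥ v =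
      mat n F q g *ᵥ (mat n F q x *ᵥ (mat n F q g⁻¹ *ᵥ v)) := fun v => by
    rw [map_mul, map_mul, mulVec_mulVec, mulVec_mulVec, Matrix.mul_assoc]
  refine ⟨fun v => ?_, fun v hv => ?_⟩
  · obtain ⟨c, hc⟩ := hx.1 (mat n F q g⁻¹ *ᵥ v)
    refine ⟨c, (hval v).trans ?_⟩
    rw [show mat n F q x *ᵥ (mat n F q g⁻¹ *ᵥ v) = _ from hc, mulVec_add, mulVec_smul, hinv]
  · refine (hval v).trans ?_
    have h : Cfsg.hermForm n F q (mat n F q g⁻¹ *ᵥ v) p = 0 := by
      rw [← hv, ← g.2 (mat n F q g⁻¹ *ᵥ v) p]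
      show Cfsg.hermForm n F q (mat n F q g *ᵥ _) _ = _
      rw [hinv]
      rfl
    rw [show mat n F q x *ᵥ (mat n F q g⁻¹ *ᵥ v) = _ from hx.2 _ h, hinv]

theorem conj_group (g : ↥(Cfsg.SU n F q)) (p : Fin n → F) :
    conjBy (group p) g = group (mat n F q g *ᵥ p) := by
  rw [conjBy, group, MonoidHom.map_closure]
  congr 1
  ext y
  constructor
  · rintro ⟨x, hx, rfl⟩
    exact mem_tset_conj hx
  · intro hy
    refine ⟨g⁻¹ * y * g, ?_, by simp [mul_assoc]⟩
    have h := mem_tset_conj (g := g⁻¹) hy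
    rwa [inv_inv, mulVec_mulVec, ← map_mul, inv_mul_cancel, map_one, one_mulVec] at h

theorem conj_mem_cls {A : Subgroup ↥(Cfsg.SU n F q)} (hA : A ∈ cls) (g : ↥(Cfsg.SU n F q)) :
    conjBy A g ∈ cls := by
  obtain ⟨p, hp, hpp, rfl⟩ := hA
  refine ⟨mat n F q g *ᵥ p, fun h => hp ?_, (g.2 p p).trans hpp, conj_group g p⟩
  have h' := congrArg (mat n F q g⁻¹ *ᵥ ·) h
  simpa [mulVec_mulVec, ← map_mul] using h'

variable [Fintype F] (hF : Fintype.card F = q ^ 2)

include hF

theorem exists_skew : ∃ δ : F, δ ≠ 0 ∧ δ ^ q = -δ := by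
  have h := MinDegree.card_skew hF
  have h2 := two_le_of_card_sq hF
  have : Nontrivial (MinDegree.skew (qPowHom hF)) :=
    (Finite.one_lt_card_iff_nontrivial).1 (by omega)
  obtain ⟨⟨δ, hδ⟩, hne⟩ := exists_ne (0 : MinDegree.skew (qPowHom hF))
  refine ⟨δ, fun h0 => hne (Subtype.ext h0), ?_⟩
  have h1 : δ + qPowHom hF δ = 0 := hδ
  rw [qPowHom_apply] at h1
  exact eq_neg_of_add_eq_zero_right h1

/-- The subfield with `q` elements. -/
theorem exists_subfield : ∃ (L : Type) (_ : Field L) (_ : Fintype L) (e : L →+* F),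
    Fintype.card L = q ∧ ∀ x, (∃ l, e l = x) ↔ x ^ q = x := by
  obtain ⟨δ, hδ, hδq⟩ := exists_skew hF
  set K := RingHom.eqLocusField (qPowHom hF) (RingHom.id F)
  have hK : ∀ x, x ∈ K ↔ x ^ q = x := fun x => by
    show qPowHom hF x = x ↔ _
    rw [qPowHom_apply]
  have hs : ∀ x, x ∈ MinDegree.skew (qPowHom hF) ↔ x ^ q = -x := fun x => by
    show x + qPowHom hF x = 0 ↔ _
    rw [qPowHom_apply]
    exact ⟨fun h => eq_neg_of_add_eq_zero_right h, fun h => by rw [h, add_neg_cancel]⟩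
  have hcard : Nat.card K = q := by
    rw [← MinDegree.card_skew hF]
    exact Nat.card_congr
      { toFun := fun x => ⟨δ * x, (hs _).2 (by rw [mul_pow, hδq, (hK _).1 x.2]; ring)⟩
        invFun := fun y => ⟨δ⁻¹ * y, (hK _).2 (by
          rw [mul_pow, inv_pow, hδq, (hs _).1 y.2, inv_neg]; ring)⟩
        left_inv := fun x => Subtype.ext (by simp [hδ])
        right_inv := fun y => Subtype.ext (by simp [hδ]) }
  let E : Fin q ≃ K := (Finite.equivFinOfCardEq hcard).symm
  letI : Field (Fin q) := E.field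
  refine ⟨Fin q, inferInstance, inferInstance, K.subtype.comp E.ringEquiv.toRingHom,
    Fintype.card_fin q, fun x => ⟨?_, fun hx => ?_⟩⟩
  · rintro ⟨l, rfl⟩
    exact (hK _).1 (E l).2
  · exact ⟨E.symm ⟨x, (hK x).2 hx⟩, congrArg Subtype.val (E.apply_symm_apply ⟨x, (hK x).2 hx⟩)⟩

theorem exists_herm_one {p : Fin n → F} (hp : p ≠ 0) : ∃ x, Cfsg.hermForm n F q x p = 1 := by
  obtain ⟨y, hy⟩ : ∃ y, Cfsg.hermForm n F q y p ≠ 0 := by
    by_contra hne
    push Not at hne
    exact hp ((hermSesq_goodForm (n := n) hF).nondeg p fun x => by rw [hermSesq_apply]; exact hne x)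
  exact ⟨(Cfsg.hermForm n F q y p)⁻¹ • y, by rw [herm_smul_left hF, inv_mul_cancel₀ hy]⟩

variable {L : Type} [Field L] {e : L →+* F} (he : ∀ x, (∃ l, e l = x) ↔ x ^ q = x)
  {δ : F} (hδ : δ ≠ 0) (hδq : δ ^ q = -δ)

include he hδ hδq

theorem subData {p : Fin n → F} (hp : p ≠ 0) (hpp : Cfsg.hermForm n F q p p = 0) :
    Transv.SubData (mat n F q) e (group p) p (δ • conjVec q p) := by
  refine Transv.subData_closure mat_injective ?_ hp (smul_ne_zero hδ fun h => hp ?_) ?_ fun l => ?_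
  · rw [smul_dotProduct, conjVec_dotProduct, hpp, smul_zero]
  · funext j
    exact pow_eq_zero_iff (by have := two_le_of_card_sq hF; omega) |>.1 (congrFun h j)
  · intro g hg
    obtain ⟨x, hx⟩ := exists_herm_one hF hp
    obtain ⟨a, ha⟩ := hg.1 x
    have hg' : ∀ v, mat n F q g *ᵥ v = v + (Cfsg.hermForm n F q v p * a) • p := by
      intro v
      have h : Cfsg.hermForm n F q (v - Cfsg.hermForm n F q v p • x) p = 0 := by
        rw [sub_eq_add_neg, ← neg_smul, herm_add_left hF, herm_smul_left hF, hx]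
        ring
      have h1 := hg.2 _ h
      rw [mulVec_sub, mulVec_smul, ha] at h1
      rw [show mat n F q g *ᵥ v = v - Cfsg.hermForm n F q v p • x +
        Cfsg.hermForm n F q v p • (x + a • p) from sub_eq_iff_eq_add.1 h1]
      rw [smul_add, smul_smul]; abel
    have hskew : a + a ^ q = 0 := by
      have h := g.2 x x
      change Cfsg.hermForm n F q (mat n F q g *ᵥ x) (mat n F q g *ᵥ x) = _ at h
      rw [hg', hx, one_mul, herm_add_left hF, herm_add_right hF, herm_add_right hF,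
        herm_smul_left hF, herm_smul_left hF, herm_smul_right hF, herm_smul_right hF, hpp,
        ← herm_conj hF x p, hx, one_pow] at h
      linear_combination h
    obtain ⟨l, hl⟩ := (he (a / δ)).2 (by
      rw [div_pow, hδq, eq_neg_of_add_eq_zero_right hskew, neg_div_neg_eq])
    refine ⟨l, Matrix.ext_iff_mulVec.2 fun v => ?_⟩
    rw [tv_mulVec, hl, div_mul_cancel₀ _ hδ, mul_comm a]
    exact hg' v
  · have hc : e l * δ + (e l * δ) ^ q = 0 := by
      rw [mul_pow, hδq, (he _).1 ⟨l, rfl⟩]; ring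
    refine ⟨suMk hF (Cfsg.unitaryTransvection n q p (e l * δ)) (det_unitaryTransvection hF _ hpp)
      (unitaryTransvection_preserves hF hpp hc), ⟨fun v => ?_, fun v hv => ?_⟩, ?_⟩
    · exact ⟨e l * δ * Cfsg.hermForm n F q v p, by rw [suMk_val, unitaryTransvection_mulVec]⟩
    · rw [suMk_val, unitaryTransvection_mulVec, hv, mul_zero, zero_smul, add_zero]
    · refine Matrix.ext_iff_mulVec.2 fun v => ?_
      rw [tv_mulVec]
      exact unitaryTransvection_mulVec p v _

theorem dot {p r : Fin n → F} :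
    (δ • conjVec q p) ⬝ᵥ r = δ * Cfsg.hermForm n F q r p := by
  rw [smul_dotProduct, conjVec_dotProduct, smul_eq_mul]

theorem pair_cases {p r : Fin n → F} (hp : p ≠ 0) (hpp : Cfsg.hermForm n F q p p = 0) (hr : r ≠ 0)
    (hrr : Cfsg.hermForm n F q r r = 0) :
    (Cfsg.hermForm n F q r p = 0 → ⁅group (q := q) p, group (q := q) r⁆ = ⊥) ∧
      (Cfsg.hermForm n F q r p ≠ 0 →
        IsPSL2PairOver L (group (q := q) p) (group (q := q) r) ∧
          IsRankOnePair (group (q := q) p) (group (q := q) r)) := by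
  have hq : q ≠ 0 := by have := two_le_of_card_sq hF; omega
  have hA := subData hF he hδ hδq hp hpp
  have hB := subData hF he hδ hδq hr hrr
  refine ⟨fun h => ?_, fun h => ?_⟩
  · refine hA.comm mat_injective hB ?_ ?_
    · rw [dot hF he hδ hδq, h, mul_zero]
    · rw [dot hF he hδ hδq, ← herm_conj hF r p, h, zero_pow hq, mul_zero]
  · obtain ⟨N, hN⟩ := (he (δ * Cfsg.hermForm n F q r p * (δ * Cfsg.hermForm n F q p r))).2 (by
      rw [mul_pow, mul_pow, mul_pow, hδq, herm_conj hF, herm_conj hF]; ring)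
    refine hA.pair mat_injective hB (N := N) ?_ fun h0 => ?_
    · rw [dot hF he hδ hδq, dot hF he hδ hδq, hN]
    · rw [h0, map_zero, eq_comm, mul_eq_zero, mul_eq_zero, mul_eq_zero] at hN
      rcases hN with (h' | h') | (h' | h')
      · exact hδ h'
      · exact h h'
      · exact hδ h'
      · rw [← herm_conj hF r p] at h'
        exact h (pow_eq_zero_iff hq |>.1 h')

theorem adj {p r : Fin n → F} (hp : p ≠ 0) (hpp : Cfsg.hermForm n F q p p = 0) (hr : r ≠ 0)
    (hrr : Cfsg.hermForm n F q r r = 0) (h : Cfsg.hermForm n F q r p ≠ 0) :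
    FAdj (cls (F := F) (n := n) (q := q)) (group p) (group r) :=
  ⟨⟨p, hp, hpp, rfl⟩, ⟨r, hr, hrr, rfl⟩, ((pair_cases hF he hδ hδq hp hpp hr hrr).2 h).2⟩

omit he hδ hδq in
theorem exists_common {p r : Fin n → F} (hp : p ≠ 0) (hpp : Cfsg.hermForm n F q p p = 0)
    (hr : r ≠ 0) (h : Cfsg.hermForm n F q r p = 0) :
    ∃ s, s ≠ 0 ∧ Cfsg.hermForm n F q s s = 0 ∧ Cfsg.hermForm n F q s p ≠ 0 ∧
      Cfsg.hermForm n F q s r ≠ 0 := by
  have hq : q ≠ 0 := by have := two_le_of_card_sq hF; omega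
  obtain ⟨x, hxp, hxr⟩ : ∃ x, Cfsg.hermForm n F q x p ≠ 0 ∧ Cfsg.hermForm n F q x r ≠ 0 := by
    obtain ⟨a, ha⟩ := exists_herm_one hF hp
    obtain ⟨b, hb⟩ := exists_herm_one hF hr
    by_cases h1 : Cfsg.hermForm n F q a r = 0
    · by_cases h2 : Cfsg.hermForm n F q b p = 0
      · refine ⟨a + b, ?_, ?_⟩ <;> rw [herm_add_left hF]
        · rw [ha, h2, add_zero]; exact one_ne_zero
        · rw [hb, h1, zero_add]; exact one_ne_zero
      · exact ⟨b, h2, by rw [hb]; exact one_ne_zero⟩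
    · exact ⟨a, by rw [ha]; exact one_ne_zero, h1⟩
  obtain ⟨τ, hτ⟩ := exists_add_conj_eq_one (qPowHom_ne_id hF) (qPowHom_qPowHom hF)
  rw [qPowHom_apply] at hτ
  have hpx : Cfsg.hermForm n F q p x ≠ 0 := by
    rw [← herm_conj hF x p]
    exact pow_ne_zero _ hxp
  set c := -(τ * Cfsg.hermForm n F q x x) / Cfsg.hermForm n F q p x
  have hpr : Cfsg.hermForm n F q p r = 0 := by rw [← herm_conj hF r p, h, zero_pow hq]
  have hsp : Cfsg.hermForm n F q (x + c • p) p = Cfsg.hermForm n F q x p := by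
    rw [herm_add_left hF, herm_smul_left hF, hpp, mul_zero, add_zero]
  refine ⟨x + c • p, fun h0 => hxp ?_, ?_, by rwa [hsp], ?_⟩
  · rw [← hsp, h0]
    simp [Cfsg.hermForm]
  · have hcq : c * Cfsg.hermForm n F q p x = -(τ * Cfsg.hermForm n F q x x) :=
      div_mul_cancel₀ _ hpx
    have hcq' : (c * Cfsg.hermForm n F q p x) ^ q = -(τ ^ q * Cfsg.hermForm n F q x x) := by
      rw [hcq, ← qPowHom_apply hF, map_neg, map_mul, qPowHom_apply, qPowHom_apply, herm_conj hF]
    rw [mul_pow, herm_conj hF] at hcq'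
    rw [herm_add_left hF, herm_add_right hF, herm_add_right hF, herm_smul_left hF,
      herm_smul_left hF, herm_smul_right hF, herm_smul_right hF, hpp]
    linear_combination hcq + hcq' - Cfsg.hermForm n F q x x * hτ
  · rw [herm_add_left hF, herm_smul_left hF, hpr, mul_zero, add_zero]
    exact hxr

theorem connected : IsConnectedFamily (FAdj (cls (F := F) (n := n) (q := q))) cls := by
  have hq : q ≠ 0 := by have := two_le_of_card_sq hF; omega
  rintro _ ⟨p, hp, hpp, rfl⟩ _ ⟨r, hr, hrr, rfl⟩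
  by_cases h : Cfsg.hermForm n F q r p = 0
  · obtain ⟨s, hs, hss, hsp, hsr⟩ := exists_common hF hp hpp hr h
    refine (Relation.ReflTransGen.single (adj hF he hδ hδq hp hpp hs hss hsp)).tail
      (adj hF he hδ hδq hs hss hr hrr ?_)
    rw [← herm_conj hF s r]
    exact pow_ne_zero _ hsr
  · exact Relation.ReflTransGen.single (adj hF he hδ hδq hp hpp hr hrr h)

omit he hδ hδq in
theorem cls_nonempty (m : ℕ) : (cls (F := F) (n := m + 2) (q := q)).Nonempty := by
  have hq : q ≠ 0 := by have := two_le_of_card_sq hF; omega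
  obtain ⟨α, hα⟩ := exists_alpha (F := F) hF
  refine ⟨_, Pi.single 0 1 + Pi.single 1 α, fun h => ?_, ?_, rfl⟩
  · simpa using congrFun h 0
  · rw [Cfsg.hermForm, Fin.sum_univ_succ, Fin.sum_univ_succ, Finset.sum_eq_zero fun i _ => by
      simp [Pi.single_apply, Fin.ext_iff]]
    simp [hα]

omit he hδ hδq in
theorem conclusion (m : ℕ) :
    IsRootSubgroupClass ((fun A : Subgroup ↥(Cfsg.SU (m + 2) F q) =>
        A.subgroupOf (⨆ B ∈ cls (F := F) (n := m + 2) (q := q), B)) '' cls) ∧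
    IsDegenerateRootSet ((fun A : Subgroup ↥(Cfsg.SU (m + 2) F q) =>
        A.subgroupOf (⨆ B ∈ cls (F := F) (n := m + 2) (q := q), B)) '' cls) ∧
    (∃ (L : Type) (_ : Field L) (_ : Fintype L), Fintype.card L = q ∧
      IsKRootSubgroupSet L ((fun A : Subgroup ↥(Cfsg.SU (m + 2) F q) =>
        A.subgroupOf (⨆ B ∈ cls (F := F) (n := m + 2) (q := q), B)) '' cls)) ∧
    IsConnectedFamily (FAdj ((fun A : Subgroup ↥(Cfsg.SU (m + 2) F q) =>
        A.subgroupOf (⨆ B ∈ cls (F := F) (n := m + 2) (q := q), B)) '' cls))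
      ((fun A : Subgroup ↥(Cfsg.SU (m + 2) F q) =>
        A.subgroupOf (⨆ B ∈ cls (F := F) (n := m + 2) (q := q), B)) '' cls) := by
  obtain ⟨L, hL, hL', e, hcard, he⟩ := exists_subfield hF
  obtain ⟨δ, hδ, hδq⟩ := exists_skew hF
  obtain ⟨h1, h2, h3, h4⟩ := Inside.degenerate_class (L := L) (S := cls (F := F) (n := m + 2) (q := q))
    rfl (by
      rintro _ ⟨p, hp, hpp, rfl⟩
      exact (subData hF he hδ hδq hp hpp).commutative mat_injective)
    (by
      rintro _ ⟨p, hp, hpp, rfl⟩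
      exact (subData hF he hδ hδq hp hpp).ne_bot)
    (fun A hA g _ => conj_mem_cls hA g) (cls_nonempty hF m) (by
      rintro _ ⟨p, hp, hpp, rfl⟩ _ ⟨r, hr, hrr, rfl⟩
      obtain ⟨h0, h1⟩ := pair_cases hF he hδ hδq hp hpp hr hrr
      by_cases h : Cfsg.hermForm (m + 2) F q r p = 0
      · exact Or.inl (h0 h)
      · exact Or.inr (h1 h))
    (connected hF he hδ hδq)
  exact ⟨h1, h2, ⟨L, hL, hL', hcard, h3⟩, h4⟩

end Cfsg.Agent.Lib.RootSubgroups.SUClass
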