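import Mathlib
import Cfsg.Prelude.Def_RootSubgroups
import Cfsg.Prelude.Def_Classical
import Cfsg.Agent.Lib.RootSubgroups.NilPairs

/-!
The Siegel transvection groups as a set of root subgroups.
-/

set_option autoImplicit false

namespace Cfsg.Agent.Lib.RootSubgroups.Siegel

open Cfsg Cfsg.Agent.Lib.RootSubgroups Matrix

variable {F : Type*} [Field F] {n : ℕ}

local notation "Vec" => (Fin n ⊕ Fin n → F)
local notation "Q" => Cfsg.quadFormPlus n F
set_option quotPrecheck false in
local notation "O" => ↥(Cfsg.isometryGroup F (Cfsg.quadFormPlus n F))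

/-- Exchanging the two halves. -/
def sw (v : Vec) : Vec := v ∘ Sum.swap

/-- The polar form. -/
def bf (u v : Vec) : F := u ⬝ᵥ sw v

theorem bf_eq (u v : Vec) :
    bf u v = ∑ i, (u (.inl i) * v (.inr i) + u (.inr i) * v (.inl i)) := by
  simp [bf, sw, dotProduct, Finset.sum_add_distrib]

theorem bf_comm (u v : Vec) : bf u v = bf v u := by
  rw [bf_eq, bf_eq]
  exact Finset.sum_congr rfl fun i _ => by ring

theorem quad_add (u v : Vec) : Q (u + v) = Q u + Q v + bf u v := by
  rw [bf_eq]
  simp only [Cfsg.quadFormPlus, Pi.add_apply, ← Finset.sum_add_distrib]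
  exact Finset.sum_congr rfl fun i _ => by ring

theorem polar_eq (u v : Vec) : Q (u + v) - Q u - Q v = bf u v := by
  rw [quad_add]; ring

theorem bf_self (u : Vec) : bf u u = 2 * Q u := by
  rw [bf_eq, Cfsg.quadFormPlus, Finset.mul_sum]
  exact Finset.sum_congr rfl fun i _ => by ring

theorem quad_smul (c : F) (u : Vec) : Q (c • u) = c ^ 2 * Q u := by
  simp only [Cfsg.quadFormPlus, Pi.smul_apply, smul_eq_mul, Finset.mul_sum]
  exact Finset.sum_congr rfl fun i _ => by ring

theorem bf_add_left (u v w : Vec) : bf (u + v) w = bf u w + bf v w := by simp [bf, add_dotProduct]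

theorem bf_sub_left (u v w : Vec) : bf (u - v) w = bf u w - bf v w := by simp [bf, sub_dotProduct]

theorem bf_smul_left (c : F) (u w : Vec) : bf (c • u) w = c * bf u w := by simp [bf, smul_dotProduct]

theorem bf_add_right (u v w : Vec) : bf w (u + v) = bf w u + bf w v := by
  rw [bf_comm, bf_add_left, bf_comm u, bf_comm v]

theorem bf_sub_right (u v w : Vec) : bf w (u - v) = bf w u - bf w v := by
  rw [bf_comm, bf_sub_left, bf_comm u, bf_comm v]

theorem bf_smul_right (c : F) (u w : Vec) : bf w (c • u) = c * bf w u := by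
  rw [bf_comm, bf_smul_left, bf_comm u]

theorem bf_zero_left (w : Vec) : bf (0 : Vec) w = 0 := by simp [bf]

theorem bf_zero_right (w : Vec) : bf w (0 : Vec) = 0 := by rw [bf_comm, bf_zero_left]

theorem nondeg {u : Vec} (h : ∀ v, bf u v = 0) : u = 0 := by
  funext i
  have h1 := h (Pi.single i.swap 1)
  rw [bf_comm, bf, sw] at h1
  simpa [dotProduct, Pi.single_apply] using h1

theorem exists_bf_one {u : Vec} (hu : u ≠ 0) : ∃ x, bf x u = 1 := by
  obtain ⟨y, hy⟩ : ∃ y, bf u y ≠ 0 := by
    by_contra h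
    push Not at h
    exact hu (nondeg h)
  exact ⟨(bf u y)⁻¹ • y, by rw [bf_smul_left, bf_comm y, inv_mul_cancel₀ hy]⟩

/-- `p` and `r` span a singular line. -/
structure Line (p r : Vec) : Prop where
  ind : LinearIndependent F ![p, r]
  qp : Q p = 0
  qr : Q r = 0
  qpr : Q (p + r) = 0

namespace Line

variable {p r s t : Fin n ⊕ Fin n → F}

theorem bf_pr (h : Line p r) : bf p r = 0 := by
  rw [← polar_eq, h.qpr, h.qp, h.qr]; ring

theorem bf_rp (h : Line p r) : bf r p = 0 := by rw [bf_comm, h.bf_pr]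

theorem bf_pp (h : Line p r) : bf p p = 0 := by rw [bf_self, h.qp, mul_zero]

theorem bf_rr (h : Line p r) : bf r r = 0 := by rw [bf_self, h.qr, mul_zero]

theorem mk' (hi : LinearIndependent F ![p, r]) (hp : Q p = 0) (hr : Q r = 0) (hpr : bf p r = 0) :
    Line p r := ⟨hi, hp, hr, by rw [quad_add, hp, hr, hpr]; ring⟩

theorem eq_zero (h : Line p r) {a b : F} (e : a • p + b • r = 0) : a = 0 ∧ b = 0 :=
  LinearIndependent.pair_iff.1 h.ind a b e

theorem ne_left (h : Line p r) : p ≠ 0 := fun e =>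
  one_ne_zero (h.eq_zero (a := 1) (b := 0) (by rw [e]; simp)).1

theorem ne_right (h : Line p r) : r ≠ 0 := fun e =>
  one_ne_zero (h.eq_zero (a := 0) (b := 1) (by rw [e]; simp)).2

theorem symm (h : Line p r) : Line r p :=
  mk' (LinearIndependent.pair_iff.2 fun a b e => (h.eq_zero (by rw [add_comm]; exact e)).symm)
    h.qr h.qp h.bf_rp

theorem shift (h : Line p r) (c : F) : Line p (r + c • p) := by
  refine mk' (LinearIndependent.pair_iff.2 fun a b e => ?_) h.qp ?_ ?_
  · obtain ⟨h1, h2⟩ := h.eq_zero (a := a + b * c) (b := b) (by rw [← e]; module)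
    subst h2
    exact ⟨by simpa using h1, rfl⟩
  · rw [quad_add, quad_smul, h.qp, h.qr, bf_smul_right, h.bf_rp]; ring
  · rw [bf_add_right, bf_smul_right, h.bf_pr, h.bf_pp]; ring

theorem combo (h : Line p r) (a b : F) : Q (a • p + b • r) = 0 := by
  rw [quad_add, quad_smul, quad_smul, h.qp, h.qr, bf_smul_left, bf_smul_right, h.bf_pr]; ring

theorem exists_dual (h : Line p r) :
    ∃ x y, bf x p = 1 ∧ bf x r = 0 ∧ bf y p = 0 ∧ bf y r = 1 := by
  have step : ∀ {p r : Fin n ⊕ Fin n → F}, Line p r → ∃ x, bf x p = 1 ∧ bf x r = 0 := by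
    intro p r h
    obtain ⟨a, ha⟩ := exists_bf_one h.ne_left
    obtain ⟨b, hb⟩ := exists_bf_one h.ne_right
    obtain ⟨c, hcp, hcr⟩ : ∃ c, bf c p ≠ 0 ∧ bf c r = 0 := by
      by_contra hne
      push Not at hne
      -- otherwise `p` is a multiple of `r`
      have hall : ∀ v, bf (p - bf b p • r) v = 0 := by
        intro v
        have h1 : bf (v - bf v r • b) r = 0 := by rw [bf_sub_left, bf_smul_left, hb]; ring
        have h2 : bf (v - bf v r • b) p = 0 := by_contra fun h3 => hne _ h3 h1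
        rw [bf_sub_left, bf_smul_left] at h2
        rw [bf_sub_left, bf_smul_left, bf_comm p v, bf_comm r v]
        linear_combination h2
      exact one_ne_zero (h.eq_zero (a := 1) (b := -(bf b p))
        (by rw [one_smul, neg_smul, ← sub_eq_add_neg, nondeg hall])).1
    exact ⟨(bf c p)⁻¹ • c, by rw [bf_smul_left, inv_mul_cancel₀ hcp], by rw [bf_smul_left, hcr, mul_zero]⟩
  obtain ⟨x, hx, hx'⟩ := step h
  obtain ⟨y, hy, hy'⟩ := step h.symm
  exact ⟨x, y, hx, hx', hy', hy⟩

end Line

/-- `v ↦ B(v, r) p - B(v, p) r`. -/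
def nop (p r : Vec) : Matrix (Fin n ⊕ Fin n) (Fin n ⊕ Fin n) F :=
  vecMulVec p (sw r) - vecMulVec r (sw p)

theorem nop_mulVec (p r v : Vec) : nop p r *ᵥ v = bf v r • p - bf v p • r := by
  rw [nop, sub_mulVec, vecMulVec_mulVec, vecMulVec_mulVec, op_smul_eq_smul, op_smul_eq_smul,
    dotProduct_comm, dotProduct_comm (sw p)]
  rfl

theorem elem_mulVec (p r v : Vec) (c : F) :
    (1 + c • nop p r) *ᵥ v = v + c • (bf v r • p - bf v p • r) := by
  rw [add_mulVec, one_mulVec, smul_mulVec, nop_mulVec]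

theorem nop_sq {p r : Vec} (h : Line p r) : nop p r * nop p r = 0 := by
  refine Matrix.ext_iff_mulVec.2 fun v => ?_
  rw [← mulVec_mulVec, nop_mulVec, nop_mulVec, zero_mulVec, bf_sub_left, bf_sub_left,
    bf_smul_left, bf_smul_left, bf_smul_left, bf_smul_left, h.bf_pr, h.bf_rr, h.bf_pp, h.bf_rp]
  module

theorem nop_ne {p r : Vec} (h : Line p r) : nop p r ≠ 0 := by
  intro e
  obtain ⟨x, y, hx, hx', -, -⟩ := h.exists_dual
  have h1 := nop_mulVec p r x
  rw [e, zero_mulVec, hx, hx', zero_smul, zero_sub, one_smul] at h1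
  exact h.ne_right (neg_eq_zero.1 h1.symm)

/-- The matrix of an isometry. -/
abbrev mat (n : ℕ) (F : Type*) [Field F] :
    ↥(Cfsg.isometryGroup F (Cfsg.quadFormPlus n F)) →* Matrix (Fin n ⊕ Fin n) (Fin n ⊕ Fin n) F :=
  (Units.coeHom _).comp (Cfsg.isometryGroup F (Cfsg.quadFormPlus n F)).subtype

theorem mat_injective : Function.Injective (mat n F) := fun _ _ h => Subtype.ext (Units.ext h)

theorem quad_mat (g : O) (v : Vec) : Q (mat n F g *ᵥ v) = Q v := g.2 v v

theorem bf_mat (g : O) (u v : Vec) : bf (mat n F g *ᵥ u) (mat n F g *ᵥ v) = bf u v := by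
  rw [← polar_eq, ← polar_eq, ← mulVec_add, quad_mat, quad_mat, quad_mat]

theorem mat_cancel (g : O) (v : Vec) : mat n F g *ᵥ (mat n F g⁻¹ *ᵥ v) = v := by
  rw [mulVec_mulVec, ← map_mul, mul_inv_cancel, map_one, one_mulVec]

/-- The defining set of `T(p, r)`. -/
def tset (p r : Vec) : Set O :=
  {σ : O | ∀ v : Vec, Q (v + p) - Q v - Q p = 0 → Q (v + r) - Q v - Q r = 0 →
    ((σ : Matrix.GeneralLinearGroup (Fin n ⊕ Fin n) F) : Matrix (Fin n ⊕ Fin n) (Fin n ⊕ Fin n) F) *ᵥ v = v}

/-- `T(p, r)`. -/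
abbrev group (p r : Vec) : Subgroup O := Subgroup.closure (tset p r)

/-- All `T(p, r)`. -/
def cls : Set (Subgroup O) :=
  {A | ∃ p r : Vec, LinearIndependent F ![p, r] ∧ Q p = 0 ∧ Q r = 0 ∧ Q (p + r) = 0 ∧ A = group p r}

theorem group_mem_cls {p r : Vec} (h : Line p r) : group p r ∈ cls :=
  ⟨p, r, h.ind, h.qp, h.qr, h.qpr, rfl⟩

theorem line_of_mem {A : Subgroup O} (hA : A ∈ cls) : ∃ p r, Line p r ∧ A = group p r := by
  obtain ⟨p, r, h1, h2, h3, h4, e⟩ := hA
  exact ⟨p, r, ⟨h1, h2, h3, h4⟩, e⟩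

theorem mem_tset {p r : Vec} {g : O} :
    g ∈ tset p r ↔ ∀ v, bf v p = 0 → bf v r = 0 → mat n F g *ᵥ v = v := by
  simp only [tset, Set.mem_setOf_eq, polar_eq]
  rfl

theorem group_symm (p r : Vec) : group p r = group r p := by
  rw [group, group]
  congr 1
  ext g
  simp only [mem_tset]
  exact ⟨fun h v h1 h2 => h v h2 h1, fun h v h1 h2 => h v h2 h1⟩

theorem group_shift (p r : Vec) (c : F) : group p (r + c • p) = group p r := by
  rw [group, group]
  congr 1
  ext g
  simp only [mem_tset, bf_add_right, bf_smul_right]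
  exact ⟨fun h v h1 h2 => h v h1 (by rw [h1, h2, mul_zero, add_zero]),
    fun h v h1 h2 => h v h1 (by rwa [h1, mul_zero, add_zero] at h2)⟩

theorem group_smul (p r : Vec) {c : F} (hc : c ≠ 0) : group (c • p) r = group p r := by
  rw [group, group]
  congr 1
  ext g
  simp only [mem_tset, bf_smul_right, mul_eq_zero, hc, false_or]

theorem conj_group (g : O) (p r : Vec) :
    conjBy (group p r) g = group (mat n F g *ᵥ p) (mat n F g *ᵥ r) := by
  have key : ∀ (g : O) {p r : Vec} {x : O}, x ∈ tset p r →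
      g * x * g⁻¹ ∈ tset (mat n F g *ᵥ p) (mat n F g *ᵥ r) := by
    intro g p r x hx
    rw [mem_tset] at hx ⊢
    intro v h1 h2
    rw [← mat_cancel g v, bf_mat] at h1 h2
    rw [map_mul, map_mul, ← mulVec_mulVec, ← mulVec_mulVec, hx _ h1 h2, mat_cancel]
  rw [conjBy, group, MonoidHom.map_closure]
  congr 1
  ext y
  constructor
  · rintro ⟨x, hx, rfl⟩
    exact key g hx
  · intro hy
    refine ⟨g⁻¹ * y * g, ?_, by simp [mul_assoc]⟩
    have h := key g⁻¹ hy
    rwa [inv_inv, mulVec_mulVec, mulVec_mulVec, ← map_mul, inv_mul_cancel, map_one, one_mulVec,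
      one_mulVec] at h

theorem conj_mem_cls {A : Subgroup O} (hA : A ∈ cls) (g : O) : conjBy A g ∈ cls := by
  obtain ⟨p, r, h, rfl⟩ := line_of_mem hA
  rw [conj_group]
  refine group_mem_cls (Line.mk' (LinearIndependent.pair_iff.2 fun a b e => h.eq_zero ?_)
    ((quad_mat g p).trans h.qp) ((quad_mat g r).trans h.qr) ((bf_mat g p r).trans h.bf_pr))
  rw [← mulVec_smul, ← mulVec_smul, ← mulVec_add] at e
  have e' := congrArg (mat n F g⁻¹ *ᵥ ·) e
  simpa [mulVec_mulVec, ← map_mul] using e'

theorem quad_elem {p r : Vec} (h : Line p r) (c : F) (v : Vec) :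
    Q ((1 + c • nop p r) *ᵥ v) = Q v := by
  rw [elem_mulVec, quad_add, quad_smul, sub_eq_add_neg, ← neg_smul, h.combo, bf_smul_right,
    bf_add_right, bf_smul_right, bf_smul_right]
  ring

/-- The element `1 + c N`. -/
def elem {p r : Vec} (h : Line p r) (c : F) : O :=
  ⟨⟨1 + c • nop p r, 1 + (-c) • nop p r,
    by rw [NilPair.elem_mul (nop_sq h), add_neg_cancel, zero_smul, add_zero],
    by rw [NilPair.elem_mul (nop_sq h), neg_add_cancel, zero_smul, add_zero]⟩,
    fun u _ => quad_elem h c u⟩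

theorem mat_elem {p r : Vec} (h : Line p r) (c : F) : mat n F (elem h c) = 1 + c • nop p r := rfl

theorem data {p r : Vec} (h : Line p r) : NilPair.Data F (mat n F) (group p r) (nop p r) := by
  refine NilPair.data_closure (nop_sq h) (nop_ne h) (fun g hg => ?_) fun c => ⟨elem h c, ?_, rfl⟩
  swap
  · rw [mem_tset]
    intro v h1 h2
    rw [mat_elem, elem_mulVec, h1, h2, zero_smul, zero_smul, sub_zero, smul_zero, add_zero]
  rw [mem_tset] at hg
  obtain ⟨x, y, hxp, hxr, hyp, hyr⟩ := h.exists_dual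
  set a := mat n F g *ᵥ x - x with ha
  set b := mat n F g *ᵥ y - y with hb
  have hgv : ∀ v, mat n F g *ᵥ v = v + bf v p • a + bf v r • b := by
    intro v
    have h1 := hg (v - bf v p • x - bf v r • y)
      (by rw [bf_sub_left, bf_sub_left, bf_smul_left, bf_smul_left, hxp, hyp]; ring)
      (by rw [bf_sub_left, bf_sub_left, bf_smul_left, bf_smul_left, hxr, hyr]; ring)
    rw [mulVec_sub, mulVec_sub, mulVec_smul, mulVec_smul, sub_eq_iff_eq_add, sub_eq_iff_eq_add] at h1
    rw [h1, ha, hb]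
    module
  have hperp : ∀ z, (∀ u, bf u p = 0 → bf u r = 0 → bf z u = 0) →
      z = bf z x • p + bf z y • r := by
    intro z hz
    refine sub_eq_zero.1 (nondeg fun v => ?_)
    have h1 := hz (v - bf v p • x - bf v r • y)
      (by rw [bf_sub_left, bf_sub_left, bf_smul_left, bf_smul_left, hxp, hyp]; ring)
      (by rw [bf_sub_left, bf_sub_left, bf_smul_left, bf_smul_left, hxr, hyr]; ring)
    rw [bf_sub_right, bf_sub_right, bf_smul_right, bf_smul_right] at h1
    rw [bf_sub_left, bf_add_left, bf_smul_left, bf_smul_left, bf_comm p v, bf_comm r v]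
    linear_combination h1
  have hmoved : ∀ w u, bf u p = 0 → bf u r = 0 → bf (mat n F g *ᵥ w - w) u = 0 := by
    intro w u h1 h2
    have e := bf_mat g w u
    rw [hg u h1 h2] at e
    rw [bf_sub_left, e, sub_self]
  obtain ⟨α, β, hαβ⟩ : ∃ α β : F, a = α • p + β • r := ⟨_, _, hperp a (hmoved x)⟩
  obtain ⟨γ, ε, hγε⟩ : ∃ γ ε : F, b = γ • p + ε • r := ⟨_, _, hperp b (hmoved y)⟩
  have hdiag : ∀ v, bf v (bf v p • a + bf v r • b) = 0 := by
    intro v
    have e := quad_mat g v
    rw [hgv, add_assoc, quad_add, hαβ, hγε] at e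
    rw [show bf v p • (α • p + β • r) + bf v r • (γ • p + ε • r) =
      (bf v p * α + bf v r * γ) • p + (bf v p * β + bf v r * ε) • r by module, h.combo] at e
    rw [hαβ, hγε, show bf v p • (α • p + β • r) + bf v r • (γ • p + ε • r) =
      (bf v p * α + bf v r * γ) • p + (bf v p * β + bf v r * ε) • r by module]
    linear_combination e
  have h1 := hdiag x
  have h2 := hdiag y
  have h3 := hdiag (x + y)
  simp only [hαβ, hγε, bf_add_left, bf_add_right, bf_smul_right, hxp, hxr, hyp, hyr] at h1 h2 h3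
  have hα : α = 0 := by linear_combination h1
  have hε : ε = 0 := by linear_combination h2
  have hβ : β = -γ := by linear_combination h3 - h1 - h2
  refine ⟨γ, Matrix.ext_iff_mulVec.2 fun v => ?_⟩
  rw [hgv, elem_mulVec, hαβ, hγε, hα, hε, hβ]
  module

/-! ### Two lines -/

theorem nop_mul (p r s t v : Vec) :
    (nop p r * nop s t) *ᵥ v = bf v t • (bf s r • p - bf s p • r) - bf v s • (bf t r • p - bf t p • r) := by
  rw [← mulVec_mulVec, nop_mulVec s t, mulVec_sub, mulVec_smul, mulVec_smul, nop_mulVec, nop_mulVec]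

theorem triple (p r s t : Vec) (hs : Line s t) (h : Line p r) :
    nop p r * nop s t * nop p r = (-(bf p s * bf r t - bf p t * bf r s)) • nop p r := by
  refine Matrix.ext_iff_mulVec.2 fun v => ?_
  rw [← mulVec_mulVec, nop_mulVec, mulVec_sub, mulVec_smul, mulVec_smul, nop_mul, nop_mul,
    smul_mulVec, nop_mulVec, bf_comm s r, bf_comm s p, bf_comm t r, bf_comm t p]
  module

theorem det_factor {a b c d : F} (h : a * d = b * c) :
    ∃ u₁ u₂ w₁ w₂ : F, (u₁ ≠ 0 ∨ u₂ ≠ 0) ∧ a = u₁ * w₁ ∧ b = u₁ * w₂ ∧ c = u₂ * w₁ ∧ d = u₂ * w₂ := by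
  by_cases ha : a = 0
  · by_cases hb : b = 0
    · exact ⟨0, 1, c, d, Or.inr one_ne_zero, by simp [ha], by simp [hb], by simp, by simp⟩
    · have hc : c = 0 := by
        rw [ha, zero_mul] at h
        exact (mul_eq_zero.1 h.symm).resolve_left hb
      exact ⟨1, d / b, 0, b, Or.inl one_ne_zero, by simp [ha], by simp, by simp [hc], by field_simp⟩
  · refine ⟨1, c / a, a, b, Or.inl one_ne_zero, by simp, by simp, by field_simp, ?_⟩
    field_simp
    linear_combination h

theorem adj_of_det {p r s t : Vec} (h : Line p r) (h' : Line s t)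
    (hd : bf p s * bf r t - bf p t * bf r s ≠ 0) :
    FAdj (cls (F := F) (n := n)) (group p r) (group s t) ∧
      IsPSL2PairOver F (group p r) (group s t) := by
  have hd' : -(bf s p * bf t r - bf s r * bf t p) = -(bf p s * bf r t - bf p t * bf r s) := by
    rw [bf_comm s p, bf_comm t r, bf_comm s r, bf_comm t p]; ring
  obtain ⟨h1, h2⟩ := (data h).pair mat_injective (data h') (neg_ne_zero.2 hd) (triple p r s t h' h)
    (by rw [triple s t p r h h', hd'])
  exact ⟨⟨group_mem_cls h, group_mem_cls h', h2⟩, h1⟩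

theorem cases (A B : Subgroup O) (hA : A ∈ cls) (hB : B ∈ cls) :
    ⁅A, B⁆ = ⊥ ∨ (IsPSL2PairOver F A B ∧ IsRankOnePair A B) ∨ RootCommutatorCase cls A B := by
  obtain ⟨p, r, h, rfl⟩ := line_of_mem hA
  obtain ⟨s, t, h', rfl⟩ := line_of_mem hB
  by_cases hd : bf p s * bf r t - bf p t * bf r s = 0
  swap
  · obtain ⟨h1, h2⟩ := adj_of_det h h' hd
    exact Or.inr (Or.inl ⟨h2, h1.2.2⟩)
  obtain ⟨u₁, u₂, w₁, w₂, hu, e11, e12, e21, e22⟩ := det_factor (sub_eq_zero.1 hd)
  set x := u₂ • p - u₁ • r with hx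
  set y := w₂ • s - w₁ • t with hy
  have hxz : x ≠ 0 := fun e => by
    obtain ⟨a, b⟩ := h.eq_zero (a := u₂) (b := -u₁) (by rw [neg_smul, ← sub_eq_add_neg]; exact e)
    exact hu.elim (fun h' => h' (neg_eq_zero.1 b)) fun h' => h' a
  have hNM : ∀ v, (nop p r * nop s t) *ᵥ v = (-(bf v y)) • x := by
    intro v
    rw [nop_mul, bf_comm s r, bf_comm s p, bf_comm t r, bf_comm t p, e11, e12, e21, e22, hy,
      bf_sub_right, bf_smul_right, bf_smul_right, hx]
    module
  have hMN : ∀ v, (nop s t * nop p r) *ᵥ v = (-(bf v x)) • y := by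
    intro v
    rw [nop_mul, e11, e12, e21, e22, hx,
      bf_sub_right, bf_smul_right, bf_smul_right, hy]
    module
  have hdiff : nop p r * nop s t - nop s t * nop p r = nop y x := by
    refine Matrix.ext_iff_mulVec.2 fun v => ?_
    rw [sub_mulVec, hNM, hMN, nop_mulVec]
    module
  by_cases hind : LinearIndependent F ![y, x]
  · have hxy : bf x y = 0 := by
      rw [hx, hy, bf_sub_left, bf_smul_left, bf_smul_left, bf_sub_right, bf_sub_right,
        bf_smul_right, bf_smul_right, bf_smul_right, bf_smul_right, e11, e12, e21, e22]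
      ring
    have hline : Line y x := by
      refine Line.mk' hind ?_ ?_ (by rw [bf_comm]; exact hxy)
      · rw [hy, sub_eq_add_neg, ← neg_smul]; exact h'.combo _ _
      · rw [hx, sub_eq_add_neg, ← neg_smul]; exact h.combo _ _
    refine Or.inr (Or.inr ((data h).commCase mat_injective (data h') ?_ ?_ ?_ (group_mem_cls hline)))
    · rw [triple p r s t h' h, hd, neg_zero, zero_smul]
    · rw [triple s t p r h h',
        show bf s p * bf t r - bf s r * bf t p = bf p s * bf r t - bf p t * bf r s by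
          rw [bf_comm s p, bf_comm t r, bf_comm s r, bf_comm t p]; ring,
        hd, neg_zero, zero_smul]
    · rw [hdiff]; exact data hline
  · refine Or.inl ((data h).comm mat_injective (data h') (sub_eq_zero.1 ?_))
    rw [hdiff]
    rw [LinearIndependent.pair_iff] at hind
    push Not at hind
    obtain ⟨a, b, e, hne⟩ := hind
    have ha : a ≠ 0 := by
      intro ha
      rw [ha, zero_smul, zero_add] at e
      exact (hne ha) ((smul_eq_zero.1 e).resolve_right hxz)
    have ey : y = (-(b / a)) • x := by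
      rw [← sub_eq_zero]
      have : y - (-(b / a)) • x = a⁻¹ • (a • y + b • x) := by
        match_scalars <;> field_simp
      rw [this, e, smul_zero]
    refine Matrix.ext_iff_mulVec.2 fun v => ?_
    rw [nop_mulVec, zero_mulVec, ey, bf_smul_right]
    module

/-! ### Connectedness -/

variable (hn : 3 ≤ n)

/-- The component outside a hyperbolic pair. -/
def proj (p u x : Vec) : Vec := x - bf x u • p - bf x p • u

theorem proj_spec {p u : Vec} (hp : Q p = 0) (hu : Q u = 0) (hpu : bf p u = 1) (x : Vec) :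
    bf (proj p u x) p = 0 ∧ bf (proj p u x) u = 0 ∧
      ∀ z, bf z p = 0 → bf z u = 0 → bf (proj p u x) z = bf x z := by
  refine ⟨?_, ?_, fun z h1 h2 => ?_⟩
  · rw [proj, bf_sub_left, bf_sub_left, bf_smul_left, bf_smul_left, bf_self, hp, bf_comm u p, hpu]
    ring
  · rw [proj, bf_sub_left, bf_sub_left, bf_smul_left, bf_smul_left, bf_self, hu, hpu]
    ring
  · rw [proj, bf_sub_left, bf_sub_left, bf_smul_left, bf_smul_left, bf_comm p z, bf_comm u z, h1, h2]
    ring

include hn in
/-- Four vectors have a common orthogonal vector with non-zero value. -/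
theorem exists_quad_ne {p u a b : Vec} (hp : Q p = 0) (hu : Q u = 0) (hpu : bf p u = 1)
    (ha : Q a = 0) (hb : Q b = 0) (hab : bf a b = 1) (hap : bf a p = 0) (hau : bf a u = 0)
    (hbp : bf b p = 0) (hbu : bf b u = 0) :
    ∃ w, bf w p = 0 ∧ bf w u = 0 ∧ bf w a = 0 ∧ bf w b = 0 ∧ Q w ≠ 0 := by
  let φ : (Fin n ⊕ Fin n → F) →ₗ[F] Fin 4 → F :=
    { toFun := fun x => ![bf x p, bf x u, bf x a, bf x b]
      map_add' := fun x y => by simp [bf_add_left]
      map_smul' := fun c x => by simp [bf_smul_left] }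
  obtain ⟨x, hx, hx0⟩ : ∃ x ∈ LinearMap.ker φ, x ≠ 0 := by
    refine (Submodule.ne_bot_iff _).1 fun h => ?_
    have h1 := LinearMap.finrank_range_add_finrank_ker φ
    have h2 := Submodule.finrank_le (LinearMap.range φ)
    rw [h, finrank_bot, Module.finrank_pi, Fintype.card_sum, Fintype.card_fin] at h1
    rw [Module.finrank_pi, Fintype.card_fin] at h2
    omega
  have hxs : bf x p = 0 ∧ bf x u = 0 ∧ bf x a = 0 ∧ bf x b = 0 := by
    have e : (![bf x p, bf x u, bf x a, bf x b] : Fin 4 → F) = 0 := hx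
    exact ⟨congrFun e 0, congrFun e 1, congrFun e 2, congrFun e 3⟩
  obtain ⟨v, hv⟩ := exists_bf_one hx0
  obtain ⟨f1, f2, f3⟩ := proj_spec hp hu hpu v
  obtain ⟨g1, g2, g3⟩ := proj_spec ha hb hab (proj p u v)
  set v' := proj a b (proj p u v)
  have hv'p : bf v' p = 0 := by rw [g3 p (by rw [bf_comm, hap]) (by rw [bf_comm, hbp]), f1]
  have hv'u : bf v' u = 0 := by rw [g3 u (by rw [bf_comm, hau]) (by rw [bf_comm, hbu]), f2]
  have hv'x : bf v' x = 1 := by rw [g3 x hxs.2.2.1 hxs.2.2.2, f3 x hxs.1 hxs.2.1, hv]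
  by_contra hne
  push Not at hne
  have q1 := hne x hxs.1 hxs.2.1 hxs.2.2.1 hxs.2.2.2
  have q2 := hne v' hv'p hv'u g1 g2
  have q3 := hne (x + v') (by rw [bf_add_left, hxs.1, hv'p, add_zero])
    (by rw [bf_add_left, hxs.2.1, hv'u, add_zero]) (by rw [bf_add_left, hxs.2.2.1, g1, add_zero])
    (by rw [bf_add_left, hxs.2.2.2, g2, add_zero])
  rw [quad_add, q1, q2, bf_comm, hv'x] at q3
  exact one_ne_zero (by linear_combination q3)

include hn

/-- Two lines through a point with perpendicular further points are joined. -/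
theorem reach_point {p r t : Vec} (h : Line p r) (h' : Line p t) :
    Relation.ReflTransGen (FAdj (cls (F := F) (n := n))) (group p r) (group p t) := by
  obtain ⟨x, hx⟩ := exists_bf_one h.ne_left
  set u := x - Q x • p with hudef
  have hqu : Q u = 0 := by
    rw [hudef, sub_eq_add_neg, ← neg_smul, quad_add, quad_smul, bf_smul_right, h.qp, hx]
    ring
  have hpu : bf p u = 1 := by
    rw [hudef, bf_sub_right, bf_smul_right, bf_comm p x, hx, h.bf_pp]
    ring
  -- normalise both lines
  set r' := r + (-(bf r u)) • p with hr'def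
  set t' := t + (-(bf t u)) • p with ht'def
  clear_value r' t'
  have hL : Line p r' := hr'def ▸ h.shift _
  have hL' : Line p t' := ht'def ▸ h'.shift _
  rw [← group_shift p r (-(bf r u)), ← group_shift p t (-(bf t u)), ← hr'def, ← ht'def]
  have hru : bf r' u = 0 := by rw [hr'def, bf_add_left, bf_smul_left, hpu]; ring
  have htu : bf t' u = 0 := by rw [ht'def, bf_add_left, bf_smul_left, hpu]; ring
  obtain ⟨s, hsp, hsu, hqs, hsr, hst⟩ : ∃ s, bf s p = 0 ∧ bf s u = 0 ∧ Q s = 0 ∧ bf s r' ≠ 0 ∧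
      bf s t' ≠ 0 := by
    by_cases hrt : bf r' t' = 0
    · obtain ⟨z, hzr, hzt⟩ : ∃ z, bf z r' ≠ 0 ∧ bf z t' ≠ 0 := by
        obtain ⟨a, ha⟩ := exists_bf_one hL.ne_right
        obtain ⟨b, hb⟩ := exists_bf_one hL'.ne_right
        by_cases h1 : bf a t' = 0
        · by_cases h2 : bf b r' = 0
          · exact ⟨a + b, by rw [bf_add_left, ha, h2, add_zero]; exact one_ne_zero,
              by rw [bf_add_left, hb, h1, zero_add]; exact one_ne_zero⟩
          · exact ⟨b, h2, by rw [hb]; exact one_ne_zero⟩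
        · exact ⟨a, by rw [ha]; exact one_ne_zero, h1⟩
      obtain ⟨f1, f2, f3⟩ := proj_spec h.qp hqu hpu z
      set a := proj p u z
      rw [← f3 r' hL.bf_rp hru] at hzr
      rw [← f3 t' hL'.bf_rp htu] at hzt
      refine ⟨a + (-(Q a / bf a r')) • r', ?_, ?_, ?_, ?_, ?_⟩
      · rw [bf_add_left, bf_smul_left, f1, hL.bf_rp]; ring
      · rw [bf_add_left, bf_smul_left, f2, hru]; ring
      · rw [quad_add, quad_smul, bf_smul_right, hL.qr]
        field_simp
        ring
      · rw [bf_add_left, bf_smul_left, hL.bf_rr, mul_zero, add_zero]; exact hzr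
      · rw [bf_add_left, bf_smul_left, hrt, mul_zero, add_zero]; exact hzt
    · set b := (bf r' t')⁻¹ • t' with hbdef
      have hb : Q b = 0 := by rw [hbdef, quad_smul, hL'.qr, mul_zero]
      have hab : bf r' b = 1 := by rw [hbdef, bf_smul_right, inv_mul_cancel₀ hrt]
      have hbp : bf b p = 0 := by rw [hbdef, bf_smul_left, hL'.bf_rp, mul_zero]
      have hbu : bf b u = 0 := by rw [hbdef, bf_smul_left, htu, mul_zero]
      obtain ⟨w, w1, w2, w3, w4, w5⟩ :=
        exists_quad_ne hn h.qp hqu hpu hL.qr hb hab hL.bf_rp hru hbp hbu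
      refine ⟨r' + (-(Q w)) • b + w, ?_, ?_, ?_, ?_, ?_⟩
      · rw [bf_add_left, bf_add_left, bf_smul_left, hL.bf_rp, hbp, w1]; ring
      · rw [bf_add_left, bf_add_left, bf_smul_left, hru, hbu, w2]; ring
      · rw [quad_add, quad_add, quad_smul, bf_add_left, bf_smul_left, bf_smul_right, hL.qr, hb, hab,
          bf_comm r' w, bf_comm b w, w3, w4]
        ring
      · rw [bf_add_left, bf_add_left, bf_smul_left, hL.bf_rr, bf_comm b, hab, w3, zero_add, add_zero,
          mul_one]
        exact neg_ne_zero.2 w5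
      · have e : t' = bf r' t' • b := by rw [hbdef, smul_smul, mul_inv_cancel₀ hrt, one_smul]
        rw [e, bf_smul_right, bf_add_left, bf_add_left, bf_smul_left, hab, bf_self, hb, w4]
        simpa using hrt
  have hline : Line s u := by
    refine Line.mk' (LinearIndependent.pair_iff.2 fun a b e => ?_) hqs hqu hsu
    have h1 := congrArg (fun v => bf v p) e
    simp only [bf_add_left, bf_smul_left, bf_zero_left, hsp, bf_comm u p, hpu, mul_zero, zero_add,
      mul_one] at h1
    rw [h1, zero_smul, add_zero] at e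
    refine ⟨(smul_eq_zero.1 e).resolve_right fun h0 => hsr ?_, h1⟩
    rw [h0, bf_zero_left]
  have d1 : bf p s * bf r' u - bf p u * bf r' s ≠ 0 := by
    rw [bf_comm p s, hsp, hpu, bf_comm r' s]
    simpa using hsr
  have d2 : bf s p * bf u t' - bf s t' * bf u p ≠ 0 := by
    rw [hsp, bf_comm u p, hpu]
    simpa using hst
  exact (Relation.ReflTransGen.single (adj_of_det hL hline d1).1).tail (adj_of_det hline hL' d2).1

theorem connected : IsConnectedFamily (FAdj (cls (F := F) (n := n))) cls := by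
  rintro A hA B hB
  obtain ⟨p, r, h, rfl⟩ := line_of_mem hA
  obtain ⟨s, t, h', rfl⟩ := line_of_mem hB
  -- a point `x` of the first line orthogonal to `s`
  obtain ⟨a, x, hl, hg, hxs⟩ : ∃ a x, Line a x ∧ group a x = group p r ∧ bf x s = 0 := by
    by_cases hps : bf p s = 0
    · exact ⟨r, p, h.symm, group_symm r p, hps⟩
    · refine ⟨p, r + (-(bf r s / bf p s)) • p, h.shift _, group_shift _ _ _, ?_⟩
      rw [bf_add_left, bf_smul_left]
      field_simp
      ring
  rw [← hg, group_symm a x]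
  have hxne : x ≠ 0 := hl.ne_right
  by_cases hind : LinearIndependent F ![x, s]
  · have hxl : Line x s := Line.mk' hind hl.qr h'.qp hxs
    refine (reach_point hn hl.symm hxl).trans ?_
    rw [group_symm x s]
    exact reach_point hn hxl.symm h'
  · rw [LinearIndependent.pair_iff] at hind
    push Not at hind
    obtain ⟨c, d, e, hne⟩ := hind
    have hc : c ≠ 0 := by
      intro hc
      rw [hc, zero_smul, zero_add] at e
      exact (hne hc) ((smul_eq_zero.1 e).resolve_right h'.ne_left)
    have ex : x = (-(d / c)) • s := by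
      rw [← sub_eq_zero]
      have : x - (-(d / c)) • s = c⁻¹ • (c • x + d • s) := by
        match_scalars <;> field_simp
      rw [this, e, smul_zero]
    have hk : -(d / c) ≠ 0 := fun h0 => hxne (by rw [ex, h0, zero_smul])
    have hsl : Line s a := by
      refine Line.mk' (LinearIndependent.pair_iff.2 fun u v e => ?_) h'.qp hl.qp ?_
      · obtain ⟨h1, h2⟩ := hl.eq_zero (a := v) (b := u / -(d / c)) (by
          rw [ex, smul_smul, div_mul_cancel₀ _ hk, add_comm]; exact e)
        exact ⟨(div_eq_zero_iff.1 h2).resolve_right hk, h1⟩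
      · have h1 := hl.bf_rp
        rw [ex, bf_smul_left] at h1
        exact (mul_eq_zero.1 h1).resolve_left hk
    rw [ex, group_smul s a hk]
    exact reach_point hn hsl h'

theorem nonempty : (cls (F := F) (n := n)).Nonempty := by
  let i₀ : Fin n := ⟨0, by omega⟩
  let i₁ : Fin n := ⟨1, by omega⟩
  refine ⟨_, group_mem_cls (p := Pi.single (.inl i₀) 1) (r := Pi.single (.inl i₁) 1)
    (Line.mk' (LinearIndependent.pair_iff.2 fun a b e => ?_) ?_ ?_ ?_)⟩
  · exact ⟨by simpa [i₀, i₁] using congrFun e (.inl i₀), by simpa [i₀, i₁] using congrFun e (.inl i₁)⟩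
  · simp [Cfsg.quadFormPlus]
  · simp [Cfsg.quadFormPlus]
  · simp [bf_eq]

theorem kRootSet :
    IsKRootSubgroupSet F ((fun A : Subgroup O => A.subgroupOf (⨆ B ∈ cls (F := F) (n := n), B)) '' cls) := by
  set H := ⨆ B ∈ cls (F := F) (n := n), B
  have hle : ∀ A ∈ cls (F := F) (n := n), A ≤ H := fun A hA => le_iSup₂ (f := fun A (_ : A ∈ cls) => A) A hA
  have hS := Inside.isRootSubgroupSet (S := cls (F := F) (n := n)) (H := H) rfl
    (fun A hA => by
      obtain ⟨p, r, h, rfl⟩ := line_of_mem hA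
      exact (data h).commutative mat_injective)
    (fun A hA => by
      obtain ⟨p, r, h, rfl⟩ := line_of_mem hA
      exact (data h).ne_bot)
    (fun A hA g _ => conj_mem_cls hA g)
    (fun A hA B hB => (cases A B hA hB).imp id (Or.imp And.right id))
  refine ⟨hS, ?_⟩
  rintro _ ⟨A, hA, rfl⟩ _ ⟨B, hB, rfl⟩ hp
  rcases cases A B hA hB with h | h | h
  · refine absurd ?_ (RootSet.rankOne_not_commute hp)
    rw [Inside.commutator_subgroupOf (hle A hA) (hle B hB), h, Subgroup.bot_subgroupOf]
  · exact Inside.isPSL2PairOver_subgroupOf (hle A hA) (hle B hB) h.1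
  · exact absurd (Inside.rootCommutatorCase_subgroupOf (hle A hA) (hle B hB) h.1 h.2)
      (RootSet.rankOne_not_commCase hS ⟨B, hB, rfl⟩ hp)

end Cfsg.Agent.Lib.RootSubgroups.Siegel
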