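import Mathlib
import Cfsg.Prelude.Def_RootSubgroups
import Cfsg.Agent.Lib.RootSubgroups.TransvectionPairs
import Cfsg.Agent.Lib.LinGroup.SympSimple

/-!
The symplectic transvection groups as a degenerate class of root subgroups.
-/

set_option autoImplicit false

namespace Cfsg.Agent.Lib.RootSubgroups.SpClass

open Cfsg Cfsg.Agent.Lib.RootSubgroups Matrix

variable {F : Type*} [Field F] {m : ℕ}

local notation "Vec" => (Fin (m + 1) ⊕ Fin (m + 1) → F)
local notation "SpG" => (Matrix.symplecticGroup (Fin (m + 1)) F)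

/-- The coercion to matrices. -/
def coeHom : SpG →* Matrix (Fin (m + 1) ⊕ Fin (m + 1)) (Fin (m + 1) ⊕ Fin (m + 1)) F where
  toFun g := g.1
  map_one' := rfl
  map_mul' _ _ := rfl

theorem coeHom_injective : Function.Injective (coeHom (F := F) (m := m)) :=
  fun _ _ h => Subtype.ext h

/-- `J p`. -/
def dual (p : Vec) : Vec := Matrix.J (Fin (m + 1)) F *ᵥ p

theorem dual_dot (p q : Vec) : dual q ⬝ᵥ p = Cfsg.sympForm (m + 1) F p q := dotProduct_comm _ _

theorem dual_self (p : Vec) : dual p ⬝ᵥ p = 0 := by rw [dual_dot, Forms.sympForm_self]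

theorem dual_ne_zero {p : Vec} (hp : p ≠ 0) : dual p ≠ 0 := fun h => hp (by
  have hJ : Matrix.J (Fin (m + 1)) F * Matrix.J (Fin (m + 1)) F = -1 := Matrix.J_squared _ _
  have h1 := congrArg (Matrix.J (Fin (m + 1)) F *ᵥ ·) h
  simp [dual, mulVec_mulVec, hJ, neg_mulVec] at h1
  exact h1)

/-- The transvection group of `p`. -/
def group (p : Vec) : Subgroup SpG :=
  Subgroup.closure {g : SpG | ∃ c : F, ∀ v : Vec,
    (g : Matrix (Fin (m + 1) ⊕ Fin (m + 1)) (Fin (m + 1) ⊕ Fin (m + 1)) F) *ᵥ v =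
      v + (c * (v ⬝ᵥ (Matrix.J (Fin (m + 1)) F *ᵥ p))) • p}

theorem tv_mulVec (p : Vec) (c : F) (v : Vec) :
    Transv.tv p (dual p) c *ᵥ v = v + (c * (v ⬝ᵥ (Matrix.J (Fin (m + 1)) F *ᵥ p))) • p := by
  rw [Transv.tv, add_mulVec, one_mulVec, smul_mulVec, vecMulVec_mulVec, op_smul_eq_smul,
    smul_smul, dotProduct_comm]
  rfl

theorem data {p : Vec} (hp : p ≠ 0) : Transv.Data coeHom (group p) p (dual p) := by
  refine Transv.data_closure coeHom_injective (dual_self p) hp (dual_ne_zero hp) ?_ fun c => ?_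
  · rintro g ⟨c, hc⟩
    exact ⟨c, Matrix.ext_iff_mulVec.2 fun v => by rw [tv_mulVec]; exact hc v⟩
  · exact ⟨Forms.sympTransElem p c, ⟨c, fun v => tv_mulVec p c v⟩, rfl⟩

theorem mem_group {p : Vec} (hp : p ≠ 0) {g : SpG} :
    g ∈ group p ↔ ∃ c, g = Forms.sympTransElem p c := by
  constructor
  · intro hg
    obtain ⟨c, hc⟩ := (data hp).mem g hg
    exact ⟨c, coeHom_injective hc⟩
  · rintro ⟨c, rfl⟩
    obtain ⟨x, hx, hxc⟩ := (data hp).surj c
    rwa [show Forms.sympTransElem p c = x from coeHom_injective hxc.symm]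

theorem spVec_ne_zero (g : SpG) {p : Vec} (hp : p ≠ 0) : LinGroup.spVec g p ≠ 0 := fun h =>
  hp (LinGroup.spVec_injective g (h.trans (by simp [LinGroup.spVec])))

theorem conj_group (g : SpG) {p : Vec} (hp : p ≠ 0) :
    conjBy (group p) g = group (LinGroup.spVec g p) := by
  ext x
  rw [mem_group (spVec_ne_zero g hp)]
  constructor
  · rintro ⟨y, hy, rfl⟩
    obtain ⟨c, rfl⟩ := (mem_group hp).1 hy
    exact ⟨c, LinGroup.sympTransElem_conj g p c⟩
  · rintro ⟨c, rfl⟩
    exact ⟨_, (mem_group hp).2 ⟨c, rfl⟩, LinGroup.sympTransElem_conj g p c⟩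

/-- All transvection groups. -/
def cls : Set (Subgroup SpG) := {A | ∃ p : Vec, p ≠ 0 ∧ A = group p}

theorem generates : (⨆ A ∈ cls (F := F) (m := m), A) = ⊤ := by
  rw [eq_top_iff, ← Forms.closure_sympTransSet_eq_top, Subgroup.closure_le]
  rintro g ⟨w, c, hg⟩
  by_cases hw : w = 0
  · have : g = 1 := coeHom_injective (by
      show g.1 = 1
      rw [hg, hw, Cfsg.sympTransvection]
      simp)
    rw [this]
    exact one_mem _
  · exact le_biSup (f := fun A : Subgroup SpG => A)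
      (show group w ∈ cls from ⟨w, hw, rfl⟩)
      ((mem_group hw).2 ⟨c, Subtype.ext hg⟩)

theorem kRootSet : IsKRootSubgroupSet F (cls (F := F) (m := m)) := by
  refine Transv.rootSet coeHom_injective ?_ ?_ generates ?_
  · rintro A ⟨p, hp, rfl⟩
    exact ⟨p, dual p, data hp⟩
  · rintro A ⟨p, hp, rfl⟩ B ⟨q, hq, rfl⟩ p' φ' q' ψ' hA hB h1 h2
    exfalso
    -- both data describe the same matrices
    obtain ⟨x, hx, hxv⟩ := (data hp).surj 1
    obtain ⟨y, hy, hyv⟩ := (data hq).surj 1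
    obtain ⟨c, hc⟩ := hA.mem x hx
    obtain ⟨d, hd⟩ := hB.mem y hy
    have eP : c • vecMulVec p' φ' = vecMulVec p (dual p) := by
      have := hc.symm.trans hxv
      simpa [Transv.tv] using this
    have eQ : d • vecMulVec q' ψ' = vecMulVec q (dual q) := by
      have := hd.symm.trans hyv
      simpa [Transv.tv] using this
    have hd0 : d ≠ 0 := fun h => Transv.vmv_ne_zero hq (dual_ne_zero hq) (by rw [← eQ, h, zero_smul])
    have hc0 : c ≠ 0 := fun h => Transv.vmv_ne_zero hp (dual_ne_zero hp) (by rw [← eP, h, zero_smul])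
    have eQP : (dual q ⬝ᵥ p) • vecMulVec q (dual p) = 0 := by
      rw [← Transv.vmv_mul, ← eQ, ← eP, Matrix.smul_mul, Matrix.mul_smul, Transv.vmv_mul, h2,
        zero_smul, smul_zero, smul_zero]
    have h0 : dual q ⬝ᵥ p = 0 :=
      (smul_eq_zero.1 eQP).resolve_right (Transv.vmv_ne_zero hq (dual_ne_zero hp))
    have h0' : dual p ⬝ᵥ q = 0 := by
      rw [dual_dot] at h0 ⊢
      rw [Forms.sympForm_comm, h0, neg_zero]
    have e : (c * d) • ((φ' ⬝ᵥ q') • vecMulVec p' ψ') = 0 := by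
      rw [← Transv.vmv_mul, ← smul_smul, ← Matrix.mul_smul, ← Matrix.smul_mul, eP, eQ, Transv.vmv_mul,
        h0', zero_smul]
    rw [smul_smul] at e
    exact mul_ne_zero (mul_ne_zero hc0 hd0) h1
      ((smul_eq_zero.1 e).resolve_right (Transv.vmv_ne_zero hA.ne_p hB.ne_φ))
  · rintro A ⟨p, hp, rfl⟩ g
    exact ⟨_, spVec_ne_zero g hp, conj_group g hp⟩

theorem degenerate : IsDegenerateRootSet (cls (F := F) (m := m)) := by
  rintro A ⟨p, hp, rfl⟩ B ⟨q, hq, rfl⟩ hc
  have hS := (kRootSet (F := F) (m := m)).1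
  by_cases h : dual p ⬝ᵥ q = 0
  · refine RootSet.commCase_not_commute hS hc ((data hp).comm coeHom_injective (data hq) h ?_)
    rw [dual_dot] at h ⊢
    rw [Forms.sympForm_comm, h, neg_zero]
  · refine RootSet.rankOne_not_commCase hS ⟨q, hq, rfl⟩
      ((data hp).pair coeHom_injective (data hq) h fun h' => h ?_).2 hc
    rw [dual_dot] at h' ⊢
    rw [Forms.sympForm_comm, h', neg_zero]

theorem rootClass : IsRootSubgroupClass (cls (F := F) (m := m)) := by
  have hne : (Pi.single (Sum.inl 0) 1 : Vec) ≠ 0 := fun h => by simpa using congrFun h (Sum.inl 0)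
  refine ⟨kRootSet.1, ⟨_, _, hne, rfl⟩, ?_⟩
  rintro A ⟨p, hp, rfl⟩ B ⟨q, hq, rfl⟩
  obtain ⟨g, hg⟩ := LinGroup.exists_spVec_eq p q hp hq
  exact ⟨g, by rw [conj_group g hp, hg]⟩

theorem connected : IsConnectedFamily (FAdj (cls (F := F) (m := m))) cls := by
  set p : Vec := Pi.single (Sum.inl 0) 1 with hp
  set q : Vec := Pi.single (Sum.inr 0) 1 with hq
  have hp0 : p ≠ 0 := fun h => by simpa [hp] using congrFun h (Sum.inl 0)
  have hq0 : q ≠ 0 := fun h => by simpa [hq] using congrFun h (Sum.inr 0)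
  have hd : dual p ⬝ᵥ q ≠ 0 := by
    simp [dual, hp, hq, Matrix.J, Matrix.mulVec_single]
  have hpair := ((data hp0).pair coeHom_injective (data hq0) hd fun h' => hd (by
    rw [dual_dot] at h' ⊢
    rw [Forms.sympForm_comm, h', neg_zero])).2
  exact RootSet.class_connected rootClass.1 rootClass.2 ⟨p, hp0, rfl⟩
    (RootSet.not_isolated_of_pair ⟨p, hp0, rfl⟩ ⟨q, hq0, rfl⟩ hpair)

end Cfsg.Agent.Lib.RootSubgroups.SpClass
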