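import Mathlib
import Cfsg.Prelude.Def_RootSubgroups
import Cfsg.Agent.Lib.RootSubgroups.Blocks
import Cfsg.Agent.Lib.RootSubgroups.ClassLines
import Cfsg.Agent.Lib.RootSubgroups.SL2Pair

/-!
In a class with two commuting members every rank one pair is special.
-/

set_option autoImplicit false

universe u

namespace Cfsg.Agent.Lib.RootSubgroups.RootSet

open Cfsg Cfsg.Agent.Lib.RootSubgroups Cfsg.Agent.Lib.SL2
open scoped commutatorElement

variable {G : Type*} [Group G] {S : Set (Subgroup G)} {A B C E : Subgroup G}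

theorem special_of_small (hp : IsRankOnePair A B)
    (hsm : ∀ a₁ ∈ A, ∀ a₂ ∈ A, a₁ ≠ 1 → a₂ ≠ 1 → a₁ = a₂) : IsSpecialRankOnePair A B := by
  refine ⟨hp, fun a ha ha1 b hb hb1 he => ?_⟩
  have hB : ∀ y ∈ B, y ≠ 1 → y = b := by
    intro y hy hy1
    obtain ⟨x, hx, hx1, hxe⟩ := hp.cond_right y hy hy1
    rw [hsm x hx a ha hx1 ha1] at hxe
    exact RankOne.partner_unique hp hy hb hxe.symm he
  have hai : a⁻¹ = a := hsm _ (inv_mem ha) a ha (inv_ne_one.2 ha1) ha1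
  have hbi : b⁻¹ = b := hB _ (inv_mem hb) (inv_ne_one.2 hb1)
  have hmem : b⁻¹ * a * (b⁻¹)⁻¹ ∈ conjBy B a⁻¹ := he ▸ conj_mem_conjBy ha
  rw [mem_conjBy] at hmem
  have h1 := hB _ hmem fun h => ha1 (conj_eq_one_iff.1 (show b⁻¹ * a * (b⁻¹)⁻¹ = 1 by
    have h2 := congrArg (fun x => a⁻¹ * x * a) h
    simpa [mul_assoc] using h2))
  simp only [inv_inv, hai, hbi] at h1 ⊢
  have h3 := congrArg (fun x => a * x * a) h1
  have haa : a * a = 1 := by
    nth_rewrite 1 [← hai]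
    exact inv_mul_cancel a
  have haa' : ∀ x, a * (a * x) = x := fun x => by rw [← mul_assoc, haa, one_mul]
  simpa [mul_assoc, haa, haa'] using h3

theorem exists_common_partner (hS : IsRootSubgroupSet S) (hd : IsDegenerateRootSet S)
    (hconn : IsConnectedFamily (FAdj S) S) (hA : A ∈ S)
    (hC : C ∈ S) (hne : A ≠ C) (hAC : ⁅A, C⁆ = ⊥) : ∃ C' E, Tri S A C' E := by
  by_contra hcon
  have key : ∀ X, FReach S C X → X ≠ A ∧ ⁅A, X⁆ = ⊥ := by
    intro X hX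
    induction hX with
    | refl => exact ⟨hne.symm, hAC⟩
    | @tail Y Z _ hYZ ih =>
      have hZA : Z ≠ A := fun h =>
        rankOne_not_commute hYZ.2.2 (h ▸ commutator_eq_bot_comm.1 ih.2)
      refine ⟨hZA, ?_⟩
      rcases hS.pair A hA Z hYZ.2.1 with h | h | h
      · exact h
      · exact absurd ⟨Y, Z, ⟨hS, hd, hA, hYZ.1, hYZ.2.1, ih.1.symm, ih.2, h, hYZ.2.2⟩⟩ hcon
      · exact absurd h (hd A hA Z hYZ.2.1)
  exact (key A (hconn C hC A hA)).1 rfl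

theorem Tri.partner (T : Tri S A C E) {a e : G} (ha : a ∈ A) (ha1 : a ≠ 1) (he : e ∈ E)
    (he1 : e ≠ 1) (hea : conjBy A e = conjBy E a) : RankOne.Partner A E a e := by
  have h : RankOne.Partner A E a⁻¹ e⁻¹ :=
    ⟨inv_mem ha, inv_ne_one.2 ha1, inv_mem he, inv_ne_one.2 he1, by rw [inv_inv, inv_inv]; exact hea⟩
  have h' := h.inv T.special
  rwa [inv_inv, inv_inv] at h'

theorem Tri.g_conj_self (T : Tri S A C E) {a e : G} (ha : a ∈ A) (ha1 : a ≠ 1) (he : e ∈ E)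
    (he1 : e ≠ 1) (hea : conjBy A e = conjBy E a) : (a⁻¹ * e) * a * (a⁻¹ * e)⁻¹ = e⁻¹ := by
  have h := (T.partner ha ha1 he he1 hea).conj_right T.special
  calc (a⁻¹ * e) * a * (a⁻¹ * e)⁻¹ = a⁻¹ * (e * a * e⁻¹) * a := by simp [mul_assoc]
    _ = e⁻¹ := by rw [h]; simp [mul_assoc]

theorem Tri.exponent (T : Tri S A C E) (hB : B ∈ S) (hAB : Blk S A B) (hne : A ≠ B)
    (hbig : ∃ a₁ ∈ A, ∃ a₂ ∈ A, a₁ ≠ 1 ∧ a₂ ≠ 1 ∧ a₁ ≠ a₂) :
    ∀ x ∈ A, x ^ 2 = 1 ∨ x ^ 3 = 1 := by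
  intro x hx
  by_contra hcon
  push Not at hcon
  obtain ⟨hx2, hx3⟩ := hcon
  have hx1 : x ≠ 1 := fun h => hx2 (by rw [h, one_pow])
  obtain ⟨e, he, he1, hea⟩ := exists_right_partner T.pair hx hx1
  obtain ⟨e₂, he₂, he₂1, hea₂⟩ := exists_right_partner T.pair (pow_mem hx 2) hx2
  have h1 := T.g_conj_self (pow_mem hx 2) hx2 he₂ he₂1 hea₂
  rw [← T.hua_trivial hB hAB hne hbig hx hx1 he he1 hea (pow_mem hx 2) he₂ he₂1 hea₂ (pow_mem hx 2),
    ← conj_pow, T.g_conj_self hx hx1 he he1 hea] at h1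
  have h2 := RankOne.partner_pow T.special 2 hx (T.partner (pow_mem hx 2) hx2 he₂ he₂1 hea₂)
  have h3 := h2.right_unique T.special.1 (T.partner hx hx1 he he1 hea)
  have h4 : e₂ = e ^ 2 := by rw [← inv_inj, ← h1, inv_pow]
  rw [h4, ← pow_mul] at h3
  have h5 : e ^ 3 = 1 := by
    have : e ^ 3 * e = 1 * e := by rw [one_mul, ← pow_succ]; exact h3
    exact mul_right_cancel this
  apply hx3
  have h6 : ((x⁻¹ * e) * x * (x⁻¹ * e)⁻¹) ^ 3 = 1 := by
    rw [T.g_conj_self hx hx1 he he1 hea, inv_pow, h5, inv_one]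
  rw [conj_pow] at h6
  exact conj_eq_one_iff.1 h6

theorem Tri.not_sl2 (T : Tri S A C E) (hB : B ∈ S) (hAB : Blk S A B) (hne : A ≠ B)
    (hbig : ∃ a₁ ∈ A, ∃ a₂ ∈ A, a₁ ≠ 1 ∧ a₂ ≠ 1 ∧ a₁ ≠ a₂) {A₀ E₀ : Subgroup G} (hA₀ : A₀ ≤ A)
    (hE₀ : E₀ ≤ E) {k : Type*} [Field k] (hk : 3 < ENat.card k)
    (h : IsPSL2PairOver k A₀ E₀) : False := by
  obtain ⟨φ, -, hker, hU, hL⟩ := h
  have hS := T.rootSet
  have mU : ∀ t : k, φ (SL2.upper t) ∈ A := fun t =>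
    hA₀ (hU ▸ Subgroup.mem_map_of_mem φ (SL2Pair.upper_mem t))
  have mL : ∀ t : k, φ (SL2.lower t) ∈ E := fun t =>
    hE₀ (hL ▸ Subgroup.mem_map_of_mem φ (SL2Pair.lower_mem t))
  have hcu : ∀ t : k, SL2.upper t ∈ Subgroup.center (SLtwo k) → t = 0 := by
    intro t ht
    have h1 := congrArg (fun g : SLtwo k => g 0 0) (Subgroup.mem_center_iff.1 ht (SL2.lower 1))
    simp [SL2.mul_00] at h1
    simpa using h1
  have hcl : ∀ t : k, SL2.lower t ∈ Subgroup.center (SLtwo k) → t = 0 := by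
    intro t ht
    have h1 := congrArg (fun g : SLtwo k => g 1 1) (Subgroup.mem_center_iff.1 ht (SL2.upper 1))
    simp [SL2.mul_11] at h1
    simpa using h1
  have nU : ∀ t : k, t ≠ 0 → φ (SL2.upper t) ≠ 1 := fun t ht h1 => ht (hcu t (hker h1))
  have nL : ∀ t : k, t ≠ 0 → φ (SL2.lower t) ≠ 1 := fun t ht h1 => ht (hcl t (hker h1))
  have hrel : ∀ s : k, s ≠ 0 →
      conjBy A (φ (SL2.lower s⁻¹)) = conjBy E (φ (SL2.upper s)) := by
    intro s hs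
    set e := φ (SL2.lower s⁻¹)
    set a := φ (SL2.upper s)
    have e0 : (SL2.lower s⁻¹ : SLtwo k) * SL2.upper 1 * (SL2.lower s⁻¹)⁻¹ =
        SL2.upper s * SL2.lower (-(s⁻¹ * s⁻¹)) * (SL2.upper s)⁻¹ := by
      refine SL2.ext_entries ?_ ?_ ?_ ?_ <;>
        simp [SL2.mul_00, SL2.mul_01, SL2.mul_10, SL2.mul_11, SL2.inv_00, SL2.inv_01, SL2.inv_10,
          SL2.inv_11] <;> grind
    have hni := not_isolated_conj hS T.memA (not_isolated_of_pair T.memA T.memE T.pair) e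
    rcases inf_eq_bot_or_eq hS (hS.conj_mem A T.memA e) hni (hS.conj_mem E T.memE a) with h1 | h1
    · exfalso
      have h2 : e * φ (SL2.upper 1) * e⁻¹ ∈ conjBy A e ⊓ conjBy E a := by
        refine ⟨conj_mem_conjBy (mU 1), ?_⟩
        rw [← map_inv, ← map_mul, ← map_mul, e0, map_mul, map_mul, map_inv]
        exact conj_mem_conjBy (mL _)
      rw [h1, Subgroup.mem_bot] at h2
      exact nU 1 one_ne_zero (conj_eq_one_iff.1 h2)
    · exact h1
  have hsq : ∀ s : k, s ≠ 0 → s * s = 1 := by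
    intro s hs
    have h1 := T.hua_trivial hB hAB hne hbig (mU s) (nU s hs) (mL s⁻¹) (nL _ (inv_ne_zero hs))
      (hrel s hs) (mU 1) (mL 1⁻¹) (nL _ (inv_ne_zero one_ne_zero)) (hrel 1 one_ne_zero) (mU 1)
    simp only [← map_inv, ← map_mul] at h1
    have e1 : ∀ r : k, r ≠ 0 → ((SL2.upper r)⁻¹ * SL2.lower r⁻¹) * SL2.upper 1 *
        ((SL2.upper r)⁻¹ * SL2.lower r⁻¹)⁻¹ = (SL2.lower (-(r⁻¹ * r⁻¹)) : SLtwo k) := by
      intro r hr
      refine SL2.ext_entries ?_ ?_ ?_ ?_ <;>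
        simp [SL2.mul_00, SL2.mul_01, SL2.mul_10, SL2.mul_11, SL2.inv_00, SL2.inv_01, SL2.inv_10,
          SL2.inv_11] <;> grind
    rw [e1 s hs, e1 1 one_ne_zero] at h1
    have h2 : φ ((SL2.lower (-(s⁻¹ * s⁻¹)))⁻¹ * SL2.lower (-((1 : k)⁻¹ * 1⁻¹))) = 1 := by
      rw [map_mul, map_inv, h1, inv_mul_cancel]
    have h3 : (SL2.lower (-(s⁻¹ * s⁻¹)) : SLtwo k)⁻¹ * SL2.lower (-((1 : k)⁻¹ * 1⁻¹)) =
        SL2.lower (s⁻¹ * s⁻¹ - 1) := by
      refine SL2.ext_entries ?_ ?_ ?_ ?_ <;>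
        simp [SL2.mul_00, SL2.mul_01, SL2.mul_10, SL2.mul_11, SL2.inv_00, SL2.inv_01, SL2.inv_10,
          SL2.inv_11] <;> grind
    rw [h3] at h2
    have h4 := hcl _ (hker h2)
    grind
  have hall : (Set.univ : Set k) ⊆ {0, 1, -1} := by
    intro s _
    by_cases hs : s = 0
    · exact Or.inl hs
    · rcases mul_self_eq_one_iff.1 (hsq s hs) with h1 | h1
      · exact Or.inr (Or.inl h1)
      · exact Or.inr (Or.inr h1)
  have h1 : ENat.card k ≤ 3 := by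
    rw [← Set.encard_univ]
    refine (Set.encard_le_encard hall).trans ?_
    refine (Set.encard_insert_le _ _).trans ?_
    refine (add_le_add_left (Set.encard_insert_le _ _) 1).trans ?_
    rw [Set.encard_singleton]
    norm_num
  exact not_le.2 hk h1

theorem class_special {G : Type u} [Group G] {S : Set (Subgroup G)} (hS : IsRootSubgroupClass S)
    (hcomm : ∃ A ∈ S, ∃ C ∈ S, A ≠ C ∧ ⁅A, C⁆ = ⊥)
    (hH : IsDegenerateRootSet S → (∀ A ∈ S, ∀ a ∈ A, 0 < orderOf a ∧ orderOf a ≤ 3) →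
      ∀ A ∈ S, ∀ B ∈ rankOnePartners S A, ∃ A₀ B₀ : Subgroup G, A₀ ≤ A ∧ B₀ ≤ B ∧
        ∃ (k : Type u) (_ : Field k), 3 < ENat.card k ∧ IsPSL2PairOver k A₀ B₀)
    {A B : Subgroup G} (hA : A ∈ S) (hB : B ∈ S) (hp : IsRankOnePair A B) :
    IsSpecialRankOnePair A B := by
  have hni := class_not_isolated hS.1 hS.2 hA (not_isolated_of_pair hA hB hp)
  by_cases hd : IsDegenerateRootSet S
  swap
  · have hnd : IsNondegenerateRootSet S := by
      simp only [IsDegenerateRootSet, not_forall, not_not] at hd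
      obtain ⟨X, hX, Y, hY, hc⟩ := hd
      exact ⟨hcomm, ⟨A, hA, B, hB, hp⟩, X, hX, Y, hY, hc⟩
    obtain ⟨L, hL⟩ := exists_linePartner_class hS hnd hA
    exact special_of_line hS.1 hni hA hB hp hL
  by_contra hns
  -- no member commutes with exactly one of `A`, `B`
  have hpair : ∀ {X Y : Subgroup G}, X ∈ S → Y ∈ S → ⁅X, Y⁆ ≠ ⊥ → IsRankOnePair X Y :=
    fun hX hY h => ((hS.1.pair _ hX _ hY).resolve_left h).resolve_right (hd _ hX _ hY)
  have hblk : Blk S A B := by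
    refine Or.inr ⟨rankOne_not_commute hp, fun D hD hDA hDB => ⟨fun h => ?_, fun h => ?_⟩⟩
    · by_contra hc
      exact hns (special_of_commuting hS.1 hA hB hDA.symm h hp
        (RankOne.symm (hpair hB hD hc)))
    · by_contra hc
      exact hns (special_symm (special_of_commuting hS.1 hB hA hDB.symm h (RankOne.symm hp)
        (RankOne.symm (hpair hA hD hc))))
  obtain ⟨P, hP, Q, hQ, hne, hPQ⟩ := id hcomm
  obtain ⟨g, rfl⟩ := hS.2.2 P hP A hA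
  obtain ⟨C, E, T⟩ := exists_common_partner hS.1 hd
    (class_connected hS.1 hS.2 hA (not_isolated_of_pair hA hB hp)) hA (hS.1.conj_mem Q hQ g)
    (fun h => hne (conjBy_inj.1 h)) (commutator_conjBy_eq_bot.2 hPQ)
  have hbig : ∃ a₁ ∈ conjBy P g, ∃ a₂ ∈ conjBy P g, a₁ ≠ 1 ∧ a₂ ≠ 1 ∧ a₁ ≠ a₂ := by
    by_contra h
    push Not at h
    exact hns (special_of_small hp fun a₁ h₁ a₂ h₂ n₁ n₂ => h a₁ h₁ a₂ h₂ n₁ n₂)
  have hexp := T.exponent hB hblk hp.ne hbig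
  obtain ⟨A₀, E₀, hA₀, hE₀, k, hkf, hk, hψ⟩ := hH hd (fun X hX x hx => by
    obtain ⟨h, rfl⟩ := hS.2.2 _ hA X hX
    obtain ⟨a, ha, rfl⟩ := hx
    rw [MulEquiv.coe_toMonoidHom, MulEquiv.orderOf_eq]
    rcases hexp a ha with h1 | h1
    · exact ⟨(isOfFinOrder_iff_pow_eq_one.2 ⟨2, by norm_num, h1⟩).orderOf_pos,
        (orderOf_le_of_pow_eq_one (by norm_num) h1).trans (by norm_num)⟩
    · exact ⟨(isOfFinOrder_iff_pow_eq_one.2 ⟨3, by norm_num, h1⟩).orderOf_pos,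
        orderOf_le_of_pow_eq_one (by norm_num) h1⟩) _ hA E ⟨T.memE, T.pair⟩
  exact T.not_sl2 hB hblk hp.ne hbig hA₀ hE₀ hk hψ

end Cfsg.Agent.Lib.RootSubgroups.RootSet
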