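import Mathlib
import Cfsg.Prelude.Def_RootSubgroups
import Cfsg.Agent.Lib.RootSubgroups.RankOneNormal
import Cfsg.Agent.Lib.RootSubgroups.Special
import Cfsg.Agent.Lib.RootSubgroups.SL2Pair
import Cfsg.Agent.Lib.RootSubgroups.SL2Lift

/-!
Partner pairs of exponent `p` in special rank one groups generate images of `SL(2, p)`.
-/

set_option autoImplicit false

namespace Cfsg.Agent.Lib.RootSubgroups.RankOne

open Cfsg Cfsg.Agent.Lib.RootSubgroups Cfsg.Agent.Lib.SL2

/-- A normal subgroup of `SL(2, k)` is central or supplements the lower unitriangular group. -/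
theorem sl2_normal_dichotomy {k : Type*} [Field k] {N : Subgroup (SLtwo k)} (hN : N.Normal) :
    N ⊔ lowerUnipotentSL2 k = ⊤ ∨ N ≤ Subgroup.center (SLtwo k) :=
  normal_sup_or_central ⟨SL2Pair.sup_eq_top, SL2Pair.isRankOnePair⟩ hN

/-- A homomorphism from `SL(2, k)` under which some upper and some lower root element do not
commute has central kernel. -/
theorem sl2_ker_le_center {k : Type*} [Field k] {H : Type*} [Group H] (φ : SLtwo k →* H) {s t : k}
    (hne : φ (upper s) * φ (lower t) ≠ φ (lower t) * φ (upper s)) :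
    φ.ker ≤ Subgroup.center (SLtwo k) := by
  rcases sl2_normal_dichotomy (MonoidHom.normal_ker φ) with h | h
  · exfalso
    apply hne
    have hs : upper s ∈ φ.ker ⊔ lowerUnipotentSL2 k := h ▸ Subgroup.mem_top _
    obtain ⟨n, hn, l, hl, he⟩ := Subgroup.mem_sup_of_normal_left.1 hs
    obtain ⟨r, rfl⟩ := SL2Pair.mem_lower.1 hl
    rw [← he, map_mul, MonoidHom.mem_ker.1 hn, one_mul, ← map_mul, ← map_mul, lower_mul, lower_mul,
      add_comm]
  · exact h

theorem sl2_center_eq (k : Type*) [Field k] :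
    ∀ g ∈ Subgroup.center (SLtwo k), g = 1 ∨ g = -1 := by
  intro g hg
  exact (mem_center_iff_eq g).1 hg

variable {G : Type*} [Group G] {A B : Subgroup G}

theorem Partner.pow_right_eq_one (hs : IsSpecialRankOnePair A B) {a b : G} (hp : Partner A B a b)
    {n : ℕ} (ha : a ^ n = 1) : b ^ n = 1 := by
  have h1 : b⁻¹ ^ n = 1 := by
    rw [← hp.conj_mu_self hs, conj_pow, ha]; simp
  rwa [inv_pow, inv_eq_one] at h1

/-- For a partner pair with `a` of prime order `p` there is a homomorphism from `SL(2, p)` with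
central kernel onto `⟨a, b⟩`. -/
theorem exists_sl2_prime (hs : IsSpecialRankOnePair A B) {p : ℕ} [Fact p.Prime]
    {a b : G} (hp : Partner A B a b) (hap : a ^ p = 1) :
    ∃ φ : SLtwo (ZMod p) →* G, φ.range = Subgroup.closure {a, b} ∧
      φ (upper 1) = a ∧ φ (lower 1) = b ∧ φ.ker ≤ Subgroup.center (SLtwo (ZMod p)) := by
  have hbp : b ^ p = 1 := hp.pow_right_eq_one hs hap
  set u : ZMod p → G := fun t => a ^ t.val with hu
  set v : ZMod p → G := fun t => b ^ t.val with hv
  have hpow : ∀ (x : G), x ^ p = 1 → ∀ (n : ℕ), x ^ n = x ^ (n : ZMod p).val := fun x hx n => by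
    rw [ZMod.val_natCast, ← pow_eq_pow_mod n hx]
  have hadd : ∀ (x : G), x ^ p = 1 → ∀ s t : ZMod p, x ^ (s + t).val = x ^ s.val * x ^ t.val :=
    fun x hx s t => by rw [← pow_add, ZMod.val_add, ← pow_eq_pow_mod _ hx]
  have hu_pow : ∀ (t : ZMod p) (n : ℕ), u t ^ n = u (n * t) := fun t n => by
    rw [hu]
    simp only
    rw [← pow_mul, hpow a hap (t.val * n), Nat.cast_mul, ZMod.natCast_zmod_val, mul_comm]
  have hv_pow : ∀ (t : ZMod p) (n : ℕ), v t ^ n = v (n * t) := fun t n => by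
    rw [hv]
    simp only
    rw [← pow_mul, hpow b hbp (t.val * n), Nat.cast_mul, ZMod.natCast_zmod_val, mul_comm]
  have hord : orderOf a = p := orderOf_eq_prime hap hp.2.1
  have hu_ne : ∀ t : ZMod p, t ≠ 0 → u t ≠ 1 := fun t ht h => by
    have h1 := orderOf_dvd_of_pow_eq_one h
    rw [hord] at h1
    exact ht (by rw [← ZMod.natCast_zmod_val t, ZMod.natCast_eq_zero_iff]; exact h1)
  have hu1 : u 1 = a := by
    have : (1 : ZMod p).val = 1 := ZMod.val_one p
    simp [hu, this]
  have hv1 : v 1 = b := by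
    have : (1 : ZMod p).val = 1 := ZMod.val_one p
    simp [hv, this]
  have hpart : ∀ t : ZMod p, t ≠ 0 → Partner A B (u t) (v t⁻¹) := by
    intro t ht
    obtain ⟨d, hd⟩ := exists_partner hs.1 (pow_mem hp.1 _) (hu_ne t ht)
    have hdb : d ^ t.val = b := (partner_pow hs _ hp.1 hd).right_unique hs.1 hp
    have hdp : d ^ p = 1 := hd.pow_right_eq_one hs (by
      rw [← pow_mul, mul_comm, pow_mul, hap, one_pow])
    have h1 : v t⁻¹ = d := by
      rw [hv]
      simp only
      rw [← hdb, ← pow_mul, hpow d hdp, Nat.cast_mul, ZMod.natCast_zmod_val,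
        ZMod.natCast_zmod_val, mul_inv_cancel₀ ht, ZMod.val_one p, pow_one]
    rw [h1]
    exact hd
  have P : SL2Lift.SteinbergPair u v := by
    refine ⟨hadd a hap, hadd b hbp, fun t ht s => ?_⟩
    have hvn : (v t⁻¹)⁻¹ = v (-t⁻¹) := by
      rw [inv_eq_iff_mul_eq_one, hv]
      simp only
      rw [← hadd b hbp, add_neg_cancel, ZMod.val_zero, pow_zero]
    have hm : u t * v (-t⁻¹) * u t = mu (u t) (v t⁻¹) := by rw [mu, hvn]
    have hconj := (hpart t ht).conj_mu_self hs
    rw [← hm, hvn] at hconj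
    have hsn : u s = u t ^ (s / t).val := by
      rw [hu_pow, ZMod.natCast_zmod_val, div_mul_cancel₀ s ht]
    rw [hsn, ← conj_pow, hconj, hv_pow, ZMod.natCast_zmod_val]
    congr 1
    field_simp
  obtain ⟨φ, hφu, hφv⟩ := SL2Lift.exists_hom P
  refine ⟨φ, ?_, by rw [hφu, hu1], by rw [hφv, hv1], sl2_ker_le_center φ (s := 1) (t := 1) ?_⟩
  · refine le_antisymm ?_ ((Subgroup.closure_le _).2 ?_)
    · rw [MonoidHom.range_eq_map, ← SL2Pair.sup_eq_top, Subgroup.map_sup]
      refine sup_le ?_ ?_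
      · rintro _ ⟨g, hg, rfl⟩
        obtain ⟨t, rfl⟩ := SL2Pair.mem_lower.1 hg
        rw [hφv]
        exact pow_mem (Subgroup.subset_closure (by simp)) _
      · rintro _ ⟨g, hg, rfl⟩
        obtain ⟨t, rfl⟩ := SL2Pair.mem_upper.1 hg
        rw [hφu]
        exact pow_mem (Subgroup.subset_closure (by simp)) _
    · rintro x (rfl | rfl)
      · exact ⟨upper 1, by rw [hφu, hu1]⟩
      · exact ⟨lower 1, by rw [hφv, hv1]⟩
  · rw [hφu, hφv, hu1, hv1]
    intro hc
    exact hp.2.2.2.1 (eq_one_of_comm hs.1 hp.1 hp.2.1 hp.2.2.1 hc.symm)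

theorem nonempty_equiv_of_ker_le_center {k : Type*} [Field k] {H : Type*} [Group H]
    (φ : SLtwo k →* H) (hsurj : Function.Surjective φ)
    (hker : φ.ker ≤ Subgroup.center (SLtwo k)) :
    Nonempty (H ≃* Matrix.SpecialLinearGroup (Fin 2) k) ∨
      Nonempty (H ≃* Matrix.ProjectiveSpecialLinearGroup (Fin 2) k) := by
  have hc : φ.ker = ⊥ ∨ φ.ker = Subgroup.center (SLtwo k) := by
    by_cases h : (-1 : SLtwo k) ∈ φ.ker
    · refine Or.inr (le_antisymm hker fun g hg => ?_)
      rcases sl2_center_eq k g hg with rfl | rfl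
      · exact one_mem _
      · exact h
    · refine Or.inl ((Subgroup.eq_bot_iff_forall _).2 fun g hg => ?_)
      rcases sl2_center_eq k g (hker hg) with rfl | rfl
      · rfl
      · exact absurd hg h
  rcases hc with h | h
  · exact Or.inl ⟨(MulEquiv.ofBijective φ ⟨(MonoidHom.ker_eq_bot_iff φ).1 h, hsurj⟩).symm⟩
  · exact Or.inr ⟨(QuotientGroup.quotientKerEquivOfSurjective φ hsurj).symm.trans
      (QuotientGroup.quotientMulEquivOfEq h)⟩

theorem sl2_closure_equiv {p : ℕ} [Fact p.Prime] (hs : IsSpecialRankOnePair A B) {a b : G}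
    (hp : Partner A B a b) (hap : a ^ p = 1) :
    Nonempty (↥(Subgroup.closure ({a, b} : Set G)) ≃* Matrix.SpecialLinearGroup (Fin 2) (ZMod p)) ∨
    Nonempty (↥(Subgroup.closure ({a, b} : Set G)) ≃*
      Matrix.ProjectiveSpecialLinearGroup (Fin 2) (ZMod p)) := by
  obtain ⟨φ, hr, -, -, hk⟩ := exists_sl2_prime hs hp hap
  rw [← hr]
  exact nonempty_equiv_of_ker_le_center φ.rangeRestrict φ.rangeRestrict_surjective
    (by rw [MonoidHom.ker_rangeRestrict]; exact hk)

end Cfsg.Agent.Lib.RootSubgroups.RankOne
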