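import Mathlib
import Cfsg.Prelude.Def_RootSubgroups
import Cfsg.Agent.Lib.RootSubgroups.Involutions
import Cfsg.Agent.Lib.PSolvable.Core

/-!
Root involutions: the members with the same commuting members, the members `W` without odd
partner among the commuting members of `d`, and the order three mutual inverse property of the
squaring maps.
-/

set_option autoImplicit false
set_option linter.unusedSectionVars false
set_option linter.unusedVariables false

namespace Cfsg.Agent.Lib.RootSubgroups.RootInv.Root87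

open Cfsg
open Cfsg.Agent.Lib.RootSubgroups.RootInv

variable {G : Type*} [Group G] [Finite G] {D : Set G} {a b c d e n t v w x y z : G}

theorem braid (hD : IsRootInvolutionSet D) (ha : a ∈ D) (hx : x ∈ D)
    (h3 : orderOf (a * x) = 3) : a * x * a = x * a * x := by
  have h : (a * x) ^ 3 = 1 := by rw [← h3, pow_orderOf_eq_one]
  have h' := congrArg (fun y => y * (x * a * x)) h
  simp only [pow_succ, pow_zero, one_mul, mul_assoc, conj_cancel hD ha, conj_cancel hD hx,
    sq_one hD hx, mul_one] at h'
  simpa [mul_assoc] using h'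

theorem odd_of_three (hD : IsRootInvolutionSet D) (ha : a ∈ D) (hx : x ∈ D)
    (h3 : orderOf (a * x) = 3) : x ∈ oddPartners D a := by
  refine ⟨hx, fun h => ?_, by rw [h3]; decide⟩
  rw [h, sq_one hD ha, orderOf_one] at h3
  omega

/-- With product of order three, the two squaring maps are inverse to each other. -/
theorem mutual_inv (hD : IsRootInvolutionSet D) (ha : a ∈ D) (hx : x ∈ D) (h3 : orderOf (a * x) = 3)
    (hc : c ∈ fourSide D a x) : ((c * x) ^ 2 * a) ^ 2 = c := by
  have hodd := odd_of_three hD ha hx h3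
  have hodd' := oddPartners_symm hD ha hodd
  have hh := sq_mem_fourSide hD ha hodd hc
  set h := (c * x) ^ 2 with hhdef
  have hq := sq_mem_fourSide hD hx hodd' hh
  set q := (h * a) ^ 2 with hqdef
  have hh2 := sq_mem_fourSide hD ha hodd hq
  have hhD := hh.1.1.1
  have hqD := hq.1.1.1
  have hxh : x * h = h * x := hh.1.1.2.1.symm
  have hqa : q * a = a * q := hq.1.1.2.1
  set V := x * q * x with hV
  have hVD : V ∈ D := conj_mem' hD hx hqD
  have h1 : a * h * a = h * q := by
    simp only [hqdef, pow_two, mul_assoc, conj_cancel hD hhD]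
  have hxhx : x * h * x = h := by rw [hxh, mul_assoc, sq_one hD hx, mul_one]
  have hb := braid hD ha hx h3
  have h2 : V = q * (a * V * a) := by
    calc V = x * h * a * h * a * x := by simp only [hV, hqdef, pow_two, mul_assoc]
      _ = h * x * a * (x * h * x) * a * x := by rw [hxhx, hxh]
      _ = h * (x * a * x) * h * (x * a * x) := by simp only [mul_assoc]
      _ = h * (a * x * a) * h * (a * x * a) := by rw [hb]
      _ = h * a * x * (a * h * a) * x * a := by simp only [mul_assoc]
      _ = h * a * x * (h * q) * x * a := by rw [h1]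
      _ = h * a * (x * h) * q * x * a := by simp only [mul_assoc]
      _ = h * a * h * (x * q * x) * a := by rw [hxh]; simp only [mul_assoc]
      _ = (h * a * h * a) * (a * V * a) := by
        rw [← hV]; simp only [mul_assoc, conj_cancel hD ha]
      _ = q * (a * V * a) := by
        congr 1; simp only [hqdef, pow_two, mul_assoc]
  have h3' : a * V * a = q * V := by
    conv_rhs => rw [h2]
    rw [conj_cancel hD hqD]
  have h4 : (q * x) ^ 2 = q * V := by simp only [hV, pow_two, mul_assoc]
  have h5 : q * V = V * q := by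
    have hc' := sq_comm_left hD hqD hx hq.2
    rw [h4, conj_cancel hD hqD] at hc'
    conv_lhs => rw [hc']
    simp only [mul_assoc, conj_cancel hD hqD]
  have h6 : ((q * x) ^ 2 * a) ^ 2 = q := by
    rw [h4]
    calc (q * V * a) ^ 2 = q * V * a * (q * V) * a := by simp only [pow_two, mul_assoc]
      _ = q * V * a * (V * q) * a := by rw [h5]
      _ = q * V * (a * V) * (q * a) := by simp only [mul_assoc]
      _ = q * V * (a * V * a) * q := by rw [hqa]; simp only [mul_assoc]
      _ = q * V * q * V * q := by rw [h3']; simp only [mul_assoc]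
      _ = q * (q * V) * V * q := by rw [mul_assoc q V q, ← h5]
      _ = q := by rw [conj_cancel hD hqD, sq_one hD hVD, one_mul]
  have h7 : (q * x) ^ 2 = h := fourSide_inj hD hx hodd' hh2 hh h6
  exact fourSide_inj hD ha hodd hq hc h7

theorem commute_of_sq_eq (hD : IsRootInvolutionSet D) (hc : c ∈ D) (he : e ∈ D) (hx : x ∈ D)
    (hsq : (c * x) ^ 2 = (e * x) ^ 2) : Commute (e * c) x := by
  have h := congrArg (fun z => e * (z * x) * c) hsq
  simp only [pow_two, mul_assoc, sq_one hD hx, mul_one, conj_cancel hD he,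
    sq_one hD hc] at h
  simpa [Commute, SemiconjBy, mul_assoc] using h

theorem not_odd_of_partner (hD : IsRootInvolutionSet D) (ha : a ∈ D)
    (he : e ∈ productPartners D a) (hy : y * a = a * y) : y ∉ oddPartners D e := fun h =>
  partner_not_comm hD he.1.1 h (productPartners_symm he ha) hy.symm

/-! ### Conjugation -/

theorem mem_comm_conj (hD : IsRootInvolutionSet D) (v : G) :
    v * z * v⁻¹ ∈ commutingMembers D (v * a * v⁻¹) ↔ z ∈ commutingMembers D a := by
  simp only [commutingMembers, Set.mem_ofPred_eq]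
  refine and_congr ⟨fun h => ?_, fun h => hD.conj_mem z h v⟩ ?_
  · have := hD.conj_mem _ h v⁻¹
    simpa [mul_assoc] using this
  · have e : ∀ p q : G, (v * p * v⁻¹) * (v * q * v⁻¹) = v * (p * q) * v⁻¹ := fun p q => by group
    rw [e, e, mul_left_inj, mul_right_inj]

theorem comm_conj_eq (hD : IsRootInvolutionSet D) (v a : G) :
    commutingMembers D (v * a * v⁻¹) = (fun z => v * z * v⁻¹) '' commutingMembers D a := by
  ext y
  constructor
  · intro hy
    refine ⟨v⁻¹ * y * v, ?_, by group⟩
    rw [← mem_comm_conj hD v]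
    convert hy using 1
    group
  · rintro ⟨e, he, rfl⟩; exact (mem_comm_conj hD v).2 he

theorem mem_class_conj (hD : IsRootInvolutionSet D) (v : G) :
    v * e * v⁻¹ ∈ sameCommutingClass D (v * a * v⁻¹) ↔ e ∈ sameCommutingClass D a := by
  have hinj : Function.Injective (fun z : G => v * z * v⁻¹) := fun p q h => by simpa using h
  simp only [sameCommutingClass, Set.mem_ofPred_eq, comm_conj_eq hD,
    hinj.image_injective.eq_iff]
  refine and_congr ⟨fun h => ?_, fun h => hD.conj_mem e h v⟩ Iff.rfl
  have := hD.conj_mem _ h v⁻¹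
  simpa [mul_assoc] using this

theorem class_conj_eq (hD : IsRootInvolutionSet D) (v a : G) :
    sameCommutingClass D (v * a * v⁻¹) = (fun z => v * z * v⁻¹) '' sameCommutingClass D a := by
  ext y
  constructor
  · intro hy
    refine ⟨v⁻¹ * y * v, ?_, by group⟩
    rw [← mem_class_conj hD v]
    convert hy using 1
    group
  · rintro ⟨e, he, rfl⟩; exact (mem_class_conj hD v).2 he

/-- The hypotheses of the root structure theorem in use. -/
structure Ctx (D : Set G) : Prop where
  hD : IsRootInvolutionSet D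
  hcon : IsConnectedSet (OddAdj D) D
  mul_mem : ∀ a ∈ D, ∀ p ∈ sameCommutingClass D a, ∀ q ∈ sameCommutingClass D a,
    p ≠ q → p * q ∈ sameCommutingClass D a

/-- The members of `D` commuting with `d` without odd partner among these. -/
def isoMembers (D : Set G) (d : G) : Set G :=
  {w | w ∈ commutingMembers D d ∧ ∀ z ∈ commutingMembers D d, z ∉ oddPartners D w}

/-- `E(d)` as a set. -/
def classOne (D : Set G) (d : G) : Set G := {x | x = 1 ∨ x ∈ sameCommutingClass D d}

/-- The members of `W` all whose commutators with members of `W` lie in `E(d)`. -/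
def lowMembers (D : Set G) (d : G) : Set G :=
  {v | v ∈ isoMembers D d ∧
    ∀ z ∈ isoMembers D d, z * v ≠ v * z → (z * v) ^ 2 ∈ sameCommutingClass D d}

/-- The common commuting members of `d` and `v`. -/
def sharedMembers (D : Set G) (d v : G) : Set G :=
  {z | z ∈ commutingMembers D d ∧ z * v = v * z}

/-- `n` preserves the commuting members of `d`. -/
def Stab (D : Set G) (d n : G) : Prop :=
  ∀ z, n * z * n⁻¹ ∈ commutingMembers D d ↔ z ∈ commutingMembers D d

theorem self_class (hd : d ∈ D) : d ∈ sameCommutingClass D d := ⟨hd, rfl⟩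

theorem class_comm (he : e ∈ sameCommutingClass D d) (hz : z ∈ commutingMembers D d) :
    z * e = e * z := by
  have h : z ∈ commutingMembers D e := he.2 ▸ hz
  exact h.2

theorem of_class_comm (he : e ∈ sameCommutingClass D d) (hz : z ∈ D) (h : z * e = e * z) :
    z ∈ commutingMembers D d := by
  have h' : z ∈ commutingMembers D e := ⟨hz, h⟩
  rwa [← he.2] at h'

theorem class_mem_comm (he : e ∈ sameCommutingClass D d) : e ∈ commutingMembers D d :=
  of_class_comm he he.1 rfl

theorem odd_eq (C : Ctx D) (hd : d ∈ D) (he : e ∈ sameCommutingClass D d) :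
    oddPartners D d = oddPartners D e :=
  (commutingMembers_eq_iff C.hD C.hcon hd he.1).1 he.2

theorem class_eq (he : e ∈ sameCommutingClass D d) :
    sameCommutingClass D e = sameCommutingClass D d := by
  ext y
  simp only [sameCommutingClass, Set.mem_ofPred_eq, he.2]

theorem class_iso (C : Ctx D) (hd : d ∈ D) (he : e ∈ sameCommutingClass D d) :
    e ∈ isoMembers D d := by
  refine ⟨class_mem_comm he, fun z hz h => ?_⟩
  rw [← odd_eq C hd he] at h
  exact oddPartners_not_comm C.hD hd h hz.2.symm

theorem ncard_comm_eq (C : Ctx D) (ha : a ∈ D) (hb : b ∈ D) :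
    (commutingMembers D a).ncard = (commutingMembers D b).ncard := by
  obtain ⟨u, rfl⟩ := exists_conj C.hD C.hcon ha hb
  rw [comm_conj_eq C.hD]
  exact (Set.ncard_image_of_injective _ fun p q h => by simpa using h).symm

theorem ncard_class_eq (C : Ctx D) (ha : a ∈ D) (hb : b ∈ D) :
    (sameCommutingClass D a).ncard = (sameCommutingClass D b).ncard := by
  obtain ⟨u, rfl⟩ := exists_conj C.hD C.hcon ha hb
  rw [class_conj_eq C.hD]
  exact (Set.ncard_image_of_injective _ fun p q h => by simpa using h).symm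

theorem iso_pair (C : Ctx D) (hw : w ∈ isoMembers D d) (hz : z ∈ commutingMembers D d)
    (h : z * w ≠ w * z) : orderOf (z * w) = 4 := by
  rcases eq_or_pair C.hD hw.1.1 hz.1 with h' | h' | h'
  · exact absurd h'.symm h
  · exact absurd h' (hw.2 z hz)
  · rwa [orderOf_swap C.hD hw.1.1 hz.1]

theorem sq_comm_d (hd : a * d = d * a) (hb : b * d = d * b) :
    (a * b) ^ 2 * d = d * (a * b) ^ 2 :=
  (((show Commute a d from hd).mul_left (show Commute b d from hb)).pow_left 2).eq

/-! ### Elements preserving the commuting members of `d` -/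

theorem Stab.of_fix (C : Ctx D) (he : e ∈ sameCommutingClass D d) (h : n * e = e * n) :
    Stab D d n := fun z => by
  have h' : n * e * n⁻¹ = e := by rw [h, mul_inv_cancel_right]
  have hz := mem_comm_conj (a := e) (z := z) C.hD n
  rw [h', ← he.2] at hz
  exact hz

theorem Stab.of_mem (C : Ctx D) (hd : d ∈ D) (hn : n ∈ commutingMembers D d) : Stab D d n :=
  Stab.of_fix C (self_class hd) hn.2

theorem Stab.exists_pre (h : Stab D d n) (hz : z ∈ commutingMembers D d) :
    ∃ y ∈ commutingMembers D d, n * y * n⁻¹ = z :=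
  ⟨n⁻¹ * z * n, (h _).1 (by convert hz using 1; group), by group⟩

theorem Stab.classMem (C : Ctx D) (h : Stab D d n) (he : e ∈ sameCommutingClass D d) :
    n * e * n⁻¹ ∈ sameCommutingClass D d := by
  refine ⟨C.hD.conj_mem e he.1 n, ?_⟩
  ext z
  obtain ⟨y, rfl⟩ : ∃ y, n * y * n⁻¹ = z := ⟨n⁻¹ * z * n, by group⟩
  rw [h, mem_comm_conj C.hD, ← he.2]

theorem Stab.inv (h : Stab D d n) : Stab D d n⁻¹ := fun z => by
  rw [← h]
  have e : n * (n⁻¹ * z * n⁻¹⁻¹) * n⁻¹ = z := by group
  rw [e]

theorem Stab.iso (C : Ctx D) (h : Stab D d n) (hw : w ∈ isoMembers D d) :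
    n * w * n⁻¹ ∈ isoMembers D d := by
  refine ⟨(h w).2 hw.1, fun z hz ho => ?_⟩
  obtain ⟨y, hy, rfl⟩ := h.exists_pre hz
  exact hw.2 y hy ((mem_oddPartners_conj C.hD n).1 ho)

theorem conj_sq (n a b : G) :
    ((n * a * n⁻¹) * (n * b * n⁻¹)) ^ 2 = n * (a * b) ^ 2 * n⁻¹ := by
  simp only [pow_two]; group

theorem conj_comm_iff (n a b : G) :
    (n * a * n⁻¹) * (n * b * n⁻¹) = (n * b * n⁻¹) * (n * a * n⁻¹) ↔ a * b = b * a := by
  have e : ∀ p q : G, (n * p * n⁻¹) * (n * q * n⁻¹) = n * (p * q) * n⁻¹ := fun p q => by group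
  rw [e, e, mul_left_inj, mul_right_inj]

theorem Stab.low (C : Ctx D) (h : Stab D d n) (hv : v ∈ lowMembers D d) :
    n * v * n⁻¹ ∈ lowMembers D d := by
  refine ⟨h.iso C hv.1, fun z hz hne => ?_⟩
  obtain ⟨y, hy⟩ : ∃ y, n * y * n⁻¹ = z := ⟨n⁻¹ * z * n, by group⟩
  have hy' : y ∈ isoMembers D d := by
    have := h.inv.iso C hz
    rw [← hy] at this
    convert this using 1
    group
  subst hy
  rw [conj_sq]
  exact h.classMem C (hv.2 y hy' fun e => hne ((conj_comm_iff n y v).2 e))

theorem Stab.ncard_shared (C : Ctx D) (h : Stab D d n) (v : G) :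
    (sharedMembers D d (n * v * n⁻¹)).ncard = (sharedMembers D d v).ncard := by
  have e : sharedMembers D d (n * v * n⁻¹) = (fun z => n * z * n⁻¹) '' sharedMembers D d v := by
    ext z
    constructor
    · rintro ⟨hz, hc⟩
      obtain ⟨y, hy, rfl⟩ := h.exists_pre hz
      exact ⟨y, ⟨hy, (conj_comm_iff n y v).1 hc⟩, rfl⟩
    · rintro ⟨y, ⟨hy, hc⟩, rfl⟩
      exact ⟨(h y).2 hy, (conj_comm_iff n y v).2 hc⟩
  rw [e]
  exact Set.ncard_image_of_injective _ fun p q h => by simpa using h

/-- The square of two members of `W` is again in `W`. -/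
theorem sq_iso (C : Ctx D) (hd : d ∈ D) (ha : a ∈ isoMembers D d) (hb : b ∈ isoMembers D d)
    (h : a * b ≠ b * a) : (a * b) ^ 2 ∈ isoMembers D d := by
  have h4 := iso_pair C hb ha.1 h
  have hq := sq_mem_productPartners C.hD ha.1.1 hb.1.1 h4
  have e : (a * b) ^ 2 * a = b * a * b⁻¹ := by
    rw [← sq_swap C.hD ha.1.1 hb.1.1 h4, sq_mul_right C.hD ha.1.1, inv_self C.hD hb.1.1]
  refine ⟨⟨hq.1.1, sq_comm_d ha.1.2 hb.1.2⟩, fun z hz ho => ?_⟩
  have hne : z * a ≠ a * z := fun hc =>
    not_odd_of_partner C.hD ha.1.1 hq hc ho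
  have hz4 := iso_pair C ha hz hne
  have hl := line_adj C.hD hq.1.1 ho (productPartners_symm hq ha.1.1)
    ((orderOf_swap C.hD hz.1 ha.1.1).trans hz4)
  rw [← hq.1.2.1, e] at hl
  exact ((Stab.of_mem C hd hb.1).iso C ha).2 z hz hl

/-- `W` generates a two-group. -/
theorem isPGroup_iso (C : Ctx D) (hd : d ∈ D) :
    IsPGroup 2 (Subgroup.closure (isoMembers D d)) := by
  let H : Subgroup G :=
    { carrier := {n | Stab D d n}
      one_mem' := fun z => by simp
      mul_mem' := fun {p q} hp hq z => by
        rw [show p * q * z * (p * q)⁻¹ = p * (q * z * q⁻¹) * p⁻¹ by group]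
        exact (hp _).trans (hq z)
      inv_mem' := fun {p} hp => hp.inv }
  obtain ⟨P⟩ : Nonempty (Sylow 2 H) := inferInstance
  refine (P.2.map H.subtype).to_le ((Subgroup.closure_le _).2 fun w hw => ?_)
  have hwH : w ∈ H := Stab.of_mem C hd hw.1
  obtain ⟨N, hN, hN2, hwN⟩ := Involution.baer_suzuki_element (p := 2) (⟨w, hwH⟩ : H) fun v => by
    have hc : (v : G) * w * (v : G)⁻¹ ∈ isoMembers D d := Stab.iso C v.2 hw
    have h := isPGroup_closure_pair C.hD hw.1.1 hc.1.1 (hw.2 _ hc.1)
    refine (h.comap_of_injective H.subtype H.subtype_injective).to_le ?_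
    rw [Subgroup.closure_le]
    rintro z (rfl | rfl)
    · exact Subgroup.subset_closure (by simp)
    · exact Subgroup.subset_closure (by simp)
  obtain ⟨R, hR⟩ := hN2.exists_le_sylow
  obtain ⟨v, hv⟩ := MulAction.exists_smul_eq H R P
  refine ⟨⟨w, hwH⟩, ?_, rfl⟩
  rw [← hv, SetLike.mem_coe, Sylow.coe_subgroup_smul,
    Subgroup.mem_pointwise_smul_iff_inv_smul_mem]
  apply hR
  simpa [MulAut.smul_def] using hN.conj_mem _ hwN v⁻¹

theorem sq_eq_commutator (hD : IsRootInvolutionSet D) (ha : a ∈ D) (hb : b ∈ D) :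
    (a * b) ^ 2 = a * b * a⁻¹ * b⁻¹ := by
  rw [inv_self hD ha, inv_self hD hb, pow_two]; simp only [mul_assoc]

/-- Induction on members of `W` along their commutators. -/
theorem iso_induction (C : Ctx D) (hd : d ∈ D) (Q : G → Prop)
    (step : ∀ w ∈ isoMembers D d,
      (∀ z ∈ isoMembers D d, w * z ≠ z * w → Q ((w * z) ^ 2)) → Q w) :
    ∀ w ∈ isoMembers D d, Q w := by
  set P := Subgroup.closure (isoMembers D d) with hP
  have hnil : Group.IsNilpotent P := (isPGroup_iso C hd).isNilpotent
  obtain ⟨m, hm⟩ := (Subgroup.isNilpotent_iff_lowerCentralSeries P).1 hnil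
  have key : ∀ j i, i + j = m → ∀ w ∈ isoMembers D d, w ∈ P.lowerCentralSeries i → Q w := by
    intro j
    induction j with
    | zero =>
      intro i hi w hw hwi
      rw [show i = m by omega, hm, Subgroup.mem_bot] at hwi
      exact absurd hwi (mem_ne_one C.hD hw.1.1)
    | succ j ih =>
      intro i hi w hw hwi
      refine step w hw fun z hz hne => ih (i + 1) (by omega) _ (sq_iso C hd hw hz hne) ?_
      rw [sq_eq_commutator C.hD hw.1.1 hz.1.1, Subgroup.lowerCentralSeries_succ]
      exact Subgroup.commutator_mem_commutator hwi (Subgroup.subset_closure hz)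
  exact fun w hw => key m 0 (by omega) w hw (Subgroup.subset_closure hw)

end Cfsg.Agent.Lib.RootSubgroups.RootInv.Root87
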