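import Mathlib
import Cfsg.Agent.Lib.RootSubgroups.Structure87Basic

/-!
Root involutions: the members of `W` generate a group of class at most two with commutators in
`E(d)`.

A member `v` with commutators in `E(d)` of largest number of shared commuting members has the
property that all members with the same commuting members as `v` have commutators in `E(d)`;
two members with the same order four square against a common member are conjugate by an element
fixing that square.
-/

set_option autoImplicit false
set_option linter.unusedSectionVars false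
set_option linter.unusedVariables false

namespace Cfsg.Agent.Lib.RootSubgroups.RootInv.Root87

open Cfsg
open Cfsg.Agent.Lib.RootSubgroups.RootInv

variable {G : Type*} [Group G] [Finite G] {D : Set G} {a b c d e n t u v w x y z : G}

/-! ### `E(d)` is central for `W` -/

theorem one_classOne : (1 : G) ∈ classOne D d := Or.inl rfl

theorem classOne_sq (C : Ctx D) (ht : t ∈ classOne D d) : t * t = 1 := by
  rcases ht with rfl | h
  · exact one_mul 1
  · exact sq_one C.hD h.1

theorem classOne_comm (ht : t ∈ classOne D d) (hz : z ∈ commutingMembers D d) :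
    z * t = t * z := by
  rcases ht with rfl | h
  · rw [mul_one, one_mul]
  · exact class_comm h hz

theorem classOne_mul (C : Ctx D) (hd : d ∈ D) (ha : a ∈ classOne D d) (hb : b ∈ classOne D d) :
    a * b ∈ classOne D d := by
  rcases ha with rfl | ha
  · rwa [one_mul]
  · rcases hb with rfl | hb
    · rw [mul_one]; exact Or.inr ha
    · by_cases h : a = b
      · exact Or.inl (by rw [h, sq_one C.hD hb.1])
      · exact Or.inr (C.mul_mem d hd a ha b hb h)

theorem conj_eq_mul_sq (C : Ctx D) (hz : z ∈ D) (hv : v ∈ D) :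
    z * v * z = (z * v) ^ 2 * v := by
  simp only [pow_two, mul_assoc, sq_one C.hD hv, mul_one]

/-- Members of `W` move a low member by elements of `E(d)`. -/
theorem low_conj (C : Ctx D) (hd : d ∈ D) (hv : v ∈ lowMembers D d) (hz : z ∈ isoMembers D d) :
    ∃ t ∈ classOne D d, z * v * z = v * t := by
  by_cases h : z * v = v * z
  · exact ⟨1, one_classOne, by rw [h, mul_assoc, sq_one C.hD hz.1.1]⟩
  · refine ⟨(z * v) ^ 2, Or.inr (hv.2 z hz h), ?_⟩
    rw [conj_eq_mul_sq C hz.1.1 hv.1.1.1]
    exact (class_comm (hv.2 z hz h) hv.1.1).symm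

/-- A low member commutes with commutators of members of `W`. -/
theorem low_comm_sq (C : Ctx D) (hd : d ∈ D) (hv : v ∈ lowMembers D d) (ha : a ∈ isoMembers D d)
    (hb : b ∈ isoMembers D d) : v * (a * b) ^ 2 = (a * b) ^ 2 * v := by
  obtain ⟨s, hs, hsa⟩ := low_conj C hd hv ha
  obtain ⟨t, ht, htb⟩ := low_conj C hd hv hb
  have hst : s * t = t * s := by
    rcases hs with rfl | hs
    · rw [one_mul, mul_one]
    · exact classOne_comm ht (class_mem_comm hs)
  have h1 : ∀ y, a * (a * y) = y := conj_cancel C.hD ha.1.1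
  have h2 : ∀ y, b * (b * y) = y := conj_cancel C.hD hb.1.1
  have stepA : ∀ r ∈ classOne D d, a * (v * r) * a = v * (s * r) := fun r hr => by
    calc a * (v * r) * a = a * v * (r * a) := by simp only [mul_assoc]
      _ = a * v * a * r := by rw [← classOne_comm hr ha.1]; simp only [mul_assoc]
      _ = v * (s * r) := by rw [hsa, mul_assoc]
  have stepB : ∀ r ∈ classOne D d, b * (v * r) * b = v * (t * r) := fun r hr => by
    calc b * (v * r) * b = b * v * (r * b) := by simp only [mul_assoc]
      _ = b * v * b * r := by rw [← classOne_comm hr hb.1]; simp only [mul_assoc]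
      _ = v * (t * r) := by rw [htb, mul_assoc]
  have key : (a * b) ^ 2 * v * (b * a) ^ 2 = v := by
    have e : (a * b) ^ 2 * v * (b * a) ^ 2 = a * (b * (a * (b * (v * 1) * b) * a) * b) * a := by
      simp only [pow_two, mul_assoc, mul_one]
    have ht1 : t * 1 ∈ classOne D d := classOne_mul C hd ht one_classOne
    have hst1 : s * (t * 1) ∈ classOne D d := classOne_mul C hd hs ht1
    have htst : t * (s * (t * 1)) ∈ classOne D d := classOne_mul C hd ht hst1
    rw [e, stepB 1 one_classOne, stepA _ ht1, stepB _ hst1, stepA _ htst, mul_one]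
    have : s * (t * (s * t)) = 1 := by
      conv_lhs => rw [hst]
      rw [← mul_assoc t t, classOne_sq C ht, one_mul, classOne_sq C hs]
    rw [this, mul_one]
  have hinv : (b * a) ^ 2 * (a * b) ^ 2 = 1 := by
    simp only [pow_two, mul_assoc, h1, h2, sq_one C.hD hb.1.1]
  calc v * (a * b) ^ 2 = (a * b) ^ 2 * v * ((b * a) ^ 2 * (a * b) ^ 2) := by
        rw [← mul_assoc _ ((b * a) ^ 2), key]
    _ = (a * b) ^ 2 * v := by rw [hinv, mul_one]

/-- If a member `a` commutes with all members shared by `d` and `u`, and `b u` has square in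
`E(d)`, then all these shared members commute with `(b a)²`. -/
theorem shared_comm_sq (C : Ctx D) (hd : d ∈ D) (hu : u ∈ commutingMembers D d)
    (hb : b ∈ isoMembers D d) (ha : a ∈ D) (hε : (b * u) ^ 2 ∈ sameCommutingClass D d)
    (hS : ∀ z ∈ sharedMembers D d u, z * a = a * z) (hz : z ∈ sharedMembers D d u) :
    z * (b * a) ^ 2 = (b * a) ^ 2 * z := by
  have hzz := sq_one C.hD hz.1.1
  by_cases hzb : z * b = b * z
  · exact (((show Commute z b from hzb).mul_right (hS z hz)).pow_right 2).eq
  have h4 := iso_pair C hb hz.1 hzb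
  have h4' : orderOf (b * z) = 4 := (orderOf_swap C.hD hz.1.1 hb.1.1).trans h4
  set b₁ := (b * z) ^ 2 with hb₁
  have hb₁D : b₁ ∈ commutingMembers D d :=
    ⟨sq_mem C.hD hb.1.1 hz.1.1 h4', sq_comm_d hb.1.2 hz.1.2⟩
  have hbb₁ : b * b₁ = b₁ * b := sq_comm_left C.hD hb.1.1 hz.1.1 h4'
  have hzbz : z * b * z = b * b₁ := by
    simp only [hb₁, pow_two, mul_assoc, conj_cancel C.hD hb.1.1]
  have hcz : ∀ y, z * y * z = y → z * y = y * z := fun y h => by
    calc z * y = z * y * z * z := by rw [mul_assoc, hzz, mul_one]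
      _ = y * z := by rw [h]
  have hb₁u : b₁ * u = u * b₁ := by
    have e1 : (b * b₁ * u) ^ 2 = (b * u) ^ 2 := by
      have hzε : z * (b * u) ^ 2 * z = (b * u) ^ 2 := by
        rw [class_comm hε hz.1, mul_assoc, hzz, mul_one]
      have hzu : z * u * z = u := by rw [hz.2, mul_assoc, hzz, mul_one]
      conv_lhs => rw [← hzbz, ← hzu]
      rw [← hzε]
      simp only [pow_two, mul_assoc, conj_cancel C.hD hz.1.1]
    simp only [pow_two, mul_assoc, mul_right_inj] at e1
    -- e1 : b₁ * (u * (b * (b₁ * u))) = u * (b * u)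
    have e2 : b₁ * u * (b₁ * b) = u * b := by
      have h' := congrArg (fun y => y * u) e1
      simp only [mul_assoc, sq_one C.hD hu.1, mul_one] at h'
      rw [← hbb₁]; simpa [mul_assoc] using h'
    have e3 : b₁ * u * b₁ = u := by
      have h' := congrArg (fun y => y * b) e2
      simpa [mul_assoc, sq_one C.hD hb.1.1] using h'
    calc b₁ * u = b₁ * u * b₁ * b₁ := by rw [mul_assoc, sq_one C.hD hb₁D.1, mul_one]
      _ = u * b₁ := by rw [e3]
  have hb₁a : b₁ * a = a * b₁ := hS b₁ ⟨hb₁D, hb₁u⟩
  apply hcz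
  have hza : z * a * z = a := by rw [hS z hz, mul_assoc, hzz, mul_one]
  have hcom : Commute b₁ (b * a) := Commute.mul_right hbb₁.symm hb₁a
  calc z * (b * a) ^ 2 * z = ((z * b * z) * (z * a * z)) ^ 2 := by
        simp only [pow_two, mul_assoc, conj_cancel C.hD hz.1.1]
    _ = (b₁ * (b * a)) ^ 2 := by rw [hzbz, hza, hbb₁, mul_assoc]
    _ = (b * a) ^ 2 := by
        rw [hcom.mul_pow, pow_two b₁, sq_one C.hD hb₁D.1, one_mul]

/-- A member of `W` outside `E(d)` has an order four partner among the product partners of `d`. -/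
theorem exists_partner (C : Ctx D) (hd : d ∈ D) (hv : v ∈ isoMembers D d)
    (hne : v ∉ sameCommutingClass D d) :
    ∃ p ∈ isoMembers D d, p ∈ productPartners D d ∧ orderOf (p * v) = 4 ∧
      ((p * v) ^ 2 ∈ sameCommutingClass D d → v ∈ productPartners D d) := by
  have hvD := hv.1.1
  obtain ⟨z, hz, hzv⟩ : ∃ z ∈ commutingMembers D d, z * v ≠ v * z := by
    by_contra hc
    push Not at hc
    refine hne ⟨hvD, Set.eq_of_subset_of_ncard_le (fun z hz => ⟨hz.1, hc z hz⟩) ?_ (Set.toFinite _)⟩
    exact (ncard_comm_eq C hvD hd).le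
  have h4 := iso_pair C hv hz hzv
  obtain ⟨x, hx, hxz, hxk4, hxk, h3⟩ := completion C.hD C.hcon hz.1 hvD h4
  set k := (z * v) ^ 2 with hk
  have hkD : k ∈ commutingMembers D d := ⟨sq_mem C.hD hz.1 hvD h4, sq_comm_d hz.2 hv.1.2⟩
  have hxv := odd_of_three C.hD hvD hx h3
  have hdx : orderOf (d * x) = 4 := by
    rcases eq_or_pair C.hD hd hx with h | h | h
    · exact absurd hxv (hv.2 x ⟨hx, h.symm⟩)
    · exfalso
      refine not_pair C.hD hd h hkD.1 ((orderOf_swap C.hD hx hkD.1).trans hxk4) hkD.2.symm ?_
      rw [sq_swap C.hD hx hkD.1 hxk4, hxk]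
      exact hz.2.symm
    · exact h
  set p := (d * x) ^ 2 with hp
  have hpX := sq_mem_productPartners C.hD hd hx hdx
  have hpx := sq_mem_productPartners_right C.hD hd hx hdx
  have hpW : p ∈ isoMembers D d :=
    ⟨⟨hpX.1.1, hpX.1.2.1⟩, fun y hy => not_odd_of_partner C.hD hd hpX hy.2⟩
  have hpv : p * v ≠ v * p :=
    partner_not_comm C.hD hx (oddPartners_symm C.hD hvD hxv) hpx
  have hpv4 := iso_pair C hv hpW.1 hpv
  refine ⟨p, hpW, hpX, hpv4, fun hq => ?_⟩
  have hm := mutual_inv C.hD hx hvD ((orderOf_swap C.hD hvD hx).trans h3) (c := p) ⟨hpx, hpv4⟩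
  have hqd : (p * v) ^ 2 = d := by
    by_contra hqd
    have hcm := commute_of_sq_eq C.hD hd hq.1 hx (hp.symm.trans hm.symm)
    have hE := C.mul_mem d hd _ hq _ (self_class hd) hqd
    have hxd := (of_class_comm hE hx hcm.symm.eq).2
    exact not_comm_of_four C.hD hd hx hdx hxd.symm
  rw [← hqd]
  exact productPartners_symm (sq_mem_productPartners_right C.hD hpX.1.1 hvD hpv4) hvD

/-! ### Good members -/

/-- A low member outside `E(d)` such that all members with the same commuting members have
commutators with `W` in `E(d)`. -/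
def goodMembers (D : Set G) (d : G) : Set G :=
  {v | v ∈ lowMembers D d ∧ v ∉ sameCommutingClass D d ∧
    ∀ η ∈ sameCommutingClass D v, ∀ p ∈ isoMembers D d, p * η ≠ η * p →
      (p * η) ^ 2 ∈ sameCommutingClass D d}

/-- The members of `W` not commuting with some good member. -/
def moving (D : Set G) (d : G) : Set G :=
  {g | g ∈ isoMembers D d ∧ ∃ v ∈ goodMembers D d, g * v ≠ v * g}

theorem Stab.good (C : Ctx D) (h : Stab D d n) (hv : v ∈ goodMembers D d) :
    n * v * n⁻¹ ∈ goodMembers D d := by
  refine ⟨h.low C hv.1, fun he => hv.2.1 ?_, fun η hη p hp hne => ?_⟩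
  · have := h.inv.classMem C he
    convert this using 1
    group
  · obtain ⟨η', rfl⟩ : ∃ y, n * y * n⁻¹ = η := ⟨n⁻¹ * η * n, by group⟩
    obtain ⟨p', hp'⟩ : ∃ y, n * y * n⁻¹ = p := ⟨n⁻¹ * p * n, by group⟩
    have hpW : p' ∈ isoMembers D d := by
      have := h.inv.iso C hp
      rw [← hp'] at this
      convert this using 1
      group
    subst hp'
    rw [conj_sq]
    exact h.classMem C (hv.2.2 η' ((mem_class_conj C.hD n).1 hη) p' hpW
      fun e => hne ((conj_comm_iff n p' η').2 e))

theorem Stab.moving_mem (C : Ctx D) (h : Stab D d n) {g : G} (hg : g ∈ moving D d) :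
    n * g * n⁻¹ ∈ moving D d := by
  obtain ⟨hgW, v, hv, hne⟩ := hg
  exact ⟨h.iso C hgW, _, h.good C hv, fun e => hne ((conj_comm_iff n g v).1 e)⟩

/-- In a set of members of `W` closed under commutators with `W`, a low member outside `E(d)`
with the most shared members is good. -/
theorem good_of_max (C : Ctx D) (hd : d ∈ D) (U : Set G)
    (hU : ∀ a ∈ U, ∀ b ∈ isoMembers D d, a * b ≠ b * a → (a * b) ^ 2 ∈ U)
    (hUE : ∀ η ∈ sameCommutingClass D v, η ∈ U)
    (hv : v ∈ lowMembers D d) (hne : v ∉ sameCommutingClass D d)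
    (hmax : ∀ c ∈ U, c ∈ lowMembers D d → c ∉ sameCommutingClass D d →
      (sharedMembers D d c).ncard ≤ (sharedMembers D d v).ncard) :
    v ∈ goodMembers D d := by
  have hvS : v ∈ sharedMembers D d v := ⟨hv.1.1, rfl⟩
  have claim : ∀ a ∈ isoMembers D d, a ∈ U → (∀ z ∈ sharedMembers D d v, z * a = a * z) →
      ∀ p ∈ isoMembers D d, p * v ≠ v * p → p * a ≠ a * p →
        (p * a) ^ 2 ∈ sameCommutingClass D d := by
    refine iso_induction C hd _ fun a ha IH haU haS p hp hpv hpa => ?_
    by_contra hcE
    set c := (p * a) ^ 2 with hc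
    have h4 := iso_pair C ha hp.1 hpa
    have hcW : c ∈ isoMembers D d := sq_iso C hd hp ha hpa
    have hcU : c ∈ U := by
      rw [hc, ← sq_swap C.hD hp.1.1 ha.1.1 h4]
      exact hU a haU p hp fun e => hpa e.symm
    have hcS : ∀ z ∈ sharedMembers D d v, z * c = c * z := fun z hz =>
      shared_comm_sq C hd hv.1.1 hp ha.1.1 (hv.2 p hp hpv) haS hz
    have hclow : c ∈ lowMembers D d := by
      refine ⟨hcW, fun b hb hbc => ?_⟩
      have hbv : b * v ≠ v * b := fun e => hbc (hcS b ⟨hb.1, e⟩)
      -- `m = [p, b]`, `δ = [a, b]`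
      set m := (p * b) ^ 2 with hm
      set δ := (a * b) ^ 2 with hδ
      have hap : ∀ y, a * (a * y) = y := conj_cancel C.hD ha.1.1
      have hpp : ∀ y, p * (p * y) = y := conj_cancel C.hD hp.1.1
      have hbb : ∀ y, b * (b * y) = y := conj_cancel C.hD hb.1.1
      have e1 : b * p * b = p * m := by
        simp only [hm, pow_two, mul_assoc, hpp]
      have e2 : b * a * b = a * δ := by
        simp only [hδ, pow_two, mul_assoc, hap]
      have hm' : (p * b = b * p ∧ m = 1) ∨ m ∈ isoMembers D d := by
        by_cases h : p * b = b * p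
        · exact Or.inl ⟨h, pow_two_eq_one_of_comm C.hD hp.1.1 hb.1.1 h⟩
        · exact Or.inr (sq_iso C hd hp hb h)
      have hδ' : δ = 1 ∨ (δ ∈ isoMembers D d ∧ a * b ≠ b * a) := by
        by_cases h : a * b = b * a
        · exact Or.inl (pow_two_eq_one_of_comm C.hD ha.1.1 hb.1.1 h)
        · exact Or.inr ⟨sq_iso C hd ha hb h, h⟩
      have hmv : m * v = v * m := (low_comm_sq C hd hv hp hb).symm
      have hmS : m = 1 ∨ m ∈ sharedMembers D d v :=
        hm'.imp And.right fun h => ⟨h.1, hmv⟩
      have hδS : δ = 1 ∨ ∀ z ∈ sharedMembers D d v, z * δ = δ * z := by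
        refine hδ'.imp id fun h z hz => ?_
        rw [hδ, ← sq_swap C.hD ha.1.1 hb.1.1 (iso_pair C hb ha.1 h.2)]
        exact shared_comm_sq C hd hv.1.1 hb ha.1.1 (hv.2 b hb hbv) haS hz
      have cm_p : Commute m p := by
        rcases hm' with ⟨-, h⟩ | h
        · rw [h]; exact Commute.one_left p
        · by_cases hpb : p * b = b * p
          · rw [hm, pow_two_eq_one_of_comm C.hD hp.1.1 hb.1.1 hpb]; exact Commute.one_left p
          · exact (sq_comm_left C.hD hp.1.1 hb.1.1 (iso_pair C hb hp.1 hpb)).symm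
      have cm_a : Commute m a := by
        rcases hmS with h | h
        · rw [h]; exact Commute.one_left a
        · exact haS m h
      have cm_δ : Commute m δ := by
        rcases hmS with h | h
        · rw [h]; exact Commute.one_left δ
        · rcases hδS with h' | h'
          · rw [h']; exact Commute.one_right m
          · exact h' m h
      have hδa : δ * a = a * δ := by
        rcases hδ' with h | h
        · rw [h, one_mul, mul_one]
        · exact (sq_comm_left C.hD ha.1.1 hb.1.1 (iso_pair C hb ha.1 h.2)).symm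
      have hmm : m * m = 1 := by
        rcases hm' with ⟨-, h⟩ | h
        · rw [h, one_mul]
        · exact sq_one C.hD h.1.1
      have hγ : (p * δ) ^ 2 ∈ classOne D d := by
        rcases hδ' with h | h
        · rw [h, mul_one, pow_two, sq_one C.hD hp.1.1]; exact one_classOne
        · by_cases hpδ : p * δ = δ * p
          · exact Or.inl (pow_two_eq_one_of_comm C.hD hp.1.1 h.1.1.1 hpδ)
          · exact Or.inr (IH b hb h.2 (hU a haU b hb h.2)
              (hδS.resolve_left (mem_ne_one C.hD h.1.1.1)) p hp hpv hpδ)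
      set γ := (p * δ) ^ 2 with hγdef
      have hδδ : δ * δ = 1 := by
        rcases hδ' with h | h
        · rw [h, one_mul]
        · exact sq_one C.hD h.1.1.1
      have hδC : δ ∈ commutingMembers D d ∨ δ = 1 := hδ'.symm.imp (fun h => h.1.1) id
      have hδγ : δ * γ = γ * δ := by
        rcases hδC with h | h
        · exact classOne_comm hγ h
        · rw [h, one_mul, mul_one]
      have hδp : δ * p = p * δ * γ := by
        have hγγ := classOne_sq C hγ
        have hpγ : p * γ = γ * p := classOne_comm hγ hp.1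
        have h1 : γ = p * δ * (p * δ) := by rw [hγdef, pow_two]
        calc δ * p = p * (p * δ * (p * δ)) * δ := by
              simp only [mul_assoc, hpp, hδδ, mul_one]
          _ = p * γ * δ := by rw [← h1]
          _ = p * δ * γ := by rw [mul_assoc, ← hδγ, ← mul_assoc]
      have key : b * c * b = c * γ := by
        calc b * c * b = ((b * p * b) * (b * a * b)) ^ 2 := by
              simp only [hc, pow_two, mul_assoc, hbb]
          _ = (m * (p * (a * δ))) ^ 2 := by rw [e1, e2, ← cm_p.eq, mul_assoc]
          _ = (p * (a * δ)) ^ 2 := by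
              rw [(cm_p.mul_right (cm_a.mul_right cm_δ)).mul_pow, pow_two m, hmm, one_mul]
          _ = p * a * (δ * p) * a * δ := by simp only [pow_two, mul_assoc]
          _ = p * a * p * (δ * γ) * a * δ := by rw [hδp]; simp only [mul_assoc]
          _ = p * a * p * γ * (δ * a) * δ := by rw [hδγ]; simp only [mul_assoc]
          _ = p * a * p * γ * a := by
              rw [hδa]; simp only [mul_assoc, hδδ, mul_one]
          _ = c * γ := by
              rw [mul_assoc (p * a * p) γ a, ← classOne_comm hγ ha.1]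
              simp only [hc, pow_two, mul_assoc]
      have hbc4 := iso_pair C hcW hb.1 hbc
      have hres : (b * c) ^ 2 = γ := by
        rw [← sq_swap C.hD hb.1.1 hcW.1.1 hbc4]
        have : (c * b) ^ 2 = c * (b * c * b) := by simp only [pow_two, mul_assoc]
        rw [this, key, ← mul_assoc, sq_one C.hD hcW.1.1, one_mul]
      rcases hγ with h | h
      · exfalso
        have := sq_mem C.hD hb.1.1 hcW.1.1 hbc4
        rw [hres, h] at this
        exact mem_ne_one C.hD this rfl
      · rwa [hres]
    have hsub : sharedMembers D d v ⊂ sharedMembers D d c := by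
      refine ⟨fun z hz => ⟨hz.1, hcS z hz⟩, fun h => ?_⟩
      have hpc : p * c = c * p := sq_comm_left C.hD hp.1.1 ha.1.1 h4
      exact hpv (h ⟨hp.1, hpc⟩).2
    exact absurd (hmax c hcU hclow hcE) (not_le.2 (Set.ncard_lt_ncard hsub (Set.toFinite _)))
  refine ⟨hv, hne, fun η hη p hp hpη => ?_⟩
  have hηd : η ∈ commutingMembers D d := by
    have h1 : d * η = η * d := class_comm hη (⟨hd, hv.1.1.2.symm⟩ : d ∈ commutingMembers D v)
    exact ⟨hη.1, h1.symm⟩
  have hηW : η ∈ isoMembers D d := by
    refine ⟨hηd, fun z hz h => hv.1.2 z hz ?_⟩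
    rw [odd_eq C hv.1.1.1 hη]; exact h
  exact claim η hηW (hUE η hη) (fun z hz => class_comm hη ⟨hz.1.1, hz.2⟩) p hp
    (fun e => hpη (class_comm hη ⟨hp.1.1, e⟩)) hpη

/-- Only members of `E(d)` commute with all moving members. -/
theorem class_of_comm_moving (C : Ctx D) (hd : d ∈ D) (hw : w ∈ isoMembers D d)
    (hwc : ∀ g ∈ moving D d, g * w = w * g) : w ∈ sameCommutingClass D d := by
  set U : Set G := {a | a ∈ isoMembers D d ∧ ∀ g ∈ moving D d, g * a = a * g} with hUdef
  have hU : ∀ a ∈ U, ∀ b ∈ isoMembers D d, a * b ≠ b * a → (a * b) ^ 2 ∈ U := by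
    intro a ha b hb hne
    refine ⟨sq_iso C hd ha.1 hb hne, fun g hg => ?_⟩
    have hg' := (Stab.of_mem C hd hb.1).moving_mem C hg
    rw [inv_self C.hD hb.1.1] at hg'
    have h1 := ha.2 _ hg'
    have h2 : g * (b * a * b) = (b * a * b) * g := by
      have h := congrArg (fun y => b * y * b) h1
      simp only [mul_assoc, conj_cancel C.hD hb.1.1, sq_one C.hD hb.1.1, mul_one] at h
      simpa [mul_assoc] using h
    rw [show (a * b) ^ 2 = a * (b * a * b) by simp only [pow_two, mul_assoc]]
    exact ((show Commute g a from ha.2 g hg).mul_right h2).eq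
  suffices h : ∀ a ∈ isoMembers D d, a ∈ U → a ∈ sameCommutingClass D d from h w hw ⟨hw, hwc⟩
  refine iso_induction C hd _ fun a ha IH haU => ?_
  by_contra haE
  have halow : a ∈ lowMembers D d := ⟨ha, fun z hz hne => by
    rw [← sq_swap C.hD hz.1.1 ha.1.1 (iso_pair C ha hz.1 hne)]
    exact IH z hz (fun e => hne e.symm) (hU a haU z hz fun e => hne e.symm)⟩
  obtain ⟨v, ⟨hvU, hv, hvE⟩, hmax⟩ := Set.exists_max_image
    {c | c ∈ U ∧ c ∈ lowMembers D d ∧ c ∉ sameCommutingClass D d}
    (fun c => (sharedMembers D d c).ncard) (Set.toFinite _) ⟨a, haU, halow, haE⟩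
  have hgood : v ∈ goodMembers D d := by
    refine good_of_max C hd U hU (fun η hη => ?_) hv hvE fun c h1 h2 h3 => hmax c ⟨h1, h2, h3⟩
    refine ⟨⟨⟨hη.1, (class_comm hη ⟨hd, hv.1.1.2.symm⟩).symm⟩, fun z hz h => hv.1.2 z hz ?_⟩,
      fun g hg => class_comm hη ⟨hg.1.1.1, hvU.2 g hg⟩⟩
    rw [odd_eq C hv.1.1.1 hη]; exact h
  obtain ⟨p, hp, -, hp4, -⟩ := exists_partner C hd hv.1 hvE
  have hpm : p ∈ moving D d := ⟨hp, v, hgood, not_comm_of_four C.hD hp.1.1 hv.1.1.1 hp4⟩
  exact not_comm_of_four C.hD hp.1.1 hv.1.1.1 hp4 (hvU.2 p hpm)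

/-- Against a moving member every element of `E(d)` is the square of a product with a low
member. -/
theorem exists_low_sq (C : Ctx D) (hd : d ∈ D) {g : G} (hg : g ∈ moving D d)
    (he : e ∈ sameCommutingClass D d) :
    ∃ m ∈ lowMembers D d, orderOf (g * m) = 4 ∧ (g * m) ^ 2 = e := by
  obtain ⟨hgW, v, hv, hgv⟩ := hg
  have hvD := hv.1.1.1.1
  have hcm : ∀ η ∈ sameCommutingClass D v, g * η ≠ η * g := fun η hη h =>
    hgv (of_class_comm hη hgW.1.1 h).2
  have hηW : ∀ η ∈ sameCommutingClass D v, η ∈ isoMembers D d := fun η hη =>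
    ⟨⟨hη.1, (class_comm hη ⟨hd, hv.1.1.1.2.symm⟩).symm⟩, fun z hz h => hv.1.1.2 z hz (by
      rw [odd_eq C hvD hη]; exact h)⟩
  have hinj : Set.InjOn (fun η => (g * η) ^ 2) (sameCommutingClass D v) := by
    intro η₁ h₁ η₂ h₂ h
    by_contra hne
    have h' : (η₁ * g) ^ 2 = (η₂ * g) ^ 2 := by
      rw [sq_swap C.hD hgW.1.1 h₁.1 (iso_pair C (hηW _ h₁) hgW.1 (hcm _ h₁)),
        sq_swap C.hD hgW.1.1 h₂.1 (iso_pair C (hηW _ h₂) hgW.1 (hcm _ h₂))]
      exact h
    exact hcm _ (C.mul_mem v hvD _ h₂ _ h₁ (Ne.symm hne))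
      (commute_of_sq_eq C.hD h₁.1 h₂.1 hgW.1.1 h').eq.symm
  have himg : (fun η => (g * η) ^ 2) '' sameCommutingClass D v = sameCommutingClass D d := by
    refine Set.eq_of_subset_of_ncard_le ?_ ?_ (Set.toFinite _)
    · rintro _ ⟨η, hη, rfl⟩
      exact hv.2.2 η hη g hgW (hcm η hη)
    · rw [hinj.ncard_image, ncard_class_eq C hvD hd]
  rw [← himg] at he
  obtain ⟨η, hη, rfl⟩ := he
  refine ⟨η, ⟨hηW η hη, fun z hz hne => hv.2.2 η hη z hz hne⟩,
    iso_pair C (hηW η hη) hgW.1 (hcm η hη), rfl⟩

theorem moving_partner (C : Ctx D) (hd : d ∈ D) {g : G} (hg : g ∈ moving D d)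
    (he : e ∈ sameCommutingClass D d) : e ∈ productPartners D g := by
  obtain ⟨m, hm, h4, rfl⟩ := exists_low_sq C hd hg he
  exact sq_mem_productPartners C.hD hg.1.1.1 hm.1.1.1 h4

/-- Two members with the same order four square against `g` are conjugate by an element fixing
the square. -/
theorem exists_conj_fix (C : Ctx D) {g : G} (hg : g ∈ D) (hu : u ∈ D) (ha : a ∈ D)
    (hu4 : orderOf (g * u) = 4) (ha4 : orderOf (g * a) = 4) (hsq : (g * a) ^ 2 = (g * u) ^ 2) :
    ∃ n, n * u * n⁻¹ = a ∧ n * (g * u) ^ 2 = (g * u) ^ 2 * n := by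
  obtain ⟨x, hx, hxg, hx4, hxe, h3⟩ := completion C.hD C.hcon hg hu hu4
  set ε := (g * u) ^ 2 with hε
  have hεD : ε ∈ D := sq_mem C.hD hg hu hu4
  have h3a : orderOf (a * x) = 3 :=
    orderOf_eq_three C.hD hg ha hx ha4 hxg (by rw [hsq]; exact hx4) (by rw [hsq]; exact hxe)
  have hi : ∀ p ∈ D, ∀ y, p * (p * y) = y := fun p hp => conj_cancel C.hD hp
  have hxεx : x * ε * x = g * ε := by
    rw [← hxe]; simp only [pow_two, mul_assoc, sq_one C.hD hεD, mul_one]
  have aux : ∀ p ∈ D, orderOf (g * p) = 4 → orderOf (p * x) = 3 → (g * p) ^ 2 = ε →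
      p * x * p * p * (p * x * p) = x ∧ p * x * p * ε * (p * x * p) = g ∧
        p * x * p * (p * x * p) = 1 := by
    intro p hp hp4 hp3 hpe
    have hpε : p * ε = ε * p := hpe ▸ sq_comm_right C.hD hg hp hp4
    have hgε : g * ε = ε * g := sq_comm_left C.hD hg hu hu4
    have hpgp : p * g * p = g * ε := by
      rw [← hpe]; simp only [pow_two, mul_assoc, hi g hg]
    have hb := braid C.hD hp hx hp3
    refine ⟨?_, ?_, ?_⟩
    · calc p * x * p * p * (p * x * p) = p * x * (p * x * p) := by
            simp only [mul_assoc, hi p hp]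
        _ = p * x * (x * p * x) := by rw [hb]
        _ = x := by simp only [mul_assoc, hi x hx, hi p hp]
    · calc p * x * p * ε * (p * x * p) = p * x * (p * ε) * p * x * p := by simp only [mul_assoc]
        _ = p * (x * ε * x) * p := by
            rw [hpε]; simp only [mul_assoc, hi p hp]
        _ = p * g * (ε * p) := by rw [hxεx]; simp only [mul_assoc]
        _ = p * g * p * ε := by rw [← hpε]; simp only [mul_assoc]
        _ = g := by rw [hpgp, mul_assoc, sq_one C.hD hεD, mul_one]
    · simp only [mul_assoc, hi p hp, hi x hx, sq_one C.hD hp]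
  obtain ⟨u1, u2, u3⟩ := aux u hu hu4 h3 rfl
  obtain ⟨a1, a2, a3⟩ := aux a ha ha4 h3a hsq
  have cc : ∀ r : G, r * r = 1 → ∀ p q, r * p * r = q → r * q * r = p := fun r hr p q h => by
    rw [← h]
    calc r * (r * p * r) * r = r * r * p * (r * r) := by simp only [mul_assoc]
      _ = p := by rw [hr, one_mul, mul_one]
  set r := u * x * u
  set s := a * x * a
  have hinv : (s * r)⁻¹ = r * s := by
    rw [mul_inv_rev, inv_eq_of_mul_eq_one_right u3, inv_eq_of_mul_eq_one_right a3]
  refine ⟨s * r, ?_, ?_⟩
  · rw [hinv]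
    calc s * r * u * (r * s) = s * (r * u * r) * s := by simp only [mul_assoc]
      _ = a := by rw [u1]; exact cc s a3 a x a1
  · rw [← mul_inv_eq_iff_eq_mul, hinv]
    calc s * r * ε * (r * s) = s * (r * ε * r) * s := by simp only [mul_assoc]
      _ = ε := by rw [u2]; exact cc s a3 ε g a2

/-- No member commuting with `a` has square in `E(d)` against the commutator of `a` and `b`. -/
theorem no_comm_partner (C : Ctx D) (hd : d ∈ D) (ha : a ∈ isoMembers D d)
    (hb : b ∈ isoMembers D d) (hab : orderOf (a * b) = 4) (hz : z ∈ commutingMembers D d)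
    (hza : z * a = a * z) (hz4 : orderOf (z * (a * b) ^ 2) = 4)
    (hε : (z * (a * b) ^ 2) ^ 2 ∈ sameCommutingClass D d) : False := by
  set u := (a * b) ^ 2 with hu
  have huD : u ∈ D := sq_mem C.hD ha.1.1 hb.1.1 hab
  obtain ⟨x, hx, hxz, hx4, hxe, h3⟩ := completion C.hD C.hcon hz.1 huD hz4
  set ζ := (z * u) ^ 2 with hζ
  have hux := odd_of_three C.hD huD hx h3
  have haX : a ∈ productPartners D u :=
    productPartners_symm (sq_mem_productPartners C.hD ha.1.1 hb.1.1 hab) ha.1.1
  have hax : orderOf (a * x) = 4 := by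
    rcases eq_or_pair C.hD ha.1.1 hx with h | h | h
    · exact absurd h (partner_not_comm C.hD huD hux haX)
    · exfalso
      refine not_pair C.hD ha.1.1 h hε.1 ((orderOf_swap C.hD hx hε.1).trans hx4)
        (class_comm hε ha.1) ?_
      rw [sq_swap C.hD hx hε.1 hx4, hxe]
      exact hza.symm
    · exact h
  set e := (a * x) ^ 2 with he
  have heD : e ∈ D := sq_mem C.hD ha.1.1 hx hax
  have hζζ := sq_one C.hD hε.1
  have hzz := sq_one C.hD hz.1
  have hζxζ : ζ * x * ζ = x * z := by
    rw [← hxe]; simp only [pow_two, mul_assoc, conj_cancel C.hD hx]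
  have hζaζ : ζ * a * ζ = a := by rw [← class_comm hε ha.1, mul_assoc, hζζ, mul_one]
  have hζe : e * ζ = ζ * e := by
    have h1 : ζ * e * ζ = e := by
      calc ζ * e * ζ = ((ζ * a * ζ) * (ζ * x * ζ)) ^ 2 := by
            simp only [he, pow_two, mul_assoc, conj_cancel C.hD hε.1]
        _ = ((a * x) * z) ^ 2 := by rw [hζaζ, hζxζ]; simp only [mul_assoc]
        _ = e := by
            rw [((show Commute a z from hza.symm).mul_left (show Commute x z from hxz)).mul_pow,
              pow_two z, hzz, mul_one]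
    calc e * ζ = ζ * e * ζ * ζ := by rw [h1]
      _ = ζ * e := by rw [mul_assoc, hζζ, mul_one]
  have hed : e ∈ commutingMembers D d := of_class_comm hε heD hζe
  have hm := mutual_inv C.hD huD hx h3 (c := a) ⟨haX, hax⟩
  have hea : e * a = a * e := (sq_comm_left C.hD ha.1.1 hx hax).symm
  have hbe : orderOf (b * e) = 3 :=
    orderOf_eq_three C.hD ha.1.1 hb.1.1 heD hab hea
      (four_of_sq_mem C.hD (by rw [← hu, hm]; exact ha.1.1)) hm
  exact hb.2 e hed (odd_of_three C.hD hb.1.1 heD hbe)

/-- The main step: a member whose commutators are low is low. -/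
theorem low_step (C : Ctx D) (hd : d ∈ D) (hw : w ∈ isoMembers D d)
    (hcomm : ∀ y ∈ isoMembers D d, w * y ≠ y * w → (w * y) ^ 2 ∈ lowMembers D d) :
    w ∈ lowMembers D d := by
  by_contra hwlow
  have hwE : w ∉ sameCommutingClass D d := fun h =>
    hwlow ⟨hw, fun y hy hne => absurd (class_comm h hy.1) hne⟩
  obtain ⟨g, hg, hgw⟩ : ∃ g ∈ moving D d, g * w ≠ w * g := by
    by_contra hc
    push Not at hc
    exact hwE (class_of_comm_moving C hd hw hc)
  have hgW := hg.1
  have hgw4 := iso_pair C hw hgW.1 hgw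
  have hwg4 : orderOf (w * g) = 4 := (orderOf_swap C.hD hgW.1.1 hw.1.1).trans hgw4
  set u := (g * w) ^ 2 with hu
  have hulow : u ∈ lowMembers D d := by
    rw [hu, ← sq_swap C.hD hgW.1.1 hw.1.1 hgw4]
    exact hcomm g hgW fun e => hgw e.symm
  have huW := hulow.1
  have huD := huW.1.1
  have huE : u ∉ sameCommutingClass D d := fun h => by
    obtain ⟨m, hm, hm4, hmsq⟩ := exists_low_sq C hd hg h
    obtain ⟨n, hn, hnε⟩ := exists_conj_fix C hgW.1.1 hm.1.1.1 hw.1.1 hm4 hgw4 hmsq.symm
    rw [hmsq] at hnε
    exact hwlow (hn ▸ (Stab.of_fix C h hnε).low C hm)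
  have hgu : g * u = u * g := sq_comm_left C.hD hgW.1.1 hw.1.1 hgw4
  have hwu : w * u = u * w := sq_comm_right C.hD hgW.1.1 hw.1.1 hgw4
  have hgXu : g ∈ productPartners D u :=
    productPartners_symm (sq_mem_productPartners C.hD hgW.1.1 hw.1.1 hgw4) hgW.1.1
  obtain ⟨z, hzm, hzu⟩ : ∃ z ∈ moving D d, z * u ≠ u * z := by
    by_contra hc
    push Not at hc
    exact huE (class_of_comm_moving C hd huW hc)
  have hzW := hzm.1
  have hzD := hzW.1.1
  have hζ : (z * u) ^ 2 ∈ sameCommutingClass D d := hulow.2 z hzW hzu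
  have hzu4 := iso_pair C huW hzW.1 hzu
  obtain ⟨x, hx, hxz, hxζ4, hxζ, h3⟩ := completion C.hD C.hcon hzD huD hzu4
  set ζ := (z * u) ^ 2 with hζdef
  have hζD := hζ.1
  have hux := odd_of_three C.hD huD hx h3
  have hζz : z * ζ = ζ * z := class_comm hζ hzW.1
  have hζg : g * ζ = ζ * g := class_comm hζ hgW.1
  have hcζx : ζ * x ≠ x * ζ := fun h => not_comm_of_four C.hD hx hζD hxζ4 h.symm
  have hzg : z * g ≠ g * z := fun h =>
    no_comm_partner C hd hgW hw hgw4 hzW.1 h hzu4 hζ
  have hgz4 := iso_pair C hzW hgW.1 fun h => hzg h.symm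
  set r := (g * z) ^ 2 with hr
  have hrW : r ∈ isoMembers D d := sq_iso C hd hgW hzW fun h => hzg h.symm
  have hrD := hrW.1.1
  have hrg : r ∈ productPartners D g := sq_mem_productPartners C.hD hgW.1.1 hzD hgz4
  have hrz : r ∈ productPartners D z := sq_mem_productPartners_right C.hD hgW.1.1 hzD hgz4
  have hxx : ∀ y, x * (x * y) = y := conj_cancel C.hD hx
  have hzz : ∀ y, z * (z * y) = y := conj_cancel C.hD hzD
  have hgg : ∀ y, g * (g * y) = y := conj_cancel C.hD hgW.1.1
  have hww : ∀ y, w * (w * y) = y := conj_cancel C.hD hw.1.1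
  have hrr : ∀ y, r * (r * y) = y := conj_cancel C.hD hrD
  have huu : ∀ y, u * (u * y) = y := conj_cancel C.hD huD
  have hgzg : g * z * g = r * z := by
    simp only [hr, pow_two, mul_assoc, sq_one C.hD hzD, mul_one]
  have hzgz : z * g * z = g * r := by
    simp only [hr, pow_two, mul_assoc, hgg]
  -- the case of order four between `r` and `x`
  have pp : orderOf (r * x) = 4 →
      (r * x) ^ 2 ∈ isoMembers D d ∧ (r * x) ^ 2 ∈ productPartners D x ∧
      ∃ ε ∈ sameCommutingClass D d, (r * x) ^ 2 * u ≠ u * (r * x) ^ 2 ∧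
        ((r * x) ^ 2 * u) ^ 2 = ε ∧ (ε * x) ^ 2 = (r * x) ^ 2 := by
    intro hr4
    set p := (r * x) ^ 2 with hp
    have hpx := sq_mem_productPartners_right C.hD hrD hx hr4
    have hpr := sq_mem_productPartners C.hD hrD hx hr4
    have hζrζ : ζ * r * ζ = r := by
      rw [← class_comm hζ hrW.1, mul_assoc, sq_one C.hD hζD, mul_one]
    have hζxζ : ζ * x * ζ = x * z := by
      rw [← hxζ]; simp only [pow_two, mul_assoc, hxx]
    have hcom : Commute (r * x) z := Commute.mul_left hrz.1.2.1 hxz
    have hζp : p * ζ = ζ * p := by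
      have h1 : ζ * p * ζ = p := by
        calc ζ * p * ζ = ((ζ * r * ζ) * (ζ * x * ζ)) ^ 2 := by
              simp only [hp, pow_two, mul_assoc, conj_cancel C.hD hζD]
          _ = ((r * x) * z) ^ 2 := by rw [hζrζ, hζxζ]; simp only [mul_assoc]
          _ = p := by rw [hcom.mul_pow, pow_two z, sq_one C.hD hzD, mul_one]
      calc p * ζ = ζ * p * ζ * ζ := by rw [h1]
        _ = ζ * p := by rw [mul_assoc, sq_one C.hD hζD, mul_one]
    have hpC : p ∈ commutingMembers D d := of_class_comm hζ hpx.1.1 hζp
    have hxζx : x * ζ * x = z * ζ := by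
      rw [← hxζ]; simp only [pow_two, mul_assoc, sq_one C.hD hζD, mul_one]
    have hrp : r * p = x * r * x := by simp only [hp, pow_two, mul_assoc, hrr]
    have hrzζ : r ∈ productPartners D (z * ζ) := by
      have hzζD : z * ζ ∈ D := by
        rw [← hxζx]; exact conj_mem' C.hD hx hζD
      refine ⟨⟨hrD, ?_, fun h => ?_⟩, ?_⟩
      · exact ((show Commute r z from hrz.1.2.1).mul_right
          (show Commute r ζ from class_comm hζ hrW.1)).eq
      · have e : g * z * g = ζ := by
          rw [hgzg, h, mul_assoc, ← hζz, hzz]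
        have e2 : z = ζ := by
          calc z = g * (g * z * g) * g := by
                simp only [mul_assoc, hgg, sq_one C.hD hgW.1.1, mul_one]
            _ = g * ζ * g := by rw [e]
            _ = ζ := by rw [hζg, mul_assoc, sq_one C.hD hgW.1.1, mul_one]
        exact hzu (e2 ▸ (class_comm hζ huW.1).symm)
      · have e : r * (z * ζ) = g * (z * ζ) * g := by
          rw [← mul_assoc r, ← hgzg]
          rw [mul_assoc (g * z) g ζ, hζg]
          simp only [mul_assoc]
        rw [e]; exact conj_mem' C.hD hgW.1.1 hzζD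
    have hpW : p ∈ isoMembers D d := by
      refine ⟨hpC, fun y hy ho => ?_⟩
      have hne : y * r ≠ r * y := fun h => not_odd_of_partner C.hD hrD hpr h ho
      have hy4 := iso_pair C hrW hy hne
      have hl := line_adj C.hD hpx.1.1 ho (productPartners_symm hpr hrD)
        ((orderOf_swap C.hD hy.1 hrD).trans hy4)
      rw [hrp] at hl
      have hl' := (mem_oddPartners_conj C.hD x).2 hl
      rw [inv_self C.hD hx] at hl'
      have e : x * (x * r * x) * x = r := by
        simp only [mul_assoc, hxx, sq_one C.hD hx, mul_one]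
      rw [e] at hl'
      refine not_odd_of_partner C.hD ?_ hrzζ ?_ hl'
      · rw [← hxζx]; exact conj_mem' C.hD hx hζD
      · rw [← hxζx]
        have h := class_comm hζ hy
        simp only [mul_assoc, hxx]
        rw [← mul_assoc y ζ, h]
        simp only [mul_assoc]
    have hpu : p * u ≠ u * p :=
      partner_not_comm C.hD hx (oddPartners_symm C.hD huD hux) hpx
    have hε := hulow.2 p hpW hpu
    exact ⟨hpW, hpx, _, hε, hpu, rfl,
      mutual_inv C.hD hx huD ((orderOf_swap C.hD huD hx).trans h3)
        ⟨hpx, iso_pair C huW hpC hpu⟩⟩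
  have hπζ : u * x * u * ζ * (u * x * u) = z := by
    have hxζx : x * ζ * x = z * ζ := by
      rw [← hxζ]; simp only [pow_two, mul_assoc, sq_one C.hD hζD, mul_one]
    have huζ : u * ζ = ζ * u := sq_comm_right C.hD hzD huD hzu4
    calc u * x * u * ζ * (u * x * u) = u * x * (u * ζ) * u * x * u := by simp only [mul_assoc]
      _ = u * (x * ζ * x) * u := by rw [huζ]; simp only [mul_assoc, huu]
      _ = u * z * (ζ * u) := by rw [hxζx]; simp only [mul_assoc]
      _ = u * z * u * ζ := by rw [← huζ]; simp only [mul_assoc]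
      _ = z * ζ * ζ := by
          congr 1
          simp only [hζdef, pow_two, mul_assoc, hzz]
      _ = z := by rw [mul_assoc, sq_one C.hD hζD, mul_one]
  rcases eq_or_pair C.hD hgW.1.1 hx with hgx | hgx | hgx
  · exact partner_not_comm C.hD huD hux hgXu hgx
  · -- product of odd order
    have hrx : orderOf (r * x) = 4 := by
      rcases eq_or_pair C.hD hrD hx with h | h | h
      · exact absurd h (partner_not_comm C.hD hgW.1.1 hgx hrg)
      · exact absurd hxz.symm (partner_not_comm C.hD hrD h (productPartners_symm hrz hzD))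
      · exact h
    obtain ⟨hpW, hpx, ε, hε, -, -, hεx⟩ := pp hrx
    have hεg := moving_partner C hd hg hε
    have hε4 : orderOf (ε * x) = 4 := four_of_sq_mem C.hD (hεx ▸ hpx.1.1)
    have hre : r = ε :=
      fourSide_inj C.hD hgW.1.1 hgx ⟨hrg, hrx⟩ ⟨hεg, hε4⟩ hεx.symm
    rw [← hre] at hε
    -- `r` is in `E(d)`; find `m` with the same commuting members as `u` and `(g z)² = (m z)²`
    obtain ⟨y, hy, hyu, hyζ4, hyζ, hy3⟩ :=
      completion C.hD C.hcon huD hzD ((orderOf_swap C.hD hzD huD).trans hzu4)
    rw [sq_swap C.hD hzD huD hzu4, ← hζdef] at hyζ4 hyζ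
    have hry : orderOf (r * y) = 4 := by
      rcases eq_or_pair C.hD hrD hy with h | h | h
      · exact absurd (class_comm hζ (of_class_comm hε hy h.symm))
          (not_comm_of_four C.hD hy hζD hyζ4)
      · rw [← odd_eq C hd hε, odd_eq C hd hζ] at h
        exact absurd ((orderOf_swap C.hD hy hζD).trans hyζ4) (oddPartners_not_four h)
      · exact h
    set m := (r * y) ^ 2 with hm
    have hmz := mutual_inv C.hD hzD hy hy3 (c := r) ⟨hrz, hry⟩
    rw [← hm] at hmz
    have hmD := sq_mem C.hD hrD hy hry
    have hmz4 : orderOf (m * z) = 4 := four_of_sq_mem C.hD (hmz.symm ▸ hrD)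
    have hyy := conj_cancel C.hD hy
    set π := z * y * z with hπ
    have hπi : π⁻¹ = π := inv_self C.hD (conj_mem' C.hD hzD hy)
    have hπr : π * r * π⁻¹ = m := by
      rw [hπi]
      have h1 : y * r * y = r * m := by simp only [hm, pow_two, mul_assoc, hrr]
      have h2 : z * m * z = m * r := by
        have : m * (z * m * z) = r := by rw [← hmz]; simp only [pow_two, mul_assoc]
        conv_rhs => rw [← this]
        rw [conj_cancel C.hD hmD]
      have hmr : m * r = r * m := (sq_comm_left C.hD hrD hy hry).symm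
      calc π * r * π = z * y * (z * r) * z * y * z := by simp only [hπ, mul_assoc]
        _ = z * (y * r * y) * z := by
            rw [← hrz.1.2.1]; simp only [mul_assoc, hzz]
        _ = (z * r) * (m * z) := by rw [h1]; simp only [mul_assoc]
        _ = r * (z * m * z) := by rw [← hrz.1.2.1]; simp only [mul_assoc]
        _ = m := by rw [h2, hmr, hrr]
    have hπζ' : π * ζ * π⁻¹ = u := by
      rw [hπi]
      have h1 : y * ζ * y = u * ζ := by
        rw [← hyζ]; simp only [pow_two, mul_assoc, sq_one C.hD hζD, mul_one]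
      have h2 : z * u * z = u * ζ := by
        have : (u * z) ^ 2 = ζ := sq_swap C.hD hzD huD hzu4
        rw [← this]; simp only [pow_two, mul_assoc, huu]
      calc π * ζ * π = z * y * (z * ζ) * z * y * z := by simp only [hπ, mul_assoc]
        _ = z * (y * ζ * y) * z := by rw [hζz]; simp only [mul_assoc, hzz]
        _ = z * u * (ζ * z) := by rw [h1]; simp only [mul_assoc]
        _ = z * u * z * ζ := by rw [← hζz]; simp only [mul_assoc]
        _ = u := by rw [h2, mul_assoc, sq_one C.hD hζD, mul_one]
    have hCm : commutingMembers D m = commutingMembers D u := by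
      rw [← hπr, ← hπζ', comm_conj_eq C.hD, comm_conj_eq C.hD, ← hε.2, ← hζ.2]
    have hmC : m ∈ commutingMembers D d := by
      have h : d ∈ commutingMembers D m := hCm ▸ ⟨hd, huW.1.2.symm⟩
      exact ⟨hmD, h.2.symm⟩
    have hzm4 : orderOf (z * m) = 4 := (orderOf_swap C.hD hmD hzD).trans hmz4
    have hzm2 : (z * m) ^ 2 = r := (sq_swap C.hD hmD hzD hmz4).trans hmz
    have hzg2 : (z * g) ^ 2 = r := sq_swap C.hD hgW.1.1 hzD hgz4
    obtain ⟨n, hn, hnr⟩ := exists_conj_fix C hzD hmD hgW.1.1 hzm4
      ((orderOf_swap C.hD hgW.1.1 hzD).trans hgz4) (hzg2.trans hzm2.symm)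
    rw [hzm2] at hnr
    have hst : Stab D d n := Stab.of_fix C hε hnr
    set u' := n * u * n⁻¹ with hu'
    have hu'low : u' ∈ lowMembers D d := hst.low C hulow
    have hCg : commutingMembers D u' = commutingMembers D g := by
      rw [hu', ← hn, comm_conj_eq C.hD, comm_conj_eq C.hD, hCm]
    have hwu' : w * u' ≠ u' * w := fun h =>
      hgw ((hCg ▸ ⟨hw.1.1, h⟩ : w ∈ commutingMembers D g).2).symm
    have hS : ∀ t ∈ sharedMembers D d u', t * g = g * t := fun t ht =>
      (hCg ▸ ⟨ht.1.1, ht.2⟩ : t ∈ commutingMembers D g).2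
    have hsub : sharedMembers D d u' ⊂ sharedMembers D d u := by
      refine ⟨fun t ht => ⟨ht.1, ?_⟩, fun h => hwu' (h ⟨hw.1, hwu⟩).2⟩
      have := shared_comm_sq C hd hu'low.1.1 hw hgW.1.1 (hu'low.2 w hw hwu') hS ht
      rwa [sq_swap C.hD hgW.1.1 hw.1.1 hgw4] at this
    have hlt := Set.ncard_lt_ncard hsub (Set.toFinite _)
    rw [hu', hst.ncard_shared C] at hlt
    exact lt_irrefl _ hlt
  · -- product of order four
    set e := (g * x) ^ 2 with he
    have heD : e ∈ D := sq_mem C.hD hgW.1.1 hx hgx
    have heu := mutual_inv C.hD huD hx h3 (c := g) ⟨hgXu, hgx⟩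
    rw [← he] at heu
    have heu4 : orderOf (e * u) = 4 := four_of_sq_mem C.hD (heu.symm ▸ hgW.1.1)
    have heg : e * g = g * e := (sq_comm_left C.hD hgW.1.1 hx hgx).symm
    have hex : e * x = x * e := (sq_comm_right C.hD hgW.1.1 hx hgx).symm
    have hwe : orderOf (w * e) = 3 :=
      orderOf_eq_three C.hD hgW.1.1 hw.1.1 heD hgw4 heg heu4 heu
    have heA := odd_of_three C.hD hw.1.1 heD hwe
    have heζ : e * ζ ≠ ζ * e := fun h => hw.2 e (of_class_comm hζ heD h) heA
    have hζxζ : ζ * x * ζ = x * z := by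
      rw [← hxζ]; simp only [pow_two, mul_assoc, hxx]
    have hζgζ : ζ * g * ζ = g := by rw [← hζg, mul_assoc, sq_one C.hD hζD, mul_one]
    have hxgx : x * g * x = g * e := by simp only [he, pow_two, mul_assoc, hgg]
    have hζe : ζ * e * ζ = e * (x * r * x) := by
      calc ζ * e * ζ = ((ζ * g * ζ) * (ζ * x * ζ)) ^ 2 := by
            simp only [he, pow_two, mul_assoc, conj_cancel C.hD hζD]
        _ = g * x * (z * g) * x * z := by rw [hζgζ, hζxζ]; simp only [pow_two, mul_assoc]
        _ = g * x * (g * r * z) * x * z := by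
            rw [← hzgz]; simp only [mul_assoc, sq_one C.hD hzD, mul_one]
        _ = g * x * g * r * x := by
            rw [mul_assoc (g * x * (g * r * z)) x z, hxz]
            simp only [mul_assoc, hzz]
        _ = e * (x * r * x) := by
            simp only [he, pow_two, mul_assoc, hxx]
    set t := x * r * x with ht
    have hte : t = (e * ζ) ^ 2 := by
      have h : (e * ζ) ^ 2 = e * (ζ * e * ζ) := by simp only [pow_two, mul_assoc]
      rw [h, hζe, conj_cancel C.hD heD]
    have heζ4 : orderOf (e * ζ) = 4 :=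
      four_of_sq_mem C.hD (hte ▸ conj_mem' C.hD hx hrD)
    have hce : Commute e t := hte ▸ sq_comm_left C.hD heD hζD heζ4
    have her : e * r = r * e := by
      have h : x * t * x = r := by
        simp only [ht, mul_assoc, hxx, sq_one C.hD hx, mul_one]
      rw [← h]
      exact (Commute.mul_right (Commute.mul_right hex hce) hex).eq
    have hrx : r * x = x * r := by
      rcases eq_or_pair C.hD hrD hx with h | h | h
      · exact h
      · exact absurd hxz.symm (partner_not_comm C.hD hrD h (productPartners_symm hrz hzD))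
      exfalso
      obtain ⟨hpW, hpx, ε, hε, -, hεdef, hεx⟩ := pp h
      set p := (r * x) ^ 2 with hp
      have hep : e * p = p * e :=
        (((show Commute e r from her).mul_right (show Commute e x from hex)).pow_right 2).eq
      have hπi : (u * x * u)⁻¹ = u * x * u := inv_self C.hD (conj_mem' C.hD huD hx)
      have hπε : u * x * u * ε * (u * x * u) = p := by
        have h1 : x * ε * x = ε * p := by
          rw [← hεx]; simp only [pow_two, mul_assoc, conj_cancel C.hD hε.1]
        have h2 : u * p * u = p * ε := by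
          rw [← hεdef]; simp only [pow_two, mul_assoc, conj_cancel C.hD hpx.1.1]
        have huε : u * ε = ε * u := class_comm hε huW.1
        calc u * x * u * ε * (u * x * u) = u * x * (u * ε) * u * x * u := by
              simp only [mul_assoc]
          _ = u * (x * ε * x) * u := by rw [huε]; simp only [mul_assoc, huu]
          _ = u * ε * (p * u) := by rw [h1]; simp only [mul_assoc]
          _ = ε * (u * p * u) := by rw [huε]; simp only [mul_assoc]
          _ = p := by
              rw [h2, classOne_comm (Or.inr hε) hpW.1, ← mul_assoc, sq_one C.hD hε.1, one_mul]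
      have hCp : commutingMembers D p = commutingMembers D z := by
        have e1 : u * x * u * ε * (u * x * u)⁻¹ = p := by rw [hπi]; exact hπε
        have e2 : u * x * u * ζ * (u * x * u)⁻¹ = z := by rw [hπi]; exact hπζ
        rw [← e1, ← e2, comm_conj_eq C.hD, comm_conj_eq C.hD, ← hε.2, ← hζ.2]
      have hez : e * z = z * e :=
        (hCp ▸ ⟨heD, hep⟩ : e ∈ commutingMembers D z).2
      have hzxz : z * x * z = x := by rw [← hxz, mul_assoc, sq_one C.hD hzD, mul_one]
      have h1 : z * e * z = e * r * t := by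
        calc z * e * z = ((z * g * z) * (z * x * z)) ^ 2 := by
              simp only [he, pow_two, mul_assoc, hzz]
          _ = g * r * (x * g * x) * (x * r * x) := by
              rw [hzgz, hzxz]; simp only [pow_two, mul_assoc, hxx]
          _ = r * e * t := by
              rw [hxgx, ← hrg.1.2.1, ← ht]
              simp only [mul_assoc, hgg]
          _ = e * r * t := by rw [her]
      rw [← hez, mul_assoc, sq_one C.hD hzD, mul_one] at h1
      have h2 : r * t = 1 := by
        have h' := congrArg (fun y => e * y) h1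
        simp only [mul_assoc, conj_cancel C.hD heD, sq_one C.hD heD] at h'
        exact h'.symm
      have hrt : t = r := by rw [← inv_eq_of_mul_eq_one_right h2, inv_self C.hD hrD]
      have hne := not_comm_of_four C.hD hrD hx h
      apply hne
      calc r * x = x * r * x * x := by rw [← ht, hrt]
        _ = x * r := by rw [mul_assoc, sq_one C.hD hx, mul_one]
    have htr : t = r := by rw [ht, ← hrx, mul_assoc, sq_one C.hD hx, mul_one]
    rw [htr] at hte
    have hzxz : z * x * z = x := by rw [← hxz, mul_assoc, sq_one C.hD hzD, mul_one]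
    have hzez : z * e * z = e := by
      calc z * e * z = ((z * g * z) * (z * x * z)) ^ 2 := by
            simp only [he, pow_two, mul_assoc, hzz]
        _ = g * r * (x * g * x) * (x * r * x) := by
            rw [hzgz, hzxz]; simp only [pow_two, mul_assoc, hxx]
        _ = r * e * r := by
            rw [hxgx, ← hrg.1.2.1, ← ht, htr]
            simp only [mul_assoc, hgg]
        _ = e := by rw [← her, mul_assoc, sq_one C.hD hrD, mul_one]
    have hze : z * e = e * z := by
      calc z * e = z * e * z * z := by rw [mul_assoc (z * e), sq_one C.hD hzD, mul_one]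
        _ = e * z := by rw [hzez]
    have hrXe : r ∈ productPartners D e := hte ▸ sq_mem_productPartners C.hD heD hζD heζ4
    have hrw : r * w ≠ w * r :=
      partner_not_comm C.hD heD (oddPartners_symm C.hD hw.1.1 heA) hrXe
    have hrw4 := iso_pair C hw hrW.1 hrw
    set q := (r * w) ^ 2 with hq
    have hqe := mutual_inv C.hD heD hw.1.1 ((orderOf_swap C.hD hw.1.1 heD).trans hwe) (c := r)
      ⟨hrXe, hrw4⟩
    rw [← hq] at hqe
    -- `q` is in `E(d)`
    set s := (w * z) ^ 2 with hs
    have hs' : (w * z = z * w ∧ s = 1) ∨ s ∈ lowMembers D d := by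
      by_cases h : w * z = z * w
      · exact Or.inl ⟨h, pow_two_eq_one_of_comm C.hD hw.1.1 hzD h⟩
      · exact Or.inr (hcomm z hzW h)
    have hsr : Commute s r := by
      rcases hs' with ⟨-, h⟩ | h
      · rw [h]; exact Commute.one_left r
      · exact low_comm_sq C hd h hgW hzW
    have hsw : Commute s w := by
      by_cases h : w * z = z * w
      · rw [hs, pow_two_eq_one_of_comm C.hD hw.1.1 hzD h]; exact Commute.one_left w
      · exact (sq_comm_left C.hD hw.1.1 hzD (iso_pair C hzW hw.1 h)).symm
    have hss : s * s = 1 := by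
      rcases hs' with ⟨-, h⟩ | h
      · rw [h, one_mul]
      · exact sq_one C.hD h.1.1.1
    have hur : u * r = r * u := low_comm_sq C hd hulow hgW hzW
    have hσ : (g * s) ^ 2 ∈ classOne D d := by
      rcases hs' with ⟨-, h⟩ | h
      · rw [h, mul_one, pow_two, sq_one C.hD hgW.1.1]; exact one_classOne
      · by_cases hgs : g * s = s * g
        · exact Or.inl (pow_two_eq_one_of_comm C.hD hgW.1.1 h.1.1.1 hgs)
        · exact Or.inr (h.2 g hgW hgs)
    set σ := (g * s) ^ 2 with hσdef
    have hsC : ∀ y ∈ classOne D d, s * y = y * s := fun y hy => by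
      rcases hs' with ⟨-, h⟩ | h
      · rw [h, one_mul, mul_one]
      · exact classOne_comm hy h.1.1
    have hsg : s * g = g * s * σ := by
      have hgσ : g * σ = σ * g := classOne_comm hσ hgW.1
      have h1 : σ = g * s * (g * s) := by rw [hσdef, pow_two]
      calc s * g = g * (g * s * (g * s)) * s := by
            simp only [mul_assoc, hgg, hss, mul_one]
        _ = g * σ * s := by rw [← h1]
        _ = g * s * σ := by rw [mul_assoc, ← hsC σ hσ, ← mul_assoc]
    have hzwz : z * w * z = w * s := by simp only [hs, pow_two, mul_assoc, hww]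
    have hwgw : g * w * g = u * w := by
      simp only [hu, pow_two, mul_assoc, sq_one C.hD hw.1.1, mul_one]
    have hzuz : z * u * z = ζ * u := conj_eq_mul_sq C hzD huD
    have key : ζ * u = u * q * σ := by
      rw [← hzuz]
      calc z * u * z = ((z * g * z) * (z * w * z)) ^ 2 := by
            simp only [hu, pow_two, mul_assoc, hzz]
        _ = g * r * w * (s * g) * r * w * s := by
            rw [hzgz, hzwz]; simp only [pow_two, mul_assoc]
        _ = g * r * w * g * s * (σ * r) * w * s := by rw [hsg]; simp only [mul_assoc]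
        _ = g * r * w * g * (s * r) * σ * w * s := by
            rw [← classOne_comm hσ hrW.1]; simp only [mul_assoc]
        _ = g * r * w * g * r * (s * (σ * w)) * s := by rw [hsr.eq]; simp only [mul_assoc]
        _ = g * r * w * g * r * w * σ := by
            rw [← classOne_comm hσ hw.1, ← mul_assoc s w σ, hsw.eq]
            rw [mul_assoc (g * r * w * g * r) (w * s * σ) s, mul_assoc (w * s) σ s, ← hsC σ hσ]
            simp only [mul_assoc, ← mul_assoc s s, hss, one_mul]
        _ = r * (g * w * g) * r * w * σ := by rw [← hrg.1.2.1]; simp only [mul_assoc]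
        _ = (r * u) * w * r * w * σ := by rw [hwgw]; simp only [mul_assoc]
        _ = u * q * σ := by rw [← hur]; simp only [hq, pow_two, mul_assoc]
    have hq' : q = ζ * σ := by
      have h1 : u * (q * σ) = u * ζ := by
        rw [← mul_assoc, ← key]
        exact (sq_comm_right C.hD hzD huD hzu4).symm
      have h2 := mul_left_cancel h1
      rw [← h2, mul_assoc, classOne_sq C hσ, mul_one]
    have hqD : q ∈ D := sq_mem C.hD hrD hw.1.1 hrw4
    have hqE : q ∈ sameCommutingClass D d :=
      (hq' ▸ classOne_mul C hd (Or.inr hζ) hσ : q ∈ classOne D d).resolve_left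
        (mem_ne_one C.hD hqD)
    have hqζ : q = ζ := by
      by_contra hne
      have hc := commute_of_sq_eq C.hD hζD hqE.1 heD
        ((sq_swap C.hD heD hζD heζ4).trans (hte.symm.trans hqe.symm))
      exact hw.2 e (of_class_comm (C.mul_mem d hd q hqE ζ hζ hne) heD hc.eq.symm) heA
    -- `π = w e w` exchanges `u` and `g`
    have hee : ∀ y, e * (e * y) = y := conj_cancel C.hD heD
    set π := w * e * w with hπ
    have hππ : π * π = 1 := sq_one C.hD (conj_mem' C.hD hw.1.1 heD)
    have hπu : π * u * π = g := by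
      have h1 : e * u * e = g * u := by
        rw [← heu]; simp only [pow_two, mul_assoc, sq_one C.hD huD, mul_one]
      calc π * u * π = w * e * (w * u) * w * e * w := by simp only [hπ, mul_assoc]
        _ = w * (e * u * e) * w := by rw [hwu]; simp only [mul_assoc, hww]
        _ = w * g * (u * w) := by rw [h1]; simp only [mul_assoc]
        _ = w * g * w * u := by rw [← hwu]; simp only [mul_assoc]
        _ = g * u * u := by
            congr 1
            simp only [hu, pow_two, mul_assoc, hgg]
        _ = g := by rw [mul_assoc, sq_one C.hD huD, mul_one]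
    have hπζr : π * ζ * π = r := by
      have hwζ : w * ζ = ζ * w := class_comm hζ hw.1
      have h1 : e * ζ * e = r * ζ := by
        rw [hte]; simp only [pow_two, mul_assoc, sq_one C.hD hζD, mul_one]
      have h2 : w * r * w = r * ζ := by
        rw [← hqζ, hq]; simp only [pow_two, mul_assoc, hrr]
      calc π * ζ * π = w * e * (w * ζ) * w * e * w := by simp only [hπ, mul_assoc]
        _ = w * (e * ζ * e) * w := by rw [hwζ]; simp only [mul_assoc, hww]
        _ = w * r * (ζ * w) := by rw [h1]; simp only [mul_assoc]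
        _ = w * r * w * ζ := by rw [← hwζ]; simp only [mul_assoc]
        _ = r := by rw [h2, mul_assoc, sq_one C.hD hζD, mul_one]
    have hπe : π * e * π = w := by
      have hb := braid C.hD hw.1.1 heD hwe
      calc π * e * π = (w * e * w) * e * (w * e * w) := rfl
        _ = (e * w * e) * e * (e * w * e) := by rw [hb]
        _ = e * (w * e * w) * e := by simp only [mul_assoc, hee]
        _ = e * (e * w * e) * e := by rw [hb]
        _ = w := by simp only [mul_assoc, hee, sq_one C.hD heD, mul_one]
    have cc : ∀ p q, π * p * π = q → π * q * π = p := fun p q h => by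
      rw [← h]
      calc π * (π * p * π) * π = π * π * p * (π * π) := by simp only [mul_assoc]
        _ = p := by rw [hππ, one_mul, mul_one]
    have hmulπ : ∀ p q, (π * p * π) * (π * q * π) = π * (p * q) * π := fun p q => by
      calc (π * p * π) * (π * q * π) = π * p * (π * π) * q * π := by simp only [mul_assoc]
        _ = π * (p * q) * π := by rw [hππ, mul_one]; simp only [mul_assoc]
    set z' := π * z * π with hz'
    have hz'D : z' ∈ D := by
      have := C.hD.conj_mem z hzD π
      rwa [inv_eq_of_mul_eq_one_right hππ] at this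
    have hz'w : z' * w = w * z' := by rw [← hπe, hz', hmulπ, hmulπ, hze]
    have hz'ζ : z' * ζ = ζ * z' := by
      rw [← cc ζ r hπζr, hz', hmulπ, hmulπ, hrz.1.2.1]
    have hsq : (z' * u) ^ 2 = ζ := by
      rw [← cc u g hπu, hz', hmulπ, pow_two, hmulπ, ← pow_two,
        sq_swap C.hD hgW.1.1 hzD hgz4, ← hr, cc ζ r hπζr]
    have hz'C : z' ∈ commutingMembers D d := of_class_comm hζ hz'D hz'ζ
    have hu' : (w * g) ^ 2 = u := sq_swap C.hD hgW.1.1 hw.1.1 hgw4
    exact no_comm_partner C hd hw hgW hwg4 hz'C hz'w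
      (by rw [hu']; exact four_of_sq_mem C.hD (hsq.symm ▸ hζD))
      (by rw [hu', hsq]; exact hζ)

/-- All commutators of members of `W` are in `E(d)`. -/
theorem iso_low (C : Ctx D) (hd : d ∈ D) (hw : w ∈ isoMembers D d) : w ∈ lowMembers D d :=
  iso_induction C hd (· ∈ lowMembers D d) (fun w hw h => low_step C hd hw h) w hw

/-- The members of `W` are `d` and its product partners. -/
theorem iso_eq (C : Ctx D) (hd : d ∈ D) : isoMembers D d = productPartners D d ∪ {d} := by
  ext w
  constructor
  · intro hw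
    by_cases hwd : w = d
    · exact Or.inr hwd
    left
    by_cases hwE : w ∈ sameCommutingClass D d
    · exact ⟨⟨hw.1.1, hw.1.2, hwd⟩, (C.mul_mem d hd w hwE d (self_class hd) hwd).1⟩
    · obtain ⟨p, hp, -, hp4, himp⟩ := exists_partner C hd hw hwE
      exact himp ((iso_low C hd hw).2 p hp (not_comm_of_four C.hD hp.1.1 hw.1.1 hp4))
  · rintro (h | rfl)
    · exact ⟨⟨h.1.1, h.1.2.1⟩, fun y hy => not_odd_of_partner C.hD hd h hy.2⟩
    · exact class_iso C hd (self_class hd)

end Cfsg.Agent.Lib.RootSubgroups.RootInv.Root87
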