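import Mathlib
import Cfsg.Agent.Lib.RootSubgroups.Structure87

/-!
The root structure theorem for root involutions: connectedness of the class, and the group
generated by the product partners of a member.
-/

set_option autoImplicit false
set_option linter.unusedSectionVars false
set_option linter.unusedVariables false

namespace Cfsg.Agent.Lib.RootSubgroups.RootInv.Root87

open Cfsg
open Cfsg.Agent.Lib.RootSubgroups.RootInv
open scoped commutatorElement

variable {G : Type*} [Group G] [Finite G] {D : Set G} {a b c d e n t u v w x y z : G}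

theorem oddAdj_conj (hD : IsRootInvolutionSet D) (v : G) (h : OddAdj D a b) :
    OddAdj D (v * a * v⁻¹) (v * b * v⁻¹) :=
  ⟨hD.conj_mem a h.1 v, hD.conj_mem b h.2.1 v, by simpa using h.2.2.1, by
    rw [orderOf_conj_mul]; exact h.2.2.2⟩

theorem reach_conj (hD : IsRootInvolutionSet D) (v : G)
    (h : Relation.ReflTransGen (OddAdj D) a b) :
    Relation.ReflTransGen (OddAdj D) (v * a * v⁻¹) (v * b * v⁻¹) :=
  h.lift _ fun _ _ h' => oddAdj_conj hD v h'

/-- A class of root involutions in a group without normal two-subgroup is connected. -/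
theorem connected_of_class (hcl : IsRootInvolutionClass D) (hO : pCore 2 G = ⊥) :
    IsConnectedSet (OddAdj D) D := by
  obtain ⟨hD, -, hconj⟩ := hcl
  set N := Subgroup.closure {w | IsIsolatedElem (OddAdj D) D w}
  have hN : N = ⊥ := by
    rw [eq_bot_iff, ← hO]
    exact le_sSup ⟨closure_isolated_normal hD, closure_isolated_isPGroup hD⟩
  have hniso : ∀ a, ¬ IsIsolatedElem (OddAdj D) D a := fun a h => by
    have : a ∈ N := Subgroup.subset_closure h
    rw [hN, Subgroup.mem_bot] at this
    exact mem_ne_one hD h.1 this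
  have hother : ∀ a ∈ D, ∃ a' ∈ elemComponentOf (OddAdj D) D a, a' ≠ a := by
    intro a ha
    obtain ⟨y, hy⟩ : ∃ y, y ∈ oddPartners D a :=
      Set.nonempty_iff_ne_empty.2 fun h => hniso a ((isolated_iff hD).2 ⟨ha, h⟩)
    exact ⟨y, ⟨hy.1, Relation.ReflTransGen.single ⟨ha, hy.1, hy.2.1.symm, hy.2.2⟩⟩, hy.2.1⟩
  have hsep : ∀ a ∈ D, ∀ b ∈ D, ¬ Relation.ReflTransGen (OddAdj D) a b → a * b = b * a := by
    intro a ha b hb hab
    have h := commutator_mem_isolated hD ha hb (hother a ha) (hother b hb) fun he => by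
      have : b ∈ elemComponentOf (OddAdj D) D a := by rw [he]; exact ⟨hb, .refl⟩
      exact hab this.2
    change a * b * a⁻¹ * b⁻¹ ∈ N at h
    rw [hN, Subgroup.mem_bot, mul_inv_eq_one, mul_inv_eq_iff_eq_mul] at h
    exact h
  intro a ha b hb
  obtain ⟨g, rfl⟩ := hconj a ha b hb
  have hg : g ∈ Subgroup.closure D := hD.generates.symm ▸ Subgroup.mem_top g
  have step : ∀ x ∈ D, ∀ c ∈ D, Relation.ReflTransGen (OddAdj D) c (x * c * x⁻¹) := by
    intro x hx c hc
    by_cases h : Relation.ReflTransGen (OddAdj D) x c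
    · have h' := reach_conj hD x h
      rw [mul_inv_cancel_right] at h'
      exact (reach_symm hD h).trans h'
    · rw [hsep x hx c hc h, mul_inv_cancel_right]
  clear hb
  revert a
  induction hg using Subgroup.closure_induction_left with
  | one => exact fun a _ => by rw [one_mul, inv_one, mul_one]
  | mul_left x hx y _ ih =>
    intro a ha
    have h := (ih a ha).trans (step x hx _ (hD.conj_mem a ha y))
    convert h using 1
    group
  | inv_mul_cancel x hx y _ ih =>
    intro a ha
    have h := (ih a ha).trans (step x hx _ (hD.conj_mem a ha y))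
    rw [inv_self hD hx] at h ⊢
    convert h using 1
    rw [mul_inv_rev, inv_self hD hx]
    simp only [mul_assoc]

theorem classOne_eq (h : (sameCommutingSubgroup D d : Set G) = sameCommutingClass D d ∪ {1}) :
    (sameCommutingSubgroup D d : Set G) = classOne D d := by
  rw [h]; ext z
  simp only [classOne, Set.mem_union, Set.mem_singleton_iff, Set.mem_ofPred_eq, or_comm]

theorem ctx_of_hyp (hcl : IsRootInvolutionClass D) (hO : pCore 2 G = ⊥)
    (hE : ∀ d ∈ D, (sameCommutingSubgroup D d : Set G) = sameCommutingClass D d ∪ {1}) :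
    Ctx D := by
  refine ⟨hcl.1, connected_of_class hcl hO, fun a ha p hp q hq hne => ?_⟩
  have h : p * q ∈ (sameCommutingSubgroup D a : Set G) :=
    mul_mem (Subgroup.subset_closure hp) (Subgroup.subset_closure hq)
  rw [classOne_eq (hE a ha)] at h
  refine h.resolve_left fun h1 => hne ?_
  rw [mul_eq_one_iff_eq_inv.1 h1, inv_self hcl.1 hq.1]

theorem isolated_eq (hD : IsRootInvolutionSet D) (d : G) :
    {w | IsIsolatedElem (OddAdj (commutingMembers D d)) (commutingMembers D d) w} =
      isoMembers D d := by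
  ext w
  simp only [isoMembers, IsIsolatedElem, OddAdj, oddPartners, Set.mem_ofPred_eq]
  constructor
  · rintro ⟨hw, h⟩
    exact ⟨hw, fun z hz hzo => (h z).1 ⟨hw, hz, hzo.2.1.symm, hzo.2.2⟩⟩
  · rintro ⟨hw, h⟩
    refine ⟨hw, fun z => ⟨fun hz => h z hz.2.1 ⟨hz.2.1.1, hz.2.2.1.symm, hz.2.2.2⟩,
      fun hz => h z hz.1 ⟨hz.1.1, hz.2.2.1, ?_⟩⟩⟩
    rw [orderOf_swap hD hz.1.1 hw.1]
    exact hz.2.2.2

/-- Members of `D` in the group generated by `W` are in `W`. -/
theorem mem_iso_of_closure (C : Ctx D) (hd : d ∈ D) (he : e ∈ D)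
    (hn : e ∈ Subgroup.closure (isoMembers D d)) : e ∈ isoMembers D d := by
  have hed : e * d = d * e := by
    have hle : Subgroup.closure (isoMembers D d) ≤ Subgroup.centralizer {d} :=
      (Subgroup.closure_le _).2 fun w hw => Subgroup.mem_centralizer_singleton_iff.2 hw.1.2
    exact Subgroup.mem_centralizer_singleton_iff.1 (hle hn)
  refine ⟨⟨he, hed⟩, fun z hz hzo => ?_⟩
  set N := Subgroup.closure (isoMembers D d) with hN
  have hmap : N ≤ N.comap (MulAut.conj z).toMonoidHom := by
    rw [hN, Subgroup.closure_le]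
    intro w hw
    exact Subgroup.subset_closure ((Stab.of_mem C hd hz).iso C hw)
  have h2 : (e * z) ^ 2 ∈ N := by
    have hc : z * e * z⁻¹ ∈ N := hmap hn
    rw [inv_self C.hD hz.1] at hc
    have h := mul_mem hn hc
    simpa only [pow_two, mul_assoc] using h
  obtain ⟨k, hk⟩ := isPGroup_iso C hd ⟨_, h2⟩
  have hk' : ((e * z) ^ 2) ^ 2 ^ k = 1 := congrArg Subtype.val hk
  rw [← pow_mul, ← pow_succ'] at hk'
  have h1 : orderOf (e * z) = 1 :=
    Nat.Coprime.eq_one_of_dvd ((hzo.2.2.coprime_two_right).pow_right _)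
      (orderOf_dvd_of_pow_eq_one hk')
  exact hzo.2.1 (by rw [← mul_eq_one_iff_inv_eq.1 (orderOf_eq_one_iff.1 h1), inv_self C.hD he])

/-- Every element of `E(d)` is the square of a product of order four of two members of `W`. -/
theorem class_eq_sq (C : Ctx D) (hnd : ∃ a ∈ D, ∃ b ∈ D, orderOf (a * b) = 4) (hd : d ∈ D)
    (he : e ∈ sameCommutingClass D d) :
    ∃ a ∈ isoMembers D d, ∃ b ∈ isoMembers D d, orderOf (a * b) = 4 ∧ (a * b) ^ 2 = e := by
  obtain ⟨a, ha, b, hb, h4⟩ := hnd
  obtain ⟨v, rfl⟩ := exists_conj C.hD C.hcon (sq_mem C.hD ha hb h4) he.1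
  have hW : ∀ p, p ∈ productPartners D ((a * b) ^ 2) → v * p * v⁻¹ ∈ isoMembers D d := by
    intro p hp
    have hp' : v * p * v⁻¹ ∈ productPartners D (v * (a * b) ^ 2 * v⁻¹) := by
      obtain ⟨⟨hpD, hc, hne⟩, hpr⟩ := hp
      refine ⟨⟨C.hD.conj_mem p hpD v, (conj_comm_iff v p _).2 hc, by simpa using hne⟩, ?_⟩
      have h' := C.hD.conj_mem _ hpr v
      simpa [mul_assoc] using h'
    refine ⟨of_class_comm he hp'.1.1 hp'.1.2.1, fun y hy => ?_⟩
    exact not_odd_of_partner C.hD he.1 hp' (class_comm he hy)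
  refine ⟨_, hW a (productPartners_symm (sq_mem_productPartners C.hD ha hb h4) ha),
    _, hW b (productPartners_symm (sq_mem_productPartners_right C.hD ha hb h4) hb),
    by rw [orderOf_conj_mul]; exact h4, conj_sq v a b⟩

/-- The root structure theorem. -/
theorem root_structure (hnd : IsNondegenerateRootInvolutionSet D) (hcl : IsRootInvolutionClass D)
    (hO : pCore 2 G = ⊥)
    (hE : ∀ d ∈ D, (sameCommutingSubgroup D d : Set G) = sameCommutingClass D d ∪ {1})
    (hd : d ∈ D) :
    Subgroup.closure {w | IsIsolatedElem (OddAdj (commutingMembers D d)) (commutingMembers D d) w} =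
      Subgroup.closure (productPartners D d ∪ {d}) ∧
    D ∩ (Subgroup.closure (productPartners D d ∪ {d}) : Set G) = productPartners D d ∪ {d} ∧
    ⁅Subgroup.closure (productPartners D d ∪ {d}), Subgroup.closure (productPartners D d ∪ {d})⁆ =
      sameCommutingSubgroup D d ∧
    sameCommutingClass D d = {e | e ∈ D ∧ e ∈ Subgroup.closure (productPartners D d ∪ {d}) ∧
      ∀ y ∈ Subgroup.closure (productPartners D d ∪ {d}), e * y = y * e} := by
  have C := ctx_of_hyp hcl hO hE
  have hW := iso_eq C hd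
  rw [isolated_eq C.hD, ← hW]
  set N := Subgroup.closure (isoMembers D d) with hN
  have hint : D ∩ (N : Set G) = isoMembers D d :=
    Set.Subset.antisymm (fun e he => mem_iso_of_closure C hd he.1 he.2)
      fun e he => ⟨he.1.1, Subgroup.subset_closure he⟩
  have hcen : ∀ t ∈ classOne D d, ∀ y ∈ N, y * t = t * y := by
    intro t ht y hy
    have hle : N ≤ Subgroup.centralizer {t} := (Subgroup.closure_le _).2 fun w hw =>
      Subgroup.mem_centralizer_singleton_iff.2 (classOne_comm ht hw.1)
    exact Subgroup.mem_centralizer_singleton_iff.1 (hle hy)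
  refine ⟨rfl, hint, le_antisymm ?_ ?_, ?_⟩
  · rw [Subgroup.commutator_le]
    have hgen : ∀ a ∈ isoMembers D d, ∀ b ∈ isoMembers D d, ⁅a, b⁆ ∈ classOne D d := by
      intro a ha b hb
      rw [commutatorElement_def, ← sq_eq_commutator C.hD ha.1.1 hb.1.1]
      by_cases h : a * b = b * a
      · exact Or.inl (pow_two_eq_one_of_comm C.hD ha.1.1 hb.1.1 h)
      · exact Or.inr ((iso_low C hd hb).2 a ha h)
    have hmem : ∀ z, z ∈ sameCommutingSubgroup D d ↔ z ∈ classOne D d := fun z => by
      rw [← classOne_eq (hE d hd), SetLike.mem_coe]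
    have hright : ∀ a ∈ isoMembers D d, ∀ y ∈ N, ⁅a, y⁆ ∈ sameCommutingSubgroup D d := by
      intro a ha y hy
      induction hy using Subgroup.closure_induction with
      | mem y hy => exact (hmem _).2 (hgen a ha y hy)
      | one => rw [commutatorElement_one_right]; exact one_mem _
      | mul p q hp hq ihp ihq =>
        have e : ⁅a, p * q⁆ = ⁅a, p⁆ * (p * ⁅a, q⁆ * p⁻¹) := by
          simp only [commutatorElement_def]; group
        rw [e, hcen _ ((hmem _).1 ihq) p hp, mul_inv_cancel_right]
        exact mul_mem ihp ihq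
      | inv p hp ih =>
        have e : ⁅a, p⁻¹⁆ = p⁻¹ * ⁅a, p⁆⁻¹ * p⁻¹⁻¹ := by
          simp only [commutatorElement_def]; group
        rw [e, hcen _ ((hmem _).1 (inv_mem ih)) p⁻¹ (inv_mem hp), mul_inv_cancel_right]
        exact inv_mem ih
    intro x hx y hy
    induction hx using Subgroup.closure_induction with
    | mem x hx => exact hright x hx y hy
    | one => rw [commutatorElement_one_left]; exact one_mem _
    | mul p q hp hq ihp ihq =>
      have e : ⁅p * q, y⁆ = (p * ⁅q, y⁆ * p⁻¹) * ⁅p, y⁆ := by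
        simp only [commutatorElement_def]; group
      rw [e, hcen _ ((hmem _).1 ihq) p hp, mul_inv_cancel_right]
      exact mul_mem ihq ihp
    | inv p hp ih =>
      have e : ⁅p⁻¹, y⁆ = p⁻¹ * ⁅p, y⁆⁻¹ * p⁻¹⁻¹ := by
        simp only [commutatorElement_def]; group
      rw [e, hcen _ ((hmem _).1 (inv_mem ih)) p⁻¹ (inv_mem hp), mul_inv_cancel_right]
      exact inv_mem ih
  · refine (Subgroup.closure_le _).2 fun e he => ?_
    obtain ⟨a, ha, b, hb, -, rfl⟩ := class_eq_sq C hnd.2.2.2 hd he
    rw [sq_eq_commutator C.hD ha.1.1 hb.1.1, ← commutatorElement_def]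
    exact Subgroup.commutator_mem_commutator (Subgroup.subset_closure ha)
      (Subgroup.subset_closure hb)
  · ext e
    constructor
    · intro he
      exact ⟨he.1, Subgroup.subset_closure (class_iso C hd he), fun y hy =>
        (hcen e (Or.inr he) y hy).symm⟩
    · rintro ⟨heD, heN, hc⟩
      have heW := mem_iso_of_closure C hd heD heN
      by_contra hne
      obtain ⟨p, hp, -, hp4, -⟩ := exists_partner C hd heW hne
      exact not_comm_of_four C.hD hp.1.1 heD hp4 (hc p (Subgroup.subset_closure hp)).symm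

end Cfsg.Agent.Lib.RootSubgroups.RootInv.Root87
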