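import Mathlib
import Cfsg.Prelude.Def_RootSubgroups
import Cfsg.Agent.Lib.RootSubgroups.Conj

/-!
Unipotent groups of linear maps: products, nilpotency, and a weak-closure theorem (Baer-Suzuki
style) for unipotency.
-/

set_option autoImplicit false

namespace Cfsg.Agent.Lib.RootSubgroups.Unipotent

open Cfsg Cfsg.Agent.Lib.RootSubgroups
open scoped commutatorElement

variable {k : Type*} [Field k] {M : Type*} [AddCommGroup M] [Module k M]

local notation "GLM" => LinearMap.GeneralLinearGroup k M

/-- Vectors killed by all `i`-fold products of `g - 1`, `g ∈ H`. -/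
def level (H : Subgroup GLM) : ℕ → Submodule k M
  | 0 => ⊥
  | i + 1 => ⨅ g ∈ H, Submodule.comap ((g : Module.End k M) - 1) (level H i)

theorem mem_level_succ {H : Subgroup GLM} {i : ℕ} {v : M} :
    v ∈ level H (i + 1) ↔ ∀ g ∈ H, ((g : Module.End k M) - 1) v ∈ level H i := by
  simp [level]

theorem level_le_succ (H : Subgroup GLM) (i : ℕ) : level H i ≤ level H (i + 1) := by
  induction i with
  | zero => simp [level]
  | succ i ih => exact fun v hv => mem_level_succ.2 fun g hg => ih (mem_level_succ.1 hv g hg)

theorem level_mono (H : Subgroup GLM) {i j : ℕ} (h : i ≤ j) : level H i ≤ level H j := by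
  induction h with
  | refl => exact le_rfl
  | step _ ih => exact ih.trans (level_le_succ H _)

theorem mem_level_iff {H : Subgroup GLM} {i : ℕ} {v : M} :
    v ∈ level H i ↔ ∀ l : List GLM, (∀ g ∈ l, g ∈ H) → l.length = i →
      (l.map fun g : GLM => (g : Module.End k M) - 1).prod v = 0 := by
  induction i generalizing v with
  | zero =>
    refine ⟨fun h l _ hl => ?_, fun h => by simpa [level] using h [] (by simp) rfl⟩
    rw [List.length_eq_zero_iff.1 hl]
    simpa [level] using h
  | succ i ih =>
    rw [mem_level_succ]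
    constructor
    · intro h l hl hlen
      obtain ⟨l', g, rfl⟩ : ∃ l' g, l = l' ++ [g] :=
        ⟨l.dropLast, l.getLast (List.ne_nil_of_length_eq_add_one hlen),
          (List.dropLast_append_getLast _).symm⟩
      simp only [List.length_append, List.length_cons, List.length_nil] at hlen
      have := ih.1 (h g (hl g (by simp))) l' (fun x hx => hl x (by simp [hx])) (by omega)
      simpa using this
    · intro h g hg
      refine ih.2 fun l hl hlen => ?_
      have := h (l ++ [g]) (by
        intro x hx
        rcases List.mem_append.1 hx with h1 | h1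
        · exact hl x h1
        · simp only [List.mem_singleton] at h1; exact h1 ▸ hg) (by simp [hlen])
      simpa using this

/-- `IsUnipotentOn` with the list mapped directly. -/
theorem isUnipotentOn_def {H : Subgroup GLM} :
    IsUnipotentOn H ↔ ∃ n : ℕ, ∀ l : List GLM, (∀ g ∈ l, g ∈ H) → l.length = n →
      (l.map fun g : GLM => (g : Module.End k M) - 1).prod = 0 := by
  refine exists_congr fun n => forall_congr' fun l => ?_
  have e : ∀ (f : GLM → Module.End k M) (l : List GLM), l.flatMap (fun a => [f a]) = l.map f := by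
    intro f l; induction l <;> simp [*]
  simp [e, Function.comp_def]

theorem isUnipotentOn_iff {H : Subgroup GLM} : IsUnipotentOn H ↔ ∃ n, level H n = ⊤ := by
  rw [isUnipotentOn_def]
  constructor
  · rintro ⟨n, hn⟩
    exact ⟨n, eq_top_iff.2 fun v _ => mem_level_iff.2 fun l hl hlen =>
      congrArg (fun f : Module.End k M => f v) (hn l hl hlen)⟩
  · rintro ⟨n, hn⟩
    exact ⟨n, fun l hl hlen => LinearMap.ext fun v =>
      mem_level_iff.1 (hn ▸ Submodule.mem_top : v ∈ level H n) l hl hlen⟩

theorem sub_one_mem_level {H : Subgroup GLM} {g : GLM} (hg : g ∈ H) {i : ℕ} {v : M}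
    (hv : v ∈ level H i) : ((g : Module.End k M) - 1) v ∈ level H i :=
  mem_level_succ.1 (level_le_succ H i hv) g hg

theorem apply_mem_level {H : Subgroup GLM} {g : GLM} (hg : g ∈ H) {i : ℕ} {v : M}
    (hv : v ∈ level H i) : (g : Module.End k M) v ∈ level H i := by
  have := add_mem (sub_one_mem_level hg hv) hv
  simpa using this

theorem mono {H K : Subgroup GLM} (hle : K ≤ H) (h : IsUnipotentOn H) : IsUnipotentOn K := by
  obtain ⟨n, hn⟩ := h
  exact ⟨n, fun l hl hlen => hn l (fun g hg => hle (hl g hg)) hlen⟩

theorem level_invariant {D : Subgroup GLM} {g : GLM}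
    (hg : g ∈ Subgroup.normalizer (D : Set GLM)) :
    ∀ (i : ℕ) {v : M}, v ∈ level D i → (g : Module.End k M) v ∈ level D i := by
  intro i
  induction i with
  | zero =>
    intro v hv
    have h0 : v = 0 := by simpa [level] using hv
    rw [h0, map_zero]
    exact zero_mem _
  | succ i ih =>
    intro v hv
    refine mem_level_succ.2 fun d hd => ?_
    have hd' : g⁻¹ * d * g ∈ D := by
      have h1 := (Subgroup.mem_normalizer_iff.1 (inv_mem hg) d).1 hd
      simpa using h1
    have e : ((d : Module.End k M) - 1) * (g : Module.End k M) =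
        (g : Module.End k M) * (((g⁻¹ * d * g : GLM) : Module.End k M) - 1) := by
      rw [mul_sub, sub_mul, ← Units.val_mul, ← Units.val_mul]
      simp [mul_assoc]
    have h2 := ih (mem_level_succ.1 hv _ hd')
    have e' := congrArg (fun f : Module.End k M => f v) e
    simp only [Module.End.mul_apply] at e'
    rw [e']
    exact h2

/-- The product of a unipotent group and a unipotent group normalizing it is unipotent. -/
theorem sup {D L : Subgroup GLM} (hD : IsUnipotentOn D) (hL : IsUnipotentOn L)
    (hn : L ≤ Subgroup.normalizer (D : Set GLM)) : IsUnipotentOn (D ⊔ L) := by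
  obtain ⟨m, hm⟩ := isUnipotentOn_iff.1 hD
  obtain ⟨n, hn'⟩ := isUnipotentOn_def.1 hL
  have hmem : ∀ g ∈ D ⊔ L, ∃ d ∈ D, ∃ l ∈ L, g = d * l := by
    intro g hg
    rw [← SetLike.mem_coe, Subgroup.coe_mul_of_right_le_normalizer_left D L hn] at hg
    obtain ⟨d, hd, l, hl, rfl⟩ := Set.mem_mul.1 hg
    exact ⟨d, hd, l, hl, rfl⟩
  have hN : ∀ g ∈ D ⊔ L, g ∈ Subgroup.normalizer (D : Set GLM) :=
    fun g hg => (sup_le Subgroup.le_normalizer hn) hg
  have hinv : ∀ g ∈ D ⊔ L, ∀ (i : ℕ) (v : M), v ∈ level D i →
      ((g : Module.End k M) - 1) v ∈ level D i := by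
    intro g hg i v hv
    simpa using sub_mem (level_invariant (hN g hg) i hv) hv
  -- modulo the previous level a word in `D ⊔ L` acts as a word in `L`
  have step : ∀ (i : ℕ) (l : List GLM), (∀ g ∈ l, g ∈ D ⊔ L) →
      ∃ l' : List GLM, l'.length = l.length ∧ (∀ g ∈ l', g ∈ L) ∧ ∀ v ∈ level D (i + 1),
        (l.map fun g : GLM => (g : Module.End k M) - 1).prod v -
          (l'.map fun g : GLM => (g : Module.End k M) - 1).prod v ∈ level D i ∧
        (l'.map fun g : GLM => (g : Module.End k M) - 1).prod v ∈ level D (i + 1) := by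
    intro i l
    induction l with
    | nil => exact fun _ => ⟨[], rfl, by simp, fun v hv => by simpa using hv⟩
    | cons g t ih =>
      intro hl
      obtain ⟨t', hlen, hmemt, ht⟩ := ih fun x hx => hl x (by simp [hx])
      obtain ⟨d, hd, l, hlL, rfl⟩ := hmem g (hl g (by simp))
      have hg : d * l ∈ D ⊔ L := hl _ (by simp)
      refine ⟨l :: t', by simp [hlen], by simpa [hlL] using hmemt, fun v hv => ?_⟩
      obtain ⟨h1, h2⟩ := ht v hv
      simp only [List.map_cons, List.prod_cons, Module.End.mul_apply]
      set w := (t.map fun g : GLM => (g : Module.End k M) - 1).prod v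
      set w' := (t'.map fun g : GLM => (g : Module.End k M) - 1).prod v
      refine ⟨?_, hinv l (Subgroup.mem_sup_right hlL) _ _ h2⟩
      have e : (((d * l : GLM) : Module.End k M) - 1) w - ((l : Module.End k M) - 1) w' =
          (((d * l : GLM) : Module.End k M) - 1) (w - w') +
            ((d : Module.End k M) - 1) ((l : Module.End k M) w') := by
        simp only [map_sub, LinearMap.sub_apply, Units.val_mul, Module.End.mul_apply,
          Module.End.one_apply]
        abel
      rw [e]
      exact add_mem (hinv _ hg _ _ h1) (mem_level_succ.1 (level_invariant (hn hlL) _ h2) d hd)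
  have main : ∀ (j : ℕ) (l : List GLM), (∀ g ∈ l, g ∈ D ⊔ L) → l.length = j * n →
      ∀ v ∈ level D j, (l.map fun g : GLM => (g : Module.End k M) - 1).prod v = 0 := by
    intro j
    induction j with
    | zero =>
      intro l _ _ v hv
      have h0 : v = 0 := by simpa [level] using hv
      rw [h0, map_zero]
    | succ j ih =>
      intro l hl hlen v hv
      rw [← List.take_append_drop (j * n) l, List.map_append, List.prod_append, Module.End.mul_apply]
      refine ih _ (fun g hg => hl g (List.mem_of_mem_take hg))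
        (by rw [List.length_take, hlen, Nat.succ_mul]; omega) _ ?_
      obtain ⟨l', hlen', hl', h⟩ := step j (l.drop (j * n)) fun g hg => hl g (List.mem_of_mem_drop hg)
      have h0 : (l'.map fun g : GLM => (g : Module.End k M) - 1).prod = 0 :=
        hn' l' hl' (by rw [hlen', List.length_drop, hlen, Nat.succ_mul]; omega)
      have h1 := (h v hv).1
      rw [h0, LinearMap.zero_apply, sub_zero] at h1
      exact h1
  exact isUnipotentOn_def.2 ⟨m * n, fun l hl hlen => LinearMap.ext fun v => main m l hl hlen v (hm ▸ Submodule.mem_top)⟩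

theorem commutator_sub_one (x y : GLM) :
    ((⁅x, y⁆ : GLM) : Module.End k M) - 1 =
      (((x : Module.End k M) - 1) * ((y : Module.End k M) - 1) -
        ((y : Module.End k M) - 1) * ((x : Module.End k M) - 1)) * ((x⁻¹ * y⁻¹ : GLM) : Module.End k M) := by
  have e : ((x : Module.End k M) - 1) * ((y : Module.End k M) - 1) -
      ((y : Module.End k M) - 1) * ((x : Module.End k M) - 1) =
      (x : Module.End k M) * y - (y : Module.End k M) * x := by noncomm_ring
  rw [e, sub_mul, ← Units.val_mul, ← Units.val_mul, ← Units.val_mul, ← Units.val_mul,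
    commutatorElement_def]
  simp [mul_assoc]

theorem nilpotent {U : Subgroup GLM} (hU : IsUnipotentOn U) : ∃ n, U.lowerCentralSeries n = ⊥ := by
  obtain ⟨n, hn⟩ := isUnipotentOn_iff.1 hU
  have key : ∀ i, ∀ x ∈ U.lowerCentralSeries i, ∀ (j : ℕ) (v : M), v ∈ level U (j + (i + 1)) →
      ((x : Module.End k M) - 1) v ∈ level U j := by
    intro i
    induction i with
    | zero => exact fun x hx j v hv => mem_level_succ.1 hv x hx
    | succ i ih =>
      have hUi : U.lowerCentralSeries i ≤ U := by
        have := Subgroup.lowerCentralSeries_antitone (S := U) (Nat.zero_le i)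
        simpa using this
      let K : Subgroup GLM :=
        { carrier := {x | x ∈ U ∧ ∀ (j : ℕ) (v : M), v ∈ level U (j + (i + 2)) →
            ((x : Module.End k M) - 1) v ∈ level U j}
          one_mem' := ⟨one_mem _, fun j v _ => by simp⟩
          mul_mem' := fun {x y} hx hy => ⟨mul_mem hx.1 hy.1, fun j v hv => by
            have e : (((x * y : GLM) : Module.End k M) - 1) v =
                ((x : Module.End k M) - 1) ((y : Module.End k M) v) + ((y : Module.End k M) - 1) v := by
              simp only [Units.val_mul, LinearMap.sub_apply, Module.End.mul_apply, Module.End.one_apply]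
              abel
            rw [e]
            exact add_mem (hx.2 j _ (apply_mem_level hy.1 hv)) (hy.2 j v hv)⟩
          inv_mem' := fun {x} hx => ⟨inv_mem hx.1, fun j v hv => by
            have h1 : (x : Module.End k M) (((x⁻¹ : GLM) : Module.End k M) v) = v := by
              rw [← Module.End.mul_apply, ← Units.val_mul, mul_inv_cancel, Units.val_one,
                Module.End.one_apply]
            have e : (((x⁻¹ : GLM) : Module.End k M) - 1) v =
                - (((x : Module.End k M) - 1) (((x⁻¹ : GLM) : Module.End k M) v)) := by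
              simp only [LinearMap.sub_apply, Module.End.one_apply, h1]
              abel
            rw [e]
            exact neg_mem (hx.2 j _ (apply_mem_level (inv_mem hx.1) hv))⟩ }
      have hle : U.lowerCentralSeries (i + 1) ≤ K := by
        rw [Subgroup.lowerCentralSeries_succ]
        refine Subgroup.commutator_le.2 fun x hx y hy => ?_
        have hxU := hUi hx
        refine ⟨mul_mem (mul_mem (mul_mem hxU hy) (inv_mem hxU)) (inv_mem hy), fun j v hv => ?_⟩
        rw [commutator_sub_one, Module.End.mul_apply, LinearMap.sub_apply, Module.End.mul_apply,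
          Module.End.mul_apply]
        set w := ((x⁻¹ * y⁻¹ : GLM) : Module.End k M) v
        have hw : w ∈ level U (j + (i + 2)) :=
          apply_mem_level (mul_mem (inv_mem hxU) (inv_mem hy)) hv
        refine sub_mem (ih x hx j _ (mem_level_succ.1 hw y hy)) ?_
        refine mem_level_succ.1 (ih x hx (j + 1) w ?_) y hy
        rwa [show j + 1 + (i + 1) = j + (i + 2) by omega]
      exact fun x hx j v hv => (hle hx).2 j v hv
  refine ⟨n, (Subgroup.eq_bot_iff_forall _).2 fun x hx => Units.ext (LinearMap.ext fun v => ?_)⟩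
  have h := key n x hx 0 v (level_mono U (by omega : n ≤ 0 + (n + 1)) (hn ▸ Submodule.mem_top))
  simpa [level, sub_eq_zero] using h

/-- The span of `g - 1`, `g ∈ H`. -/
def span (H : Subgroup GLM) : Submodule k (Module.End k M) :=
  Submodule.span k ((fun g : GLM => (g : Module.End k M) - 1) '' H)

theorem sub_one_mem_span {H : Subgroup GLM} {g : GLM} (hg : g ∈ H) :
    (g : Module.End k M) - 1 ∈ span H := Submodule.subset_span ⟨g, hg, rfl⟩

theorem span_mono {H K : Subgroup GLM} (h : H ≤ K) : span H ≤ span K :=
  Submodule.span_mono (Set.image_mono h)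

theorem span_mul {H : Subgroup GLM} {f f' : Module.End k M} (hf : f ∈ span H) (hf' : f' ∈ span H) :
    f * f' ∈ span H := by
  induction hf using Submodule.span_induction with
  | mem x hx =>
    obtain ⟨g, hg, rfl⟩ := hx
    induction hf' using Submodule.span_induction with
    | mem y hy =>
      obtain ⟨g', hg', rfl⟩ := hy
      have e : ((g : Module.End k M) - 1) * ((g' : Module.End k M) - 1) =
          (((g * g' : GLM) : Module.End k M) - 1) - ((g : Module.End k M) - 1) -
            ((g' : Module.End k M) - 1) := by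
        rw [Units.val_mul]; noncomm_ring
      rw [e]
      exact sub_mem (sub_mem (sub_one_mem_span (mul_mem hg hg')) (sub_one_mem_span hg))
        (sub_one_mem_span hg')
    | zero => simp
    | add a b _ _ ha hb => rw [mul_add]; exact add_mem ha hb
    | smul c a _ ha => rw [mul_smul_comm]; exact Submodule.smul_mem _ c ha
  | zero => simp
  | add a b _ _ ha hb => rw [add_mul]; exact add_mem ha hb
  | smul c a _ ha => rw [smul_mul_assoc]; exact Submodule.smul_mem _ c ha

theorem span_apply_level {H : Subgroup GLM} {f : Module.End k M} (hf : f ∈ span H) {i : ℕ} {v : M}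
    (hv : v ∈ level H (i + 1)) : f v ∈ level H i := by
  induction hf using Submodule.span_induction with
  | mem x hx => obtain ⟨g, hg, rfl⟩ := hx; exact mem_level_succ.1 hv g hg
  | zero => simp
  | add a b _ _ ha hb => simpa using add_mem ha hb
  | smul c a _ ha => simpa using Submodule.smul_mem _ c ha

/-- The elements `g` with `g - 1` in the span of a unipotent group. -/
def closureGroup (H : Subgroup GLM) (hH : IsUnipotentOn H) : Subgroup GLM where
  carrier := {g | (g : Module.End k M) - 1 ∈ span H}
  one_mem' := by simp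
  mul_mem' {x y} hx hy := by
    show ((x * y : GLM) : Module.End k M) - 1 ∈ span H
    have e : ((x * y : GLM) : Module.End k M) - 1 =
        ((x : Module.End k M) - 1) * ((y : Module.End k M) - 1) + ((x : Module.End k M) - 1) +
          ((y : Module.End k M) - 1) := by
      rw [Units.val_mul]; noncomm_ring
    rw [e]
    exact add_mem (add_mem (span_mul hx hy) hx) hy
  inv_mem' {x} hx := by
    show ((x⁻¹ : GLM) : Module.End k M) - 1 ∈ span H
    obtain ⟨n, hn⟩ := isUnipotentOn_iff.1 hH
    set a := (x : Module.End k M) - 1 with ha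
    set b := ((x⁻¹ : GLM) : Module.End k M) - 1 with hb
    have hrec : b = -a - a * b := by
      have h1 : (x : Module.End k M) * ((x⁻¹ : GLM) : Module.End k M) = 1 := x.mul_inv
      have h2 : b + a + a * b = (x : Module.End k M) * ((x⁻¹ : GLM) : Module.End k M) - 1 := by
        rw [ha, hb]; noncomm_ring
      rw [h1, sub_self] at h2
      calc b = (b + a + a * b) - a - a * b := by abel
        _ = -a - a * b := by rw [h2]; abel
    have hall : ∀ j, ∃ s ∈ span H, b = s + (-1 : k) ^ j • (a ^ j * b) := by
      intro j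
      induction j with
      | zero => exact ⟨0, zero_mem _, by simp⟩
      | succ j ih =>
        obtain ⟨s, hs, he⟩ := ih
        have hp : ∀ m, a ^ (m + 1) ∈ span H := by
          intro m
          induction m with
          | zero => simpa using hx
          | succ m ihm => rw [pow_succ]; exact span_mul ihm hx
        refine ⟨s + (-1 : k) ^ j • (-(a ^ (j + 1))), add_mem hs (Submodule.smul_mem _ _ (neg_mem (hp j))), ?_⟩
        conv_lhs => rw [he, hrec]
        rw [mul_sub, mul_neg, ← mul_assoc, ← pow_succ, smul_sub, smul_neg, pow_succ (-1 : k),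
          mul_smul, neg_one_smul, smul_neg]
        abel
    obtain ⟨s, hs, he⟩ := hall n
    have h0 : ∀ j, ∀ v ∈ level H j, (a ^ j) v = 0 := by
      intro j
      induction j with
      | zero => intro v hv; simpa [level] using hv
      | succ j ihj =>
        intro v hv
        rw [pow_succ, Module.End.mul_apply]
        exact ihj _ (span_apply_level hx hv)
    have ha0 : a ^ n = 0 := LinearMap.ext fun v => h0 n v (hn ▸ Submodule.mem_top)
    rw [ha0, zero_mul, smul_zero, add_zero] at he
    exact he ▸ hs

theorem le_closureGroup {H : Subgroup GLM} (hH : IsUnipotentOn H) : H ≤ closureGroup H hH :=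
  fun _ hg => sub_one_mem_span hg

theorem closureGroup_unipotent {H : Subgroup GLM} (hH : IsUnipotentOn H) :
    IsUnipotentOn (closureGroup H hH) := by
  obtain ⟨n, hn⟩ := isUnipotentOn_iff.1 hH
  refine isUnipotentOn_iff.2 ⟨n, eq_top_iff.2 fun v _ => ?_⟩
  have hle : ∀ i, level H i ≤ level (closureGroup H hH) i := by
    intro i
    induction i with
    | zero => simp [level]
    | succ i ih => exact fun w hw => mem_level_succ.2 fun g hg => ih (span_apply_level hg hw)
  exact hle n (hn ▸ Submodule.mem_top)

theorem span_closureGroup {H : Subgroup GLM} (hH : IsUnipotentOn H) :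
    span (closureGroup H hH) = span H := by
  refine le_antisymm ?_ (span_mono (le_closureGroup hH))
  refine Submodule.span_le.2 ?_
  rintro _ ⟨g, hg, rfl⟩
  exact hg

theorem bot : IsUnipotentOn (⊥ : Subgroup GLM) :=
  ⟨1, fun l hl hlen => by
    obtain ⟨g, rfl⟩ := List.length_eq_one_iff.1 hlen
    have : g = 1 := Subgroup.mem_bot.1 (hl g (by simp))
    simp [this]⟩

variable [FiniteDimensional k M]

/-- Baer's theorem for unipotency: a conjugation invariant set of subgroups, any two of which
generate a unipotent group, generates a unipotent group. -/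
theorem iSup_unipotent {W : Set (Subgroup GLM)}
    (hWW : ∀ A ∈ W, ∀ B ∈ W, IsUnipotentOn (A ⊔ B))
    (hWconj : ∀ A ∈ W, ∀ B ∈ W, ∀ g ∈ B, conjBy A g ∈ W) : IsUnipotentOn (⨆ A ∈ W, A) := by
  classical
  let gen : Set (Subgroup GLM) → Subgroup GLM := fun U => ⨆ A ∈ U, A
  have gen_mono : ∀ {U V : Set (Subgroup GLM)}, U ⊆ V → gen U ≤ gen V := fun h =>
    biSup_mono fun A hA => h hA
  have le_gen : ∀ {U : Set (Subgroup GLM)} {A : Subgroup GLM}, A ∈ U → A ≤ gen U := fun hA =>
    le_biSup (f := fun A : Subgroup GLM => A) hA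
  -- maximal members
  let IsMax : Set (Subgroup GLM) → Prop := fun U => U ⊆ W ∧ IsUnipotentOn (gen U) ∧
    ∀ U', U ⊆ U' → U' ⊆ W → IsUnipotentOn (gen U') → U' = U
  have hclosed : ∀ {U}, IsMax U → ∀ A ∈ W, (∀ g ∈ A, (g : Module.End k M) - 1 ∈ span (gen U)) →
      A ∈ U := by
    intro U hU A hA hgA
    have h1 : U ∪ {A} = U := by
      refine hU.2.2 _ Set.subset_union_left (Set.union_subset hU.1 (Set.singleton_subset_iff.2 hA))
        (mono ?_ (closureGroup_unipotent hU.2.1))
      refine iSup₂_le fun B hB => ?_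
      rcases hB with hB | hB
      · exact (le_gen hB).trans (le_closureGroup hU.2.1)
      · rw [Set.mem_singleton_iff.1 hB]; exact hgA
    exact h1 ▸ Or.inr rfl
  set dimE := Module.finrank k (Module.End k M) with hdimE
  have hext : ∀ U₀, U₀ ⊆ W → IsUnipotentOn (gen U₀) → ∃ U, U₀ ⊆ U ∧ IsMax U := by
    intro U₀ hU₀ hu₀
    obtain ⟨d, ⟨⟨U, h0U, hUW, huU, hd⟩, hdmax⟩⟩ : ∃ d, (∃ U, U₀ ⊆ U ∧ U ⊆ W ∧ IsUnipotentOn (gen U) ∧
        Module.finrank k (span (gen U)) = d) ∧ ∀ U, U₀ ⊆ U → U ⊆ W → IsUnipotentOn (gen U) →
        Module.finrank k (span (gen U)) ≤ d := by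
      let P : ℕ → Prop := fun d => ∃ U, U₀ ⊆ U ∧ U ⊆ W ∧ IsUnipotentOn (gen U) ∧
        Module.finrank k (span (gen U)) = d
      refine ⟨Nat.findGreatest P dimE, Nat.findGreatest_spec (P := P)
        (Submodule.finrank_le (span (gen U₀))) ⟨U₀, subset_rfl, hU₀, hu₀, rfl⟩, fun U h1 h2 h3 => ?_⟩
      exact Nat.le_findGreatest (Submodule.finrank_le _) ⟨U, h1, h2, h3, rfl⟩
    set U' : Set (Subgroup GLM) := {A | A ∈ W ∧ ∀ g ∈ A, (g : Module.End k M) - 1 ∈ span (gen U)}
    have hUU' : U ⊆ U' := fun A hA =>
      ⟨hUW hA, fun g hg => sub_one_mem_span (le_gen hA hg)⟩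
    have hgenU' : gen U' ≤ closureGroup (gen U) huU := iSup₂_le fun A hA => hA.2
    refine ⟨U', h0U.trans hUU', fun A hA => hA.1, mono hgenU' (closureGroup_unipotent huU),
      fun V hV hVW hVu => Set.Subset.antisymm (fun A hA => ⟨hVW hA, fun g hg => ?_⟩) hV⟩
    have h1 : span (gen U) ≤ span (gen V) := span_mono (gen_mono (hUU'.trans hV))
    have h2 := hdmax V (h0U.trans (hUU'.trans hV)) hVW hVu
    rw [Submodule.eq_of_le_of_finrank_le h1 (h2.trans hd.ge)]
    exact sub_one_mem_span (le_gen hA hg)
  by_cases huniq : ∀ U V, IsMax U → IsMax V → U = V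
  · rcases W.eq_empty_or_nonempty with h | ⟨A₀, hA₀⟩
    · refine mono (iSup₂_le fun A hA => ?_) bot
      rw [h] at hA
      exact absurd hA (Set.notMem_empty A)
    · obtain ⟨U, -, hU⟩ := hext {A₀} (Set.singleton_subset_iff.2 hA₀)
        (mono (iSup₂_le fun B hB => (Set.mem_singleton_iff.1 hB).le.trans le_sup_left)
          (hWW A₀ hA₀ A₀ hA₀))
      refine mono (iSup₂_le fun A hA => ?_) hU.2.1
      obtain ⟨V, hAV, hV⟩ := hext {A} (Set.singleton_subset_iff.2 hA)
        (mono (iSup₂_le fun B hB => (Set.mem_singleton_iff.1 hB).le.trans le_sup_left)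
          (hWW A hA A hA))
      rw [huniq V U hV hU] at hAV
      exact le_gen (hAV rfl)
  · exfalso
    push Not at huniq
    obtain ⟨U₁, V₁, hU₁, hV₁, hne₁⟩ := huniq
    let P : ℕ → Prop := fun d => ∃ U V, IsMax U ∧ IsMax V ∧ U ≠ V ∧
      Module.finrank k (span (gen (U ∩ V))) = d
    obtain ⟨U, V, hU, hV, hne, hd⟩ : P (Nat.findGreatest P dimE) :=
      Nat.findGreatest_spec (P := P) (Submodule.finrank_le (span (gen (U₁ ∩ V₁))))
        ⟨U₁, V₁, hU₁, hV₁, hne₁, rfl⟩
    have hmax : ∀ U' V', IsMax U' → IsMax V' → U' ≠ V' →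
        Module.finrank k (span (gen (U' ∩ V'))) ≤ Module.finrank k (span (gen (U ∩ V))) :=
      fun U' V' h1 h2 h3 => hd ▸ Nat.le_findGreatest (Submodule.finrank_le _) ⟨U', V', h1, h2, h3, rfl⟩
    set D := U ∩ V with hDdef
    have hDu : IsUnipotentOn (gen D) := mono (gen_mono Set.inter_subset_left) hU.2.1
    have hDclosed : ∀ A ∈ W, (∀ g ∈ A, (g : Module.End k M) - 1 ∈ span (gen D)) → A ∈ D :=
      fun A hA h => ⟨hclosed hU A hA fun g hg => span_mono (gen_mono Set.inter_subset_left) (h g hg),
        hclosed hV A hA fun g hg => span_mono (gen_mono Set.inter_subset_right) (h g hg)⟩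
    have hout : ∀ {X}, IsMax X → D ⊆ X → (∃ A ∈ X, A ∉ D) →
        ∃ A ∈ X, A ∉ D ∧ A ≤ Subgroup.normalizer (gen D : Set GLM) := by
      intro X hX hDX hex
      set H := gen X with hH
      obtain ⟨c, hc⟩ := nilpotent hX.2.1
      let L : ℕ → Subgroup GLM := fun t => gen D ⊔ H.lowerCentralSeries t
      let Out : ℕ → Prop := fun t => ∃ A ∈ X, A ∉ D ∧ A ≤ L t
      have h0 : Out 0 := by
        obtain ⟨A, hA, hAD⟩ := hex
        exact ⟨A, hA, hAD, le_sup_of_le_right (le_gen hA)⟩
      have hc' : ¬ Out c := by
        rintro ⟨A, hA, hAD, hle⟩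
        refine hAD (hDclosed A (hX.1 hA) fun g hg => ?_)
        have h1 := hle hg
        have hLc : L c = gen D := by
          show gen D ⊔ H.lowerCentralSeries c = _
          rw [show H.lowerCentralSeries c = ⊥ from hc, sup_bot_eq]
        rw [hLc] at h1
        exact sub_one_mem_span h1
      obtain ⟨t, ht, ht'⟩ : ∃ t, Out t ∧ ¬ Out (t + 1) := by
        by_contra hcon
        push Not at hcon
        exact hc' (Nat.rec h0 (fun t ih => hcon t ih) c)
      obtain ⟨A, hA, hAD, hle⟩ := ht
      refine ⟨A, hA, hAD, ?_⟩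
      have hDH : gen D ≤ H := gen_mono hDX
      have hγH : ∀ i, H.lowerCentralSeries i ≤ H := fun i => by
        have := Subgroup.lowerCentralSeries_antitone (S := H) (Nat.zero_le i)
        simpa using this
      have hnγ : H ≤ Subgroup.normalizer ((H.lowerCentralSeries (t + 1) : Subgroup GLM) : Set GLM) :=
        Subgroup.self_le_normalizer_lowerCentralSeries H (t + 1)
      have hnorm : L t ≤ Subgroup.normalizer ((L (t + 1) : Subgroup GLM) : Set GLM) := by
        refine sup_le (le_sup_left.trans Subgroup.le_normalizer) fun g hg => ?_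
        have hgen : ∀ g ∈ H.lowerCentralSeries t, conjBy (L (t + 1)) g ≤ L (t + 1) := by
          intro g hg
          rw [conjBy_sup, conjBy_self_of_mem_normalizer (hnγ (hγH t hg))]
          refine sup_le ?_ le_sup_right
          rintro _ ⟨x, hx, rfl⟩
          have h1 : ⁅g, x⁆ ∈ H.lowerCentralSeries (t + 1) :=
            Subgroup.commutator_mem_commutator hg (hDH hx)
          have h2 := mul_mem (Subgroup.mem_sup_right (S := gen D) h1) (Subgroup.mem_sup_left hx)
          simpa [L, commutatorElement_def, MulAut.conj_apply] using h2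
        refine conjBy_eq_self_iff.1 (le_antisymm (hgen g hg) ?_)
        have h3 := conjBy_mono g (hgen g⁻¹ (inv_mem hg))
        rwa [conjBy_conjBy_inv] at h3
      have hkey : ∀ a ∈ A, conjBy (gen D) a ≤ gen D := by
        intro a ha
        show (⨆ B ∈ D, B).map (MulAut.conj a).toMonoidHom ≤ _
        simp only [Subgroup.map_iSup]
        refine iSup₂_le fun B hB => ?_
        have hBW := hWconj B (hU.1 hB.1) A (hX.1 hA) a ha
        have hle' : conjBy B a ≤ L (t + 1) := (conjBy_mono a (le_sup_of_le_left (le_gen hB))).trans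
          (conjBy_self_of_mem_normalizer (hnorm (hle ha))).le
        have hBH : conjBy B a ≤ gen X := conjBy_le_of_mem (le_gen (hDX hB)) (le_gen hA ha)
        have hBX : conjBy B a ∈ X :=
          hclosed hX _ hBW fun g hg => sub_one_mem_span (hBH hg)
        exact le_gen (by_contra fun hnot => ht' ⟨_, hBX, hnot, hle'⟩)
      intro a ha
      refine conjBy_eq_self_iff.1 (le_antisymm (hkey a ha) ?_)
      have h3 := conjBy_mono a (hkey a⁻¹ (inv_mem ha))
      rwa [conjBy_conjBy_inv] at h3
    have hUV : ¬ U ⊆ V := fun h => hne (hU.2.2 V h hV.1 hV.2.1).symm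
    have hVU : ¬ V ⊆ U := fun h => hne (hV.2.2 U h hU.1 hU.2.1)
    obtain ⟨A₁, hA₁, hA₁'⟩ := Set.not_subset.1 hUV
    obtain ⟨B₁, hB₁, hB₁'⟩ := Set.not_subset.1 hVU
    obtain ⟨A, hA, hAD, hAn⟩ :=
      hout hU Set.inter_subset_left ⟨A₁, hA₁, fun h => hA₁' h.2⟩
    obtain ⟨B, hB, hBD, hBn⟩ :=
      hout hV Set.inter_subset_right ⟨B₁, hB₁, fun h => hB₁' h.1⟩
    have hu : IsUnipotentOn (gen (D ∪ {A, B})) := by
      refine mono (iSup₂_le fun E hE => ?_)
        (sup hDu (hWW A (hU.1 hA) B (hV.1 hB)) (sup_le hAn hBn))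
      rcases hE with hE | hE | hE
      · exact le_sup_of_le_left (le_gen hE)
      · exact hE ▸ le_sup_of_le_right le_sup_left
      · exact (Set.mem_singleton_iff.1 hE) ▸ le_sup_of_le_right le_sup_right
    obtain ⟨T, hT0, hT⟩ := hext _ (Set.union_subset (fun E hE => hU.1 hE.1)
      (Set.insert_subset (hU.1 hA) (Set.singleton_subset_iff.2 (hV.1 hB)))) hu
    have hTU : T = U := by
      by_contra hne'
      have hsub : D ⊆ T ∩ U := fun E hE => ⟨hT0 (Or.inl hE), hE.1⟩
      have h1 : span (gen D) ≤ span (gen (T ∩ U)) := span_mono (gen_mono hsub)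
      have h2 := Submodule.eq_of_le_of_finrank_le h1 (hmax T U hT hU hne')
      refine hAD (hDclosed A (hU.1 hA) fun g hg => ?_)
      rw [h2]
      exact sub_one_mem_span (le_gen (U := T ∩ U) ⟨hT0 (Or.inr (Or.inl rfl)), hA⟩ hg)
    exact hBD ⟨hTU ▸ hT0 (Or.inr (Or.inr rfl)), hB⟩

end Cfsg.Agent.Lib.RootSubgroups.Unipotent
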